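import Cfsg.Agent.Lib.Transfer.Alperin

/-!
Frobenius' normal p-complement theorem.
-/
set_option autoImplicit false
set_option linter.style.haveILetI false

open scoped Pointwise

namespace Cfsg.Agent.Transfer

variable {G : Type*} [Group G] {p : ℕ}

/-- `p'`-elements normalizing a subgroup of `P` centralize it. -/
def FrobeniusCondition (p : ℕ) (P : Subgroup G) : Prop :=
  ∀ Q : Subgroup G, Q ≤ P → ∀ g ∈ Subgroup.normalizer (Q : Set G),
    Nat.Coprime (orderOf g) p → g ∈ Subgroup.centralizer (Q : Set G)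

/-- A tame step acts on `P ⊓ Q` as an element of `P`. -/
theorem exists_mem_conj_eq_of_tameStep [Finite G] [hp : Fact p.Prime] {P Q : Sylow p G}
    (hF : FrobeniusCondition p (P : Subgroup G)) {x : G} (hx : TameStep P Q x) :
    ∃ z ∈ (P : Subgroup G), ∀ a ∈ (P : Subgroup G) ⊓ (Q : Subgroup G), x⁻¹ * a * x = z⁻¹ * a * z := by
  obtain ⟨hxN, hP, -⟩ := hx
  set D := (P : Subgroup G) ⊓ (Q : Subgroup G) with hD
  set N := Subgroup.normalizer (D : Set G) with hN
  have hpN : IsPGroup p ((P : Subgroup G).subgroupOf N) := P.isPGroup'.comap_subtype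
  have hiN : ¬ p ∣ ((P : Subgroup G).subgroupOf N).index := by
    rwa [Subgroup.inf_relIndex_right] at hP
  have hmem : (⟨x, hxN⟩ : N) ∈
      ((hpN.toSylow hiN : Sylow p N) : Subgroup N) ⊔ pResidual p N := by
    rw [sylow_sup_pResidual]; exact Subgroup.mem_top _
  rw [sup_comm] at hmem
  obtain ⟨c, hc, t, ht, hct⟩ := Subgroup.mem_sup_of_normal_left.1 hmem
  have hle : pResidual p N ≤ (Subgroup.centralizer (D : Set G)).subgroupOf N := by
    rw [pResidual, Subgroup.closure_le]
    intro g hg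
    exact hF D inf_le_left g g.2 (by rw [Subgroup.orderOf_coe]; exact hg)
  refine ⟨t, ht, fun a ha => ?_⟩
  have hca : a * (c : G) = c * a := (hle hc) a ha
  have hx' : (c : G) * (t : G) = x := congrArg Subtype.val hct
  rw [← hx']
  calc ((c : G) * t)⁻¹ * a * (c * t) = (t : G)⁻¹ * ((c : G)⁻¹ * (a * c)) * t := by group
    _ = (t : G)⁻¹ * ((c : G)⁻¹ * (c * a)) * t := by rw [hca]
    _ = _ := by group

/-- Fusion is controlled by `P` under the Frobenius condition. -/
theorem exists_mem_conj_eq_of_chain [Finite G] [hp : Fact p.Prime] {P : Sylow p G}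
    (hF : FrobeniusCondition p (P : Subgroup G)) {A : Set G} {g : G} (h : AlperinChain P A g) :
    ∃ z ∈ (P : Subgroup G), ∀ a ∈ A, g⁻¹ * a * g = z⁻¹ * a * z := by
  induction h with
  | nil A => exact ⟨1, one_mem _, fun a _ => rfl⟩
  | @cons A Q x y hT hA _ ih =>
    obtain ⟨z₁, hz₁, h₁⟩ := exists_mem_conj_eq_of_tameStep hF hT
    obtain ⟨z₂, hz₂, h₂⟩ := ih
    refine ⟨z₁ * z₂, mul_mem hz₁ hz₂, fun a ha => ?_⟩
    have e1 := h₁ a (hA ha)
    have e2 := h₂ (x⁻¹ * a * x) ⟨a, ha, rfl⟩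
    calc (x * y)⁻¹ * a * (x * y) = y⁻¹ * (x⁻¹ * a * x) * y := by group
      _ = z₂⁻¹ * (x⁻¹ * a * x) * z₂ := e2
      _ = z₂⁻¹ * (z₁⁻¹ * a * z₁) * z₂ := by rw [e1]
      _ = _ := by group

theorem frobeniusCondition_of_hasNormalPComplement [Finite G] [hp : Fact p.Prime]
    (h : HasNormalPComplement p G) {P : Subgroup G} (hP : IsPGroup p P) :
    FrobeniusCondition p P := by
  intro Q hQ g hg hgc q hq
  have hgM : g ∈ pResidual p G := mem_pResidual_of_coprime hgc
  have hm1 : g * q * g⁻¹ * q⁻¹ ∈ pResidual p G := by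
    rw [mul_assoc g q, mul_assoc g]
    refine mul_mem hgM ?_
    exact (instNormalPResidual (G := G) p).conj_mem _ (inv_mem hgM) q
  have hm2 : g * q * g⁻¹ * q⁻¹ ∈ Q :=
    Q.mul_mem ((Subgroup.mem_normalizer_iff.1 hg q).1 hq) (Q.inv_mem hq)
  obtain ⟨k, hk⟩ := IsPGroup.iff_orderOf.1 (hP.to_le hQ) ⟨_, hm2⟩
  rw [Subgroup.orderOf_mk] at hk
  have hc := (mem_pResidual_iff h).1 hm1
  rw [hk] at hc
  rcases k with _ | k
  · rw [pow_zero, orderOf_eq_one_iff, mul_inv_eq_one, mul_inv_eq_iff_eq_mul] at hk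
    exact hk.symm
  · exact absurd ((Nat.coprime_pow_left_iff k.succ_pos p p).1 hc)
      (by rw [Nat.coprime_self]; exact hp.out.ne_one)

/-- Frobenius' normal `p`-complement theorem. -/
theorem hasNormalPComplement_iff_frobeniusCondition [Finite G] [hp : Fact p.Prime] (P : Sylow p G) :
    HasNormalPComplement p G ↔ FrobeniusCondition p (P : Subgroup G) := by
  refine ⟨fun h => frobeniusCondition_of_hasNormalPComplement h P.isPGroup', fun hF => ?_⟩
  refine hasNormalPComplement_of_control P fun x hx y hy ⟨g, hg⟩ => ?_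
  have hch := alperin P {x} g⁻¹ (Set.singleton_subset_iff.2 hx) (by
    rw [Set.image_singleton, Set.singleton_subset_iff, inv_inv, hg]; exact hy)
  obtain ⟨z, hz, he⟩ := exists_mem_conj_eq_of_chain hF hch
  refine ⟨z⁻¹, inv_mem hz, ?_⟩
  rw [inv_inv]
  rw [← he x rfl, inv_inv, hg]

/-- Frobenius' criterion in local form. -/
theorem hasNormalPComplement_iff_local [Finite G] [hp : Fact p.Prime] :
    HasNormalPComplement p G ↔ ∀ Q : Subgroup G, IsPGroup p Q → Q ≠ ⊥ →
      HasNormalPComplement p (Subgroup.normalizer (Q : Set G)) := by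
  refine ⟨fun h Q _ _ => hasNormalPComplement_subgroup _ h, fun h => ?_⟩
  rw [hasNormalPComplement_iff_frobeniusCondition (default : Sylow p G)]
  intro Q hQ g hg hgc
  rcases eq_or_ne Q ⊥ with hb | hb
  · intro q hq
    rw [hb] at hq
    rw [Subgroup.mem_bot.1 hq]; simp
  have hQp : IsPGroup p Q := (default : Sylow p G).isPGroup'.to_le hQ
  set N := Subgroup.normalizer (Q : Set G) with hN
  have hQN : Q ≤ N := Subgroup.le_normalizer
  have hF := frobeniusCondition_of_hasNormalPComplement (h Q hQp hb)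
    (P := Q.subgroupOf N) (hQp.of_equiv (Subgroup.subgroupOfEquivOfLe hQN).symm)
  have hc := hF (Q.subgroupOf N) le_rfl ⟨g, hg⟩ (by
      rw [Subgroup.mem_normalizer_iff]
      intro q
      exact Subgroup.mem_normalizer_iff.1 hg q)
    (by rwa [Subgroup.orderOf_mk])
  intro q hq
  exact congrArg Subtype.val (hc ⟨q, hQN hq⟩ hq)

end Cfsg.Agent.Transfer
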