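import Mathlib

/-!
Elementary lemmas about elements of finite groups: prime parts and coprime powers.
-/
set_option autoImplicit false

namespace Cfsg.Agent.Transfer

variable {G : Type*} [Group G]

theorem mem_of_pow_mem {H : Subgroup G} {x : G} {n : ℕ} (h : x ^ n ∈ H)
    (hc : Nat.Coprime (orderOf x) n) : x ∈ H := by
  obtain ⟨m, hm⟩ := exists_pow_eq_self_of_coprime hc.symm
  rw [← hm]; exact H.pow_mem h m

theorem card_mul_relIndex {A B : Subgroup G} (h : A ≤ B) :
    Nat.card A * A.relIndex B = Nat.card B := by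
  rw [← Subgroup.relIndex_bot_left, Subgroup.relIndex_mul_relIndex _ _ _ bot_le h,
    Subgroup.relIndex_bot_left]

/-- If every prime-power-order element of `⟨x⟩` lies in `H` then `x ∈ H`. -/
theorem prime_parts [Finite G] (x : G) (H : Subgroup G)
    (h : ∀ p : ℕ, p.Prime → ∀ y : G, (∃ k, orderOf y = p ^ k) → y ∈ Subgroup.zpowers x → y ∈ H) :
    x ∈ H := by
  have hle : ∀ p k : ℕ, p.Prime → p ^ k ∣ orderOf x →
      x ^ (orderOf x / p ^ k) ∈ H := by
    intro p k hp hk
    refine h p hp _ ⟨k, ?_⟩ (Subgroup.npow_mem_zpowers x _)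
    exact orderOf_pow_orderOf_div (orderOf_pos x).ne' hk
  suffices hd : Nat.card (Subgroup.zpowers x) ∣ Nat.card (H ⊓ Subgroup.zpowers x : Subgroup G) by
    have : H ⊓ Subgroup.zpowers x = Subgroup.zpowers x :=
      Subgroup.eq_of_le_of_card_ge inf_le_right (Nat.le_of_dvd Nat.card_pos hd)
    exact (inf_eq_right.1 this) (Subgroup.mem_zpowers x)
  rw [Nat.card_zpowers]
  refine (Nat.dvd_iff_prime_pow_dvd_dvd _ _).2 fun p k hp hk => ?_
  have hm : x ^ (orderOf x / p ^ k) ∈ H ⊓ Subgroup.zpowers x :=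
    ⟨hle p k hp hk, Subgroup.npow_mem_zpowers x _⟩
  have hd := Subgroup.orderOf_dvd_natCard _ hm
  rwa [orderOf_pow_orderOf_div (orderOf_pos x).ne' hk] at hd

end Cfsg.Agent.Transfer
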