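import Cfsg.Prelude.Def_Transfer
import Mathlib
import Cfsg.Agent.Lib.Transfer.Elements

/-!
The residual `O^p(G)` generated by the elements of order prime to `p`.
-/
set_option autoImplicit false
set_option linter.style.haveILetI false

namespace Cfsg.Agent.Transfer

variable {G : Type*} [Group G]

theorem mem_pResidual_of_coprime {p : ℕ} {g : G} (h : Nat.Coprime (orderOf g) p) :
    g ∈ pResidual p G :=
  Subgroup.subset_closure h

theorem pResidual_map_le {p : ℕ} {G' : Type*} [Group G'] (f : G →* G') :
    (pResidual p G).map f ≤ pResidual p G' := by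
  rw [pResidual, MonoidHom.map_closure, Subgroup.closure_le]
  rintro _ ⟨g, hg, rfl⟩
  exact mem_pResidual_of_coprime (Nat.Coprime.coprime_dvd_left (orderOf_map_dvd f g) hg)

theorem pResidual_characteristic (p : ℕ) (G : Type*) [Group G] :
    (pResidual p G).Characteristic :=
  Subgroup.characteristic_iff_map_le.2 fun e => pResidual_map_le e.toMonoidHom

instance instNormalPResidual (p : ℕ) : (pResidual p G).Normal :=
  haveI := pResidual_characteristic p G
  Subgroup.normal_of_characteristic _

/-- The `p'`-part of an element: `g ^ (p-part of the order)` has order prime to `p`. -/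
theorem orderOf_pow_ordProj_coprime [Finite G] {p : ℕ} (hp : p.Prime) (g : G) :
    Nat.Coprime (orderOf (g ^ p ^ (orderOf g).factorization p)) p := by
  have hd : p ^ (orderOf g).factorization p ∣ orderOf g := Nat.ordProj_dvd _ _
  rw [orderOf_pow_of_dvd (pow_ne_zero _ hp.ne_zero) hd, Nat.coprime_comm, hp.coprime_iff_not_dvd]
  exact Nat.not_dvd_ordCompl hp (orderOf_pos g).ne'

theorem isPGroup_quotient_pResidual [Finite G] (p : ℕ) [hp : Fact p.Prime] :
    IsPGroup p (G ⧸ pResidual p G) := by
  intro q
  induction q using QuotientGroup.induction_on with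
  | H g =>
    exact ⟨_, (QuotientGroup.eq_one_iff _).2
      (mem_pResidual_of_coprime (orderOf_pow_ordProj_coprime hp.out g))⟩

theorem exists_pResidual_index [Finite G] (p : ℕ) [Fact p.Prime] :
    ∃ k, (pResidual p G).index = p ^ k :=
  IsPGroup.iff_card.1 (isPGroup_quotient_pResidual p)

theorem pResidual_le_of_isPGroup_quotient {p : ℕ} [hp : Fact p.Prime] {N : Subgroup G}
    [N.Normal] (h : IsPGroup p (G ⧸ N)) : pResidual p G ≤ N := by
  rw [pResidual, Subgroup.closure_le]
  intro g hg
  obtain ⟨k, hk⟩ := IsPGroup.iff_orderOf.1 h (QuotientGroup.mk' N g)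
  have h1 : orderOf (QuotientGroup.mk' N g) ∣ orderOf g := orderOf_map_dvd _ g
  rcases k with _ | k
  · rw [pow_zero, orderOf_eq_one_iff] at hk
    exact (QuotientGroup.eq_one_iff g).1 hk
  · exfalso
    rw [hk] at h1
    exact hp.out.coprime_iff_not_dvd.1 (Nat.coprime_comm.1 hg)
      ((dvd_pow_self p k.succ_ne_zero).trans h1)

theorem pResidual_le_of_index [Finite G] {p : ℕ} [Fact p.Prime] {N : Subgroup G}
    [N.Normal] {k : ℕ} (h : N.index = p ^ k) : pResidual p G ≤ N :=
  pResidual_le_of_isPGroup_quotient (IsPGroup.of_card (n := k) h)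

/-- The residual maps onto the residual of a quotient. -/
theorem pResidual_map_of_surjective [Finite G] {p : ℕ} [hp : Fact p.Prime] {G' : Type*} [Group G']
    {f : G →* G'} (hf : Function.Surjective f) :
    (pResidual p G).map f = pResidual p G' := by
  refine le_antisymm (pResidual_map_le f) ?_
  haveI : ((pResidual p G).map f).Normal := Subgroup.Normal.map inferInstance f hf
  refine pResidual_le_of_isPGroup_quotient ?_
  refine (isPGroup_quotient_pResidual (G := G) p).of_surjective
    (QuotientGroup.map (pResidual p G) ((pResidual p G).map f) f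
      (Subgroup.le_comap_map _ _)) ?_
  intro q
  induction q using QuotientGroup.induction_on with
  | H g => obtain ⟨x, rfl⟩ := hf g; exact ⟨QuotientGroup.mk x, rfl⟩

/-- A Sylow subgroup together with the residual generates the group. -/
theorem sylow_sup_pResidual [Finite G] {p : ℕ} [hp : Fact p.Prime] (P : Sylow p G) :
    (P : Subgroup G) ⊔ pResidual p G = ⊤ := by
  rw [← Subgroup.index_eq_one]
  obtain ⟨k, hk⟩ := exists_pResidual_index (G := G) p
  have h1 : ((P : Subgroup G) ⊔ pResidual p G).index ∣ p ^ k :=
    hk ▸ Subgroup.index_dvd_of_le le_sup_right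
  obtain ⟨j, -, hj⟩ := (Nat.dvd_prime_pow hp.out).1 h1
  rcases j with _ | j
  · rw [hj, pow_zero]
  · exfalso
    refine P.not_dvd_index ?_
    exact ((dvd_pow_self p j.succ_ne_zero).trans hj.symm.dvd).trans
      (Subgroup.index_dvd_of_le le_sup_left)

end Cfsg.Agent.Transfer
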