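import Cfsg.Prelude.Def_Transfer
import Mathlib
import Cfsg.Agent.Lib.Transfer.Residual

/-!
Normal `p`-complements of finite groups.
-/
set_option autoImplicit false
set_option linter.style.haveILetI false

namespace Cfsg.Agent.Transfer

variable {G : Type*} [Group G] {p : ℕ}

theorem not_dvd_card_of_isComplement' [Finite G] [hp : Fact p.Prime] (P : Sylow p G)
    {N : Subgroup G} (hN : N.IsComplement' (P : Subgroup G)) : ¬ p ∣ Nat.card N := by
  rw [← hN.index_eq_card]
  exact P.not_dvd_index

theorem isComplement'_sylow [Finite G] [hp : Fact p.Prime] (P : Sylow p G) {N : Subgroup G}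
    (hN : ¬ p ∣ Nat.card N) {k : ℕ} (hk : N.index = p ^ k) :
    N.IsComplement' (P : Subgroup G) := by
  have hc : Nat.Coprime (Nat.card N) (Nat.card (P : Subgroup G)) := by
    obtain ⟨m, hm⟩ := IsPGroup.iff_card.1 P.isPGroup'
    rw [hm]
    exact ((hp.out.coprime_iff_not_dvd.2 hN).symm).pow_right m
  refine Subgroup.isComplement'_of_coprime ?_ hc
  have h1 : Nat.card N * p ^ k = Nat.card G := hk ▸ N.card_mul_index
  rw [P.card_eq_multiplicity]
  have hne : Nat.card N ≠ 0 := Nat.card_pos.ne'
  have : (Nat.card G).factorization p = k := by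
    rw [← h1, Nat.factorization_mul hne (pow_ne_zero _ hp.out.ne_zero), Finsupp.add_apply,
      Nat.factorization_eq_zero_of_not_dvd hN, hp.out.factorization_pow, Finsupp.single_eq_same,
      zero_add]
  rw [this, h1]

theorem hasNormalPComplement_iff_exists [Finite G] [hp : Fact p.Prime] :
    HasNormalPComplement p G ↔
      ∃ N : Subgroup G, N.Normal ∧ ¬ p ∣ Nat.card N ∧ ∃ k, N.index = p ^ k := by
  constructor
  · rintro ⟨P, N, hn, hc⟩
    obtain ⟨m, hm⟩ := IsPGroup.iff_card.1 P.isPGroup'
    exact ⟨N, hn, not_dvd_card_of_isComplement' P hc, m, hc.symm.index_eq_card.trans hm⟩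
  · rintro ⟨N, hn, hd, k, hk⟩
    exact ⟨default, N, hn, isComplement'_sylow default hd hk⟩

/-- A normal complement of a Sylow `p`-subgroup is `O^p(G)`. -/
theorem eq_pResidual [Finite G] [hp : Fact p.Prime] {N : Subgroup G} [N.Normal]
    (hd : ¬ p ∣ Nat.card N) {k : ℕ} (hk : N.index = p ^ k) : N = pResidual p G := by
  refine le_antisymm (fun x hx => mem_pResidual_of_coprime ?_) (pResidual_le_of_index hk)
  exact Nat.Coprime.coprime_dvd_left (N.orderOf_dvd_natCard hx)
    (Nat.coprime_comm.1 (hp.out.coprime_iff_not_dvd.2 hd))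

theorem hasNormalPComplement_iff_not_dvd [Finite G] [hp : Fact p.Prime] :
    HasNormalPComplement p G ↔ ¬ p ∣ Nat.card (pResidual p G) := by
  rw [hasNormalPComplement_iff_exists]
  constructor
  · rintro ⟨N, hn, hd, k, hk⟩
    rwa [← eq_pResidual hd hk]
  · exact fun hd => ⟨_, inferInstance, hd, exists_pResidual_index p⟩

theorem hasNormalPComplement_of_not_dvd_card [Finite G] [hp : Fact p.Prime]
    (h : ¬ p ∣ Nat.card G) : HasNormalPComplement p G :=
  hasNormalPComplement_iff_not_dvd.2 fun hd =>
    h (hd.trans (Subgroup.card_subgroup_dvd_card _))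

/-- In a group with a normal `p`-complement, `O^p(G)` consists of the `p'`-elements. -/
theorem mem_pResidual_iff [Finite G] [hp : Fact p.Prime] (h : HasNormalPComplement p G) {x : G} :
    x ∈ pResidual p G ↔ Nat.Coprime (orderOf x) p :=
  ⟨fun hx => Nat.Coprime.coprime_dvd_left ((pResidual p G).orderOf_dvd_natCard hx)
    (Nat.coprime_comm.1 (hp.out.coprime_iff_not_dvd.2 (hasNormalPComplement_iff_not_dvd.1 h))),
    mem_pResidual_of_coprime⟩

theorem pResidual_inf_sylow_eq_bot [Finite G] [hp : Fact p.Prime] (P : Sylow p G)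
    (h : HasNormalPComplement p G) : pResidual p G ⊓ (P : Subgroup G) = ⊥ := by
  obtain ⟨k, hk⟩ := exists_pResidual_index (G := G) p
  exact (isComplement'_sylow P (hasNormalPComplement_iff_not_dvd.1 h) hk).disjoint.eq_bot

theorem hasNormalPComplement_of_injective [Finite G] [hp : Fact p.Prime] {H : Type*} [Group H]
    (f : H →* G) (hf : Function.Injective f) (h : HasNormalPComplement p G) :
    HasNormalPComplement p H := by
  haveI : Finite H := Finite.of_injective f hf
  rw [hasNormalPComplement_iff_not_dvd] at h ⊢
  intro hd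
  refine h (hd.trans ?_)
  rw [← Subgroup.card_map_of_injective (f := f) hf]
  exact Subgroup.card_dvd_of_le (pResidual_map_le f)

theorem hasNormalPComplement_subgroup [Finite G] [hp : Fact p.Prime] (H : Subgroup G)
    (h : HasNormalPComplement p G) : HasNormalPComplement p H :=
  hasNormalPComplement_of_injective H.subtype H.subtype_injective h

theorem hasNormalPComplement_mono [Finite G] [hp : Fact p.Prime] {H K : Subgroup G} (hle : H ≤ K)
    (h : HasNormalPComplement p K) : HasNormalPComplement p H :=
  hasNormalPComplement_of_injective (Subgroup.inclusion hle) (Subgroup.inclusion_injective hle) h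

theorem hasNormalPComplement_of_surjective [Finite G] [hp : Fact p.Prime] {H : Type*} [Group H]
    (f : G →* H) (hf : Function.Surjective f) (h : HasNormalPComplement p G) :
    HasNormalPComplement p H := by
  haveI : Finite H := Finite.of_surjective f hf
  rw [hasNormalPComplement_iff_not_dvd] at h ⊢
  rw [← pResidual_map_of_surjective hf]
  exact fun hd => h (hd.trans (Subgroup.card_map_dvd _ f))

theorem hasNormalPComplement_congr [Finite G] [hp : Fact p.Prime] {H : Type*} [Group H]
    (e : G ≃* H) : HasNormalPComplement p G ↔ HasNormalPComplement p H := by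
  haveI : Finite H := Finite.of_equiv G e.toEquiv
  exact ⟨hasNormalPComplement_of_surjective e.toMonoidHom e.surjective,
    hasNormalPComplement_of_surjective e.symm.toMonoidHom e.symm.surjective⟩

/-- A `p'`-normal subgroup may be factored out. -/
theorem hasNormalPComplement_of_quotient [Finite G] [hp : Fact p.Prime] (K : Subgroup G)
    [K.Normal] (hK : ¬ p ∣ Nat.card K) (h : HasNormalPComplement p (G ⧸ K)) :
    HasNormalPComplement p G := by
  obtain ⟨N, hn, hd, k, hk⟩ := hasNormalPComplement_iff_exists.1 h
  refine hasNormalPComplement_iff_exists.2 ⟨N.comap (QuotientGroup.mk' K), inferInstance, ?_, k, ?_⟩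
  · have he : Nat.card (N.comap (QuotientGroup.mk' K)) = Nat.card K * Nat.card N := by
      have h1 := (N.comap (QuotientGroup.mk' K)).card_mul_index
      rw [Subgroup.index_comap_of_surjective _ (QuotientGroup.mk'_surjective K)] at h1
      have h2 : Nat.card K * Nat.card N * N.index = Nat.card G := by
        rw [mul_assoc, N.card_mul_index, ← Subgroup.index_eq_card, K.card_mul_index]
      exact Nat.eq_of_mul_eq_mul_right (Nat.pos_of_ne_zero Subgroup.index_ne_zero_of_finite)
        (h1.trans h2.symm)
    rw [he]
    exact hp.out.not_dvd_mul hK hd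
  · rw [Subgroup.index_comap_of_surjective _ (QuotientGroup.mk'_surjective K), hk]

end Cfsg.Agent.Transfer
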