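import Cfsg.Prelude.Def_Transfer
import Mathlib
import Cfsg.Agent.Lib.Transfer.NormalComplement
import Cfsg.Agent.Lib.Grp.Cores

/-!
Fusion and transfer: Burnside's lemma, consequences of the focal subgroup theorem, and the
criterion "fusion in `P` controlled by `P` implies a normal `p`-complement".
-/
set_option autoImplicit false
set_option linter.style.haveILetI false

open scoped commutatorElement Pointwise

namespace Cfsg.Agent.Transfer

variable {G : Type*} [Group G] {p : ℕ}

/-- A nilpotent group has no nontrivial subgroup `Q` with `Q ≤ [Q, G]`. -/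
theorem eq_bot_of_le_commutator_top [Group.IsNilpotent G] {Q : Subgroup G}
    (h : Q ≤ ⁅Q, (⊤ : Subgroup G)⁆) : Q = ⊥ := by
  obtain ⟨n, hn⟩ := Subgroup.nilpotent_iff_lowerCentralSeries.1 ‹Group.IsNilpotent G›
  have : ∀ k, Q ≤ (⊤ : Subgroup G).lowerCentralSeries k := by
    intro k
    induction k with
    | zero => exact le_top
    | succ k ih =>
      exact h.trans (by rw [Subgroup.lowerCentralSeries_succ]; exact Subgroup.commutator_mono ih le_rfl)
  exact le_bot_iff.1 ((this n).trans hn.le)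

/-- Inside a nilpotent subgroup `P`: `Q ≤ P` with `Q ≤ [Q, P]` is trivial. -/
theorem eq_bot_of_le_commutator {P Q : Subgroup G} (hP : Group.IsNilpotent P) (hQ : Q ≤ P)
    (h : Q ≤ ⁅Q, P⁆) : Q = ⊥ := by
  have h1 : Q.subgroupOf P ≤ ⁅Q.subgroupOf P, (⊤ : Subgroup P)⁆ := by
    rw [← Subgroup.map_le_map_iff_of_injective P.subtype_injective, Subgroup.map_commutator,
      Subgroup.map_subgroupOf_eq_of_le hQ, ← MonoidHom.range_eq_map, Subgroup.range_subtype]
    exact h
  have h2 := eq_bot_of_le_commutator_top h1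
  rw [← Subgroup.map_subgroupOf_eq_of_le hQ, h2, Subgroup.map_bot]

/-- A `p`-element of `O^p(G)` lies in `G'`. -/
theorem mem_commutator_of_mem_pResidual [Finite G] [hp : Fact p.Prime] {x : G} {k : ℕ}
    (hk : orderOf x = p ^ k) (hx : x ∈ pResidual p G) : x ∈ commutator G := by
  have key : ∀ y ∈ pResidual p G, ∃ n : ℕ, ¬ p ∣ n ∧ y ^ n ∈ commutator G := by
    intro y hy
    induction hy using Subgroup.closure_induction with
    | mem y hy =>
      refine ⟨orderOf y, hp.out.coprime_iff_not_dvd.1 (Nat.coprime_comm.1 hy), ?_⟩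
      rw [pow_orderOf_eq_one]; exact one_mem _
    | one => exact ⟨1, hp.out.not_dvd_one, by simp⟩
    | mul a b _ _ ha hb =>
      obtain ⟨m, hm, ham⟩ := ha
      obtain ⟨n, hn, hbn⟩ := hb
      refine ⟨m * n, hp.out.not_dvd_mul hm hn, ?_⟩
      rw [← QuotientGroup.eq_one_iff] at ham hbn ⊢
      have hc : Commute (a : G ⧸ commutator G) (b : G ⧸ commutator G) :=
        mul_comm (G := Abelianization G) _ _
      rw [QuotientGroup.mk_pow, QuotientGroup.mk_mul, hc.mul_pow]
      rw [QuotientGroup.mk_pow] at ham hbn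
      rw [pow_mul, ham, one_pow, one_mul, mul_comm m n, pow_mul, hbn, one_pow]
    | inv a _ ha =>
      obtain ⟨m, hm, ham⟩ := ha
      exact ⟨m, hm, by rw [inv_pow]; exact inv_mem ham⟩
  obtain ⟨n, hn, hxn⟩ := key x hx
  refine mem_of_pow_mem hxn ?_
  rw [hk]
  exact (hp.out.coprime_iff_not_dvd.2 hn).pow_left k

/-- `P ∩ O^p(G) ≤ G'`. -/
theorem sylow_inf_pResidual_le_commutator [Finite G] [hp : Fact p.Prime] (P : Sylow p G) :
    (P : Subgroup G) ⊓ pResidual p G ≤ commutator G := by
  rintro x ⟨hxP, hx⟩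
  obtain ⟨k, hk⟩ := IsPGroup.iff_orderOf.1 P.isPGroup' ⟨x, hxP⟩
  rw [Subgroup.orderOf_mk] at hk
  exact mem_commutator_of_mem_pResidual hk hx

/-- `P ∩ G' = P` when `O^p(G) = G`. -/
theorem le_commutator_of_pResidual_eq_top [Finite G] [hp : Fact p.Prime] (P : Sylow p G)
    (h : pResidual p G = ⊤) : (P : Subgroup G) ≤ commutator G := by
  have := sylow_inf_pResidual_le_commutator P
  rwa [h, inf_top_eq] at this

/-- The focal subgroup theorem, in the form used for applications. -/
theorem commutator_inf_sylow_le [Finite G] [hp : Fact p.Prime] (P : Sylow p G) {K : Subgroup G}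
    (h : ∀ x ∈ (P : Subgroup G), ∀ u : G, u * x * u⁻¹ ∈ (P : Subgroup G) →
      x⁻¹ * (u * x * u⁻¹) ∈ K) :
    commutator G ⊓ (P : Subgroup G) ≤ K := by
  rw [Subgroup.commutator_inf_eq_focalSubgroup P, Subgroup.focalSubgroup_def, Subgroup.closure_le]
  rintro g ⟨hg, x, hx, u, rfl⟩
  have hy : u * x⁻¹ * u⁻¹ ∈ (P : Subgroup G) := by
    have := (P : Subgroup G).mul_mem ((P : Subgroup G).inv_mem hx) hg
    simpa [commutatorElement_def, mul_assoc] using this
  have h1 := h x⁻¹ ((P : Subgroup G).inv_mem hx) u hy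
  rw [inv_inv] at h1
  simpa [commutatorElement_def, mul_assoc] using h1

/-- Two Sylow subgroups inside `S` are conjugate by an element of `S`. -/
theorem exists_mem_mul_mem_normalizer [Finite G] [hp : Fact p.Prime] (P : Sylow p G)
    {S : Subgroup G} (h1 : (P : Subgroup G) ≤ S) (g : G)
    (h2 : ∀ x ∈ (P : Subgroup G), g * x * g⁻¹ ∈ S) :
    ∃ s ∈ S, s * g ∈ Subgroup.normalizer (P : Set G) := by
  have h2' : ((g • P : Sylow p G) : Subgroup G) ≤ S := by
    rw [Sylow.coe_subgroup_smul]
    intro x hx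
    rw [Subgroup.mem_pointwise_smul_iff_inv_smul_mem] at hx
    have := h2 _ hx
    simpa [mul_assoc] using this
  obtain ⟨s, hs⟩ := MulAction.exists_smul_eq S ((g • P).subtype h2') (P.subtype h1)
  rw [Sylow.smul_subtype] at hs
  have he := Sylow.subtype_injective hs
  refine ⟨s, s.2, ?_⟩
  rw [← Sylow.smul_eq_iff_mem_normalizer]
  rw [mul_smul]
  exact he

/-- If two elements of the Sylow subgroup `P` conjugate in `G` are always conjugate in `P`, then
`G` has a normal `p`-complement. -/
theorem hasNormalPComplement_of_control [Finite G] [hp : Fact p.Prime] (P : Sylow p G)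
    (h : ∀ x ∈ (P : Subgroup G), ∀ y ∈ (P : Subgroup G), (∃ g : G, g * x * g⁻¹ = y) →
      ∃ z ∈ (P : Subgroup G), z * x * z⁻¹ = y) :
    HasNormalPComplement p G := by
  set K := pResidual p G with hK
  set Q : Subgroup G := K ⊓ (P : Subgroup G) with hQ
  -- `P ∩ K` is a Sylow subgroup of `K`
  have hQp : IsPGroup p (Q.subgroupOf K) :=
    (P.isPGroup'.to_le (inf_le_right (a := K))).of_equiv
      (Subgroup.subgroupOfEquivOfLe inf_le_left).symm
  have hQi : ¬ p ∣ (Q.subgroupOf K).index := by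
    change ¬ p ∣ Q.relIndex K
    rw [hQ, inf_comm, Subgroup.inf_relIndex_right]
    exact Cfsg.Agent.Grp.sylow_inf_normal_relIndex P K
  let QK : Sylow p K := hQp.toSylow hQi
  -- `O^p(K) = K`
  have hKtop : pResidual p K = ⊤ := by
    have hchar : (pResidual p K).Characteristic := pResidual_characteristic p K
    have hn : ((pResidual p K).map K.subtype).Normal := inferInstance
    obtain ⟨a, ha⟩ := exists_pResidual_index (G := K) p
    obtain ⟨b, hb⟩ := exists_pResidual_index (G := G) p
    have hi : ((pResidual p K).map K.subtype).index = p ^ (a + b) := by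
      rw [Subgroup.index_map_subtype, ha, pow_add, ← hb]
    have hle := pResidual_le_of_index hi
    rw [eq_top_iff]
    intro x _
    obtain ⟨y, hy, hyx⟩ := hle x.2
    rwa [← Subtype.ext (a1 := y) (a2 := x) hyx]
  -- `Q ≤ [Q, P]` by the focal subgroup theorem in `K`
  have hQle : Q ≤ ⁅Q, (P : Subgroup G)⁆ := by
    have h1 : (QK : Subgroup K) ≤ (QK : Subgroup K).focalSubgroup := by
      rw [← Subgroup.commutator_inf_eq_focalSubgroup QK]
      exact le_inf (le_commutator_of_pResidual_eq_top QK hKtop) le_rfl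
    have h2 : (QK : Subgroup K).focalSubgroup ≤ (⁅Q, (P : Subgroup G)⁆).comap K.subtype := by
      rw [Subgroup.focalSubgroup_def, Subgroup.closure_le]
      rintro g ⟨hg, x, hx, u, rfl⟩
      have hx' : (x : G) ∈ Q := hx
      have hg' : (x : G) * u * (x : G)⁻¹ * (u : G)⁻¹ ∈ Q := hg
      have hy : (u : G) * (x : G)⁻¹ * (u : G)⁻¹ ∈ (P : Subgroup G) := by
        have := (P : Subgroup G).mul_mem ((P : Subgroup G).inv_mem hx'.2) hg'.2
        simpa [mul_assoc] using this
      obtain ⟨z, hz, hzx⟩ := h _ ((P : Subgroup G).inv_mem hx'.2) _ hy ⟨u, rfl⟩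
      have he : (x : G) * u * (x : G)⁻¹ * (u : G)⁻¹ = ⁅(x : G), z⁆ := by
        calc (x : G) * u * (x : G)⁻¹ * (u : G)⁻¹ = x * ((u : G) * (x : G)⁻¹ * (u : G)⁻¹) := by group
          _ = x * (z * (x : G)⁻¹ * z⁻¹) := by rw [hzx]
          _ = ⁅(x : G), z⁆ := by rw [commutatorElement_def]; group
      show (x : G) * u * (x : G)⁻¹ * (u : G)⁻¹ ∈ ⁅Q, (P : Subgroup G)⁆
      rw [he]
      exact Subgroup.commutator_mem_commutator hx' hz
    intro x hx
    exact (h1.trans h2) (show (⟨x, hx.1⟩ : K) ∈ (QK : Subgroup K) from hx)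
  have hbot : Q = ⊥ :=
    eq_bot_of_le_commutator P.isPGroup'.isNilpotent inf_le_right hQle
  rw [hasNormalPComplement_iff_not_dvd]
  intro hd
  have h3 := (Q.subgroupOf K).card_mul_index
  rw [hbot, Subgroup.bot_subgroupOf, Subgroup.card_bot, one_mul] at h3
  exact hQi (by rw [hbot, Subgroup.bot_subgroupOf, h3]; exact hd)

end Cfsg.Agent.Transfer
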