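import Mathlib
import Cfsg.Agent.Lib.Grp.Frattini
import Cfsg.Agent.Lib.Recog.DihedralHom

/-!
# p-groups of maximal class; 2-groups with derived index four

Taussky's theorem, the shapes (dihedral, semidihedral, quaternion), and the criterion by a
self-centralizing subgroup of order p².
-/

set_option autoImplicit false
set_option linter.unusedSectionVars false

namespace Cfsg.Agent.Transfer.MaxClass

open Subgroup
open scoped commutatorElement

variable {G : Type*} [Group G]

/-- If the derived factor group of a p-group is cyclic, so is the group. -/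
theorem isCyclic_of_abelianization [Finite G] {p : ℕ} [Fact p.Prime] (hG : IsPGroup p G)
    [hc : IsCyclic (G ⧸ commutator G)] : IsCyclic G := by
  obtain ⟨g', hg'⟩ := hc.exists_generator
  obtain ⟨g, rfl⟩ := QuotientGroup.mk_surjective g'
  have htop : Subgroup.zpowers g = ⊤ := by
    refine frattini_nongenerating (eq_top_iff.2 fun x _ => ?_)
    obtain ⟨i, hi⟩ := Subgroup.mem_zpowers_iff.1 (hg' (x : G ⧸ commutator G))
    rw [← QuotientGroup.mk_zpow, QuotientGroup.eq] at hi
    rw [← mul_inv_cancel_left (g ^ i) x]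
    exact mul_mem (mem_sup_left (zpow_mem (Subgroup.mem_zpowers g) i))
      (mem_sup_right (Cfsg.Agent.Grp.pGroup_commutator_le_frattini hG hi))
  exact ⟨⟨g, fun x => Subgroup.mem_zpowers_iff.1 (by rw [htop]; exact Subgroup.mem_top x)⟩⟩

/-- In a group of order p^n (n ≥ 2) the derived subgroup has index p^j with j ≥ 2. -/
theorem commutator_index_ge [Finite G] {p n : ℕ} [hp : Fact p.Prime] (hG : Nat.card G = p ^ n)
    (hn : 2 ≤ n) : ∃ j, 2 ≤ j ∧ j ≤ n ∧ (commutator G).index = p ^ j := by
  obtain ⟨j, hj, hje⟩ := (Nat.dvd_prime_pow hp.out).1 (hG ▸ (commutator G).index_dvd_card)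
  refine ⟨j, ?_, hj, hje⟩
  by_contra hlt
  haveI : IsCyclic (G ⧸ commutator G) := by
    rcases (show j = 0 ∨ j = 1 by omega) with rfl | rfl
    · haveI : Subsingleton (G ⧸ commutator G) := (Nat.card_eq_one_iff_unique.1 (by
        rw [← Subgroup.index_eq_card, hje, pow_zero])).1
      infer_instance
    · exact isCyclic_of_prime_card (p := p) (by rw [← Subgroup.index_eq_card, hje, pow_one])
  haveI := isCyclic_of_abelianization (IsPGroup.of_card hG)
  have hbot : commutator G = ⊥ := by
    let := IsCyclic.commGroup (α := G)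
    exact eq_bot_iff.2 (Subgroup.commutator_le.2 fun a _ b _ => Subgroup.mem_bot.2 (by
      rw [commutatorElement_eq_one_iff_mul_comm, mul_comm]))
  rw [hbot, Subgroup.index_bot, hG] at hje
  have := Nat.pow_right_injective hp.out.two_le hje
  omega

theorem lcs_succ_lt [Finite G] [Group.IsNilpotent G] {i : ℕ}
    (h : (⊤ : Subgroup G).lowerCentralSeries i ≠ ⊥) :
    (⊤ : Subgroup G).lowerCentralSeries (i + 1) < (⊤ : Subgroup G).lowerCentralSeries i := by
  refine lt_of_le_of_ne (Subgroup.lowerCentralSeries_antitone _ (by omega)) fun he => h ?_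
  have hk : ∀ k, (⊤ : Subgroup G).lowerCentralSeries (i + k) = (⊤ : Subgroup G).lowerCentralSeries i := by
    intro k
    induction k with
    | zero => rfl
    | succ k ih => rw [← add_assoc, Subgroup.lowerCentralSeries_succ, ih, ← Subgroup.lowerCentralSeries_succ, he]
  obtain ⟨N, hN⟩ := Subgroup.nilpotent_iff_lowerCentralSeries.1 (inferInstance : Group.IsNilpotent G)
  rw [← hk N, eq_bot_iff, ← hN]
  exact Subgroup.lowerCentralSeries_antitone _ (by omega)

/-- The lower central factors of a group of maximal class. -/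
theorem lcs_index [Finite G] {p n : ℕ} [hp : Fact p.Prime] (hG : Nat.card G = p ^ n) (hn : 2 ≤ n)
    (hc : Group.nilpotencyClass G = n - 1) {i : ℕ} (hi : 1 ≤ i) (hi' : i ≤ n - 1) :
    ((⊤ : Subgroup G).lowerCentralSeries i).index = p ^ (i + 1) := by
  haveI : Group.IsNilpotent G := (IsPGroup.of_card hG).isNilpotent
  have hex : ∀ k, ∃ e, Nat.card ((⊤ : Subgroup G).lowerCentralSeries k) = p ^ e := fun k => by
    obtain ⟨e, -, he⟩ := (Nat.dvd_prime_pow hp.out).1
      (hG ▸ Subgroup.card_subgroup_dvd_card ((⊤ : Subgroup G).lowerCentralSeries k))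
    exact ⟨e, he⟩
  choose e he using hex
  have hstep : ∀ k, k < n - 1 → e (k + 1) < e k := fun k hk => by
    have hne : (⊤ : Subgroup G).lowerCentralSeries k ≠ ⊥ := fun h => by
      have := Subgroup.lowerCentralSeries_eq_bot_iff_nilpotencyClass_le.1 h
      omega
    have hlt := lcs_succ_lt hne
    refine (Nat.pow_lt_pow_iff_right hp.out.one_lt).1 ?_
    rw [← he, ← he]
    exact lt_of_le_of_ne (Subgroup.card_le_of_le hlt.le)
      fun h => hlt.ne (Subgroup.eq_of_le_of_card_ge hlt.le h.ge)
  have he1 : e 1 ≤ n - 2 := by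
    obtain ⟨j, hj2, hjn, hj⟩ := commutator_index_ge hG hn
    have h1 := (commutator G).card_mul_index
    rw [← top_lowerCentralSeries_one, he, top_lowerCentralSeries_one, hj, hG, ← pow_add] at h1
    have := Nat.pow_right_injective hp.out.two_le h1
    omega
  have hup : ∀ d, 1 + d ≤ n - 1 → e (1 + d) + d ≤ n - 2 := by
    intro d
    induction d with
    | zero => intro _; simpa using he1
    | succ d ih =>
      intro hd
      have := ih (by omega)
      have h2 := hstep (1 + d) (by omega)
      rw [show 1 + (d + 1) = 1 + d + 1 from rfl]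
      omega
  have hdown : ∀ d, d ≤ n - 1 → d ≤ e (n - 1 - d) := by
    intro d
    induction d with
    | zero => intro _; omega
    | succ d ih =>
      intro hd
      have := ih (by omega)
      have h2 := hstep (n - 1 - (d + 1)) (by omega)
      rw [show n - 1 - (d + 1) + 1 = n - 1 - d from by omega] at h2
      omega
  have h1 := hup (i - 1) (by omega)
  have h2 := hdown (n - 1 - i) (by omega)
  rw [show 1 + (i - 1) = i from by omega] at h1
  rw [show n - 1 - (n - 1 - i) = i from by omega] at h2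
  have h3 := ((⊤ : Subgroup G).lowerCentralSeries i).card_mul_index
  rw [he, hG, show n = e i + (i + 1) from by omega, pow_add] at h3
  exact Nat.eq_of_mul_eq_mul_left (pow_pos hp.out.pos _) h3

theorem commutator_index_of_class [Finite G] {p n : ℕ} [hp : Fact p.Prime] (hG : Nat.card G = p ^ n)
    (hn : 2 ≤ n) (hc : Group.nilpotencyClass G = n - 1) : (commutator G).index = p ^ 2 := by
  have h := lcs_index hG hn hc (i := 1) le_rfl (by omega)
  rwa [top_lowerCentralSeries_one] at h

/-- A nonabelian p-group with derived index p²: the factor group has exponent p. -/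
theorem pow_mem_commutator [Finite G] {p : ℕ} [hp : Fact p.Prime] (hG : IsPGroup p G)
    (h : (commutator G).index = p ^ 2) (hne : commutator G ≠ ⊥) (g : G) : g ^ p ∈ commutator G := by
  obtain ⟨m, hm, hord⟩ : ∃ m, m ≤ 2 ∧ orderOf (g : G ⧸ commutator G) = p ^ m :=
    (Nat.dvd_prime_pow hp.out).1 (by rw [← h, Subgroup.index_eq_card]; exact orderOf_dvd_natCard _)
  rcases (show m ≤ 1 ∨ m = 2 by omega) with hm1 | rfl
  · rw [← QuotientGroup.eq_one_iff, QuotientGroup.mk_pow]
    exact orderOf_dvd_iff_pow_eq_one.1 (hord ▸ (pow_dvd_pow p hm1).trans (dvd_of_eq (pow_one p)))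
  · exfalso
    haveI : IsCyclic (G ⧸ commutator G) :=
      isCyclic_of_orderOf_eq_card (g : G ⧸ commutator G) (by rw [hord, ← Subgroup.index_eq_card, h])
    haveI := isCyclic_of_abelianization hG
    let := IsCyclic.commGroup (α := G)
    exact hne (eq_bot_iff.2 (Subgroup.commutator_le.2 fun a _ b _ => Subgroup.mem_bot.2 (by
      rw [commutatorElement_eq_one_iff_mul_comm, mul_comm])))

/-- The derived subgroup of an extension of an abelian group by order two. -/
theorem card_eq_commutator_mul_fixed [Finite G] {A : Subgroup G} (hA : A.index = 2)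
    (hab : ∀ a ∈ A, ∀ b ∈ A, Commute a b) {x : G} (hx : x ∉ A) :
    Nat.card A = Nat.card (commutator G) * Nat.card {a : A // x * (a : G) * x⁻¹ = a} := by
  haveI := Subgroup.normal_of_index_eq_two hA
  have hconj : ∀ a ∈ A, x * a * x⁻¹ ∈ A := fun a ha => ‹A.Normal›.conj_mem a ha x
  let φ : A →* G :=
    { toFun := fun a => x * a * x⁻¹ * (a : G)⁻¹
      map_one' := by simp
      map_mul' := fun a b => by
        have h1 : Commute (x * (b : G) * x⁻¹ * (b : G)⁻¹) ((a : G)⁻¹) :=
          hab _ (mul_mem (hconj b b.2) (inv_mem b.2)) _ (inv_mem a.2)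
        calc x * ((a * b : A) : G) * x⁻¹ * ((a * b : A) : G)⁻¹
            = x * (a : G) * x⁻¹ * ((x * (b : G) * x⁻¹ * (b : G)⁻¹) * (a : G)⁻¹) := by
              push_cast; group
          _ = x * (a : G) * x⁻¹ * ((a : G)⁻¹ * (x * (b : G) * x⁻¹ * (b : G)⁻¹)) := by rw [h1.eq]
          _ = _ := by group }
  have hφ : ∀ a : A, φ a = x * (a : G) * x⁻¹ * (a : G)⁻¹ := fun a => rfl
  have hRA : φ.range ≤ A := by
    rintro _ ⟨a, rfl⟩
    exact mul_mem (hconj a a.2) (inv_mem a.2)
  have hcov : ∀ g : G, g ∈ A ∨ x⁻¹ * g ∈ A := fun g => by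
    by_cases hg : g ∈ A
    · exact Or.inl hg
    · exact Or.inr ((Subgroup.mul_mem_iff_of_index_two hA).2 (by
        simp only [inv_mem_iff]
        exact iff_of_false hx hg))
  have hRx : ∀ r ∈ φ.range, x * r * x⁻¹ ∈ φ.range := by
    rintro _ ⟨a, rfl⟩
    exact ⟨⟨_, hconj a a.2⟩, by rw [hφ, hφ]; group⟩
  haveI : φ.range.Normal := ⟨fun r hr g => by
    rcases hcov g with hg | hg
    · rwa [(hab g hg r (hRA hr)).eq, mul_inv_cancel_right]
    · have h1 : g * r * g⁻¹ = x * ((x⁻¹ * g) * r * (x⁻¹ * g)⁻¹) * x⁻¹ := by group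
      rw [h1, (hab _ hg r (hRA hr)).eq, mul_inv_cancel_right]
      exact hRx r hr⟩
  have hR : φ.range = commutator G := by
    refine le_antisymm ?_ ?_
    · rintro _ ⟨a, rfl⟩
      exact Subgroup.commutator_mem_commutator (Subgroup.mem_top x) (Subgroup.mem_top (a : G))
    · set q := QuotientGroup.mk' φ.range with hq
      have hxa : ∀ a ∈ A, Commute (q x) (q a) := fun a ha => by
        have h1 : q (x * a * x⁻¹ * a⁻¹) = 1 := (QuotientGroup.eq_one_iff _).2 ⟨⟨a, ha⟩, rfl⟩
        rw [map_mul, map_mul, map_mul, map_inv, map_inv, mul_inv_eq_one, mul_inv_eq_iff_eq_mul] at h1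
        exact h1
      have hqA : ∀ a ∈ A, ∀ g, Commute (q a) (q g) := fun a ha g => by
        rcases hcov g with hg | hg
        · exact (hab a ha g hg).map q
        · have h1 : q g = q x * q (x⁻¹ * g) := by rw [← map_mul, mul_inv_cancel_left]
          rw [h1]
          exact (hxa a ha).symm.mul_right ((hab a ha _ hg).map q)
      have hqx : ∀ g, Commute (q x) (q g) := fun g => by
        rcases hcov g with hg | hg
        · exact hxa g hg
        · have h1 : q g = q x * q (x⁻¹ * g) := by rw [← map_mul, mul_inv_cancel_left]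
          rw [h1]
          exact (Commute.refl _).mul_right (hxa _ hg)
      rw [commutator_def, Subgroup.commutator_le]
      intro g _ k _
      rw [← QuotientGroup.eq_one_iff]
      show q ⁅g, k⁆ = 1
      rw [map_commutatorElement, commutatorElement_eq_one_iff_commute]
      rcases hcov g with hg | hg
      · exact hqA g hg k
      · have h1 : q g = q x * q (x⁻¹ * g) := by rw [← map_mul, mul_inv_cancel_left]
        rw [h1]
        exact (hqx k).mul_left (hqA _ hg k)
  have h1 := φ.ker.card_mul_index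
  rw [Subgroup.index_ker, hR] at h1
  rw [← h1, mul_comm]
  congr 1
  refine Nat.card_congr (Equiv.subtypeEquivRight fun a => ?_)
  rw [MonoidHom.mem_ker, hφ, mul_inv_eq_one]

/-- Elements fixed by conjugation, when the derived subgroup has index four. -/
theorem card_fixed_eq_two [Finite G] {A : Subgroup G} (hA : A.index = 2)
    (hab : ∀ a ∈ A, ∀ b ∈ A, Commute a b) (h4 : (commutator G).index = 4) {x : G} (hx : x ∉ A) :
    Nat.card {a : A // x * (a : G) * x⁻¹ = a} = 2 := by
  have h1 := card_eq_commutator_mul_fixed hA hab hx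
  have h2 := A.card_mul_index
  have h3 := (commutator G).card_mul_index
  rw [hA, ← h3, h4, h1, mul_assoc] at h2
  have h5 := Nat.eq_of_mul_eq_mul_left (Nat.card_pos (α := commutator G)) h2
  omega

/-- With derived index four only `1` and the given central involution are fixed. -/
theorem eq_one_or_of_fixed [Finite G] {A : Subgroup G} (hA : A.index = 2)
    (hab : ∀ a ∈ A, ∀ b ∈ A, Commute a b) (h4 : (commutator G).index = 4) {x : G} (hx : x ∉ A)
    {z : G} (hzA : z ∈ A) (hz : x * z * x⁻¹ = z) (hz1 : z ≠ 1)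
    {u : G} (huA : u ∈ A) (hu : x * u * x⁻¹ = u) : u = 1 ∨ u = z := by
  by_contra hne
  push Not at hne
  let f : Fin 3 → {a : A // x * (a : G) * x⁻¹ = a} :=
    ![⟨1, by simp⟩, ⟨⟨z, hzA⟩, hz⟩, ⟨⟨u, huA⟩, hu⟩]
  have hf : Function.Injective f := by
    intro i j h
    have h' := congrArg (fun v : {a : A // x * (a : G) * x⁻¹ = a} => ((v : A) : G)) h
    fin_cases i <;> fin_cases j <;> simp [f] at h' ⊢ <;> first
      | exact hz1 h' | exact hz1 h'.symm | exact hne.1 h' | exact hne.1 h'.symm
      | exact hne.2 h' | exact hne.2 h'.symm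
  have := Nat.card_le_card_of_injective f hf
  rw [Nat.card_eq_fintype_card (α := Fin 3), Fintype.card_fin, card_fixed_eq_two hA hab h4 hx] at this
  omega

/-- The derived factor group of a quotient by a subgroup of the derived group. -/
theorem commutator_index_quotient (Z : Subgroup G) [Z.Normal] (hZ : Z ≤ commutator G) :
    (commutator (G ⧸ Z)).index = (commutator G).index := by
  have h : commutator (G ⧸ Z) = (commutator G).map (QuotientGroup.mk' Z) := by
    rw [commutator_def, commutator_def, Subgroup.map_commutator,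
      Subgroup.map_top_of_surjective _ (QuotientGroup.mk'_surjective Z)]
  rw [h, Subgroup.index_map_eq _ (QuotientGroup.mk'_surjective Z) (by rwa [QuotientGroup.ker_mk'])]

/-- Taussky: a 2-group with derived index four has a cyclic subgroup of index two. -/
theorem exists_cyclic_index_two : ∀ (N : ℕ) {S : Type*} [Group S] [Finite S], Nat.card S = N →
    IsPGroup 2 S → (commutator S).index = 4 → ∃ a : S, (Subgroup.zpowers a).index = 2 := by
  intro N
  induction N using Nat.strong_induction_on with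
  | _ N ih =>
  intro S _ _ hN hS h4
  haveI : Fact (Nat.Prime 2) := ⟨Nat.prime_two⟩
  by_cases hbot : commutator S = ⊥
  · rw [hbot, Subgroup.index_bot] at h4
    obtain ⟨a, ha⟩ := exists_prime_orderOf_dvd_card' (G := S) 2 (by rw [h4]; norm_num)
    refine ⟨a, ?_⟩
    have := (Subgroup.zpowers a).card_mul_index
    rw [Nat.card_zpowers, ha, h4] at this
    omega
  haveI := hS.isNilpotent
  obtain ⟨⟨z, hzm⟩, hz⟩ := exists_prime_orderOf_dvd_card'
    (G := (commutator S ⊓ Subgroup.center S : Subgroup S)) 2 (by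
      obtain ⟨j, hj⟩ := IsPGroup.iff_card.1 (hS.to_subgroup (commutator S ⊓ Subgroup.center S))
      rcases Nat.eq_zero_or_pos j with rfl | hj0
      · exact absurd (Subgroup.card_eq_one.1 (by rw [hj, pow_zero]))
          (Cfsg.Agent.Grp.inf_center_ne_bot _ hbot)
      · exact hj ▸ dvd_pow_self 2 hj0.ne')
  rw [Subgroup.orderOf_mk] at hz
  obtain ⟨hzS, hzZ⟩ := Subgroup.mem_inf.1 hzm
  have hzc : ∀ g, g * z = z * g := Subgroup.mem_center_iff.1 hzZ
  haveI : (Subgroup.zpowers z).Normal := ⟨fun n hn g => by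
    rwa [Subgroup.mem_center_iff.1 (Subgroup.zpowers_le.2 hzZ hn) g, mul_inv_cancel_right]⟩
  set q := QuotientGroup.mk' (Subgroup.zpowers z) with hqdef
  have hlt : Nat.card (S ⧸ Subgroup.zpowers z) < N := by
    have h1 := Subgroup.card_eq_card_quotient_mul_card_subgroup (Subgroup.zpowers z)
    have h0 : 0 < Nat.card (S ⧸ Subgroup.zpowers z) := Nat.card_pos
    rw [Nat.card_zpowers, hz, hN] at h1
    omega
  obtain ⟨c', hc'⟩ := ih _ hlt rfl (hS.to_quotient _)
    ((commutator_index_quotient _ (Subgroup.zpowers_le.2 hzS)).trans h4)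
  obtain ⟨c, rfl⟩ := QuotientGroup.mk'_surjective (Subgroup.zpowers z) c'
  set A := (Subgroup.zpowers (q c)).comap q with hAdef
  have hA : A.index = 2 := by
    rw [hAdef, Subgroup.index_comap_of_surjective _ (QuotientGroup.mk'_surjective _), hc']
  have hdec : ∀ y ∈ A, ∃ i j : ℤ, y = c ^ i * z ^ j := fun y hy => by
    obtain ⟨i, hi⟩ := Subgroup.mem_zpowers_iff.1 (Subgroup.mem_comap.1 hy)
    rw [← map_zpow, hqdef, QuotientGroup.mk'_eq_mk'] at hi
    obtain ⟨w, hw, rfl⟩ := hi
    obtain ⟨j, rfl⟩ := Subgroup.mem_zpowers_iff.1 hw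
    exact ⟨i, j, rfl⟩
  have hcz : Commute c z := hzc c
  have hab : ∀ a ∈ A, ∀ b ∈ A, Commute a b := fun a ha b hb => by
    obtain ⟨i, j, rfl⟩ := hdec a ha
    obtain ⟨k, l, rfl⟩ := hdec b hb
    exact (((Commute.refl c).zpow_zpow i k).mul_right (hcz.zpow_zpow i l)).mul_left
      ((hcz.symm.zpow_zpow j k).mul_right ((Commute.refl z).zpow_zpow j l))
  have hcA : c ∈ A := Subgroup.mem_zpowers (q c)
  have hzA : z ∈ A := by
    rw [hAdef, Subgroup.mem_comap, show q z = 1 from (QuotientGroup.eq_one_iff z).2 (Subgroup.mem_zpowers z)]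
    exact one_mem _
  by_cases hzin : z ∈ Subgroup.zpowers c
  · refine ⟨c, ?_⟩
    rw [show Subgroup.zpowers c = A from le_antisymm (Subgroup.zpowers_le.2 hcA) fun y hy => ?_, hA]
    obtain ⟨i, j, rfl⟩ := hdec y hy
    exact mul_mem (zpow_mem (Subgroup.mem_zpowers c) i) (zpow_mem hzin j)
  obtain ⟨x, hx⟩ : ∃ x, x ∉ A := by
    by_contra hno
    push Not at hno
    rw [show A = ⊤ from eq_top_iff.2 fun g _ => hno g, Subgroup.index_top] at hA
    omega
  haveI := Subgroup.normal_of_index_eq_two hA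
  obtain ⟨m, hm⟩ := hS.exists_orderOf_eq_pow c
  have hm1 : m ≤ 1 := by
    by_contra hm2
    obtain ⟨m', rfl⟩ : ∃ m', m = m' + 2 := ⟨m - 2, by omega⟩
    set u := c ^ 2 ^ (m' + 1) with hu
    have hu2 : orderOf u = 2 := by
      rw [hu, orderOf_pow' c (by positivity), hm, pow_succ' 2 (m' + 1),
        Nat.gcd_eq_right (dvd_mul_left _ _), Nat.mul_div_cancel _ (by positivity)]
    have huA : u ∈ A := pow_mem hcA _
    have hufix : x * u * x⁻¹ = u := by
      obtain ⟨i, j, hij⟩ := hdec _ (‹A.Normal›.conj_mem c hcA x)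
      have hzp : z ^ 2 ^ (m' + 1) = 1 :=
        orderOf_dvd_iff_pow_eq_one.1 (by rw [hz]; exact dvd_pow_self 2 (Nat.succ_ne_zero m'))
      have h1 : x * u * x⁻¹ = u ^ i := by
        rw [hu, ← conj_pow, hij, (hcz.zpow_zpow i j).mul_pow, ← zpow_natCast (z ^ j), ← zpow_mul,
          mul_comm j, zpow_mul, zpow_natCast, hzp, one_zpow, mul_one, ← zpow_natCast, ← zpow_natCast,
          ← zpow_mul, ← zpow_mul, mul_comm]
      rcases Int.emod_two_eq_zero_or_one i with e | e
      · exfalso
        rw [← zpow_mod_orderOf, hu2, Nat.cast_ofNat, e, zpow_zero, conj_eq_one_iff] at h1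
        rw [h1, orderOf_one] at hu2
        omega
      · rwa [← zpow_mod_orderOf, hu2, Nat.cast_ofNat, e, zpow_one] at h1
    rcases eq_one_or_of_fixed hA hab h4 hx hzA (by rw [hzc, mul_inv_cancel_right])
        (fun h => by rw [h, orderOf_one] at hz; omega) huA hufix with h | h
    · rw [h, orderOf_one] at hu2; omega
    · exact hzin (h ▸ pow_mem (Subgroup.mem_zpowers c) _)
  have hc2 : c ^ 2 = 1 := orderOf_dvd_iff_pow_eq_one.1 (hm ▸ (pow_dvd_pow 2 hm1).trans (by norm_num))
  have hA2 : ∀ a ∈ A, a ^ 2 = 1 := fun a ha => by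
    obtain ⟨i, j, rfl⟩ := hdec a ha
    rw [(hcz.zpow_zpow i j).mul_pow, ← zpow_natCast (c ^ i), ← zpow_natCast (z ^ j), ← zpow_mul,
      ← zpow_mul, mul_comm i, mul_comm j, zpow_mul, zpow_mul, zpow_natCast, zpow_natCast, hc2,
      show z ^ 2 = 1 from hz ▸ pow_orderOf_eq_one z, one_zpow, one_zpow, one_mul]
  obtain ⟨g, hg⟩ : ∃ g : S, g ^ 2 ≠ 1 := by
    by_contra hno
    push Not at hno
    refine hbot (eq_bot_iff.2 (Subgroup.commutator_le.2 fun a _ b _ => Subgroup.mem_bot.2 ?_))
    rw [commutatorElement_eq_one_iff_mul_comm]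
    have hinv : ∀ w : S, w⁻¹ = w := fun w => inv_eq_of_mul_eq_one_right (by rw [← pow_two, hno w])
    rw [← hinv (a * b), mul_inv_rev, hinv, hinv]
  refine ⟨g, ?_⟩
  have hcardA : Nat.card A ≤ 4 := by
    refine (Nat.card_le_card_of_surjective
      (fun v : Subgroup.zpowers c × Subgroup.zpowers z =>
        (⟨v.1 * v.2, mul_mem (Subgroup.zpowers_le.2 hcA v.1.2) (Subgroup.zpowers_le.2 hzA v.2.2)⟩ : A))
      fun ⟨y, hy⟩ => ?_).trans ?_
    · obtain ⟨i, j, rfl⟩ := hdec y hy
      exact ⟨(⟨_, zpow_mem (Subgroup.mem_zpowers c) i⟩, ⟨_, zpow_mem (Subgroup.mem_zpowers z) j⟩), rfl⟩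
    · rw [Nat.card_prod, Nat.card_zpowers, Nat.card_zpowers, hz]
      have : orderOf c ≤ 2 := orderOf_le_of_pow_eq_one (by norm_num) hc2
      omega
  have hgA : g ∉ A := fun h => hg (hA2 g h)
  obtain ⟨r, hr⟩ := hS.exists_orderOf_eq_pow g
  have hr2 : 2 ≤ r := by
    by_contra hlt
    exact hg (orderOf_dvd_iff_pow_eq_one.1 (hr ▸ (pow_dvd_pow 2 (by omega : r ≤ 1)).trans (by norm_num)))
  have h8 : Nat.card S ≤ 8 := by
    have h9 := A.card_mul_index
    rw [hA] at h9
    omega
  have h10 := (Subgroup.zpowers g).card_mul_index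
  rw [Nat.card_zpowers, hr] at h10
  have h11 : 4 ≤ 2 ^ r := le_trans (by norm_num) (Nat.pow_le_pow_right two_pos hr2)
  have hne1 : (Subgroup.zpowers g).index ≠ 1 := fun h => hbot (by
    haveI : IsCyclic S := ⟨⟨g, fun w => by rw [← Subgroup.mem_zpowers_iff, Subgroup.index_eq_one.1 h]; exact Subgroup.mem_top w⟩⟩
    let := IsCyclic.commGroup (α := S)
    exact eq_bot_iff.2 (Subgroup.commutator_le.2 fun a _ b _ => Subgroup.mem_bot.2 (by
      rw [commutatorElement_eq_one_iff_mul_comm, mul_comm])))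
  have hpos : (Subgroup.zpowers g).index ≠ 0 := Subgroup.index_ne_zero_of_finite
  have : 4 * (Subgroup.zpowers g).index ≤ 8 := le_trans (Nat.mul_le_mul_right _ h11) (h10 ▸ h8)
  omega

/-- The three shapes of nonabelian 2-groups with derived index four. -/
theorem shape [Finite G] (hG : IsPGroup 2 G) (h4 : (commutator G).index = 4) (hne : commutator G ≠ ⊥) :
    ∃ (k : ℕ) (a x : G), orderOf a = 2 ^ (k + 2) ∧ (Subgroup.zpowers a).index = 2 ∧ x ∉ Subgroup.zpowers a ∧
      (∀ u ∈ Subgroup.zpowers a, x * u * x⁻¹ = u → u = 1 ∨ u = a ^ 2 ^ (k + 1)) ∧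
      ((x * a * x⁻¹ = a⁻¹ ∧ x * x = 1) ∨ (x * a * x⁻¹ = a⁻¹ ∧ x * x = a ^ 2 ^ (k + 1)) ∨
        (1 ≤ k ∧ x * a * x⁻¹ = a ^ (2 ^ (k + 1) - 1) ∧ x * x = 1)) := by
  obtain ⟨a, ha⟩ := exists_cyclic_index_two _ rfl hG h4
  haveI : Fact (Nat.Prime 2) := ⟨Nat.prime_two⟩
  obtain ⟨m, hm⟩ := hG.exists_orderOf_eq_pow a
  have hm2 : 2 ≤ m := by
    by_contra hlt
    have h1 := (Subgroup.zpowers a).card_mul_index
    rw [ha, Nat.card_zpowers, hm, ← (commutator G).card_mul_index, h4] at h1
    have h2 : 2 ≤ Nat.card (commutator G) := by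
      have := Subgroup.one_lt_card_iff_ne_bot _ |>.2 hne
      omega
    have h3 : 2 ^ m ≤ 2 ^ 1 := Nat.pow_le_pow_right two_pos (by omega)
    omega
  obtain ⟨k, rfl⟩ : ∃ k, m = k + 2 := ⟨m - 2, by omega⟩
  obtain ⟨x, hx⟩ : ∃ x, x ∉ Subgroup.zpowers a := by
    by_contra hno
    push Not at hno
    rw [show Subgroup.zpowers a = ⊤ from eq_top_iff.2 fun g _ => hno g, Subgroup.index_top] at ha
    omega
  have hab : ∀ u ∈ Subgroup.zpowers a, ∀ v ∈ Subgroup.zpowers a, Commute u v := by
    rintro _ ⟨i, rfl⟩ _ ⟨j, rfl⟩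
    exact (Commute.refl a).zpow_zpow i j
  haveI := Subgroup.normal_of_index_eq_two ha
  set z := a ^ 2 ^ (k + 1) with hz
  have hz2 : orderOf z = 2 := by
    rw [hz, orderOf_pow' a (by positivity), hm, pow_succ' 2 (k + 1),
      Nat.gcd_eq_right (dvd_mul_left _ _), Nat.mul_div_cancel _ (by positivity)]
  have hzA : z ∈ Subgroup.zpowers a := pow_mem (Subgroup.mem_zpowers a) _
  have hzz : z * z = 1 := by rw [← pow_two, ← hz2, pow_orderOf_eq_one]
  have hzfix : x * z * x⁻¹ = z := by
    obtain ⟨i, hi⟩ := Subgroup.mem_zpowers_iff.1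
      (‹(Subgroup.zpowers a).Normal›.conj_mem a (Subgroup.mem_zpowers a) x)
    have h1 : x * z * x⁻¹ = z ^ i := by
      rw [hz, ← conj_pow, ← hi, ← zpow_natCast, ← zpow_natCast, ← zpow_mul, ← zpow_mul, mul_comm]
    rcases Int.emod_two_eq_zero_or_one i with e | e
    · exfalso
      rw [← zpow_mod_orderOf, hz2, Nat.cast_ofNat, e, zpow_zero, conj_eq_one_iff] at h1
      rw [h1, orderOf_one] at hz2
      omega
    · rwa [← zpow_mod_orderOf, hz2, Nat.cast_ofNat, e, zpow_one] at h1
  have hfix : ∀ u ∈ Subgroup.zpowers a, x * u * x⁻¹ = u → u = 1 ∨ u = z := fun u hu hu' =>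
    eq_one_or_of_fixed ha hab h4 hx hzA hzfix (fun h => by rw [h, orderOf_one] at hz2; omega) hu hu'
  have hx2A : x * x ∈ Subgroup.zpowers a := Subgroup.mul_self_mem_of_index_two ha x
  have hxx : x * x = 1 ∨ x * x = z := hfix _ hx2A (by group)
  have hxa : x * a * x⁻¹ ∈ Subgroup.zpowers a :=
    ‹(Subgroup.zpowers a).Normal›.conj_mem a (Subgroup.mem_zpowers a) x
  have hy : a * (x * a * x⁻¹) = 1 ∨ a * (x * a * x⁻¹) = z := by
    refine hfix _ (mul_mem (Subgroup.mem_zpowers a) hxa) ?_
    have h2 : Commute (x * x) a := hab _ hx2A _ (Subgroup.mem_zpowers a)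
    have h3 : x * (x * a * x⁻¹) * x⁻¹ = a := by
      calc x * (x * a * x⁻¹) * x⁻¹ = (x * x * a) * (x * x)⁻¹ := by group
        _ = a * (x * x) * (x * x)⁻¹ := by rw [h2.eq]
        _ = a := mul_inv_cancel_right _ _
    rw [← conj_mul, h3]
    exact hab _ hxa _ (Subgroup.mem_zpowers a)
  rcases hy with hy | hy
  · have hinv : x * a * x⁻¹ = a⁻¹ := eq_inv_of_mul_eq_one_right hy
    rcases hxx with h | h
    · exact ⟨k, a, x, hm, ha, hx, hfix, Or.inl ⟨hinv, h⟩⟩
    · exact ⟨k, a, x, hm, ha, hx, hfix, Or.inr (Or.inl ⟨hinv, h⟩)⟩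
  · have hk : 1 ≤ k := by
      by_contra hk0
      obtain rfl : k = 0 := by omega
      have h1 : a * a = z := by rw [hz]; simp [pow_two]
      rw [← h1, mul_right_inj] at hy
      rcases hfix a (Subgroup.mem_zpowers a) hy with h | h
      · rw [h, orderOf_one] at hm; simp at hm
      · rw [h, hz2] at hm; simp at hm
    have hsd : x * a * x⁻¹ = a ^ (2 ^ (k + 1) - 1) := by
      refine mul_left_cancel (a := a) ?_
      rw [hy, hz, ← pow_succ', Nat.sub_add_cancel (Nat.one_le_two_pow)]
    rcases hxx with h | h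
    · exact ⟨k, a, x, hm, ha, hx, hfix, Or.inr (Or.inr ⟨hk, hsd, h⟩)⟩
    · refine ⟨k, a, a * x, hm, ha, ?_, ?_, Or.inr (Or.inr ⟨hk, ?_, ?_⟩)⟩
      · rw [Subgroup.mul_mem_cancel_left _ (Subgroup.mem_zpowers a)]; exact hx
      · intro u hu hu'
        refine hfix u hu ?_
        have hu2 : x * u * x⁻¹ ∈ Subgroup.zpowers a := ‹(Subgroup.zpowers a).Normal›.conj_mem u hu x
        rw [show a * x * u * (a * x)⁻¹ = a * (x * u * x⁻¹) * a⁻¹ by group,
          (hab a (Subgroup.mem_zpowers a) _ hu2).eq, mul_inv_cancel_right] at hu'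
        exact hu'
      · rw [show a * x * a * (a * x)⁻¹ = a * (x * a * x⁻¹) * a⁻¹ by group, hsd,
          ((Commute.refl a).pow_right _).eq, mul_inv_cancel_right]
      · calc a * x * (a * x) = a * (x * a * x⁻¹) * (x * x) := by group
          _ = 1 := by rw [hy, h, hzz]

/-- A 2-group of order 2^n with derived index four has class n - 1. -/
theorem class_of_index_four : ∀ (n : ℕ) {S : Type*} [Group S] [Finite S], Nat.card S = 2 ^ n →
    2 ≤ n → (commutator S).index = 4 → Group.nilpotencyClass S = n - 1 := by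
  intro n
  induction n using Nat.strong_induction_on with
  | _ n ih =>
  intro S _ _ hS hn h4
  haveI : Fact (Nat.Prime 2) := ⟨Nat.prime_two⟩
  haveI := (IsPGroup.of_card hS).isNilpotent
  have h4n : 2 ^ 2 ≤ 2 ^ n := Nat.pow_le_pow_right two_pos hn
  haveI : Nontrivial S := Finite.one_lt_card_iff_nontrivial.1 (by omega)
  rcases Nat.eq_or_lt_of_le hn with rfl | hn3
  · have hab : IsMulCommutative S :=
      ⟨⟨(IsPGroup.commGroupOfCardEqPrimeSq (p := 2) hS).mul_comm⟩⟩
    have h1 := Group.IsNilpotent.nilpotencyClass_le_one_iff.2 hab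
    have h2 : Group.nilpotencyClass S ≠ 0 := fun h =>
      not_subsingleton S (nilpotencyClass_zero_iff_subsingleton.1 h)
    omega
  have hbot : commutator S ≠ ⊥ := fun h => by
    rw [h, Subgroup.index_bot, hS] at h4
    have : 2 ^ 3 ≤ 2 ^ n := Nat.pow_le_pow_right two_pos hn3
    omega
  obtain ⟨a, ha⟩ := exists_cyclic_index_two _ rfl (IsPGroup.of_card hS) h4
  obtain ⟨x, hx⟩ : ∃ x, x ∉ Subgroup.zpowers a := by
    by_contra hno
    push Not at hno
    rw [show Subgroup.zpowers a = ⊤ from eq_top_iff.2 fun g _ => hno g, Subgroup.index_top] at ha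
    omega
  have hab : ∀ u ∈ Subgroup.zpowers a, ∀ v ∈ Subgroup.zpowers a, Commute u v := by
    rintro _ ⟨i, rfl⟩ _ ⟨j, rfl⟩
    exact (Commute.refl a).zpow_zpow i j
  have hfix := card_fixed_eq_two ha hab h4 hx
  -- the center lies in the cyclic subgroup
  have hZA : ∀ g ∈ Subgroup.center S, g ∈ Subgroup.zpowers a := fun g hg => by
    by_contra hgA
    have h1 := card_fixed_eq_two ha hab h4 hgA
    have h2 : Nat.card {u : Subgroup.zpowers a // g * (u : S) * g⁻¹ = u} = Nat.card (Subgroup.zpowers a) :=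
      Nat.card_congr (Equiv.subtypeUnivEquiv fun u => by
        rw [← Subgroup.mem_center_iff.1 hg (u : S), mul_inv_cancel_right])
    have h3 := (Subgroup.zpowers a).card_mul_index
    rw [ha, hS, ← h2, h1] at h3
    have : 2 ^ 3 ≤ 2 ^ n := Nat.pow_le_pow_right two_pos hn3
    omega
  have hZcard : Nat.card (Subgroup.center S) = 2 := by
    have hle : Nat.card (Subgroup.center S) ≤ 2 := by
      rw [← hfix]
      refine Nat.card_le_card_of_injective
        (fun g : Subgroup.center S => (⟨⟨g, hZA g g.2⟩, by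
          show x * (g : S) * x⁻¹ = g
          rw [Subgroup.mem_center_iff.1 g.2 x, mul_inv_cancel_right]⟩ :
          {u : Subgroup.zpowers a // x * (u : S) * x⁻¹ = u})) ?_
      intro g h hgh
      exact Subtype.ext (congrArg (fun v : {u : Subgroup.zpowers a // x * (u : S) * x⁻¹ = u} => ((v : Subgroup.zpowers a) : S)) hgh)
    haveI := (IsPGroup.of_card hS).center_nontrivial
    have := Finite.one_lt_card (α := Subgroup.center S)
    omega
  have hZle : Subgroup.center S ≤ commutator S := by
    have hne := Cfsg.Agent.Grp.inf_center_ne_bot _ hbot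
    have h1 : commutator S ⊓ Subgroup.center S = Subgroup.center S := by
      refine Subgroup.eq_of_le_of_card_ge inf_le_right ?_
      have := (Subgroup.one_lt_card_iff_ne_bot _).2 hne
      omega
    exact h1 ▸ inf_le_left
  have hq : Nat.card (S ⧸ Subgroup.center S) = 2 ^ (n - 1) := by
    have h1 := Subgroup.card_eq_card_quotient_mul_card_subgroup (Subgroup.center S)
    rw [hS, hZcard, show n = n - 1 + 1 from by omega, pow_succ] at h1
    exact (Nat.eq_of_mul_eq_mul_right two_pos h1).symm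
  rw [Group.nilpotencyClass_eq_quotient_center_plus_one,
    ih (n - 1) (by omega) hq (by omega) ((commutator_index_quotient _ hZle).trans h4)]
  omega

/-- A subgroup of order p² containing its centralizer forces maximal class. -/
theorem class_of_selfCentralizing {p : ℕ} [hp : Fact p.Prime] :
    ∀ (n : ℕ) {X : Type*} [Group X] [Finite X], Nat.card X = p ^ n → ∀ A : Subgroup X,
    Nat.card A = p ^ 2 → Subgroup.centralizer (A : Set X) = A → Group.nilpotencyClass X = n - 1 := by
  intro n
  induction n using Nat.strong_induction_on with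
  | _ n ih =>
  intro X _ _ hX A hA hC
  haveI := (IsPGroup.of_card hX).isNilpotent
  have hn : 2 ≤ n := by
    have h1 := Subgroup.card_subgroup_dvd_card A
    rw [hA, hX, Nat.pow_dvd_pow_iff_le_right hp.out.one_lt] at h1
    exact h1
  haveI : Nontrivial X := Finite.one_lt_card_iff_nontrivial.1 (by
    rw [hX]; exact Nat.one_lt_pow (by omega) hp.out.one_lt)
  haveI := (IsPGroup.of_card hX).center_nontrivial
  by_cases hAtop : A = ⊤
  · have hn2 : n = 2 := by
      rw [hAtop, Subgroup.card_top, hX] at hA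
      exact Nat.pow_right_injective hp.out.two_le hA
    subst hn2
    have hab : IsMulCommutative X :=
      ⟨⟨(IsPGroup.commGroupOfCardEqPrimeSq (p := p) hX).mul_comm⟩⟩
    have h1 := Group.IsNilpotent.nilpotencyClass_le_one_iff.2 hab
    have h2 : Group.nilpotencyClass X ≠ 0 := fun h =>
      not_subsingleton X (nilpotencyClass_zero_iff_subsingleton.1 h)
    omega
  have hZA : Subgroup.center X ≤ A := hC ▸ Subgroup.center_le_centralizer _
  have hZp : Nat.card (Subgroup.center X) = p := by
    obtain ⟨j, hj, hje⟩ := (Nat.dvd_prime_pow hp.out).1 (hA ▸ Subgroup.card_dvd_of_le hZA)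
    have h1 := Finite.one_lt_card (α := Subgroup.center X)
    rcases (show j = 0 ∨ j = 1 ∨ j = 2 by omega) with rfl | rfl | rfl
    · rw [hje, pow_zero] at h1; omega
    · rw [hje, pow_one]
    · have heq := Subgroup.eq_of_le_of_card_ge hZA (by rw [hje, hA])
      refine absurd (hC.symm.trans ?_) hAtop
      rw [← heq, eq_top_iff]
      exact fun g _ => Subgroup.mem_centralizer_iff.2 fun h hh => (Subgroup.mem_center_iff.1 hh g).symm
  obtain ⟨a, haA, haZ⟩ : ∃ a ∈ A, a ∉ Subgroup.center X := by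
    by_contra hno
    push Not at hno
    have h1 := Subgroup.card_le_of_le (H := A) (K := Subgroup.center X) hno
    rw [hA, hZp] at h1
    have := Nat.pow_lt_pow_right hp.out.one_lt (show 1 < 2 by norm_num)
    rw [pow_one] at this
    omega
  set q := QuotientGroup.mk' (Subgroup.center X) with hq
  -- elements commuting with `a` commute with `A`
  have hCa : Subgroup.centralizer {a} = A := by
    refine le_antisymm ?_ fun g hg => ?_
    · have hAeq : A ≤ Subgroup.zpowers a ⊔ Subgroup.center X := by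
        refine le_of_eq (Subgroup.eq_of_le_of_card_ge (sup_le (Subgroup.zpowers_le.2 haA) hZA) ?_).symm
        obtain ⟨j, hj, hje⟩ := (Nat.dvd_prime_pow hp.out).1
          (hA ▸ Subgroup.card_dvd_of_le (sup_le (Subgroup.zpowers_le.2 haA) hZA))
        rw [hA, hje]
        refine Nat.pow_le_pow_right hp.out.pos ?_
        by_contra hj2
        have h2 : Subgroup.center X = Subgroup.zpowers a ⊔ Subgroup.center X :=
          Subgroup.eq_of_le_of_card_ge le_sup_right (by
            rw [hje, hZp]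
            exact (Nat.pow_le_pow_right hp.out.pos (by omega : j ≤ 1)).trans (pow_one p).le)
        exact haZ (h2 ▸ Subgroup.mem_sup_left (Subgroup.mem_zpowers a))
      intro g hg
      rw [← hC]
      refine Subgroup.mem_centralizer_iff.2 fun h hh => ?_
      obtain ⟨u, hu, w, hw, rfl⟩ := Subgroup.mem_sup_of_normal_right.1 (hAeq hh)
      obtain ⟨i, rfl⟩ := Subgroup.mem_zpowers_iff.1 hu
      have h1 : Commute a g := (Subgroup.mem_centralizer_singleton_iff.1 hg).symm
      exact ((h1.zpow_left i).mul_left (Subgroup.mem_center_iff.1 hw g).symm).eq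
    · exact Subgroup.mem_centralizer_singleton_iff.2 (Subgroup.mem_centralizer_iff.1 (hC.symm ▸ hg) a haA).symm
  set Cq := Subgroup.centralizer ({q a} : Set (X ⧸ Subgroup.center X)) with hCq
  set M := Cq.comap q with hM
  have hMc : ∀ g ∈ M, ⁅g, a⁆ ∈ Subgroup.center X := fun g hg => by
    refine (QuotientGroup.eq_one_iff _).1 ?_
    show q ⁅g, a⁆ = 1
    rw [map_commutatorElement, commutatorElement_eq_one_iff_mul_comm]
    exact Subgroup.mem_centralizer_singleton_iff.1 hg
  let φ : M →* Subgroup.center X :=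
    { toFun := fun g => ⟨⁅(g : X), a⁆, hMc g g.2⟩
      map_one' := Subtype.ext (by simp)
      map_mul' := fun g h => Subtype.ext (by
        show ⁅(g : X) * h, a⁆ = ⁅(g : X), a⁆ * ⁅(h : X), a⁆
        rw [← Subgroup.mem_center_iff.1 (hMc g g.2) ⁅(h : X), a⁆]
        calc ⁅(g : X) * h, a⁆ = (g : X) * ⁅(h : X), a⁆ * (g : X)⁻¹ * ⁅(g : X), a⁆ := by
              simp only [commutatorElement_def]; group
          _ = _ := by rw [Subgroup.mem_center_iff.1 (hMc h h.2) (g : X), mul_inv_cancel_right]) }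
  have hMle : Nat.card M ≤ p ^ 3 := by
    rw [← φ.ker.card_mul_index, Subgroup.index_ker, show p ^ 3 = p ^ 2 * p from by ring, ← hA]
    refine Nat.mul_le_mul ?_ ((Subgroup.card_le_card_group _).trans hZp.le)
    refine Nat.card_le_card_of_injective (fun g : φ.ker => (⟨((g : M) : X), ?_⟩ : A))
      fun g h hgh => Subtype.ext (Subtype.ext (congrArg (fun v : A => (v : X)) hgh))
    have h1 : ⁅((g : M) : X), a⁆ = 1 := congrArg Subtype.val (MonoidHom.mem_ker.1 g.2)
    rw [← hCa, Subgroup.mem_centralizer_singleton_iff]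
    exact commutatorElement_eq_one_iff_mul_comm.1 h1
  have hMeq : Nat.card M = Nat.card Cq * p := by
    have h1 := Subgroup.card_eq_card_quotient_mul_card_subgroup (Subgroup.center X)
    rw [hZp, ← Cq.card_mul_index, ← M.card_mul_index, hM,
      Subgroup.index_comap_of_surjective _ (QuotientGroup.mk'_surjective _)] at h1
    exact Nat.eq_of_mul_eq_mul_right (Nat.pos_of_ne_zero Subgroup.index_ne_zero_of_finite)
      (h1.trans (mul_right_comm _ _ _))
  have hqa : q a ≠ 1 := fun h => haZ ((QuotientGroup.eq_one_iff a).1 h)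
  have hXq : Nat.card (X ⧸ Subgroup.center X) = p ^ (n - 1) := by
    have h1 := Subgroup.card_eq_card_quotient_mul_card_subgroup (Subgroup.center X)
    rw [hX, hZp, show n = n - 1 + 1 from by omega, pow_succ] at h1
    exact (Nat.eq_of_mul_eq_mul_right hp.out.pos h1).symm
  obtain ⟨j, hj, hje⟩ := (Nat.dvd_prime_pow hp.out).1 (hXq ▸ Subgroup.card_subgroup_dvd_card Cq)
  have hj1 : j ≠ 0 := fun h0 => hqa (by
    have h2 : Cq = ⊥ := Subgroup.card_eq_one.1 (by rw [hje, h0, pow_zero])
    exact Subgroup.mem_bot.1 (h2 ▸ Subgroup.mem_centralizer_singleton_iff.2 rfl : q a ∈ (⊥ : Subgroup _)))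
  have hj2 : j ≤ 2 := by
    rw [hMeq, hje, ← pow_succ, Nat.pow_le_pow_iff_right hp.out.one_lt] at hMle
    omega
  rcases (show j = 1 ∨ j = 2 by omega) with rfl | rfl
  · exfalso
    -- the image of `a` would be central
    haveI : Nontrivial (X ⧸ Subgroup.center X) := ⟨⟨q a, 1, hqa⟩⟩
    haveI := ((IsPGroup.of_card hX).to_quotient (Subgroup.center X)).center_nontrivial
    have h2 : Subgroup.center (X ⧸ Subgroup.center X) = Cq :=
      Subgroup.eq_of_le_of_card_ge (Subgroup.center_le_centralizer _) (by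
        rw [hje, pow_one]
        obtain ⟨i, hi0, hi⟩ := (((IsPGroup.of_card hX).to_quotient (Subgroup.center X)).to_subgroup
          (Subgroup.center (X ⧸ Subgroup.center X))).nontrivial_iff_card.1 inferInstance
        rw [hi]
        exact Nat.le_self_pow hi0.ne' p)
    have h3 : q a ∈ Subgroup.center (X ⧸ Subgroup.center X) := h2 ▸ Subgroup.mem_centralizer_singleton_iff.2 rfl
    have h4 : Cq = ⊤ := eq_top_iff.2 fun g _ =>
      Subgroup.mem_centralizer_singleton_iff.2 (Subgroup.mem_center_iff.1 h3 g)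
    rw [h4, Subgroup.card_top, hXq] at hje
    have hn2 : n = 2 := by
      have := Nat.pow_right_injective hp.out.two_le hje
      omega
    exact hAtop (Subgroup.eq_top_of_card_eq A (by rw [hA, hX, hn2]))
  · have hCab : ∀ u ∈ Cq, ∀ v ∈ Cq, u * v = v * u := fun u hu v hv =>
      congrArg Subtype.val ((IsPGroup.commGroupOfCardEqPrimeSq (p := p) hje).mul_comm ⟨u, hu⟩ ⟨v, hv⟩)
    have hCC : Subgroup.centralizer (Cq : Set (X ⧸ Subgroup.center X)) = Cq := le_antisymm
      (fun g hg => Subgroup.mem_centralizer_singleton_iff.2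
        (Subgroup.mem_centralizer_iff.1 hg (q a) (Subgroup.mem_centralizer_singleton_iff.2 rfl)).symm)
      (fun g hg => Subgroup.mem_centralizer_iff.2 fun h hh => hCab h hh g hg)
    rw [Group.nilpotencyClass_eq_quotient_center_plus_one, ih (n - 1) (by omega) hXq Cq hje hCC]
    have hn3 : 3 ≤ n := by
      by_contra hlt
      exact hAtop (Subgroup.eq_top_of_card_eq A (by rw [hA, hX, show n = 2 by omega]))
    omega

/-- Recognition of a dihedral group. -/
theorem nonempty_dihedral [Finite G] {m : ℕ} (hm : 0 < m) {a s : G} (ha : orderOf a = m)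
    (hidx : (Subgroup.zpowers a).index = 2) (hs : s ∉ Subgroup.zpowers a) (hs2 : s * s = 1)
    (h : s * a * s⁻¹ = a⁻¹) : Nonempty (G ≃* DihedralGroup m) := by
  haveI : NeZero m := ⟨hm.ne'⟩
  let f := Cfsg.Agent.Recog.dihedralHom a s (ha ▸ pow_orderOf_eq_one a) hs2 h
  have hr : f (DihedralGroup.r 1) = a := Cfsg.Agent.Recog.dihedralHom_r a s _ hs2 h
  have hsr : f (DihedralGroup.sr 0) = s := Cfsg.Agent.Recog.dihedralHom_sr a s _ hs2 h
  have hrange : Function.Surjective f := fun g => by
    have hpow : ∀ u ∈ Subgroup.zpowers a, u ∈ f.range := fun u hu => by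
      obtain ⟨i, rfl⟩ := Subgroup.mem_zpowers_iff.1 hu
      exact zpow_mem (show a ∈ f.range from ⟨_, hr⟩) i
    by_cases hg : g ∈ Subgroup.zpowers a
    · exact hpow g hg
    · have h1 : s * g ∈ Subgroup.zpowers a :=
        (Subgroup.mul_mem_iff_of_index_two hidx).2 (iff_of_false hs hg)
      have h2 : s * (s * g) ∈ f.range := mul_mem ⟨_, hsr⟩ (hpow _ h1)
      rwa [← mul_assoc, hs2, one_mul] at h2
  have hcard : Nat.card (DihedralGroup m) ≤ Nat.card G := by
    rw [DihedralGroup.nat_card, ← (Subgroup.zpowers a).card_mul_index, hidx, Nat.card_zpowers, ha]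
    omega
  exact ⟨(MulEquiv.ofBijective f (hrange.bijective_of_nat_card_le hcard)).symm⟩

/-- Recognition of a quaternion group. -/
theorem nonempty_quaternion [Finite G] {m : ℕ} (hm : 0 < m) {a x : G} (hord : orderOf a = 2 * m)
    (hidx : (Subgroup.zpowers a).index = 2) (hx : x ∉ Subgroup.zpowers a) (hxsq' : x * x = a ^ m)
    (hxinv : x * a * x⁻¹ = a⁻¹) : Nonempty (G ≃* QuaternionGroup m) := by
  haveI : NeZero m := ⟨hm.ne'⟩
  let f : ZMod (2 * m) → G := fun i => a ^ (i.val : ℤ)
  have hfint : ∀ i : ℤ, f (i : ZMod (2 * m)) = a ^ i := by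
    intro i
    show a ^ (((i : ZMod (2 * m)).val : ℕ) : ℤ) = a ^ i
    rw [ZMod.val_intCast, ← zpow_mod_orderOf a i, hord]
  have hfadd : ∀ i j, f (i + j) = f i * f j := fun i j => by
    show f (i + j) = a ^ (i.val : ℤ) * a ^ (j.val : ℤ)
    rw [← zpow_add, ← hfint]
    congr 1
    push_cast
    simp
  have hfneg : ∀ i, f (-i) = (f i)⁻¹ := fun i => by
    show f (-i) = (a ^ (i.val : ℤ))⁻¹
    rw [← zpow_neg, ← hfint]
    congr 1
    push_cast
    simp
  have hfx : ∀ i, f i * x = x * f (-i) := fun i => by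
    rw [hfneg]
    have h1 : x⁻¹ * f i * x = (f i)⁻¹ := by
      have h0 : x⁻¹ * a * x = a⁻¹ := by
        have := congrArg (fun w => x⁻¹ * w⁻¹ * x) hxinv
        simp only [inv_inv, conj_inv] at this
        rw [← this]; group
      show x⁻¹ * a ^ (i.val : ℤ) * x = (a ^ (i.val : ℤ))⁻¹
      rw [← inv_zpow, ← h0]
      have := conj_zpow (i := (i.val : ℤ)) (a := x⁻¹) (b := a)
      rw [inv_inv] at this
      exact this.symm
    rw [← h1]; group
  have hxsq : x * x = a ^ (m : ℤ) := by rw [zpow_natCast, hxsq']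
  let φ : QuaternionGroup m → G := fun q => match q with
    | QuaternionGroup.a i => f i
    | QuaternionGroup.xa i => x * f i
  have hmul : ∀ p q, φ (p * q) = φ p * φ q := by
    rintro (i | i) (j | j)
    · show φ (QuaternionGroup.a (i + j)) = f i * f j
      exact hfadd i j
    · show φ (QuaternionGroup.xa (j - i)) = f i * (x * f j)
      show x * f (j - i) = _
      rw [← mul_assoc, hfx, mul_assoc, ← hfadd]; congr 2; ring
    · show φ (QuaternionGroup.xa (i + j)) = x * f i * f j
      show x * f (i + j) = _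
      rw [hfadd, mul_assoc]
    · show φ (QuaternionGroup.a (m + j - i)) = x * f i * (x * f j)
      show f (m + j - i) = _
      rw [mul_assoc, ← mul_assoc (f i), hfx, mul_assoc, ← mul_assoc x x, hxsq, ← hfint, ← hfadd, ← hfadd]
      congr 1
      push_cast
      ring
  let Φ : QuaternionGroup m →* G := MonoidHom.mk' φ hmul
  have hinj : Function.Injective Φ := by
    rw [injective_iff_map_eq_one]
    rintro (i | i) hq
    · have h1 : f i = 1 := hq
      have h3 : a ^ i.val = 1 := by rw [← zpow_natCast]; exact h1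
      have h4 := orderOf_dvd_of_pow_eq_one h3
      rw [hord] at h4
      have h2 : i.val = 0 := Nat.eq_zero_of_dvd_of_lt h4 i.val_lt
      rw [(ZMod.val_eq_zero i).1 h2]; rfl
    · have h1 : x * f i = 1 := hq
      exact absurd (eq_inv_of_mul_eq_one_left h1 ▸ inv_mem (zpow_mem (Subgroup.mem_zpowers a) _)) hx
  have hcard : Nat.card G ≤ Nat.card (QuaternionGroup m) := by
    rw [Nat.card_eq_fintype_card (α := QuaternionGroup m), QuaternionGroup.card, ← (Subgroup.zpowers a).card_mul_index,
      hidx, Nat.card_zpowers, hord]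
    omega
  exact ⟨(MulEquiv.ofBijective Φ (hinj.bijective_of_nat_card_le hcard)).symm⟩

/-- Nonabelian 2-groups with derived index four are dihedral, semidihedral or quaternion. -/
theorem classify [Finite G] (hG : IsPGroup 2 G) (h4 : (commutator G).index = 4) (hne : commutator G ≠ ⊥) :
    (∃ k : ℕ, Nonempty (G ≃* DihedralGroup (2 ^ (k + 2)))) ∨
      (∃ k : ℕ, Nat.card G = 2 ^ (k + 4) ∧ ∃ a b : G, orderOf a = 2 ^ (k + 3) ∧ orderOf b = 2 ∧
        b * a * b⁻¹ = a ^ (2 ^ (k + 2) - 1)) ∨
      (∃ k : ℕ, Nonempty (G ≃* QuaternionGroup (2 ^ (k + 1)))) := by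
  obtain ⟨k, a, x, ha, hidx, hx, -, ⟨h1, h2⟩ | ⟨h1, h2⟩ | ⟨hk, h1, h2⟩⟩ := shape hG h4 hne
  · exact Or.inl ⟨k, nonempty_dihedral (by positivity) ha hidx hx h2 h1⟩
  · exact Or.inr (Or.inr ⟨k, nonempty_quaternion (by positivity)
      (by rw [ha, pow_succ' 2 (k + 1)]) hidx hx h2 h1⟩)
  · obtain ⟨l, rfl⟩ : ∃ l, k = l + 1 := ⟨k - 1, by omega⟩
    refine Or.inr (Or.inl ⟨l, ?_, a, x, ha, ?_, h1⟩)
    · rw [← (Subgroup.zpowers a).card_mul_index, hidx, Nat.card_zpowers, ha, ← pow_succ]
    · exact orderOf_eq_prime (by rw [pow_two, h2]) fun h => hx (h ▸ one_mem _)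

/-- A group of order 2^n, n ≥ 3, of class n - 1 is nonabelian with derived index four. -/
theorem index_four_of_class [Finite G] {n : ℕ} (hn : 3 ≤ n) (hG : Nat.card G = 2 ^ n)
    (hc : Group.nilpotencyClass G = n - 1) :
    (commutator G).index = 4 ∧ commutator G ≠ ⊥ := by
  haveI : Fact (Nat.Prime 2) := ⟨Nat.prime_two⟩
  have h := commutator_index_of_class hG (by omega) hc
  refine ⟨h, fun hb => ?_⟩
  rw [hb, Subgroup.index_bot, hG] at h
  have := Nat.pow_right_injective le_rfl h
  omega

/-- The central factor group of a maximal class 2-group is dihedral. -/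
theorem quotient_center_dihedral [Finite G] {n : ℕ} (hn : 3 ≤ n) (hG : Nat.card G = 2 ^ n)
    (hc : Group.nilpotencyClass G = n - 1) :
    Nonempty (G ⧸ Subgroup.center G ≃* DihedralGroup (2 ^ (n - 2))) := by
  haveI : Fact (Nat.Prime 2) := ⟨Nat.prime_two⟩
  obtain ⟨h4, hne⟩ := index_four_of_class hn hG hc
  obtain ⟨k, a, x, ha, hidx, hx, hfix, hcase⟩ := shape (IsPGroup.of_card hG) h4 hne
  haveI := Subgroup.normal_of_index_eq_two hidx
  have hnk : n = k + 3 := by
    have h1 := (Subgroup.zpowers a).card_mul_index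
    rw [hidx, Nat.card_zpowers, ha, hG, ← pow_succ] at h1
    exact (Nat.pow_right_injective le_rfl h1).symm
  subst hnk
  have hZ : ∀ g ∈ Subgroup.center G, g ∈ Subgroup.zpowers a := fun g hg => by
    by_contra hgA
    have hab : ∀ u ∈ Subgroup.zpowers a, ∀ v ∈ Subgroup.zpowers a, Commute u v := by
      rintro _ ⟨i, rfl⟩ _ ⟨j, rfl⟩
      exact (Commute.refl a).zpow_zpow i j
    have h1 := card_fixed_eq_two hidx hab h4 hgA
    rw [Nat.card_congr (Equiv.subtypeUnivEquiv fun u : Subgroup.zpowers a => by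
        rw [← Subgroup.mem_center_iff.1 hg (u : G), mul_inv_cancel_right]), Nat.card_zpowers, ha] at h1
    have : 2 ^ 2 ≤ 2 ^ (k + 2) := Nat.pow_le_pow_right two_pos (by omega)
    omega
  set z := a ^ 2 ^ (k + 1) with hz
  have hz2 : orderOf z = 2 := by
    rw [hz, orderOf_pow' a (by positivity), ha, pow_succ' 2 (k + 1),
      Nat.gcd_eq_right (dvd_mul_left _ _), Nat.mul_div_cancel _ (by positivity)]
  have hZsub : ∀ g ∈ Subgroup.center G, g = 1 ∨ g = z := fun g hg => hfix g (hZ g hg) (by
    rw [Subgroup.mem_center_iff.1 hg x, mul_inv_cancel_right])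
  have hzZ : z ∈ Subgroup.center G := by
    haveI : Nontrivial G := Finite.one_lt_card_iff_nontrivial.1 (by
      rw [hG]; exact Nat.one_lt_pow (by omega) (by norm_num))
    haveI := (IsPGroup.of_card hG).center_nontrivial
    obtain ⟨⟨g, hg⟩, hg1⟩ := exists_ne (1 : Subgroup.center G)
    rcases hZsub g hg with h | h
    · exact absurd (Subtype.ext h) hg1
    · exact h ▸ hg
  set q := QuotientGroup.mk' (Subgroup.center G)
  have hq1 : ∀ g, q g = 1 ↔ g ∈ Subgroup.center G := fun g => QuotientGroup.eq_one_iff g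
  have hqa : orderOf (q a) = 2 ^ (k + 1) := by
    refine orderOf_eq_prime_pow ?_ ?_
    · intro h
      rw [← map_pow, hq1] at h
      have hord : orderOf (a ^ 2 ^ k) = 4 := by
        rw [orderOf_pow' a (by positivity), ha, show 2 ^ (k + 2) = 4 * 2 ^ k from by ring,
          Nat.gcd_eq_right (dvd_mul_left _ _), Nat.mul_div_cancel _ (by positivity)]
      rcases hZsub _ h with e | e
      · rw [e, orderOf_one] at hord; omega
      · rw [e, hz2] at hord; omega
    · rw [← map_pow, hq1]; exact hzZ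
  have hqidx : (Subgroup.zpowers (q a)).index = 2 := by
    rw [← MonoidHom.map_zpowers, Subgroup.index_map_eq _ (QuotientGroup.mk'_surjective _) (by
      rw [QuotientGroup.ker_mk']; exact hZ), hidx]
  have hqs : q x ∉ Subgroup.zpowers (q a) := fun h => hx (by
    rw [← MonoidHom.map_zpowers, Subgroup.mem_map] at h
    obtain ⟨u, hu, hux⟩ := h
    have h1 : u⁻¹ * x ∈ Subgroup.zpowers a := hZ _ ((hq1 _).1 (by rw [map_mul, map_inv, hux, inv_mul_cancel]))
    simpa using mul_mem hu h1)
  have hx2 : x * x ∈ Subgroup.center G := by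
    rcases hcase with ⟨-, h⟩ | ⟨-, h⟩ | ⟨-, -, h⟩ <;> rw [h] <;> first | exact one_mem _ | exact hzZ
  have hqinv : q x * q a * (q x)⁻¹ = (q a)⁻¹ := by
    rw [← map_inv, ← map_mul, ← map_mul]
    rcases hcase with ⟨h, -⟩ | ⟨h, -⟩ | ⟨-, h, -⟩
    · rw [h, map_inv]
    · rw [h, map_inv]
    · refine eq_inv_of_mul_eq_one_right ?_
      rw [h, ← map_mul, ← pow_succ', Nat.sub_add_cancel (Nat.one_le_two_pow), hq1]
      exact hzZ
  exact nonempty_dihedral (by positivity) hqa hqidx hqs (by rw [← map_mul, hq1]; exact hx2) hqinv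

/-- A nonabelian subgroup of order p³ containing its centralizer forces maximal class. -/
theorem class_of_nonabelian_cube [Finite G] {p n : ℕ} [hp : Fact p.Prime] (hG : Nat.card G = p ^ n)
    (B : Subgroup G) (hB : Nat.card B = p ^ 3) (hBna : ¬ IsMulCommutative B)
    (hC : Subgroup.centralizer (B : Set G) ≤ B) : Group.nilpotencyClass G = n - 1 := by
  haveI := (IsPGroup.of_card hG).isNilpotent
  have hpB : IsPGroup p B := (IsPGroup.of_card hG).to_subgroup B
  have hn : 3 ≤ n := by
    have h1 := Subgroup.card_subgroup_dvd_card B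
    rwa [hB, hG, Nat.pow_dvd_pow_iff_le_right hp.out.one_lt] at h1
  haveI : Nontrivial G := Finite.one_lt_card_iff_nontrivial.1 (by
    rw [hG]; exact Nat.one_lt_pow (by omega) hp.out.one_lt)
  haveI := (IsPGroup.of_card hG).center_nontrivial
  set Z := Subgroup.center G with hZdef
  set q := QuotientGroup.mk' Z with hq
  have hZB : Z ≤ B := (Subgroup.center_le_centralizer _).trans hC
  -- `B` is not generated by one element over a central subgroup
  have hgen : ∀ (W : Subgroup G), W ≤ B → (∀ w ∈ W, ∀ b ∈ B, w * b = b * w) → ∀ c ∈ B,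
      ¬ B ≤ Subgroup.zpowers c ⊔ W := by
    intro W hWB hW c hcB hle
    apply hBna
    have hnorm : Subgroup.zpowers c ≤ Subgroup.normalizer (W : Set G) := by
      refine Subgroup.zpowers_le.2 (Subgroup.mem_normalizer_iff.2 fun w => ⟨fun hw => ?_, fun hw => ?_⟩)
      · rwa [← hW w hw c hcB, mul_inv_cancel_right]
      · have h := hW _ hw c hcB
        have : w = c * w * c⁻¹ := by
          have h2 : c * (c * w * c⁻¹) = c * w := by rw [← h]; group
          exact (mul_left_cancel h2).symm
        rwa [this]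
    have hdec : ∀ b ∈ B, ∃ i : ℤ, ∃ w ∈ W, b = c ^ i * w := fun b hb => by
      have h1 : b ∈ ((Subgroup.zpowers c ⊔ W : Subgroup G) : Set G) := hle hb
      rw [Subgroup.coe_mul_of_left_le_normalizer_right _ _ hnorm] at h1
      obtain ⟨u, hu, w, hw, rfl⟩ := h1
      obtain ⟨i, rfl⟩ := Subgroup.mem_zpowers_iff.1 hu
      exact ⟨i, w, hw, rfl⟩
    refine ⟨⟨fun u v => Subtype.ext ?_⟩⟩
    obtain ⟨i, w, hw, hu⟩ := hdec u u.2
    obtain ⟨j, w', hw', hv⟩ := hdec v v.2
    show (u : G) * v = v * u
    rw [hu, hv]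
    have hcw : Commute w (c ^ j) := (show Commute w c from hW w hw c hcB).zpow_right j
    have hcw' : Commute w' (c ^ i) := (show Commute w' c from hW w' hw' c hcB).zpow_right i
    have hww : Commute w w' := hW w hw w' (hWB hw')
    exact ((((Commute.refl c).zpow_zpow i j).mul_right hcw'.symm).mul_left (hcw.mul_right hww)).eq
  -- the centre is the centraliser
  have hZC : Z = Subgroup.centralizer (B : Set G) ∧ Nat.card Z = p := by
    have hle : Z ≤ Subgroup.centralizer (B : Set G) := Subgroup.center_le_centralizer _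
    have hCp : Nat.card (Subgroup.centralizer (B : Set G)) ≤ p := by
      obtain ⟨j, hj, hje⟩ := (Nat.dvd_prime_pow hp.out).1 (hB ▸ Subgroup.card_dvd_of_le hC)
      rw [hje]
      by_contra hlt
      have hj2 : 2 ≤ j := by
        by_contra hj2
        exact hlt ((Nat.pow_le_pow_right hp.out.pos (by omega : j ≤ 1)).trans (pow_one p).le)
      set C := Subgroup.centralizer (B : Set G)
      by_cases hCB : B ≤ C
      · exact hgen C hC (fun w hw b hb => (Subgroup.mem_centralizer_iff.1 hw b hb).symm) 1 B.one_mem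
          (hCB.trans le_sup_right)
      · obtain ⟨c, hcB, hcC⟩ := SetLike.not_le_iff_exists.1 hCB
        refine hgen C hC (fun w hw b hb => (Subgroup.mem_centralizer_iff.1 hw b hb).symm) c hcB ?_
        have hsub : Subgroup.zpowers c ⊔ C ≤ B := sup_le (Subgroup.zpowers_le.2 hcB) hC
        refine le_of_eq (Subgroup.eq_of_le_of_card_ge hsub ?_).symm
        obtain ⟨i, hi, hie⟩ := (Nat.dvd_prime_pow hp.out).1 (hB ▸ Subgroup.card_dvd_of_le hsub)
        rw [hB, hie]
        refine Nat.pow_le_pow_right hp.out.pos ?_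
        by_contra hi3
        have h2 : C = Subgroup.zpowers c ⊔ C := Subgroup.eq_of_le_of_card_ge le_sup_right (by
          rw [hie, hje]; exact Nat.pow_le_pow_right hp.out.pos (by omega))
        exact hcC (h2 ▸ Subgroup.mem_sup_left (Subgroup.mem_zpowers c))
    have h1 := Finite.one_lt_card (α := Z)
    obtain ⟨j, hj, hje⟩ := (Nat.dvd_prime_pow hp.out).1 (hB ▸ Subgroup.card_dvd_of_le hZB)
    have hpZ : p ≤ Nat.card Z := by
      rw [hje]
      rcases Nat.eq_zero_or_pos j with rfl | hj0
      · rw [hje, pow_zero] at h1; omega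
      · exact Nat.le_self_pow hj0.ne' p
    exact ⟨Subgroup.eq_of_le_of_card_ge hle (hCp.trans hpZ),
      le_antisymm ((Subgroup.card_le_of_le hle).trans hCp) hpZ⟩
  obtain ⟨hZC, hZp⟩ := hZC
  -- two generators
  obtain ⟨b, hb, hbZ⟩ := SetLike.not_le_iff_exists.1 (show ¬ B ≤ Z from fun h => by
    have := Subgroup.card_le_of_le h
    rw [hB, hZp] at this
    have := Nat.pow_lt_pow_right hp.out.one_lt (show 1 < 3 by norm_num)
    rw [pow_one] at this
    omega)
  obtain ⟨c, hc, hcb⟩ := SetLike.not_le_iff_exists.1 (hgen Z hZB (fun w hw v _ =>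
    (Subgroup.mem_center_iff.1 hw v).symm) b hb)
  have hfull : B ≤ Subgroup.zpowers b ⊔ Z ⊔ Subgroup.zpowers c := by
    set U := Subgroup.zpowers b ⊔ Z
    have hU : U ≤ B := sup_le (Subgroup.zpowers_le.2 hb) hZB
    have hsub : U ⊔ Subgroup.zpowers c ≤ B := sup_le hU (Subgroup.zpowers_le.2 hc)
    refine le_of_eq (Subgroup.eq_of_le_of_card_ge hsub ?_).symm
    obtain ⟨i, hi, hie⟩ := (Nat.dvd_prime_pow hp.out).1 (hB ▸ Subgroup.card_dvd_of_le hsub)
    obtain ⟨j, hj, hje⟩ := (Nat.dvd_prime_pow hp.out).1 (hB ▸ Subgroup.card_dvd_of_le hU)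
    have hj2 : 2 ≤ j := by
      by_contra hj2
      have h2 : Z = U := Subgroup.eq_of_le_of_card_ge le_sup_right (by
        rw [hje, hZp]; exact (Nat.pow_le_pow_right hp.out.pos (by omega : j ≤ 1)).trans (pow_one p).le)
      exact hbZ (h2 ▸ Subgroup.mem_sup_left (Subgroup.mem_zpowers b))
    rw [hB, hie]
    refine Nat.pow_le_pow_right hp.out.pos ?_
    by_contra hi3
    have h2 : U = U ⊔ Subgroup.zpowers c := Subgroup.eq_of_le_of_card_ge le_sup_left (by
      rw [hie, hje]; exact Nat.pow_le_pow_right hp.out.pos (by omega))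
    exact hcb (h2 ▸ Subgroup.mem_sup_right (Subgroup.mem_zpowers c))
  -- the image of `B`
  set A := B.map q with hA
  have hXq : Nat.card (G ⧸ Z) = p ^ (n - 1) := by
    have h1 := Subgroup.card_eq_card_quotient_mul_card_subgroup Z
    rw [hG, hZp, show n = n - 1 + 1 from by omega, pow_succ] at h1
    exact (Nat.eq_of_mul_eq_mul_right hp.out.pos h1).symm
  have hcomap : A.comap q = B := Subgroup.comap_map_eq_self (by rwa [hq, QuotientGroup.ker_mk'])
  have hAcard : Nat.card A = p ^ 2 := by
    have h1 := Subgroup.card_eq_card_quotient_mul_card_subgroup Z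
    have h2 : B.index = A.index := by
      rw [← hcomap, Subgroup.index_comap_of_surjective _ (QuotientGroup.mk'_surjective _)]
    rw [hZp, ← B.card_mul_index, ← A.card_mul_index, hB, h2, mul_right_comm] at h1
    have h3 := Nat.eq_of_mul_eq_mul_right (Nat.pos_of_ne_zero Subgroup.index_ne_zero_of_finite) h1
    rw [pow_succ] at h3
    exact (Nat.eq_of_mul_eq_mul_right hp.out.pos h3).symm
  set M := (Subgroup.centralizer (A : Set (G ⧸ Z))).comap q with hM
  have hMc : ∀ g ∈ M, ∀ v ∈ B, ⁅g, v⁆ ∈ Z := fun g hg v hv => by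
    refine (QuotientGroup.eq_one_iff _).1 ?_
    show q ⁅g, v⁆ = 1
    rw [map_commutatorElement, commutatorElement_eq_one_iff_mul_comm]
    exact (Subgroup.mem_centralizer_iff.1 hg _ (Subgroup.mem_map_of_mem q hv)).symm
  have hBM : B ≤ M := fun g hg => Subgroup.mem_centralizer_iff.2 fun h hh => by
    exact congrArg Subtype.val ((IsPGroup.commGroupOfCardEqPrimeSq (p := p) hAcard).mul_comm
      ⟨h, hh⟩ ⟨q g, Subgroup.mem_map_of_mem q hg⟩)
  let φ : M →* Z × Z :=
    { toFun := fun g => (⟨⁅(g : G), b⁆, hMc g g.2 b hb⟩, ⟨⁅(g : G), c⁆, hMc g g.2 c hc⟩)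
      map_one' := by simp
      map_mul' := fun g h => by
        have key : ∀ v ∈ B, ⁅(g : G) * h, v⁆ = ⁅(g : G), v⁆ * ⁅(h : G), v⁆ := fun v hv => by
          calc ⁅(g : G) * h, v⁆ = (g : G) * ⁅(h : G), v⁆ * (g : G)⁻¹ * ⁅(g : G), v⁆ := by
                simp only [commutatorElement_def]; group
            _ = ⁅(h : G), v⁆ * ⁅(g : G), v⁆ := by
                rw [Subgroup.mem_center_iff.1 (hMc h h.2 v hv) (g : G), mul_inv_cancel_right]
            _ = _ := (Subgroup.mem_center_iff.1 (hMc h h.2 v hv) _).symm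
        exact Prod.ext (Subtype.ext (key b hb)) (Subtype.ext (key c hc)) }
  have hMle : Nat.card M ≤ Nat.card B := by
    rw [← φ.ker.card_mul_index, Subgroup.index_ker, hB, show p ^ 3 = p * (p * p) from by ring]
    refine Nat.mul_le_mul ?_ ((Subgroup.card_le_card_group _).trans (by rw [Nat.card_prod, hZp]))
    rw [← hZp]
    refine Nat.card_le_card_of_injective (fun g : φ.ker => (⟨((g : M) : G), ?_⟩ : Z))
      fun g h hgh => Subtype.ext (Subtype.ext (congrArg (fun v : Z => (v : G)) hgh))
    have hker := MonoidHom.mem_ker.1 g.2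
    have h1 : ⁅((g : M) : G), b⁆ = 1 := congrArg (fun v : Z × Z => (v.1 : G)) hker
    have h2 : ⁅((g : M) : G), c⁆ = 1 := congrArg (fun v : Z × Z => (v.2 : G)) hker
    refine hZC.symm.le ?_
    have hle : Subgroup.zpowers b ⊔ Z ⊔ Subgroup.zpowers c ≤ Subgroup.centralizer {((g : M) : G)} := by
      refine sup_le (sup_le (Subgroup.zpowers_le.2 ?_) (Subgroup.center_le_centralizer _))
        (Subgroup.zpowers_le.2 ?_)
      · exact Subgroup.mem_centralizer_singleton_iff.2 (commutatorElement_eq_one_iff_mul_comm.1 h1).symm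
      · exact Subgroup.mem_centralizer_singleton_iff.2 (commutatorElement_eq_one_iff_mul_comm.1 h2).symm
    exact Subgroup.mem_centralizer_iff.2 fun v hv =>
      Subgroup.mem_centralizer_singleton_iff.1 (hle (hfull hv))
  have hMB : B = M := Subgroup.eq_of_le_of_card_ge hBM hMle
  have hCA : Subgroup.centralizer (A : Set (G ⧸ Z)) = A := by
    refine Subgroup.comap_injective (QuotientGroup.mk'_surjective Z) ?_
    rw [← hM, hcomap, hMB]
  rw [Group.nilpotencyClass_eq_quotient_center_plus_one,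
    class_of_selfCentralizing (n - 1) hXq A hAcard hCA]
  omega

/-- A group of order p^r, r ≥ 2, has class at most r - 1. -/
theorem lcs_eq_bot [Finite G] {p r : ℕ} [hp : Fact p.Prime] (hG : Nat.card G = p ^ r) (hr : 2 ≤ r) :
    (⊤ : Subgroup G).lowerCentralSeries (r - 1) = ⊥ := by
  haveI : Group.IsNilpotent G := (IsPGroup.of_card hG).isNilpotent
  by_contra hne
  have key : ∀ d, d ≤ r - 2 → Nat.card ((⊤ : Subgroup G).lowerCentralSeries (1 + d)) * p ^ (d + 2) ≤ p ^ r := by
    intro d
    induction d with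
    | zero =>
      intro _
      obtain ⟨j, hj2, -, hj⟩ := commutator_index_ge hG hr
      rw [Subgroup.top_lowerCentralSeries_one, ← hG, ← (commutator G).card_mul_index, hj]
      exact Nat.mul_le_mul_left _ (Nat.pow_le_pow_right hp.out.pos hj2)
    | succ d ih =>
      intro hd
      have hnb : (⊤ : Subgroup G).lowerCentralSeries (1 + d) ≠ ⊥ := fun h => hne (eq_bot_iff.2
        ((Subgroup.lowerCentralSeries_antitone _ (show 1 + d ≤ r - 1 by omega)).trans h.le))
      have hlt := lcs_succ_lt hnb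
      obtain ⟨i, -, hi⟩ := (Nat.dvd_prime_pow hp.out).1
        (hG ▸ Subgroup.card_subgroup_dvd_card ((⊤ : Subgroup G).lowerCentralSeries (1 + d)))
      obtain ⟨l, -, hl⟩ := (Nat.dvd_prime_pow hp.out).1
        (hG ▸ Subgroup.card_subgroup_dvd_card ((⊤ : Subgroup G).lowerCentralSeries (1 + d + 1)))
      have hli : l < i := by
        refine (Nat.pow_lt_pow_iff_right hp.out.one_lt).1 ?_
        rw [← hi, ← hl]
        exact lt_of_le_of_ne (Subgroup.card_le_of_le hlt.le)
          fun h => hlt.ne (Subgroup.eq_of_le_of_card_ge hlt.le h.ge)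
      have h2 := ih (by omega)
      rw [hi, ← pow_add] at h2
      rw [show 1 + (d + 1) = 1 + d + 1 from rfl, hl, ← pow_add]
      exact le_trans (Nat.pow_le_pow_right hp.out.pos (by omega)) h2
  have h := key (r - 2) le_rfl
  rw [show 1 + (r - 2) = r - 1 by omega, show r - 2 + 2 = r by omega] at h
  have h1 : Nat.card ((⊤ : Subgroup G).lowerCentralSeries (r - 1)) ≤ 1 := by
    by_contra hlt
    have h3 := Nat.mul_le_mul_right (p ^ r) (show 2 ≤ Nat.card ((⊤ : Subgroup G).lowerCentralSeries (r - 1)) by omega)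
    have h4 : 0 < p ^ r := pow_pos hp.out.pos r
    omega
  exact hne (Subgroup.eq_bot_of_card_le _ h1)

/-- An elementary group of order p² has p + 1 subgroups of order p. -/
theorem card_subgroups_prime {Q : Type*} [Group Q] [Finite Q] {p : ℕ} [hp : Fact p.Prime]
    (hQ : Nat.card Q = p ^ 2) (hexp : ∀ w : Q, w ^ p = 1) :
    Nat.card {K : Subgroup Q // Nat.card K = p} = p + 1 := by
  classical
  have hz : ∀ w : Q, w ≠ 1 → Nat.card (Subgroup.zpowers w) = p := fun w hw => by
    rw [Nat.card_zpowers, orderOf_eq_prime (hexp w) hw]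
  let f : {w : Q // w ≠ 1} → {K : Subgroup Q // Nat.card K = p} :=
    fun w => ⟨Subgroup.zpowers (w : Q), hz w w.2⟩
  have hfib : ∀ K, Nat.card {w // f w = K} = p - 1 := by
    intro K
    have e : {w // f w = K} ≃ {u : K.1 // u ≠ 1} :=
      { toFun := fun w => ⟨⟨w.1.1, by
            have h := congrArg Subtype.val w.2
            rw [← h]; exact Subgroup.mem_zpowers _⟩, fun h => w.1.2 (congrArg Subtype.val h)⟩
        invFun := fun u => ⟨⟨(u.1 : Q), fun h => u.2 (Subtype.ext h)⟩, Subtype.ext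
            (Subgroup.eq_of_le_of_card_ge (Subgroup.zpowers_le.2 u.1.2) (by
              rw [K.2]
              exact (hz _ fun h => u.2 (Subtype.ext h)).ge))⟩
        left_inv := fun w => rfl
        right_inv := fun u => rfl }
    have := Fintype.ofFinite K.1
    rw [Nat.card_congr e, Nat.card_eq_fintype_card, Fintype.card_subtype_compl, Fintype.card_subtype_eq,
      ← Nat.card_eq_fintype_card, K.2]
  have h := Nat.card_congr (Equiv.sigmaFiberEquiv f)
  have := Fintype.ofFinite Q
  have := Fintype.ofFinite {K : Subgroup Q // Nat.card K = p}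
  rw [Nat.card_sigma, Finset.sum_congr rfl fun K _ => hfib K, Finset.sum_const, smul_eq_mul,
    Finset.card_univ, ← Nat.card_eq_fintype_card, Nat.card_eq_fintype_card (α := {w : Q // w ≠ 1}),
    Fintype.card_subtype_compl, Fintype.card_subtype_eq, ← Nat.card_eq_fintype_card (α := Q), hQ] at h
  refine Nat.eq_of_mul_eq_mul_right (by have := hp.out.two_le; omega : 0 < p - 1) ?_
  rw [h, ← Nat.sq_sub_sq p 1, one_pow]

end Cfsg.Agent.Transfer.MaxClass
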