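import Cfsg.Agent.Lib.Transfer.Fusion

/-!
Alperin's fusion theorem by tame intersections.
-/
set_option autoImplicit false
set_option linter.style.haveILetI false

open scoped Pointwise

namespace Cfsg.Agent.Transfer

variable {G : Type*} [Group G] {p : ℕ}

/-- `x` normalizes the tame intersection `P ⊓ Q`. -/
def TameStep (P Q : Sylow p G) (x : G) : Prop :=
  x ∈ Subgroup.normalizer ((((P : Subgroup G) ⊓ (Q : Subgroup G)) : Subgroup G) : Set G) ∧
    ¬ p ∣ ((P : Subgroup G) ⊓ Subgroup.normalizer ((((P : Subgroup G) ⊓ (Q : Subgroup G)) : Subgroup G) : Set G)).relIndex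
        (Subgroup.normalizer ((((P : Subgroup G) ⊓ (Q : Subgroup G)) : Subgroup G) : Set G)) ∧
    ¬ p ∣ ((Q : Subgroup G) ⊓ Subgroup.normalizer ((((P : Subgroup G) ⊓ (Q : Subgroup G)) : Subgroup G) : Set G)).relIndex
        (Subgroup.normalizer ((((P : Subgroup G) ⊓ (Q : Subgroup G)) : Subgroup G) : Set G))

/-- `AlperinChain P A g`: the conjugation of `A` by `g` is a sequence of tame steps inside `P`. -/
inductive AlperinChain (P : Sylow p G) : Set G → G → Prop
  | nil (A : Set G) : AlperinChain P A 1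
  | cons {A : Set G} (Q : Sylow p G) (x : G) {y : G} :
      TameStep P Q x → A ⊆ (((P : Subgroup G) ⊓ (Q : Subgroup G) : Subgroup G) : Set G) →
      AlperinChain P ((fun a => x⁻¹ * a * x) '' A) y → AlperinChain P A (x * y)

theorem AlperinChain.mono {P : Sylow p G} {A : Set G} {g : G} (h : AlperinChain P A g) :
    ∀ {B : Set G}, B ⊆ A → AlperinChain P B g := by
  induction h with
  | nil A => exact fun _ => .nil _
  | cons Q x hT hA _ ih => exact fun hB => .cons Q x hT (hB.trans hA) (ih (Set.image_mono hB))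

theorem AlperinChain.trans {P : Sylow p G} {A : Set G} {g : G} (h : AlperinChain P A g) :
    ∀ {k : G}, AlperinChain P ((fun a => g⁻¹ * a * g) '' A) k → AlperinChain P A (g * k) := by
  induction h with
  | nil A =>
    intro k hk
    rw [one_mul]
    simpa using hk
  | @cons A Q x y hT hA _ ih =>
    intro k hk
    rw [mul_assoc]
    refine .cons Q x hT hA (ih ?_)
    have he : (fun a => y⁻¹ * a * y) '' ((fun a => x⁻¹ * a * x) '' A) =
        (fun a => (x * y)⁻¹ * a * (x * y)) '' A := by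
      rw [Set.image_image]
      simp [mul_assoc]
    rwa [he]

/-- A proper subgroup of a Sylow subgroup is smaller than its normalizer there. -/
theorem lt_inf_normalizer [Finite G] [Fact p.Prime] (R : Sylow p G) {D : Subgroup G}
    (h : D < (R : Subgroup G)) : D < (R : Subgroup G) ⊓ Subgroup.normalizer (D : Set G) := by
  have hlt : D.subgroupOf (R : Subgroup G) < ⊤ := lt_top_iff_ne_top.2 fun he =>
    h.not_ge (Subgroup.subgroupOf_eq_top.1 he)
  have h2 := Group.normalizerCondition_of_isNilpotent (h := R.isPGroup'.isNilpotent) _ hlt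
  rw [← Subgroup.subgroupOf_normalizer_eq h.le] at h2
  obtain ⟨x, hx, hxD⟩ := SetLike.exists_of_lt h2
  exact lt_of_le_of_ne (le_inf h.le Subgroup.le_normalizer) fun he =>
    hxD (show (x : G) ∈ D from he.symm ▸ ⟨x.2, hx⟩)

theorem mem_smul_sylow {g x : G} (R : Sylow p G) :
    x ∈ ((g • R : Sylow p G) : Subgroup G) ↔ g⁻¹ * x * g ∈ (R : Subgroup G) := by
  rw [Sylow.coe_subgroup_smul, Subgroup.mem_pointwise_smul_iff_inv_smul_mem]
  simp [mul_assoc]

/-- A Sylow subgroup containing a Sylow subgroup of `N` cuts out a Sylow subgroup of `N`. -/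
theorem not_dvd_inf_relIndex [Finite G] [Fact p.Prime] (Q : Sylow p G) {N : Subgroup G} (U : Sylow p N)
    (h : (U : Subgroup N).map N.subtype ≤ (Q : Subgroup G)) :
    ¬ p ∣ ((Q : Subgroup G) ⊓ N).relIndex N := by
  rw [Subgroup.inf_relIndex_right]
  change ¬ p ∣ ((Q : Subgroup G).subgroupOf N).index
  rw [show (Q : Subgroup G).subgroupOf N = U from
    U.3 (Q.isPGroup'.comap_subtype (K := N)) (fun x hx => h ⟨x, hx, rfl⟩)]
  exact U.not_dvd_index

/-- `R` is linked to `P` by a chain of tame steps. -/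
def Linked (P R : Sylow p G) : Prop :=
  ∃ x : G, AlperinChain P (((P : Subgroup G) ⊓ (R : Subgroup G) : Subgroup G) : Set G) x ∧ x⁻¹ • R = P

theorem Linked.trans {P R S : Sylow p G} (hle : (P : Subgroup G) ⊓ (R : Subgroup G) ≤ (S : Subgroup G))
    {x : G} (hc : AlperinChain P (((P : Subgroup G) ⊓ (S : Subgroup G) : Subgroup G) : Set G) x)
    (hx : x⁻¹ • S = P) (h : Linked P (x⁻¹ • R)) : Linked P R := by
  obtain ⟨y, hy, hyR⟩ := h
  refine ⟨x * y, (hc.mono (fun a ha => ⟨ha.1, hle ha⟩)).trans (hy.mono ?_), ?_⟩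
  · rintro _ ⟨a, ha, rfl⟩
    refine ⟨?_, ?_⟩
    · rw [← hx, SetLike.mem_coe, Subgroup.mem_toSubmonoid, mem_smul_sylow]
      simpa [mul_assoc] using hle ha
    · rw [SetLike.mem_coe, Subgroup.mem_toSubmonoid, mem_smul_sylow]
      simp only [mul_assoc, inv_inv, mul_inv_cancel_left, inv_mul_cancel_left, mul_inv_cancel, inv_mul_cancel, mul_one, MulEquiv.coe_toMonoidHom, MulAut.conj_apply]; exact ha.2
  · rw [mul_inv_rev, mul_smul, hyR]

theorem linked [Finite G] [hp : Fact p.Prime] (P R : Sylow p G) : Linked P R := by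
  suffices H : ∀ n (R : Sylow p G),
      Nat.card G ≤ Nat.card ((P : Subgroup G) ⊓ (R : Subgroup G) : Subgroup G) + n → Linked P R from
    H _ R (Nat.le_add_left _ _)
  intro n
  induction n using Nat.strong_induction_on with
  | _ n ih =>
  intro R hn
  by_cases hRP : R = P
  · subst hRP
    exact ⟨1, .nil _, by rw [inv_one, one_smul]⟩
  have bigger : ∀ S : Sylow p G, Nat.card ((P : Subgroup G) ⊓ (R : Subgroup G) : Subgroup G) <
      Nat.card ((P : Subgroup G) ⊓ (S : Subgroup G) : Subgroup G) → Linked P S := by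
    intro S hS
    have h2 := Subgroup.card_le_card_group ((P : Subgroup G) ⊓ (S : Subgroup G))
    exact ih (n - 1) (by omega) S (by omega)
  have hDR : ∀ R : Sylow p G, R ≠ P → (P : Subgroup G) ⊓ (R : Subgroup G) < (R : Subgroup G) := by
    intro R hR
    refine lt_of_le_of_ne inf_le_right fun h => hR ?_
    exact Sylow.ext (R.3 P.isPGroup' (h ▸ inf_le_left)).symm
  have hDP : (P : Subgroup G) ⊓ (R : Subgroup G) < (P : Subgroup G) := by
    refine lt_of_le_of_ne inf_le_left fun h => hRP ?_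
    exact Sylow.ext (P.3 R.isPGroup' (h ▸ inf_le_right))
  -- the case in which `N_P(D)` is Sylow in `N(D)`
  have main : ∀ R : Sylow p G, R ≠ P → (∀ S : Sylow p G,
        Nat.card ((P : Subgroup G) ⊓ (R : Subgroup G) : Subgroup G) <
          Nat.card ((P : Subgroup G) ⊓ (S : Subgroup G) : Subgroup G) → Linked P S) →
      ¬ p ∣ ((P : Subgroup G) ⊓ Subgroup.normalizer
          (((P : Subgroup G) ⊓ (R : Subgroup G) : Subgroup G) : Set G)).relIndex
          (Subgroup.normalizer (((P : Subgroup G) ⊓ (R : Subgroup G) : Subgroup G) : Set G)) →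
      Linked P R := by
    intro R hR bigger hP
    set D := (P : Subgroup G) ⊓ (R : Subgroup G) with hD
    set N := Subgroup.normalizer (D : Set G) with hN
    have hlt := lt_inf_normalizer R (hDR R hR)
    obtain ⟨U, hU⟩ := ((R.isPGroup'.to_le (inf_le_left : (R : Subgroup G) ⊓ N ≤ _)).comap_subtype
      (K := N)).exists_le_sylow
    obtain ⟨Q, hQ⟩ := (U.isPGroup'.map N.subtype).exists_le_sylow
    have hRQ : (R : Subgroup G) ⊓ N ≤ (Q : Subgroup G) := fun a ha =>
      hQ ⟨⟨a, ha.2⟩, hU ha, rfl⟩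
    have hDQ : D ≤ (Q : Subgroup G) := hlt.le.trans hRQ
    by_cases hbig : Nat.card D < Nat.card ((P : Subgroup G) ⊓ (Q : Subgroup G) : Subgroup G)
    · obtain ⟨x, hx, hxQ⟩ := bigger Q hbig
      refine Linked.trans hDQ hx hxQ (bigger _ ?_)
      refine lt_of_lt_of_le (Set.ncard_lt_ncard (s := (D : Set G))
        (t := (((R : Subgroup G) ⊓ N : Subgroup G) : Set G)) hlt (Set.toFinite _)) ?_
      rw [← Nat.card_coe_set_eq]
      refine (Subgroup.card_map_of_injective (f := (MulAut.conj x⁻¹).toMonoidHom)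
        (K := (R : Subgroup G) ⊓ N) (MulEquiv.injective _)).ge.trans (Nat.le_of_dvd Nat.card_pos (Subgroup.card_dvd_of_le ?_))
      rintro _ ⟨a, ha, rfl⟩
      refine ⟨?_, ?_⟩
      · rw [← hxQ]
        exact (mem_smul_sylow Q).2 (by simpa [mul_assoc] using hRQ ha)
      · exact (mem_smul_sylow R).2 (by simp only [mul_assoc, inv_inv, mul_inv_cancel_left, inv_mul_cancel_left, mul_inv_cancel, inv_mul_cancel, mul_one, MulEquiv.coe_toMonoidHom, MulAut.conj_apply]; exact ha.1)
    · have hPQ : (P : Subgroup G) ⊓ (Q : Subgroup G) = D :=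
        (Subgroup.eq_of_le_of_card_ge (le_inf inf_le_left hDQ) (not_lt.1 hbig)).symm
      have hT0 : IsPGroup p ((P : Subgroup G).subgroupOf N) := P.isPGroup'.comap_subtype
      have hT1 : ¬ p ∣ ((P : Subgroup G).subgroupOf N).index := by
        rwa [Subgroup.inf_relIndex_right] at hP
      obtain ⟨k, hk⟩ := MulAction.exists_smul_eq N U (hT0.toSylow hT1)
      have hkN : ((k⁻¹ : N) : G) ∈ N := (k⁻¹).2
      have hstep : TameStep P Q ((k⁻¹ : N) : G) := by
        unfold TameStep
        rw [hPQ]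
        exact ⟨hkN, hP, not_dvd_inf_relIndex Q U hQ⟩
      have hkR : ∀ a ∈ (R : Subgroup G) ⊓ N,
          (k : G) * a * (k : G)⁻¹ ∈ (P : Subgroup G) := by
        intro a ha
        have h1 : MulAut.conj k • (⟨a, ha.2⟩ : N) ∈ ((k • U : Sylow p N) : Subgroup N) :=
          Subgroup.smul_mem_pointwise_smul _ _ _ (hU ha)
        rw [hk] at h1
        simpa [mul_assoc] using (show ((MulAut.conj k • (⟨a, ha.2⟩ : N) : N) : G) ∈ (P : Subgroup G) from h1)
      have hR1 : Linked P ((k : G) • R) := by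
        refine bigger _ (lt_of_lt_of_le (Set.ncard_lt_ncard (s := (D : Set G))
          (t := (((R : Subgroup G) ⊓ N : Subgroup G) : Set G)) hlt (Set.toFinite _)) ?_)
        rw [← Nat.card_coe_set_eq]
        refine (Subgroup.card_map_of_injective (f := (MulAut.conj (k : G)).toMonoidHom)
          (K := (R : Subgroup G) ⊓ N) (MulEquiv.injective _)).ge.trans (Nat.le_of_dvd Nat.card_pos (Subgroup.card_dvd_of_le ?_))
        rintro _ ⟨a, ha, rfl⟩
        exact ⟨hkR a ha, (mem_smul_sylow R).2 (by simp only [mul_assoc, inv_inv, mul_inv_cancel_left, inv_mul_cancel_left, mul_inv_cancel, inv_mul_cancel, mul_one, MulEquiv.coe_toMonoidHom, MulAut.conj_apply]; exact ha.1)⟩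
      obtain ⟨y, hy, hyR⟩ := hR1
      refine ⟨((k⁻¹ : N) : G) * y, .cons Q _ hstep (by rw [hPQ]) (hy.mono ?_), ?_⟩
      · rintro _ ⟨a, ha, rfl⟩
        have ha' : a ∈ (R : Subgroup G) ⊓ N := hlt.le ha
        refine ⟨?_, (mem_smul_sylow R).2 ?_⟩
        · have h5 := hkR a ha'; simp only [mul_assoc, inv_inv, mul_inv_cancel_left, inv_mul_cancel_left, mul_inv_cancel, inv_mul_cancel, mul_one, MulEquiv.coe_toMonoidHom, MulAut.conj_apply, Subgroup.coe_inv] at h5 ⊢; exact h5
        · simp only [mul_assoc, inv_inv, mul_inv_cancel_left, inv_mul_cancel_left, mul_inv_cancel, inv_mul_cancel, mul_one, MulEquiv.coe_toMonoidHom, MulAut.conj_apply, Subgroup.coe_inv]; exact ha'.1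
      · rw [mul_inv_rev, mul_smul, Subgroup.coe_inv, inv_inv, hyR]
  -- reduction to that case
  set D := (P : Subgroup G) ⊓ (R : Subgroup G) with hD
  set N := Subgroup.normalizer (D : Set G) with hN
  have hlt := lt_inf_normalizer P hDP
  obtain ⟨T, hT⟩ := ((P.isPGroup'.to_le (inf_le_left : (P : Subgroup G) ⊓ N ≤ _)).comap_subtype
    (K := N)).exists_le_sylow
  obtain ⟨S, hS⟩ := (T.isPGroup'.map N.subtype).exists_le_sylow
  have hPS : (P : Subgroup G) ⊓ N ≤ (S : Subgroup G) := fun a ha => hS ⟨⟨a, ha.2⟩, hT ha, rfl⟩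
  have hS' : Linked P S := by
    refine bigger S (lt_of_lt_of_le (Set.ncard_lt_ncard (s := (D : Set G))
      (t := (((P : Subgroup G) ⊓ N : Subgroup G) : Set G)) hlt (Set.toFinite _)) ?_)
    rw [← Nat.card_coe_set_eq]
    exact Nat.le_of_dvd Nat.card_pos (Subgroup.card_dvd_of_le (le_inf inf_le_left hPS))
  obtain ⟨x, hx, hxS⟩ := hS'
  refine Linked.trans (hlt.le.trans hPS) hx hxS ?_
  set c : G ≃* G := MulAut.conj x⁻¹ with hc
  have hDle : D.map c.toMonoidHom ≤ (P : Subgroup G) ⊓ ((x⁻¹ • R : Sylow p G) : Subgroup G) := by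
    rintro _ ⟨a, ha, rfl⟩
    refine ⟨?_, (mem_smul_sylow R).2 (by simp only [mul_assoc, inv_inv, mul_inv_cancel_left, inv_mul_cancel_left, mul_inv_cancel, inv_mul_cancel, mul_one, MulEquiv.coe_toMonoidHom, MulAut.conj_apply, hc]; exact ha.2)⟩
    rw [← hxS]
    exact (mem_smul_sylow S).2 (by simpa [hc, mul_assoc] using hPS (hlt.le ha))
  have hcard : Nat.card (D.map c.toMonoidHom) = Nat.card D :=
    Subgroup.card_map_of_injective c.injective
  rcases lt_or_eq_of_le ((hcard.symm.le).trans (Nat.le_of_dvd Nat.card_pos (Subgroup.card_dvd_of_le hDle)))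
    with hlt2 | heq
  · exact bigger _ hlt2
  by_cases hR1 : x⁻¹ • R = P
  · rw [hR1]; exact ⟨1, .nil _, by rw [inv_one, one_smul]⟩
  refine main _ hR1 (fun S' hS' => bigger S' (heq.trans_lt hS')) ?_
  have hD1 : (P : Subgroup G) ⊓ ((x⁻¹ • R : Sylow p G) : Subgroup G) = D.map c.toMonoidHom :=
    (Subgroup.eq_of_le_of_card_ge hDle (by rw [hcard, ← heq])).symm
  have hNmap : Subgroup.normalizer ((D.map c.toMonoidHom : Subgroup G) : Set G) = N.map c.toMonoidHom := by
    exact (Subgroup.map_normalizer_eq_of_bijective D (f := c.toMonoidHom) c.bijective).symm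
  rw [hD1, hNmap, Subgroup.inf_relIndex_right]
  intro hd
  have hTle : ((T : Subgroup N).map N.subtype).map c.toMonoidHom ≤ (P : Subgroup G) := by
    rintro _ ⟨a, ha, rfl⟩
    rw [← hxS]
    exact (mem_smul_sylow S).2 (by simpa [hc, mul_assoc] using hS ha)
  have h3 := hd.trans (Subgroup.relIndex_dvd_of_le_left (N.map c.toMonoidHom) hTle)
  rw [Subgroup.relIndex_map_map_of_injective _ _ c.injective] at h3
  have h4 : ((T : Subgroup N).map N.subtype).relIndex N = (T : Subgroup N).index := by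
    rw [Subgroup.relIndex, Subgroup.subgroupOf, Subgroup.comap_map_eq_self_of_injective N.subtype_injective]
  exact T.not_dvd_index (h4 ▸ h3)

/-- Alperin's fusion theorem. -/
theorem alperin [Finite G] [hp : Fact p.Prime] (P : Sylow p G) (A : Set G) (g : G)
    (hA : A ⊆ (P : Set G)) (hAg : (fun a => g⁻¹ * a * g) '' A ⊆ (P : Set G)) : AlperinChain P A g := by
  obtain ⟨x, hx, hxR⟩ := linked P (g • P)
  rw [← mul_smul] at hxR
  have hy : x⁻¹ * g ∈ Subgroup.normalizer (P : Set G) := Sylow.smul_eq_iff_mem_normalizer.1 hxR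
  have hAR : A ⊆ (((P : Subgroup G) ⊓ ((g • P : Sylow p G) : Subgroup G) : Subgroup G) : Set G) :=
    fun a ha => ⟨hA ha, (mem_smul_sylow P).2 (hAg ⟨a, ha, rfl⟩)⟩
  have hstep : TameStep P P (x⁻¹ * g) := by
    unfold TameStep
    rw [inf_idem]
    have hP : ¬ p ∣ ((P : Subgroup G) ⊓ Subgroup.normalizer ((P : Subgroup G) : Set G)).relIndex
        (Subgroup.normalizer ((P : Subgroup G) : Set G)) := by
      rw [Subgroup.inf_relIndex_right]
      exact fun hd => P.not_dvd_index (hd.trans (Subgroup.relIndex_dvd_index_of_le Subgroup.le_normalizer))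
    exact ⟨hy, hP, hP⟩
  have h2 : (fun a => x⁻¹ * a * x) '' A ⊆ (((P : Subgroup G) ⊓ (P : Subgroup G) : Subgroup G) : Set G) := by
    rw [inf_idem]
    rintro _ ⟨a, ha, rfl⟩
    have h3 : x⁻¹ * a * x ∈ ((x⁻¹ • (g • P) : Sylow p G) : Subgroup G) :=
      (mem_smul_sylow _).2 (by simp only [mul_assoc, inv_inv, mul_inv_cancel_left, inv_mul_cancel_left, mul_inv_cancel, inv_mul_cancel, mul_one, MulEquiv.coe_toMonoidHom, MulAut.conj_apply]; exact (hAR ha).2)
    rw [← mul_smul, hxR] at h3
    exact h3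
  have := (hx.mono hAR).trans (.cons P (x⁻¹ * g) hstep h2 (.nil _))
  rwa [mul_one, mul_inv_cancel_left] at this

/-- Chains as indexed families. -/
theorem AlperinChain.exists_fin {P : Sylow p G} {A : Set G} {g : G} (h : AlperinChain P A g) :
    ∃ (n : ℕ) (Q : Fin n → Sylow p G) (x : Fin n → G), (List.ofFn x).prod = g ∧
      (∀ i : Fin n, TameStep P (Q i) (x i)) ∧
      (∀ h : 0 < n, A ⊆ (((P : Subgroup G) ⊓ (Q ⟨0, h⟩ : Subgroup G) : Subgroup G) : Set G)) ∧
      ∀ i : Fin n, ∀ h : i.val + 1 < n,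
        (fun a => (((List.ofFn x).take (i.val + 1)).prod)⁻¹ * a * ((List.ofFn x).take (i.val + 1)).prod) '' A
          ⊆ (((P : Subgroup G) ⊓ (Q ⟨i.val + 1, h⟩ : Subgroup G) : Subgroup G) : Set G) := by
  induction h with
  | nil A => exact ⟨0, Fin.elim0, Fin.elim0, by simp, fun i => i.elim0, fun h => absurd h (lt_irrefl 0), fun i => i.elim0⟩
  | @cons A Q x y hT hA _ ih =>
    obtain ⟨n, Qs, xs, hprod, hs, h0, hstep⟩ := ih
    refine ⟨n + 1, Fin.cons Q Qs, Fin.cons x xs, ?_, ?_, fun _ => ?_, ?_⟩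
    · rw [List.ofFn_succ, List.prod_cons]
      simp [hprod]
    · intro i
      refine Fin.cases ?_ ?_ i
      · simpa using hT
      · intro j; simpa using hs j
    · exact hA
    · intro i hi
      have hl : List.ofFn (Fin.cons x xs) = x :: List.ofFn xs := by
        rw [List.ofFn_succ]; simp
      rw [hl, List.take_succ_cons, List.prod_cons]
      have hq : (Fin.cons Q Qs : Fin (n + 1) → Sylow p G) ⟨i.val + 1, hi⟩ = Qs ⟨i.val, by omega⟩ := rfl
      rw [hq]
      have he : (fun a => (x * ((List.ofFn xs).take i.val).prod)⁻¹ * a * (x * ((List.ofFn xs).take i.val).prod)) '' A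
          = (fun a => (((List.ofFn xs).take i.val).prod)⁻¹ * a * ((List.ofFn xs).take i.val).prod) ''
            ((fun a => x⁻¹ * a * x) '' A) := by
        rw [Set.image_image]
        simp [mul_assoc]
      rw [he]
      obtain ⟨iv, hiv⟩ := i
      cases iv with
      | zero =>
        simp only [List.take_zero, List.prod_nil, inv_one, one_mul, mul_one, Set.image_id']
        exact h0 (by simp only at hi; omega)
      | succ j => exact hstep ⟨j, by simp only at hi; omega⟩ (by simp only at hi ⊢; omega)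

end Cfsg.Agent.Transfer
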