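import Cfsg.Prelude.Def_Solvable
import Mathlib

/-!
Basic facts on `O_p(G)` and the Fitting subgroup of a finite group.
-/
set_option autoImplicit false
set_option linter.style.haveILetI false

namespace Cfsg.Agent.Transfer

open Subgroup

variable {G : Type*} [Group G]

theorem pCore_isPGroup (p : ℕ) (G : Type*) [Group G] : IsPGroup p (pCore p G) :=
  Sylow.sSup_of_normal _ (fun _ h => h.2) (fun _ h => h.1)

theorem pCore_normal' (p : ℕ) (G : Type*) [Group G] : (pCore p G).Normal :=
  Subgroup.sSup_normal _ (fun _ h => h.1)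

theorem le_pCore {p : ℕ} {N : Subgroup G} (hn : N.Normal) (hp : IsPGroup p N) :
    N ≤ pCore p G :=
  le_sSup ⟨hn, hp⟩

theorem pCore_le_sylow {p : ℕ} (P : Sylow p G) : pCore p G ≤ P :=
  haveI := pCore_normal' p G
  (pCore_isPGroup p G).le_sylow_of_normal P

theorem mem_pCore_iff [Finite G] {p : ℕ} [Fact p.Prime] {x : G} :
    x ∈ pCore p G ↔ ∀ P : Sylow p G, x ∈ (P : Subgroup G) := by
  refine ⟨fun h P => pCore_le_sylow P h, fun h => ?_⟩
  have hn : (⨅ P : Sylow p G, (P : Subgroup G)).Normal := by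
    refine ⟨fun n hn g => ?_⟩
    rw [Subgroup.mem_iInf] at hn ⊢
    intro P
    have := hn (g⁻¹ • P)
    rw [Sylow.coe_subgroup_smul, Subgroup.mem_pointwise_smul_iff_inv_smul_mem] at this
    simpa [mul_assoc] using this
  have hp : IsPGroup p (⨅ P : Sylow p G, (P : Subgroup G) : Subgroup G) := by
    obtain ⟨P⟩ : Nonempty (Sylow p G) := inferInstance
    exact P.isPGroup'.to_le (iInf_le _ P)
  exact le_pCore hn hp (Subgroup.mem_iInf.2 h)

theorem commute_pCore [Finite G] {p q : ℕ} [Fact p.Prime] [Fact q.Prime] (hpq : p ≠ q) {x y : G}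
    (hx : x ∈ pCore p G) (hy : y ∈ pCore q G) : Commute x y := by
  haveI := pCore_normal' p G
  haveI := pCore_normal' q G
  exact Subgroup.commute_of_normal_of_disjoint _ _ inferInstance inferInstance
    (IsPGroup.disjoint_of_ne p q hpq _ _ (pCore_isPGroup p G) (pCore_isPGroup q G)) x y hx hy

theorem le_iSup_pCore [Finite G] (N : Subgroup G) [N.Normal] (hN : Group.IsNilpotent N) :
    N ≤ ⨆ q : (Nat.card G).primeFactors, pCore (q : ℕ) G := by
  set F := ⨆ q : (Nat.card G).primeFactors, pCore (q : ℕ) G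
  have hdvd : Nat.card N ∣ Nat.card (F.subgroupOf N) := by
    refine (Nat.dvd_iff_prime_pow_dvd_dvd _ _).2 fun p k hp hk => ?_
    rcases Nat.eq_zero_or_pos k with rfl | hk0
    · simp
    haveI := Fact.mk hp
    obtain ⟨P⟩ : Nonempty (Sylow p N) := inferInstance
    have hPk : p ^ k ∣ Nat.card (P : Subgroup N) := P.pow_dvd_card_of_pow_dvd_card hk
    refine hPk.trans (Subgroup.card_dvd_of_le ?_)
    haveI : (P : Subgroup N).Characteristic :=
      Sylow.characteristic_of_normal P (by haveI := hN; infer_instance)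
    have h1 : (P : Subgroup N).map N.subtype ≤ pCore p G :=
      le_pCore inferInstance (P.isPGroup'.map _)
    have hpG : p ∈ (Nat.card G).primeFactors := by
      refine Nat.mem_primeFactors.2 ⟨hp, ?_, Nat.card_pos.ne'⟩
      exact ((dvd_pow_self p hk0.ne').trans hk).trans N.card_subgroup_dvd_card
    have h2 : pCore p G ≤ F :=
      le_iSup (fun q : (Nat.card G).primeFactors => pCore (q : ℕ) G) ⟨p, hpG⟩
    intro x hx
    exact h2 (h1 ⟨x, hx, rfl⟩)
  have htop : F.subgroupOf N = ⊤ :=
    Subgroup.eq_top_of_le_card _ (Nat.le_of_dvd Nat.card_pos hdvd)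
  exact Subgroup.subgroupOf_eq_top.1 htop

theorem fittingSubgroup_eq_iSup_pCore [Finite G] :
    fittingSubgroup G = ⨆ q : (Nat.card G).primeFactors, pCore (q : ℕ) G := by
  refine le_antisymm (sSup_le fun N hN => ?_) (iSup_le fun q => ?_)
  · haveI := hN.1
    exact le_iSup_pCore N hN.2
  · haveI := Fact.mk (Nat.prime_of_mem_primeFactors q.2)
    exact le_sSup ⟨pCore_normal' _ G, (pCore_isPGroup (q : ℕ) G).isNilpotent⟩

theorem pCore_le_fittingSubgroup [Finite G] (p : ℕ) [Fact p.Prime] :
    pCore p G ≤ fittingSubgroup G :=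
  le_sSup ⟨pCore_normal' _ G, (pCore_isPGroup p G).isNilpotent⟩

theorem fittingSubgroup_normal' (G : Type*) [Group G] : (fittingSubgroup G).Normal :=
  Subgroup.sSup_normal _ (fun _ h => h.1)

theorem fittingSubgroup_isNilpotent [Finite G] : Group.IsNilpotent (fittingSubgroup G) := by
  have hc : Pairwise fun i j : (Nat.card G).primeFactors =>
      ∀ x y : G, x ∈ pCore (i : ℕ) G → y ∈ pCore (j : ℕ) G → Commute x y := by
    intro i j hij x y hx hy
    haveI := Fact.mk (Nat.prime_of_mem_primeFactors i.2)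
    haveI := Fact.mk (Nat.prime_of_mem_primeFactors j.2)
    exact commute_pCore (fun h => hij (Subtype.ext h)) hx hy
  haveI : ∀ i : (Nat.card G).primeFactors, Group.IsNilpotent (pCore (i : ℕ) G) := fun i => by
    haveI := Fact.mk (Nat.prime_of_mem_primeFactors i.2)
    exact (pCore_isPGroup (i : ℕ) G).isNilpotent
  rw [fittingSubgroup_eq_iSup_pCore,
    ← Subgroup.noncommPiCoprod_range (hcomm := hc)]
  exact Group.nilpotent_of_surjective _ (MonoidHom.rangeRestrict_surjective _)

end Cfsg.Agent.Transfer
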