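import Mathlib
import Cfsg.Prelude.Def_PLocal
import Cfsg.Agent.Lib.Grp.SL2Section
import Cfsg.Agent.Lib.Fus.QdGroup
import Cfsg.Agent.Lib.Invol.Section
import Cfsg.Agent.Lib.Invol.QdFusion

/-!
Groups without sections `Qd(p)` are `p`-stable in the action sense; two sources of such groups.
-/

set_option autoImplicit false
set_option maxHeartbeats 1000000

universe u

namespace Cfsg.Agent.Transfer

open Cfsg.Agent

variable {p : ℕ} [hp : Fact p.Prime]

theorem exists_sl_section_of_qd {G : Type u} [Group G] (h : Cfsg.Involves ↥(Cfsg.qd p) G) :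
    ∃ (H : Subgroup G) (f : H →* Matrix.SpecialLinearGroup (Fin 2) (ZMod p)), Function.Surjective f :=
  (Invol.IsSectionOf.of_surjective (Fus.qdBlock p)
    (fun g => ⟨Fus.qdLift p g, Fus.qdBlock_lift g⟩)).trans (Invol.isSectionOf_of_involves h)

theorem qdFree_of_isPSolvable {G : Type u} [Group G] [Finite G] (h5 : 5 ≤ p) (hG : Cfsg.IsPSolvable p G) :
    ¬ Cfsg.Involves ↥(Cfsg.qd p) G := by
  intro h
  obtain ⟨H, f, hf⟩ := exists_sl_section_of_qd h
  have := Grp.Quad.three_of_isPSolvable (show p ≠ 2 by omega) hG f hf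
  omega

theorem qdFree_of_sylow_two_comm {G : Type u} [Group G] [Finite G] (hp2 : p ≠ 2)
    (hab : ∀ T : Sylow 2 G, IsMulCommutative T) : ¬ Cfsg.Involves ↥(Cfsg.qd p) G := by
  intro h
  obtain ⟨H, f, hf⟩ := exists_sl_section_of_qd h
  obtain ⟨T⟩ : Nonempty (Sylow 2 G) := inferInstance
  exact Grp.Quad.sylow_two_not_comm hp2 f hf T (hab T)

theorem isActionPStable_of_qdFree {G : Type u} [Group G] [Finite G] (hp2 : p ≠ 2)
    (hfree : ¬ Cfsg.Involves ↥(Cfsg.qd p) G) : Cfsg.IsActionPStable p G := by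
  have hdesc : ∀ {X : Type u} [Group X], Invol.IsSectionOf X G → ¬ Cfsg.Involves ↥(Cfsg.qd p) X :=
    fun hX h => hfree ((Invol.isSectionOf_of_involves h).trans hX).involves
  refine ⟨fun V _ hV => Grp.Quad.isPStableOn_of_free hp2 hfree V ?_, ?_, ?_⟩
  · exact fun x => ⟨1, by rw [pow_one]; exact Subtype.ext (hV.2 x x.2)⟩
  · set K := Cfsg.pCore p G with hK
    set N := (frattini ↥K).map K.subtype with hN
    intro a ha
    let f := QuotientGroup.mk' N
    haveI hKn : K.Normal := Grp.pCore_isNormal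
    haveI : (K.map f).Normal := hKn.map f (QuotientGroup.mk'_surjective N)
    have hKp : IsPGroup p (K.map f) := Grp.pCore_isPGroup.map f
    have hstab := Grp.Quad.isPStableOn_of_free hp2
      (hdesc (Invol.IsSectionOf.of_surjective f (QuotientGroup.mk'_surjective N))) (K.map f) hKp (f a) (by
        rw [← MonoidHom.map_zpowers, ← Subgroup.map_commutator, ← Subgroup.map_commutator,
          Subgroup.map_eq_bot_iff, QuotientGroup.ker_mk']
        exact ha)
    set C := Subgroup.centralizer ((K.map f : Subgroup (G ⧸ N)) : Set (G ⧸ N))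
    let g : G →* (G ⧸ N) ⧸ C := (QuotientGroup.mk' C).comp f
    have hg : Function.Surjective g := (QuotientGroup.mk'_surjective C).comp (QuotientGroup.mk'_surjective N)
    have hker : g.ker = Cfsg.sectionKernel K N := by
      rw [← MonoidHom.comap_ker, QuotientGroup.ker_mk']; rfl
    haveI : (Cfsg.pCore p ((G ⧸ N) ⧸ C)).Normal := Grp.pCore_isNormal
    refine ⟨(Cfsg.pCore p ((G ⧸ N) ⧸ C)).comap g, inferInstance, hker ▸ g.ker_le_comap _, ?_, hstab⟩
    obtain ⟨k, hk⟩ := IsPGroup.iff_card.1 (Grp.pCore_isPGroup (p := p) (G := (G ⧸ N) ⧸ C))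
    refine ⟨k, ?_⟩
    rw [← hker, Subgroup.relIndex_ker, ← hk, Subgroup.map_comap_eq_self_of_surjective hg]
  · intro S V _ hV
    refine Grp.Quad.isPStableOn_of_free hp2 (hdesc (Invol.IsSectionOf.of_subgroup _)) V ?_
    have h1 : IsPGroup p ↥(V.map (Subgroup.normalizer
        (Cfsg.thompsonSubgroupOf p (S : Subgroup G) : Set G)).subtype) :=
      S.isPGroup'.to_le (hV.trans (Subgroup.map_subtype_le _))
    exact h1.of_equiv (V.equivMapOfInjective _ (Subgroup.subtype_injective _)).symm

end Cfsg.Agent.Transfer
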