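import Mathlib
import Cfsg.Agent.Lib.Grp.Frattini

/-! Refining normal series in `p`-groups. -/

set_option autoImplicit false

open scoped commutatorElement

namespace Cfsg.Agent.Transfer.NormalSteps

variable {G : Type*} [Group G] [Finite G] {p : ℕ} [hp : Fact p.Prime]

theorem exists_normal_step (hG : IsPGroup p G) {M N : Subgroup G} [M.Normal] [N.Normal]
    (h : M < N) :
    ∃ L : Subgroup G, L.Normal ∧ M < L ∧ L ≤ N ∧ Nat.card L = p * Nat.card M ∧
      ∀ g : G, ∀ x ∈ L, ⁅g, x⁆ ∈ M := by
  haveI : (N.map (QuotientGroup.mk' M)).Normal :=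
    Subgroup.Normal.map inferInstance _ (QuotientGroup.mk'_surjective M)
  have hQ : IsPGroup p (G ⧸ M) := hG.to_quotient M
  haveI := hQ.isNilpotent
  have hne : N.map (QuotientGroup.mk' M) ≠ ⊥ := by
    intro he
    rw [Subgroup.map_eq_bot_iff, QuotientGroup.ker_mk'] at he
    exact h.not_ge he
  have hI := Grp.inf_center_ne_bot _ hne
  have hdvd : p ∣ Nat.card ↥(N.map (QuotientGroup.mk' M) ⊓ Subgroup.center (G ⧸ M)) := by
    obtain ⟨n, hn⟩ := IsPGroup.iff_card.mp
      (hQ.to_subgroup (N.map (QuotientGroup.mk' M) ⊓ Subgroup.center (G ⧸ M)))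
    rcases n with - | n
    · exact absurd (Subgroup.card_eq_one.mp (by rw [hn, pow_zero])) hI
    · exact hn ▸ dvd_pow_self p (Nat.succ_ne_zero n)
  obtain ⟨z, hz⟩ := exists_prime_orderOf_dvd_card' p hdvd
  have hzN : (z : G ⧸ M) ∈ N.map (QuotientGroup.mk' M) := z.2.1
  have hzc : (z : G ⧸ M) ∈ Subgroup.center (G ⧸ M) := z.2.2
  have hcen : Subgroup.zpowers (z : G ⧸ M) ≤ Subgroup.center (G ⧸ M) :=
    Subgroup.zpowers_le.mpr hzc
  haveI : (Subgroup.zpowers (z : G ⧸ M)).Normal :=
    ⟨fun a ha g => by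
      rw [Subgroup.mem_center_iff.mp (hcen ha) g, mul_inv_cancel_right]
      exact ha⟩
  set L := (Subgroup.zpowers (z : G ⧸ M)).comap (QuotientGroup.mk' M)
  have hML : M ≤ L := fun x hx => by
    change QuotientGroup.mk' M x ∈ Subgroup.zpowers (z : G ⧸ M)
    rw [(QuotientGroup.eq_one_iff x).mpr hx |> fun e => (show QuotientGroup.mk' M x = 1 from e)]
    exact one_mem _
  have hcard : Nat.card L = p * Nat.card M := by
    have hp' : Nat.card (Subgroup.zpowers (z : G ⧸ M)) = p := by
      rw [Nat.card_zpowers, Subgroup.orderOf_coe, hz]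
    have h1 := Subgroup.card_mul_index L
    rw [Subgroup.index_comap_of_surjective _ (QuotientGroup.mk'_surjective M)] at h1
    have h2 := Subgroup.card_mul_index (Subgroup.zpowers (z : G ⧸ M))
    have h3 := Subgroup.card_mul_index M
    rw [Subgroup.index, ← h2, hp'] at h3
    refine Nat.eq_of_mul_eq_mul_right (m := (Subgroup.zpowers (z : G ⧸ M)).index)
      (Nat.pos_of_ne_zero Subgroup.index_ne_zero_of_finite) ?_
    linarith
  refine ⟨L, inferInstance, lt_of_le_of_ne hML fun e => ?_, ?_, hcard, ?_⟩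
  · rw [← e] at hcard
    have := Nat.card_pos (α := M)
    nlinarith [hp.out.two_le]
  · intro x hx
    obtain ⟨k, hk⟩ := hx
    have hxN : QuotientGroup.mk' M x ∈ N.map (QuotientGroup.mk' M) := by
      rw [show QuotientGroup.mk' M x = (z : G ⧸ M) ^ k from hk.symm]
      exact Subgroup.zpow_mem _ hzN k
    have := Subgroup.mem_comap.mpr hxN
    rwa [Subgroup.comap_map_eq, QuotientGroup.ker_mk', sup_eq_left.mpr h.le] at this
  · intro g x hx
    rw [← QuotientGroup.eq_one_iff]
    change QuotientGroup.mk' M ⁅g, x⁆ = 1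
    rw [map_commutatorElement, commutatorElement_eq_one_iff_mul_comm]
    exact Subgroup.mem_center_iff.mp (hcen hx) _

omit [Finite G] in
theorem closure_insert_comm {A : Subgroup G} {x : G} (hA : ∀ a ∈ A, ∀ b ∈ A, a * b = b * a)
    (hx : ∀ a ∈ A, x * a = a * x) :
    IsMulCommutative (Subgroup.closure (insert x (A : Set G))) :=
  Subgroup.isMulCommutative_closure (by
    rintro a (rfl | ha) b (rfl | hb)
    · rfl
    · exact hx b hb
    · exact (hx a ha).symm
    · exact hA a ha b hb)

theorem eq_closure_insert {M L : Subgroup G} (hML : M ≤ L) (hcard : Nat.card L = p * Nat.card M)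
    {x : G} (hx : x ∈ L) (hxM : x ∉ M) : L = Subgroup.closure (insert x (M : Set G)) := by
  set K := Subgroup.closure (insert x (M : Set G))
  have hMK : M ≤ K := fun a ha => Subgroup.subset_closure (Set.mem_insert_of_mem _ ha)
  have hKL : K ≤ L := (Subgroup.closure_le _).mpr (Set.insert_subset hx hML)
  obtain ⟨c, hc⟩ := Subgroup.card_dvd_of_le hMK
  obtain ⟨d, hd⟩ := Subgroup.card_dvd_of_le hKL
  have hcd : c * d = p := by
    refine Nat.eq_of_mul_eq_mul_left (Nat.card_pos (α := M)) ?_
    rw [← mul_assoc, ← hc, ← hd, hcard, mul_comm]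
  rcases (Nat.dvd_prime hp.out).mp (Dvd.intro d hcd) with h1 | h1
  · exact absurd (Subgroup.eq_of_le_of_card_ge hMK (by rw [hc, h1, mul_one]) ▸
      Subgroup.subset_closure (Set.mem_insert x _)) hxM
  · refine (Subgroup.eq_of_le_of_card_ge hKL ?_).symm
    rw [hcard, hc, h1, mul_comm]

theorem centralizer_eq_of_max (hG : IsPGroup p G) {A : Subgroup G} [A.Normal]
    (hA : IsMulCommutative A)
    (hmax : ∀ B : Subgroup G, B.Normal → IsMulCommutative B → A ≤ B → B = A) :
    Subgroup.centralizer (A : Set G) = A := by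
  haveI := hA
  have hle : A ≤ Subgroup.centralizer (A : Set G) := fun a ha =>
    Subgroup.mem_centralizer_iff.mpr fun b hb => setLike_mul_comm hb ha
  haveI : (Subgroup.centralizer (A : Set G)).Normal := Subgroup.normal_centralizer
  by_contra hne
  obtain ⟨L, hLn, hAL, hLC, hcard, -⟩ := exists_normal_step hG (lt_of_le_of_ne hle (Ne.symm hne))
  obtain ⟨x, hxL, hxA⟩ := SetLike.exists_of_lt hAL
  have hLab : IsMulCommutative L := by
    rw [eq_closure_insert hAL.le hcard hxL hxA]
    exact closure_insert_comm (fun a ha b hb => setLike_mul_comm ha hb)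
      (fun a ha => (Subgroup.mem_centralizer_iff.mp (hLC hxL) a ha).symm)
  exact hAL.ne (hmax L hLn hLab hAL.le).symm

theorem index_centralizer_le (hG : IsPGroup p G) {A : Subgroup G} [A.Normal] {a : ℕ}
    (ha : Nat.card A = p ^ a) :
    (Subgroup.centralizer (A : Set G)).index ≤ p ^ (a * (a - 1) / 2) := by
  suffices h : ∀ i, i ≤ a → ∃ L : Subgroup G, L.Normal ∧ L ≤ A ∧ Nat.card L = p ^ i ∧
      (Subgroup.centralizer (L : Set G)).index ≤ p ^ (i * (i - 1) / 2) by
    obtain ⟨L, -, hLA, hL, hi⟩ := h a le_rfl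
    rwa [Subgroup.eq_of_le_of_card_ge hLA (by rw [hL, ha])] at hi
  intro i
  induction i with
  | zero =>
    intro _
    refine ⟨⊥, inferInstance, bot_le, by simp, ?_⟩
    have : Subgroup.centralizer ((⊥ : Subgroup G) : Set G) = ⊤ := by
      ext g; simp [Subgroup.mem_centralizer_iff]
    rw [this]; simp
  | succ i ih =>
    intro hi
    obtain ⟨M, hMn, hMA, hM, hMi⟩ := ih (Nat.le_of_succ_le hi)
    haveI := hMn
    have hlt : M < A := lt_of_le_of_ne hMA fun e => by
      rw [e, ha] at hM
      have := Nat.pow_right_injective hp.out.two_le hM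
      omega
    obtain ⟨L, hLn, hML, hLA, hL, hc⟩ := exists_normal_step hG hlt
    refine ⟨L, hLn, hLA, by rw [hL, hM, pow_succ'], ?_⟩
    obtain ⟨x, hxL, hxM⟩ := SetLike.exists_of_lt hML
    set C := Subgroup.centralizer (M : Set G)
    set D := Subgroup.centralizer (L : Set G)
    have hDC : D ≤ C := Subgroup.centralizer_le hML.le
    have hrel : D.relIndex C ≤ Nat.card M := by
      rw [Subgroup.relIndex, Subgroup.index]
      refine Nat.card_le_card_of_injective
        (fun q => (⟨⁅(q.out : G), x⁆, hc _ x hxL⟩ : M)) ?_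
      intro q r hqr
      have he : ⁅(q.out : G), x⁆ = ⁅(r.out : G), x⁆ := congrArg Subtype.val hqr
      rw [commutatorElement_def, commutatorElement_def, mul_left_inj] at he
      rw [← q.out_eq', ← r.out_eq', QuotientGroup.eq, Subgroup.mem_subgroupOf]
      simp only [Subgroup.coe_mul, Subgroup.coe_inv]
      have hmC : (q.out : G)⁻¹ * (r.out : G) ∈ C := C.mul_mem (C.inv_mem q.out.2) r.out.2
      have hcx : (q.out : G)⁻¹ * (r.out : G) * x = x * ((q.out : G)⁻¹ * (r.out : G)) := by
        calc (q.out : G)⁻¹ * (r.out : G) * x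
            = (q.out : G)⁻¹ * ((r.out : G) * x * (r.out : G)⁻¹) * (r.out : G) := by group
          _ = x * ((q.out : G)⁻¹ * (r.out : G)) := by rw [← he]; group
      have hle : L ≤ Subgroup.centralizer {(q.out : G)⁻¹ * (r.out : G)} := by
        rw [eq_closure_insert hML.le hL hxL hxM, Subgroup.closure_le]
        rintro y (rfl | hy)
        · exact Subgroup.mem_centralizer_singleton_iff.mpr hcx.symm
        · exact Subgroup.mem_centralizer_singleton_iff.mpr
            (Subgroup.mem_centralizer_iff.mp hmC y hy)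
      exact Subgroup.mem_centralizer_iff.mpr fun y hy =>
        Subgroup.mem_centralizer_singleton_iff.mp (hle hy)
    rw [← Subgroup.relIndex_mul_index hDC]
    calc D.relIndex C * C.index ≤ p ^ i * p ^ (i * (i - 1) / 2) :=
          Nat.mul_le_mul (hM ▸ hrel) hMi
      _ = p ^ ((i + 1) * (i + 1 - 1) / 2) := by
          rw [← pow_add]
          congr 1
          rcases i with - | i
          · rfl
          · simp only [Nat.add_sub_cancel]
            rw [show (i + 1 + 1) * (i + 1) = (i + 1) * i + (i + 1) * 2 by ring,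
              Nat.add_mul_div_right _ _ (by norm_num : 0 < 2)]
            ring

end Cfsg.Agent.Transfer.NormalSteps
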