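import Mathlib
import Cfsg.Prelude.Def_Transfer

/-! Powers of products in groups of class at most three, extraspecial induction, normal series. -/

set_option autoImplicit false

open scoped commutatorElement

namespace Cfsg.Agent.Transfer.PGroups

variable {G : Type*} [Group G]

section Collect

variable {a b u v w : G}

theorem collect_u_pow (hua : u * a = a * u * v) (hv : ∀ g, v * g = g * v) (m : ℕ) :
    u ^ m * a = a * u ^ m * v ^ m := by
  induction m with
  | zero => simp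
  | succ m ih =>
    calc u ^ (m + 1) * a = u * (u ^ m * a) := by rw [pow_succ', mul_assoc]
      _ = (u * a) * (u ^ m * v ^ m) := by rw [ih]; group
      _ = a * u * (v * u ^ m) * v ^ m := by rw [hua]; group
      _ = a * u ^ (m + 1) * v ^ (m + 1) := by rw [hv (u ^ m)]; group

theorem collect_pow_u (hua : u * a = a * u * v) (hv : ∀ g, v * g = g * v) (m : ℕ) :
    u * a ^ m = a ^ m * u * v ^ m := by
  induction m with
  | zero => simp
  | succ m ih =>
    calc u * a ^ (m + 1) = (u * a ^ m) * a := by rw [pow_succ, mul_assoc]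
      _ = a ^ m * u * (v ^ m * a) := by rw [ih]; group
      _ = a ^ m * (u * a) * v ^ m := by rw [(Commute.pow_left (hv a) m).eq]; group
      _ = a ^ (m + 1) * u * v ^ (m + 1) := by rw [hua]; group

theorem collect_b_pow (hba : b * a = a * b * u) (hub : u * b = b * u * w)
    (hw : ∀ g, w * g = g * w) (m : ℕ) :
    b ^ m * a = a * b ^ m * u ^ m * w ^ Nat.choose m 2 := by
  induction m with
  | zero => simp
  | succ m ih =>
    calc b ^ (m + 1) * a = b * (b ^ m * a) := by rw [pow_succ', mul_assoc]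
      _ = (b * a) * (b ^ m * u ^ m * w ^ Nat.choose m 2) := by rw [ih]; group
      _ = a * b * (u * b ^ m) * (u ^ m * w ^ Nat.choose m 2) := by rw [hba]; group
      _ = a * b ^ (m + 1) * u * (w ^ m * u ^ m) * w ^ Nat.choose m 2 := by
        rw [collect_pow_u hub hw]; group
      _ = a * b ^ (m + 1) * u ^ (m + 1) * w ^ (m + Nat.choose m 2) := by
        rw [(Commute.pow_left (hw (u ^ m)) m).eq, pow_add]; group
      _ = a * b ^ (m + 1) * u ^ (m + 1) * w ^ Nat.choose (m + 1) 2 := by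
        rw [Nat.choose_succ_succ, Nat.choose_one_right]

/-- The power formula in class three. -/
theorem mul_pow_class_three (hba : b * a = a * b * u) (hua : u * a = a * u * v)
    (hub : u * b = b * u * w) (hv : ∀ g, v * g = g * v) (hw : ∀ g, w * g = g * w) (n : ℕ) :
    (a * b) ^ n = a ^ n * b ^ n * u ^ Nat.choose n 2 * v ^ Nat.choose n 3 *
      w ^ (Nat.choose n 2 + 2 * Nat.choose n 3) := by
  induction n with
  | zero => simp
  | succ n ih =>
    set A := Nat.choose n 2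
    set B := Nat.choose n 3
    set C := A + 2 * B
    have hvc : ∀ (k : ℕ) (g : G), v ^ k * g = g * v ^ k := fun k g => (Commute.pow_left (hv g) k).eq
    have hwc : ∀ (k : ℕ) (g : G), w ^ k * g = g * w ^ k := fun k g => (Commute.pow_left (hw g) k).eq
    calc (a * b) ^ (n + 1) = a ^ n * b ^ n * u ^ A * (v ^ B * (w ^ C * (a * b))) := by
          rw [pow_succ, ih]; group
      _ = a ^ n * b ^ n * (u ^ A * a) * (b * w ^ C * v ^ B) := by
          rw [hwc, hvc]; group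
      _ = a ^ n * (b ^ n * a) * u ^ A * (v ^ A * b) * (w ^ C * v ^ B) := by
          rw [collect_u_pow hua hv]; group
      _ = a ^ (n + 1) * b ^ n * u ^ n * (w ^ A * (u ^ A * b)) * v ^ A * (w ^ C * v ^ B) := by
          rw [collect_b_pow hba hub hw, hvc A b]; simp only [A]; group
      _ = a ^ (n + 1) * b ^ n * (u ^ n * b) * (u ^ A * w ^ A) * w ^ A * v ^ A * (w ^ C * v ^ B) := by
          rw [collect_u_pow hub hw A, hwc A (b * u ^ A * w ^ A)]; group
      _ = a ^ (n + 1) * b ^ (n + 1) * u ^ n * (w ^ n * u ^ A) * w ^ A * w ^ A * v ^ A *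
          (w ^ C * v ^ B) := by
          rw [collect_u_pow hub hw n]; group
      _ = a ^ (n + 1) * b ^ (n + 1) * u ^ (n + A) * (v ^ (A + B) * w ^ (n + A + A + C)) := by
          rw [hwc n (u ^ A), hwc C (v ^ B)]
          simp only [mul_assoc, pow_add]
          rw [← mul_assoc (w ^ A) (v ^ A), hwc A (v ^ A)]
          simp only [mul_assoc]
          rw [← mul_assoc (w ^ A) (v ^ A), hwc A (v ^ A)]
          simp only [mul_assoc]
          rw [← mul_assoc (w ^ n) (v ^ A), hwc n (v ^ A)]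
          simp only [mul_assoc]
          rw [← mul_assoc (w ^ A) (v ^ B), hwc A (v ^ B)]
          simp only [mul_assoc]
          rw [← mul_assoc (w ^ A) (v ^ B), hwc A (v ^ B)]
          simp only [mul_assoc]
          rw [← mul_assoc (w ^ n) (v ^ B), hwc n (v ^ B)]
          simp only [mul_assoc]
      _ = _ := by
          rw [show Nat.choose (n + 1) 2 = n + A by
              rw [Nat.choose_succ_succ n 1, Nat.choose_one_right],
            show Nat.choose (n + 1) 3 = A + B from Nat.choose_succ_succ n 2,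
            show n + A + 2 * (A + B) = n + A + A + C by simp only [C]; ring]
          simp only [mul_assoc]

end Collect

/-- `u, v, w` for a pair of elements. -/
def u_ (a b : G) : G := b⁻¹ * a⁻¹ * b * a

theorem u_mem (a b : G) : u_ a b ∈ commutator G := by
  have : u_ a b = ⁅b⁻¹, a⁻¹⁆ := by simp [u_, commutatorElement_def]
  rw [this]
  exact Subgroup.commutator_mem_commutator (Subgroup.mem_top _) (Subgroup.mem_top _)

theorem mul_eq_u (a b : G) : b * a = a * b * u_ a b := by simp [u_, mul_assoc]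

theorem u_mem_of_mem {K : Subgroup G} {a : G} {x : G} (hx : x ∈ K) :
    u_ a x ∈ ⁅K, (⊤ : Subgroup G)⁆ := by
  have : u_ a x = ⁅x⁻¹, a⁻¹⁆ := by simp [u_, commutatorElement_def]
  rw [this]
  exact Subgroup.commutator_mem_commutator (K.inv_mem hx) (Subgroup.mem_top _)

/-- The condition making `p`-th powers nearly multiplicative. -/
def SmallClass (p : ℕ) (G : Type*) [Group G] : Prop :=
  (p ≠ 2 ∧ ⁅commutator G, (⊤ : Subgroup G)⁆ = ⊥) ∨
    (3 < p ∧ ⁅⁅commutator G, (⊤ : Subgroup G)⁆, (⊤ : Subgroup G)⁆ = ⊥)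

theorem central_of_small {p : ℕ} (h : SmallClass p G) (a b x : G) :
    u_ x (u_ a b) * a = a * u_ x (u_ a b) ∧ ∀ g, u_ x (u_ a b) * g = g * u_ x (u_ a b) := by
  have hm := u_mem_of_mem (a := x) (u_mem a b)
  have key : ∀ g, u_ x (u_ a b) * g = g * u_ x (u_ a b) := by
    intro g
    rcases h with ⟨_, h⟩ | ⟨_, h⟩
    · rw [h, Subgroup.mem_bot] at hm
      simp [hm]
    · rw [← commutatorElement_eq_one_iff_mul_comm, ← Subgroup.mem_bot, ← h]
      exact Subgroup.commutator_mem_commutator hm (Subgroup.mem_top _)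
  exact ⟨key a, key⟩

theorem mul_pow_small {p : ℕ} [hp : Fact p.Prime] (h : SmallClass p G) (a b : G) :
    ∃ (i j k : ℕ), (a * b) ^ p = a ^ p * b ^ p * (u_ a b ^ p) ^ i *
      (u_ a (u_ a b) ^ p) ^ j * (u_ b (u_ a b) ^ p) ^ k := by
  have h1 := (central_of_small h a b a).2
  have h2 := (central_of_small h a b b).2
  have hf := mul_pow_class_three (mul_eq_u a b) (mul_eq_u a (u_ a b)) (mul_eq_u b (u_ a b)) h1 h2 p
  have hp2 : 2 < p := by
    rcases h with ⟨h, _⟩ | ⟨h, _⟩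
    · have := hp.out.two_le; omega
    · omega
  obtain ⟨c2, hc2⟩ := hp.out.dvd_choose_self (by norm_num) hp2
  rcases h with ⟨_, h⟩ | ⟨h3, _⟩
  · have hv : u_ a (u_ a b) = 1 := by
      rw [← Subgroup.mem_bot, ← h]; exact u_mem_of_mem (u_mem a b)
    have hw : u_ b (u_ a b) = 1 := by
      rw [← Subgroup.mem_bot, ← h]; exact u_mem_of_mem (u_mem a b)
    refine ⟨c2, 0, 0, ?_⟩
    rw [hf, hv, hw, hc2, pow_mul]
    simp
  · obtain ⟨c3, hc3⟩ := hp.out.dvd_choose_self (by norm_num) h3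
    refine ⟨c2, c3, c2 + 2 * c3, ?_⟩
    rw [hf, hc2, hc3, show p * c2 + 2 * (p * c3) = p * (c2 + 2 * c3) by ring, pow_mul, pow_mul,
      pow_mul]

/-- With the small class hypothesis, the elements of order dividing `p` are closed under product. -/
theorem mul_pow_eq_one {p : ℕ} [hp : Fact p.Prime] (h : SmallClass p G) {a b : G}
    (ha : a ^ p = 1) (hb : b ^ p = 1) : (a * b) ^ p = 1 := by
  have h1 := (central_of_small h a b a).2
  have h2 := (central_of_small h a b b).2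
  have hw : u_ b (u_ a b) ^ p = 1 := by
    have := collect_pow_u (mul_eq_u b (u_ a b)) h2 p
    rw [hb, mul_one, one_mul] at this
    exact left_eq_mul.mp this
  have hv : u_ a (u_ a b) ^ p = 1 := by
    have := collect_pow_u (mul_eq_u a (u_ a b)) h1 p
    rw [ha, mul_one, one_mul] at this
    exact left_eq_mul.mp this
  have hu : u_ a b ^ p = 1 := by
    have := collect_b_pow (mul_eq_u a b) (mul_eq_u b (u_ a b)) h2 p
    have hp2 : 2 < p := by
      rcases h with ⟨h, _⟩ | ⟨h, _⟩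
      · have := hp.out.two_le; omega
      · omega
    obtain ⟨c2, hc2⟩ := hp.out.dvd_choose_self (by norm_num) hp2
    rw [hb, one_mul, mul_one, hc2, pow_mul, hw, one_pow, mul_one] at this
    exact left_eq_mul.mp this
  obtain ⟨i, j, k, he⟩ := mul_pow_small h a b
  rw [he, ha, hb, hu, hv, hw]
  simp

theorem pow_eq_one_of_mem_closure {p : ℕ} [Fact p.Prime] (h : SmallClass p G) {g : G}
    (hg : g ∈ Subgroup.closure {x : G | x ^ p = 1}) : g ^ p = 1 := by
  induction hg using Subgroup.closure_induction with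
  | mem x hx => exact hx
  | one => exact one_pow _
  | mul x y _ _ hx hy => exact mul_pow_eq_one h hx hy
  | inv x _ hx => rw [inv_pow, hx, inv_one]

theorem mul_pow_of_derived {p : ℕ} [Fact p.Prime] (h : SmallClass p G)
    (hd : ∀ g ∈ commutator G, g ^ p = 1) (x y : G) : (x * y) ^ p = x ^ p * y ^ p := by
  obtain ⟨i, j, k, he⟩ := mul_pow_small h x y
  rw [he, hd _ (u_mem x y), hd _ (u_mem x (u_ x y)), hd _ (u_mem y (u_ x y))]
  simp

section Extraspecial

/-- An extraspecial-like subgroup over `Z`: commutators lie in `Z`, and the center is `Z`. -/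
structure Good (Z H : Subgroup G) : Prop where
  le : Z ≤ H
  comm : ∀ a ∈ H, ∀ b ∈ H, ⁅a, b⁆ ∈ Z
  central : ∀ z ∈ Z, ∀ h ∈ H, z * h = h * z
  center_le : ∀ z ∈ H, (∀ h ∈ H, z * h = h * z) → z ∈ Z

theorem comm_mul {Z : Subgroup G} {a b x : G} (h : ∀ z ∈ Z, z * a = a * z) (hb : ⁅b, x⁆ ∈ Z)
    (hzz : ∀ z ∈ Z, z * ⁅a, x⁆ = ⁅a, x⁆ * z) : ⁅a * b, x⁆ = ⁅a, x⁆ * ⁅b, x⁆ := by
  have : ⁅a * b, x⁆ = (a * ⁅b, x⁆ * a⁻¹) * ⁅a, x⁆ := by
    simp only [commutatorElement_def]; group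
  rw [this, ← h _ hb, mul_inv_cancel_right, hzz _ hb]

/-- The key step: splitting off a hyperbolic pair. -/
theorem exists_pair [Finite G] {p : ℕ} [hp : Fact p.Prime] {Z H : Subgroup G} (hg : Good Z H)
    (hZ : Nat.card Z = p) (hne : Z ≠ H) :
    ∃ x ∈ H, ∃ y ∈ H, ∃ H' : Subgroup G, H' ≤ H ∧ Good Z H' ∧
      Nat.card H = p ^ 2 * Nat.card H' ∧
      (∀ h ∈ H, (h ∈ H' ↔ h * x = x * h ∧ h * y = y * h)) ∧
      (∀ z₁ ∈ Z, ∀ z₂ ∈ Z, ∃ k ∈ H, ⁅k, x⁆ = z₁ ∧ ⁅k, y⁆ = z₂) ∧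
      (∀ K : Subgroup G, x ∈ K → y ∈ K → H' ≤ K → H ≤ K) := by
  obtain ⟨x, hxH, hxZ⟩ := SetLike.exists_of_lt (lt_of_le_of_ne hg.le hne)
  obtain ⟨y, hyH, hxy⟩ : ∃ y ∈ H, x * y ≠ y * x := by
    by_contra! hc
    exact hxZ (hg.center_le x hxH hc)
  have hzz : ∀ z ∈ Z, ∀ w ∈ Z, z * w = w * z := fun z hz w hw => hg.central z hz w (hg.le hw)
  have hmul : ∀ t ∈ H, ∀ a ∈ H, ∀ b ∈ H, ⁅a * b, t⁆ = ⁅a, t⁆ * ⁅b, t⁆ :=
    fun t ht a ha b hb => comm_mul (Z := Z) (fun z hz => hg.central z hz a ha)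
      (hg.comm b hb t ht) (fun z hz => hzz z hz _ (hg.comm a ha t ht))
  let φ : H →* Z × Z := MonoidHom.mk'
    (fun h => (⟨⁅(h : G), x⁆, hg.comm _ h.2 _ hxH⟩, ⟨⁅(h : G), y⁆, hg.comm _ h.2 _ hyH⟩))
    (fun a b => Prod.ext (Subtype.ext (hmul x hxH _ a.2 _ b.2))
      (Subtype.ext (hmul y hyH _ a.2 _ b.2)))
  have hd : (⟨⁅y, x⁆, hg.comm _ hyH _ hxH⟩ : Z) ≠ 1 := fun h => hxy
    (commutatorElement_eq_one_iff_mul_comm.mp (congrArg Subtype.val h)).symm
  have hd' : (⟨⁅x, y⁆, hg.comm _ hxH _ hyH⟩ : Z) ≠ 1 := fun h => hxy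
    (commutatorElement_eq_one_iff_mul_comm.mp (congrArg Subtype.val h))
  have hsurj : ∀ z₁ z₂ : Z, ∃ i j : ℤ, φ (⟨y, hyH⟩ ^ i * ⟨x, hxH⟩ ^ j) = (z₁, z₂) := by
    intro z₁ z₂
    obtain ⟨i, hi⟩ := (mem_zpowers_of_prime_card (g' := z₁) hZ hd)
    obtain ⟨j, hj⟩ := (mem_zpowers_of_prime_card (g' := z₂) hZ hd')
    refine ⟨i, j, ?_⟩
    have e1 : φ ⟨y, hyH⟩ = (⟨⁅y, x⁆, hg.comm _ hyH _ hxH⟩, 1) :=
      Prod.ext rfl (Subtype.ext (commutatorElement_self y))
    have e2 : φ ⟨x, hxH⟩ = (1, ⟨⁅x, y⁆, hg.comm _ hxH _ hyH⟩) :=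
      Prod.ext (Subtype.ext (commutatorElement_self x)) rfl
    rw [map_mul, map_zpow, map_zpow, e1, e2, ← hi, ← hj]
    simp [Prod.ext_iff]
  have hker : ∀ h ∈ H, (h ∈ φ.ker.map H.subtype ↔ h * x = x * h ∧ h * y = y * h) := by
    intro h hh
    rw [← commutatorElement_eq_one_iff_mul_comm, ← commutatorElement_eq_one_iff_mul_comm]
    constructor
    · rintro ⟨t, ht, rfl⟩
      exact ⟨congrArg (fun q : Z × Z => (q.1 : G)) ht, congrArg (fun q : Z × Z => (q.2 : G)) ht⟩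
    · rintro ⟨h1, h2⟩
      exact ⟨⟨h, hh⟩, Prod.ext (Subtype.ext h1) (Subtype.ext h2), rfl⟩
  refine ⟨x, hxH, y, hyH, φ.ker.map H.subtype, Subgroup.map_subtype_le _, ?_, ?_, hker, ?_, ?_⟩
  rotate_left
  · have hs : Function.Surjective φ := fun q => by
      obtain ⟨i, j, h⟩ := hsurj q.1 q.2
      exact ⟨_, h⟩
    rw [Subgroup.card_map_of_injective H.subtype_injective, ← Subgroup.card_mul_index φ.ker,
      Subgroup.index_ker, MonoidHom.range_eq_top.mpr hs, Subgroup.card_top, Nat.card_prod, hZ]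
    ring
  · intro z₁ hz₁ z₂ hz₂
    obtain ⟨i, j, h⟩ := hsurj ⟨z₁, hz₁⟩ ⟨z₂, hz₂⟩
    exact ⟨((⟨y, hyH⟩ : H) ^ i * ⟨x, hxH⟩ ^ j).1, ((⟨y, hyH⟩ : H) ^ i * ⟨x, hxH⟩ ^ j).2,
      congrArg (fun q : Z × Z => (q.1 : G)) h, congrArg (fun q : Z × Z => (q.2 : G)) h⟩
  · intro K hxK hyK hK h hh
    obtain ⟨i, j, he⟩ := hsurj (φ ⟨h, hh⟩).1 (φ ⟨h, hh⟩).2
    have hk : ((⟨y, hyH⟩ : H) ^ i * ⟨x, hxH⟩ ^ j)⁻¹ * ⟨h, hh⟩ ∈ φ.ker := by
      rw [MonoidHom.mem_ker, map_mul, map_inv, he, inv_mul_cancel]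
    have h1 : ((y ^ i * x ^ j)⁻¹ * h) ∈ K := hK ⟨_, hk, by simp⟩
    have h2 := K.mul_mem (K.mul_mem (K.zpow_mem hyK i) (K.zpow_mem hxK j)) h1
    rwa [mul_inv_cancel_left] at h2
  · have hsub : φ.ker.map H.subtype ≤ H := Subgroup.map_subtype_le _
    refine ⟨fun z hz => (hker z (hg.le hz)).mpr ⟨hg.central z hz x hxH, hg.central z hz y hyH⟩,
      fun a ha b hb => hg.comm a (hsub ha) b (hsub hb),
      fun z hz h hh => hg.central z hz h (hsub hh), fun z hz hc => ?_⟩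
    refine hg.center_le z (hsub hz) fun h hh => ?_
    obtain ⟨i, j, he⟩ := hsurj (φ ⟨h, hh⟩).1 (φ ⟨h, hh⟩).2
    have hk : ((⟨y, hyH⟩ : H) ^ i * ⟨x, hxH⟩ ^ j)⁻¹ * ⟨h, hh⟩ ∈ φ.ker := by
      rw [MonoidHom.mem_ker, map_mul, map_inv, he, inv_mul_cancel]
    have h1 : Commute z ((y ^ i * x ^ j)⁻¹ * h) := hc _ ⟨_, hk, by simp⟩
    obtain ⟨hzx, hzy⟩ := (hker z (hsub hz)).mp hz
    have h2 := ((Commute.zpow_right hzy i).mul_right (Commute.zpow_right hzx j)).mul_right h1
    rwa [mul_inv_cancel_left] at h2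

theorem good_card [Finite G] {p : ℕ} [hp : Fact p.Prime] {Z : Subgroup G} (hZ : Nat.card Z = p)
    {H : Subgroup G} (hg : Good Z H) : ∃ n : ℕ, Nat.card H = p ^ (2 * n + 1) := by
  induction hN : Nat.card H using Nat.strong_induction_on generalizing H with
  | _ N ih =>
    subst hN
    by_cases hne : Z = H
    · exact ⟨0, by rw [← hne, hZ]; ring⟩
    · obtain ⟨x, _, y, _, H', _, hg', hcard, _⟩ := exists_pair hg hZ hne
      have h1 : Nat.card H' < Nat.card H := by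
        rw [hcard]
        exact lt_mul_of_one_lt_left Nat.card_pos (Nat.one_lt_pow (by norm_num) hp.out.one_lt)
      obtain ⟨n, hn⟩ := ih _ h1 hg' rfl
      exact ⟨n + 1, by rw [hcard, hn, ← pow_add]; ring_nf⟩

/-- Elements inducing central commutators on a good subgroup are inner modulo its centralizer. -/
theorem good_inner [Finite G] {p : ℕ} [hp : Fact p.Prime] {Z : Subgroup G} (hZ : Nat.card Z = p)
    {H : Subgroup G} (hg : Good Z H) :
    ∀ g : G, (∀ h ∈ H, ⁅g, h⁆ ∈ Z) → (∀ z ∈ Z, g * z = z * g) →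
      ∃ k ∈ H, ∀ h ∈ H, (k⁻¹ * g) * h = h * (k⁻¹ * g) := by
  induction hN : Nat.card H using Nat.strong_induction_on generalizing H with
  | _ N ih =>
    subst hN
    intro g hgZ hgc
    by_cases hne : Z = H
    · exact ⟨1, H.one_mem, fun h hh => by simpa using hgc h (hne ▸ hh)⟩
    · obtain ⟨x, hx, y, hy, H', hle, hg', hcard, hH', hex, hgen⟩ := exists_pair hg hZ hne
      obtain ⟨k₁, hk₁, e1, e2⟩ := hex _ (hgZ x hx) _ (hgZ y hy)
      have hzz : ∀ z ∈ Z, ∀ t ∈ Z, z * t = t * z := fun z hz t ht => hg.central z hz t (hg.le ht)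
      have hk₁' := H.inv_mem hk₁
      have hmul : ∀ h ∈ H, ⁅k₁⁻¹ * g, h⁆ = ⁅k₁⁻¹, h⁆ * ⁅g, h⁆ := fun h hh =>
        comm_mul (Z := Z) (fun z hz => hg.central z hz _ hk₁') (hgZ h hh)
          (fun z hz => hzz z hz _ (hg.comm _ hk₁' h hh))
      have hcom : ∀ h ∈ H, ⁅k₁, h⁆ = ⁅g, h⁆ → (k₁⁻¹ * g) * h = h * (k₁⁻¹ * g) := by
        intro h hh he
        rw [← commutatorElement_eq_one_iff_mul_comm, hmul h hh, ← he,
          ← comm_mul (Z := Z) (fun z hz => hg.central z hz _ hk₁') (hg.comm _ hk₁ h hh)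
            (fun z hz => hzz z hz _ (hg.comm _ hk₁' h hh)), inv_mul_cancel, commutatorElement_one_left]
      have hlt : Nat.card H' < Nat.card H := by
        rw [hcard]
        exact lt_mul_of_one_lt_left Nat.card_pos (Nat.one_lt_pow (by norm_num) hp.out.one_lt)
      obtain ⟨k₂, hk₂, hc₂⟩ := ih _ hlt hg' rfl (k₁⁻¹ * g)
        (fun h hh => by
          rw [hmul h (hle hh)]
          exact Z.mul_mem (hg.comm _ hk₁' h (hle hh)) (hgZ h (hle hh)))
        (fun z hz => by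
          rw [mul_assoc, hgc z hz, ← mul_assoc, ← hg.central z hz _ hk₁', mul_assoc])
      refine ⟨k₁ * k₂, H.mul_mem hk₁ (hle hk₂), ?_⟩
      have he : (k₁ * k₂)⁻¹ * g = k₂⁻¹ * (k₁⁻¹ * g) := by group
      obtain ⟨hkx, hky⟩ := (hH' k₂ (hle hk₂)).mp hk₂
      have hK : H ≤ Subgroup.centralizer {k₂⁻¹ * (k₁⁻¹ * g)} := by
        refine hgen _ ?_ ?_ (fun t ht => ?_)
        · exact Subgroup.mem_centralizer_singleton_iff.mpr
            ((Commute.inv_left hkx).mul_left (hcom x hx e1)).eq.symm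
        · exact Subgroup.mem_centralizer_singleton_iff.mpr
            ((Commute.inv_left hky).mul_left (hcom y hy e2)).eq.symm
        · exact Subgroup.mem_centralizer_singleton_iff.mpr (hc₂ t ht).symm
      intro h hh
      rw [he]
      exact (Subgroup.mem_centralizer_singleton_iff.mp (hK hh)).symm

end Extraspecial

end Cfsg.Agent.Transfer.PGroups
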