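import Mathlib
import Cfsg.Agent.Lib.Grp.CoprimeAbelian
import Cfsg.Agent.Lib.Grp.Signalizer
import Cfsg.Agent.Lib.Transfer.PGroups

/-! A `p'`-group normalized by a `p`-group `E` and centralizing the fixed points of `E` on a
`p`-group `R` centralizes `R`, for `p` odd or under a class two condition. -/

set_option autoImplicit false

open scoped commutatorElement

namespace Cfsg.Agent.Transfer.FixedPointLemma

universe u

section Baer

variable {R : Type u} [Group R]

/-- Data for the Baer construction on a group of class two. -/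
structure Data (R : Type u) [Group R] where
  h : ℕ
  central : ∀ a b c : R, ⁅a, b⁆ * c = c * ⁅a, b⁆
  half : ∀ a b : R, ⁅a, b⁆ ^ (2 * h) = ⁅a, b⁆

/-- The abelian group on `R` of the Baer construction. -/
structure BaerGroup (d : Data R) where
  val : R

namespace BaerGroup

variable {d : Data R}

instance : Mul (BaerGroup d) := ⟨fun a b => ⟨a.val * b.val * ⁅b.val, a.val⁆ ^ d.h⟩⟩
instance : One (BaerGroup d) := ⟨⟨1⟩⟩
instance : Inv (BaerGroup d) := ⟨fun a => ⟨a.val⁻¹⟩⟩

@[simp] theorem val_mul (a b : BaerGroup d) :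
    (a * b).val = a.val * b.val * ⁅b.val, a.val⁆ ^ d.h := rfl
@[simp] theorem val_one : (1 : BaerGroup d).val = 1 := rfl
@[simp] theorem val_inv (a : BaerGroup d) : a⁻¹.val = a.val⁻¹ := rfl

@[ext] theorem ext {a b : BaerGroup d} (h : a.val = b.val) : a = b := by
  cases a; cases b; cases h; rfl

theorem comm_central (d : Data R) (a b : R) (k : ℕ) (c : R) :
    ⁅a, b⁆ ^ k * c = c * ⁅a, b⁆ ^ k :=
  (Commute.pow_left (d.central a b c) k).eq

theorem comm_mul_left (d : Data R) (a b x : R) : ⁅a * b, x⁆ = ⁅a, x⁆ * ⁅b, x⁆ := by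
  have : ⁅a * b, x⁆ = a * ⁅b, x⁆ * a⁻¹ * ⁅a, x⁆ := by
    simp only [commutatorElement_def]; group
  rw [this, ← d.central b x a, mul_inv_cancel_right, d.central]

theorem comm_mul_right (d : Data R) (a b x : R) : ⁅x, a * b⁆ = ⁅x, a⁆ * ⁅x, b⁆ := by
  rw [← commutatorElement_inv, comm_mul_left d, mul_inv_rev, commutatorElement_inv,
    commutatorElement_inv, d.central]

theorem comm_of_central (d : Data R) (a b c x : R) (k : ℕ) :
    ⁅⁅a, b⁆ ^ k, x⁆ = 1 ∧ ⁅c, ⁅a, b⁆ ^ k⁆ = 1 :=
  ⟨commutatorElement_eq_one_iff_mul_comm.mpr (comm_central d a b k x),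
    commutatorElement_eq_one_iff_mul_comm.mpr (comm_central d a b k c).symm⟩

instance : CommGroup (BaerGroup d) where
  mul_assoc a b c := by
    ext
    simp only [val_mul]
    rw [comm_mul_right d (a.val * b.val), comm_mul_right d a.val,
      (comm_of_central d b.val a.val c.val 1 d.h).2, mul_one, comm_mul_left d (b.val * c.val),
      comm_mul_left d b.val, (comm_of_central d c.val b.val 1 a.val d.h).1, mul_one,
      (Commute.mul_pow (d.central c.val a.val ⁅c.val, b.val⁆)),
      (Commute.mul_pow (d.central b.val a.val ⁅c.val, a.val⁆))]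
    rw [show a.val * b.val * ⁅b.val, a.val⁆ ^ d.h * c.val =
      a.val * b.val * c.val * ⁅b.val, a.val⁆ ^ d.h by
        rw [mul_assoc, comm_central d, ← mul_assoc]]
    simp only [mul_assoc]
    rw [comm_central d c.val b.val d.h (⁅b.val, a.val⁆ ^ d.h * ⁅c.val, a.val⁆ ^ d.h)]
    simp only [mul_assoc]
  one_mul a := by ext; simp
  mul_one a := by ext; simp
  inv_mul_cancel a := by
    ext
    have : ⁅a.val, a.val⁻¹⁆ = 1 := by simp [commutatorElement_def]
    simp [this]
  mul_comm a b := by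
    ext
    simp only [val_mul]
    have h1 : a.val * b.val = ⁅a.val, b.val⁆ * (b.val * a.val) := by
      simp [commutatorElement_def, mul_assoc]
    have h2 : ⁅b.val, a.val⁆ ^ d.h * ⁅a.val, b.val⁆ = ⁅a.val, b.val⁆ ^ d.h := by
      conv_lhs => rw [← d.half a.val b.val, ← commutatorElement_inv a.val b.val, inv_pow, two_mul,
        pow_add, inv_mul_cancel_left]
    rw [h1, d.central a.val b.val (b.val * a.val), mul_assoc (b.val * a.val),
      d.central a.val b.val (⁅b.val, a.val⁆ ^ d.h), h2]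

/-- Automorphisms of `R` act on the Baer group. -/
def lift (d : Data R) : MulAut R →* MulAut (BaerGroup d) where
  toFun f :=
    { toFun := fun a => ⟨f a.val⟩
      invFun := fun a => ⟨f.symm a.val⟩
      left_inv := fun a => by ext; simp
      right_inv := fun a => by ext; simp
      map_mul' := fun a b => by ext; simp [map_mul, map_pow, map_commutatorElement] }
  map_one' := rfl
  map_mul' f g := rfl

/-- `BaerGroup d` has the same carrier as `R`. -/
def equivVal (d : Data R) : BaerGroup d ≃ R :=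
  ⟨fun a => a.val, fun r => ⟨r⟩, fun _ => rfl, fun _ => rfl⟩

end BaerGroup

end Baer

/-- The abelian case. -/
theorem abelian_case {A Y E : Type*} [CommGroup A] [Finite A] [Group Y] [Finite Y] [Group E]
    [Finite E] {p : ℕ} [hp : Fact p.Prime] (hA : IsPGroup p A) (hE : IsPGroup p E)
    (hY : (Nat.card Y).Coprime p) (φ : Y →* MulAut A) (ψ : E →* MulAut A) (σ : E → Y ≃ Y)
    (hcompat : ∀ e y a, ψ e (φ y a) = φ (σ e y) (ψ e a))
    (hfix : ∀ a, (∀ e, ψ e a = a) → ∀ y, φ y a = a) : ∀ y a, φ y a = a := by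
  classical
  letI := Fintype.ofFinite Y
  let N : A →* A := MonoidHom.mk' (fun a => ∏ y : Y, φ y a) fun a b => by
    simp [map_mul, Finset.prod_mul_distrib]
  have hNe : ∀ e a, ψ e (N a) = N (ψ e a) := by
    intro e a
    simp only [N, MonoidHom.mk'_apply, map_prod, hcompat]
    exact Equiv.prod_comp (σ e) (fun y => φ y (ψ e a))
  have hNy : ∀ y a, N (φ y a) = N a := by
    intro y a
    simp only [N, MonoidHom.mk'_apply]
    exact Fintype.prod_equiv (Equiv.mulRight y) _ _ fun x => by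
      rw [Equiv.coe_mulRight, map_mul, MulAut.mul_apply]
  letI : MulAction E N.ker :=
    { smul := fun e a => ⟨ψ e a.1, by rw [MonoidHom.mem_ker, ← hNe, a.2, map_one]⟩
      one_smul := fun a => Subtype.ext (show ψ 1 a.1 = a.1 by rw [map_one]; rfl)
      mul_smul := fun e f a => Subtype.ext (show ψ (e * f) a.1 = ψ e (ψ f a.1) by rw [map_mul]; rfl) }
  have hker : N.ker = ⊥ := by
    by_contra hne
    obtain ⟨k, hk⟩ := IsPGroup.iff_card.mp (hA.to_subgroup N.ker)
    rcases k with - | k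
    · exact hne (Subgroup.card_eq_one.mp (by rw [hk, pow_zero]))
    obtain ⟨b, hb, hb1⟩ := hE.exists_fixed_point_of_prime_dvd_card_of_fixed_point (α := N.ker)
      (hk ▸ dvd_pow_self p (Nat.succ_ne_zero k)) (a := (1 : N.ker))
      (fun e => Subtype.ext (map_one (ψ e)))
    apply hb1
    have hfx : ∀ y, φ y b.1 = b.1 := hfix b.1 fun e => congrArg Subtype.val (hb e)
    have h1 : b.1 ^ Nat.card Y = 1 := by
      have := b.2
      rw [MonoidHom.mem_ker] at this
      simp only [N, MonoidHom.mk'_apply, hfx, Finset.prod_const, Finset.card_univ] at this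
      rwa [Nat.card_eq_fintype_card]
    obtain ⟨j, hj⟩ := hA b.1
    have := Nat.dvd_gcd (orderOf_dvd_of_pow_eq_one hj) (orderOf_dvd_of_pow_eq_one h1)
    rw [(hY.symm.pow_left j : (p ^ j).Coprime (Nat.card Y)), Nat.dvd_one, orderOf_eq_one_iff] at this
    exact Subtype.ext this.symm
  intro y a
  have : φ y a * a⁻¹ ∈ N.ker := by rw [MonoidHom.mem_ker, map_mul, map_inv, hNy, mul_inv_cancel]
  rwa [hker, Subgroup.mem_bot, mul_inv_eq_one] at this

variable {G : Type u} [Group G] [Finite G] {p : ℕ} [hp : Fact p.Prime]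

theorem odd_case (hp2 : p ≠ 2) (E Y : Subgroup G) (hE : IsPGroup p E)
    (hY : (Nat.card Y).Coprime p) (hEY : E ≤ Subgroup.normalizer (Y : Set G)) :
    ∀ R : Subgroup G, IsPGroup p R → E ≤ Subgroup.normalizer (R : Set G) →
      Y ≤ Subgroup.normalizer (R : Set G) →
      R ⊓ Subgroup.centralizer (E : Set G) ≤ Subgroup.centralizer (Y : Set G) →
      Y ≤ Subgroup.centralizer (R : Set G) := by
  intro R
  induction R using (wellFounded_lt (α := Subgroup G)).induction with
  | _ R ih =>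
  intro hR hER hYR hC
  obtain ⟨n, hn⟩ := IsPGroup.iff_card.mp hR
  have hcop : (Nat.card Y).Coprime (Nat.card R) := by rw [hn]; exact hY.pow_right n
  have hRsolv : Group.IsSolvable Y ∨ Group.IsSolvable R :=
    Or.inr (have := hR.isNilpotent; inferInstance)
  have conj_comm : ∀ (A B T : Subgroup G), T ≤ Subgroup.normalizer (A : Set G) →
      T ≤ Subgroup.normalizer (B : Set G) →
      T ≤ Subgroup.normalizer ((⁅A, B⁆ : Subgroup G) : Set G) := by
    intro A B T hA hB t ht
    rw [Grp.mem_normalizer_iff_smul, ← Grp.map_conj_eq_smul, Subgroup.map_commutator,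
      Grp.map_conj_eq_smul, Grp.map_conj_eq_smul, Grp.normalizer_le_smul hA ht,
      Grp.normalizer_le_smul hB ht]
  have small : ∀ W : Subgroup G, W ≤ R → W ≠ R → E ≤ Subgroup.normalizer (W : Set G) →
      Y ≤ Subgroup.normalizer (W : Set G) → ⁅W, Y⁆ = ⊥ := by
    intro W hW hne hEW hYW
    rw [Subgroup.commutator_comm, Subgroup.commutator_eq_bot_iff_le_centralizer]
    exact ih W (lt_of_le_of_ne hW hne) (hR.to_le hW) hEW hYW ((inf_le_inf_right _ hW).trans hC)
  by_cases hRY : ⁅R, Y⁆ = R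
  swap
  · have h := small ⁅R, Y⁆ (Grp.commutator_le_left_of_le_normalizer hYR) hRY
      (conj_comm R Y E hER hEY) (conj_comm R Y Y hYR Subgroup.le_normalizer)
    rw [Grp.commutator_commutator_eq Y R hYR hcop hRsolv, Subgroup.commutator_comm] at h
    exact Subgroup.commutator_eq_bot_iff_le_centralizer.mp h
  by_cases hbot : R = ⊥
  · subst hbot
    exact Subgroup.le_centralizer_iff.mp bot_le
  have hDle : ⁅R, R⁆ ≤ R := Subgroup.commutator_le_self R
  have hDne : ⁅R, R⁆ ≠ R := by
    intro he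
    haveI := hR.isNilpotent
    haveI : Nontrivial R := (Subgroup.nontrivial_iff_ne_bot R).mpr hbot
    have h1 : (commutator R).map R.subtype = R := by rw [Subgroup.map_subtype_commutator, he]
    have h2 : commutator R = ⊤ := Subgroup.map_injective R.subtype_injective
      (by rw [h1, ← MonoidHom.range_eq_map, Subgroup.range_subtype])
    have h3 : commutator R ≠ ⊤ := (Group.IsSolvable.commutator_lt_top_of_nontrivial (G := R)).ne
    exact h3 h2
  have hDY := small ⁅R, R⁆ hDle hDne (conj_comm R R E hER hER) (conj_comm R R Y hYR hYR)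
  have hRD : ⁅R, ⁅R, R⁆⁆ = ⊥ := by
    have h1 : ⁅⁅Y, ⁅R, R⁆⁆, R⁆ = ⊥ := by
      rw [Subgroup.commutator_comm Y, hDY, Subgroup.commutator_bot_left]
    have h2 : ⁅⁅⁅R, R⁆, R⁆, Y⁆ = ⊥ := le_bot_iff.mp (hDY ▸ Subgroup.commutator_mono
      (Subgroup.commutator_mono hDle le_rfl) le_rfl)
    have h3 := Subgroup.commutator_commutator_eq_bot_of_rotate h1 h2
    rwa [hRY] at h3
  have hcentral : ∀ a b c : R, ⁅a, b⁆ * c = c * ⁅a, b⁆ := by
    intro a b c
    have h := Subgroup.commutator_mem_commutator c.2 (Subgroup.commutator_mem_commutator a.2 b.2)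
    rw [hRD, Subgroup.mem_bot, commutatorElement_eq_one_iff_mul_comm] at h
    exact Subtype.ext (by simpa [commutatorElement_def] using h.symm)
  have hoddc : Odd (Nat.card R) := by rw [hn]; exact (hp.out.odd_of_ne_two hp2).pow
  obtain ⟨k, hk⟩ := hoddc
  let d : Data R :=
    ⟨k + 1, hcentral, fun a b => by
      rw [show 2 * (k + 1) = Nat.card R + 1 by omega, pow_succ, pow_card_eq_one', one_mul]⟩
  haveI : Finite (BaerGroup d) := Finite.of_equiv R (BaerGroup.equivVal d).symm
  have hA : IsPGroup p (BaerGroup d) :=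
    IsPGroup.iff_card.mpr ⟨n, by rw [Nat.card_congr (BaerGroup.equivVal d), hn]⟩
  let φ : Y →* MulAut (BaerGroup d) :=
    ((BaerGroup.lift d).comp R.normalizerMonoidHom).comp (Subgroup.inclusion hYR)
  let ψ : E →* MulAut (BaerGroup d) :=
    ((BaerGroup.lift d).comp R.normalizerMonoidHom).comp (Subgroup.inclusion hER)
  let σ : E → Y ≃ Y := fun e =>
    ⟨fun y => ⟨(e : G) * y * (e : G)⁻¹, (Subgroup.mem_normalizer_iff.mp (hEY e.2) y).mp y.2⟩,
      fun y => ⟨(e : G)⁻¹ * y * e, by
        simpa using (Subgroup.mem_normalizer_iff.mp (hEY (E.inv_mem e.2)) y).mp y.2⟩,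
      fun y => Subtype.ext (by simp [mul_assoc]), fun y => Subtype.ext (by simp [mul_assoc])⟩
  have happly : ∀ (y : Y) (a : BaerGroup d),
      ((φ y a).val : G) = (y : G) * a.val * (y : G)⁻¹ := fun _ _ => rfl
  have happly' : ∀ (e : E) (a : BaerGroup d),
      ((ψ e a).val : G) = (e : G) * a.val * (e : G)⁻¹ := fun _ _ => rfl
  have key := abelian_case hA hE hY φ ψ σ (fun e y a => by
    ext
    rw [happly', happly, happly, happly']
    simp [σ, mul_assoc]) (fun a ha y => by
    ext
    rw [happly]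
    have hac : (a.val : G) ∈ R ⊓ Subgroup.centralizer (E : Set G) :=
      ⟨a.val.2, Subgroup.mem_centralizer_iff.mpr fun e he => by
        have := congrArg (fun b => ((BaerGroup.val b : R) : G)) (ha ⟨e, he⟩)
        simp only [happly'] at this
        exact mul_inv_eq_iff_eq_mul.mp this⟩
    rw [Subgroup.mem_centralizer_iff.mp (hC hac) y y.2, mul_inv_cancel_right])
  intro y hy
  refine Subgroup.mem_centralizer_iff.mpr fun r hr => ?_
  have := congrArg (fun b => ((BaerGroup.val b : R) : G)) (key ⟨y, hy⟩ ⟨⟨r, hr⟩⟩)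
  simp only [happly] at this
  exact (mul_inv_eq_iff_eq_mul.mp this).symm

omit [Finite G] in
theorem mem_normalizer_centralizer_of {R : Subgroup G} {g : G}
    (hg : g ∈ Subgroup.normalizer (R : Set G)) :
    g ∈ Subgroup.normalizer ((Subgroup.centralizer (R : Set G) : Subgroup G) : Set G) := by
  have key : ∀ g ∈ Subgroup.normalizer (R : Set G), ∀ x ∈ Subgroup.centralizer (R : Set G),
      g * x * g⁻¹ ∈ Subgroup.centralizer (R : Set G) := by
    intro g hg x hx
    rw [Subgroup.mem_centralizer_iff]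
    intro r hr
    have h' := Subgroup.mem_centralizer_iff.mp hx (g⁻¹ * r * g)
      (by simpa using (Subgroup.mem_normalizer_iff.mp (inv_mem hg) r).mp hr)
    calc r * (g * x * g⁻¹) = g * ((g⁻¹ * r * g) * x) * g⁻¹ := by group
      _ = g * x * g⁻¹ * r := by rw [h']; group
  rw [Subgroup.mem_normalizer_iff]
  intro x
  refine ⟨key g hg x, fun hx => ?_⟩
  simpa [mul_assoc] using key g⁻¹ (inv_mem hg) _ hx

theorem class_two_case (E Y : Subgroup G) (hE : IsPGroup p E) (hY : (Nat.card Y).Coprime p)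
    (hEY : E ≤ Subgroup.normalizer (Y : Set G)) (R : Subgroup G) (hR : IsPGroup p R)
    (hER : E ≤ Subgroup.normalizer (R : Set G)) (hYR : Y ≤ Subgroup.normalizer (R : Set G))
    (hC : R ⊓ Subgroup.centralizer (E : Set G) ≤ Subgroup.centralizer (Y : Set G))
    (hcl : ∀ r ∈ R, ∀ e ∈ E, ∀ x, x ∈ R ∨ x ∈ E → ⁅e, r⁆ * x = x * ⁅e, r⁆) :
    Y ≤ Subgroup.centralizer (R : Set G) := by
  obtain ⟨n, hn⟩ := IsPGroup.iff_card.mp hR
  have hcR : ∀ r ∈ R, ∀ e ∈ E, ⁅e, r⁆ ∈ R := fun r hr e he =>
    R.mul_mem ((Subgroup.mem_normalizer_iff.mp (hER he) r).mp hr) (R.inv_mem hr)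
  have hfix : ∀ r ∈ R, ∀ e ∈ E, ∀ y ∈ Y, ⁅e, r⁆ * y = y * ⁅e, r⁆ := fun r hr e he y hy =>
    (Subgroup.mem_centralizer_iff.mp (hC ⟨hcR r hr e he, Subgroup.mem_centralizer_iff.mpr
      fun x hx => (hcl r hr e he x (Or.inr hx)).symm⟩) y hy).symm
  set Y₀ := Y ⊓ Subgroup.centralizer (R : Set G)
  have hcomm : ∀ y ∈ Y, ∀ e ∈ E, e * y * e⁻¹ * y⁻¹ ∈ Y₀ := by
    intro y hy e he
    have hy' : e * y * e⁻¹ ∈ Y := (Subgroup.mem_normalizer_iff.mp (hEY he) y).mp hy
    refine ⟨Y.mul_mem hy' (Y.inv_mem hy), Subgroup.mem_centralizer_iff.mpr fun r hr => ?_⟩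
    set y' := e * y * e⁻¹
    set w := y' * y⁻¹
    have hw : w ∈ Y := Y.mul_mem hy' (Y.inv_mem hy)
    have hr₁ : y⁻¹ * r * y ∈ R := by
      simpa using (Subgroup.mem_normalizer_iff.mp (hYR (Y.inv_mem hy)) r).mp hr
    set r₁ := y⁻¹ * r * y
    set c := ⁅e, r₁⁆
    set c' := ⁅e, r⁆
    have hcy : c * y' = y' * c := hfix r₁ hr₁ e he y' hy'
    have hz : w * r * w⁻¹ = c⁻¹ * c' * r := by
      calc w * r * w⁻¹ = y' * r₁ * y'⁻¹ := by simp only [w, r₁]; group
        _ = c⁻¹ * (y' * (c * r₁) * y'⁻¹) := by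
            rw [show y' * (c * r₁) * y'⁻¹ = (y' * c) * r₁ * y'⁻¹ by group, ← hcy]; group
        _ = c⁻¹ * c' * r := by
            rw [show y' * (c * r₁) * y'⁻¹ = c' * r by
              simp only [y', r₁, c, c', commutatorElement_def]; group]
            group
    set z := c⁻¹ * c'
    have hwz : w * z = z * w := by
      have h1 : Commute c w := hfix r₁ hr₁ e he w hw
      have h2 : Commute c' w := hfix r hr e he w hw
      exact ((h1.inv_left).mul_left h2).symm.eq
    have hiter : ∀ m : ℕ, w ^ m * r * (w ^ m)⁻¹ = z ^ m * r := by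
      intro m
      induction m with
      | zero => simp
      | succ m ih =>
        calc w ^ (m + 1) * r * (w ^ (m + 1))⁻¹ = w * (w ^ m * r * (w ^ m)⁻¹) * w⁻¹ := by
              rw [pow_succ']; group
          _ = z ^ m * (w * r * w⁻¹) := by
              have hwm : Commute w (z ^ m) := Commute.pow_right hwz m
              rw [ih, ← mul_assoc w, hwm.eq]; group
          _ = z ^ (m + 1) * r := by rw [hz, pow_succ]; simp only [z, mul_assoc]
    have hzR : z ∈ R := R.mul_mem (R.inv_mem (hcR r₁ hr₁ e he)) (hcR r hr e he)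
    have h1 := hiter (Nat.card Y)
    have hw1 : w ^ Nat.card Y = 1 := by
      exact congrArg Subtype.val (pow_card_eq_one' (x := (⟨w, hw⟩ : Y)))
    rw [hw1, one_mul, inv_one, mul_one, eq_comm, mul_eq_right] at h1
    have h2 : z ^ Nat.card R = 1 := by
      exact congrArg Subtype.val (pow_card_eq_one' (x := (⟨z, hzR⟩ : R)))
    have hg := Nat.dvd_gcd (orderOf_dvd_of_pow_eq_one h1) (orderOf_dvd_of_pow_eq_one h2)
    rw [(hn ▸ hY.pow_right n : (Nat.card Y).Coprime (Nat.card R)), Nat.dvd_one,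
      orderOf_eq_one_iff] at hg
    rw [hg, one_mul, mul_inv_eq_iff_eq_mul] at hz
    exact hz.symm
  have hinf : E ⊓ Y = ⊥ := Grp.inf_eq_bot_of_coprime (by
    obtain ⟨m, hm⟩ := IsPGroup.iff_card.mp hE
    rw [hm]; exact (hY.symm).pow_left m)
  have hY₀n : Y ≤ Subgroup.normalizer (Y₀ : Set G) := by
    intro y hy
    rw [Subgroup.mem_normalizer_iff]
    have hcN : ∀ g ∈ Subgroup.normalizer (R : Set G), ∀ x ∈ Subgroup.centralizer (R : Set G),
        g * x * g⁻¹ ∈ Subgroup.centralizer (R : Set G) := by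
      intro g hg x hx
      rw [Subgroup.mem_centralizer_iff]
      intro r hr
      have h' := Subgroup.mem_centralizer_iff.mp hx (g⁻¹ * r * g)
        (by simpa using (Subgroup.mem_normalizer_iff.mp (inv_mem hg) r).mp hr)
      calc r * (g * x * g⁻¹) = g * ((g⁻¹ * r * g) * x) * g⁻¹ := by group
        _ = g * x * g⁻¹ * r := by rw [h']; group
    intro x
    refine ⟨fun hx => ⟨Y.mul_mem (Y.mul_mem hy hx.1) (Y.inv_mem hy), hcN y (hYR hy) x hx.2⟩,
      fun hx => ?_⟩
    have e : x = y⁻¹ * (y * x * y⁻¹) * y⁻¹⁻¹ := by group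
    rw [e]
    exact ⟨Y.mul_mem (Y.mul_mem (Y.inv_mem hy) hx.1) (Y.inv_mem (Y.inv_mem hy)),
      hcN _ (inv_mem (hYR hy)) _ hx.2⟩
  have hEC : ∀ e ∈ E, e ∈ Subgroup.normalizer
      ((Subgroup.centralizer (R : Set G) : Subgroup G) : Set G) := fun e he =>
    mem_normalizer_centralizer_of (hER he)
  have hEY₀ : E ≤ Subgroup.normalizer (Y₀ : Set G) := by
    refine Grp.le_normalizer_inf' hEY fun e he => ?_
    exact hEC e he
  have hsolv : Group.IsSolvable E := by have := hE.isNilpotent; infer_instance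
  have hQ : Y ≤ Subgroup.centralizer (R : Set G) := by
    intro y hy
    obtain ⟨c, hc, hc'⟩ := Grp.exists_fixed_rep E Y Y₀ hEY hinf
      (by
        obtain ⟨m, hm⟩ := IsPGroup.iff_card.mp hE
        rw [hm]
        exact ((hY.coprime_dvd_left (Subgroup.card_dvd_of_le inf_le_left)).symm).pow_left m)
      (Or.inl hsolv) inf_le_left hY₀n hEY₀ hy (hcomm y hy)
    have hQc : Y ⊓ Subgroup.centralizer (E : Set G) ≤ Subgroup.centralizer (R : Set G) :=
      Grp.thompson_PQ E (Y ⊓ Subgroup.centralizer (E : Set G)) hE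
        (hY.coprime_dvd_left (Subgroup.card_dvd_of_le inf_le_left))
        (Subgroup.le_centralizer_iff.mp inf_le_right) R hR hER (inf_le_left.trans hYR)
        (hC.trans (Subgroup.centralizer_le inf_le_left))
    have hyc : y = c * (y⁻¹ * c)⁻¹ := by group
    rw [hyc]
    exact mul_mem (hQc hc) (inv_mem hc'.2)
  exact hQ

end Cfsg.Agent.Transfer.FixedPointLemma
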