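import Mathlib
import Cfsg.Prelude.Def_Local
import Cfsg.Prelude.Def_OddOrderLocal
import Cfsg.Agent.Lib.Transfer.FixedPointLemma
import Cfsg.Agent.Lib.Transfer.Elements
import Cfsg.Agent.Lib.Grp.SignalizerTransitive
import Cfsg.Agent.Lib.Grp.PComponents

/-! Thompson's transitivity theorem with `p`-constrained locals. -/

set_option autoImplicit false

open scoped commutatorElement Pointwise

namespace Cfsg.Agent.Transfer.Transitivity

open Cfsg.Agent.Grp

universe u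

section Quotient

variable {H : Type u} [Group H] [Finite H] {p : ℕ} [hp : Fact p.Prime]

theorem centralizer_pCore_quotient (hH : Cfsg.IsPConstrained p H) :
    Subgroup.centralizer (Cfsg.pCore p (H ⧸ Cfsg.pPrimeCore p H) : Set (H ⧸ Cfsg.pPrimeCore p H)) ≤
      Cfsg.pCore p (H ⧸ Cfsg.pPrimeCore p H) := by
  set Y := Cfsg.pPrimePCore p H
  set f := QuotientGroup.mk' (Cfsg.pPrimeCore p H) with hf
  have hfs : Function.Surjective f := QuotientGroup.mk'_surjective _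
  obtain ⟨P⟩ : Nonempty (Sylow p Y) := Sylow.nonempty
  have himg : ((P : Subgroup Y).map Y.subtype).map f =
      Cfsg.pCore p (H ⧸ Cfsg.pPrimeCore p H) := by
    let φ : Y →* Cfsg.pCore p (H ⧸ Cfsg.pPrimeCore p H) :=
      MonoidHom.codRestrict (f.comp Y.subtype) _ fun y => y.2
    have hφ : Function.Surjective φ := fun ⟨z, hz⟩ => by
      obtain ⟨y, rfl⟩ := hfs z
      exact ⟨⟨y, hz⟩, rfl⟩
    have h1 : ((P.mapSurjective hφ : Sylow p (Cfsg.pCore p (H ⧸ Cfsg.pPrimeCore p H))) :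
        Subgroup (Cfsg.pCore p (H ⧸ Cfsg.pPrimeCore p H))) = ⊤ :=
      ((P.mapSurjective hφ).is_maximal'
        ((pCore_isPGroup (p := p)).of_equiv Subgroup.topEquiv.symm) le_top).symm
    ext z
    constructor
    · rintro ⟨_, ⟨y, -, rfl⟩, rfl⟩
      exact y.2
    · intro hz
      have : (⟨z, hz⟩ : Cfsg.pCore p (H ⧸ Cfsg.pPrimeCore p H)) ∈
          ((P.mapSurjective hφ : Sylow p (Cfsg.pCore p (H ⧸ Cfsg.pPrimeCore p H))) :
            Subgroup (Cfsg.pCore p (H ⧸ Cfsg.pPrimeCore p H))) := by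
        rw [h1]; trivial
      obtain ⟨y, hy, e⟩ := this
      exact ⟨y, ⟨y, hy, rfl⟩, congrArg Subtype.val e⟩
  have h1 := Subgroup.map_mono (f := f) (hH P)
  rw [map_centralizer_pGroup (P.isPGroup'.map _), himg] at h1
  refine h1.trans ?_
  show Subgroup.map f (Cfsg.pPrimePCore p H) ≤ _
  rw [Cfsg.pPrimePCore, Subgroup.map_comap_eq_self_of_surjective hfs]

/-- In a `p`-constrained group an `E`-invariant `p'`-subgroup lies in the `p'`-core. -/
theorem le_pPrimeCore_of_invariant (hH : Cfsg.IsPConstrained p H) (E : Subgroup H)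
    (hE : IsPGroup p E) (hEab : ∀ a ∈ E, ∀ b ∈ E, a * b = b * a)
    (hEfull : ∀ x ∈ Subgroup.centralizer (E : Set H), IsPGroup p (Subgroup.zpowers x) → x ∈ E)
    (hcl : p = 2 → ∀ P : Subgroup H, IsPGroup p P → ∀ a ∈ P, ∀ b ∈ P, ∀ c ∈ P,
      ⁅a, b⁆ * c = c * ⁅a, b⁆)
    (Y : Subgroup H) (hY : (Nat.card Y).Coprime p) (hEY : E ≤ Subgroup.normalizer (Y : Set H)) :
    Y ≤ Cfsg.pPrimeCore p H := by
  set O := Cfsg.pPrimeCore p H
  haveI : O.Normal := pPrimeCore_isNormal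
  set f := QuotientGroup.mk' O with hf
  have hfs : Function.Surjective f := QuotientGroup.mk'_surjective _
  set R := Cfsg.pCore p (H ⧸ O) with hR
  have hRn : R.Normal := pCore_isNormal
  have hRp : IsPGroup p R := pCore_isPGroup
  set E' := E.map f
  set Y' := Y.map f
  have hE' : IsPGroup p E' := hE.map f
  have hY' : (Nat.card Y').Coprime p := hY.coprime_dvd_left (Subgroup.card_map_dvd _ f)
  have hEY' : E' ≤ Subgroup.normalizer (Y' : Set (H ⧸ O)) :=
    (Subgroup.map_mono hEY).trans (Subgroup.le_normalizer_map f)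
  have hRN : ∀ K : Subgroup (H ⧸ O), K ≤ Subgroup.normalizer (R : Set (H ⧸ O)) := fun K => by
    rw [Subgroup.normalizer_eq_top]; exact le_top
  have hdisj : Y' ⊓ R = ⊥ := Grp.inf_eq_bot_of_coprime (by
    obtain ⟨m, hm⟩ := IsPGroup.iff_card.mp hRp
    rw [hm]; exact hY'.pow_right m)
  have hfix : R ⊓ Subgroup.centralizer (E' : Set (H ⧸ O)) ≤ E' := by
    rintro z ⟨hzR, hzC⟩
    have hz : z ∈ (Subgroup.centralizer (E : Set H)).map f := by
      rw [Grp.map_centralizer_pGroup hE]; exact hzC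
    obtain ⟨c, hc, rfl⟩ := hz
    obtain ⟨k, m, hm, hkm⟩ := Nat.exists_eq_pow_mul_and_not_dvd (orderOf_pos c).ne' p hp.out.ne_one
    have hcm : c ^ m ∈ E := by
      refine hEfull _ (pow_mem hc m) (IsPGroup.of_card (n := k) ?_)
      rw [Nat.card_zpowers, orderOf_pow' c (fun h0 => hm (by rw [h0]; exact dvd_zero p)), hkm,
        Nat.gcd_mul_left_left, Nat.mul_div_cancel _ (Nat.pos_of_ne_zero fun h0 => hm (by rw [h0]; exact dvd_zero p))]
    obtain ⟨j, hj⟩ := hRp ⟨f c, hzR⟩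
    refine mem_of_pow_mem (n := m) ⟨c ^ m, hcm, map_pow f c m⟩ ?_
    refine Nat.Coprime.coprime_dvd_left (orderOf_dvd_of_pow_eq_one (n := p ^ j)
      (congrArg Subtype.val hj)) ?_
    exact ((hp.out.coprime_iff_not_dvd.mpr hm)).pow_left j
  have hC : R ⊓ Subgroup.centralizer (E' : Set (H ⧸ O)) ≤ Subgroup.centralizer (Y' : Set (H ⧸ O)) := by
    intro z hz
    refine Subgroup.mem_centralizer_iff.mpr fun y hy => ?_
    have h1 : z * y * z⁻¹ * y⁻¹ ∈ Y' ⊓ R := by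
      refine ⟨Y'.mul_mem ((Subgroup.mem_normalizer_iff.mp (hEY' (hfix hz)) y).mp hy) (Y'.inv_mem hy), ?_⟩
      rw [show z * y * z⁻¹ * y⁻¹ = z * (y * z⁻¹ * y⁻¹) by group]
      exact R.mul_mem hz.1 (hRn.conj_mem _ (R.inv_mem hz.1) _)
    rw [hdisj, Subgroup.mem_bot, mul_inv_eq_one, mul_inv_eq_iff_eq_mul] at h1
    exact h1.symm
  have hYR : Y' ≤ Subgroup.centralizer (R : Set (H ⧸ O)) := by
    by_cases hp2 : p = 2
    · refine FixedPointLemma.class_two_case E' Y' hE' hY' hEY' R hRp (hRN _) (hRN _) hC ?_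
      intro r hr e he x hx
      have hP : IsPGroup p ↥(R ⊔ E') := hRp.to_sup_of_normal_left hE'
      obtain ⟨T, hT⟩ := hP.exists_le_sylow
      obtain ⟨S, rfl⟩ := Sylow.mapSurjective_surjective hfs p T
      obtain ⟨a, ha, rfl⟩ := hT (Subgroup.mem_sup_right he)
      obtain ⟨b, hb, rfl⟩ := hT (Subgroup.mem_sup_left hr)
      obtain ⟨c, hc, rfl⟩ := hT (hx.elim (fun h => Subgroup.mem_sup_left h)
        (fun h => Subgroup.mem_sup_right h))
      rw [← map_commutatorElement, ← map_mul, ← map_mul,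
        hcl hp2 S S.isPGroup' a ha b hb c hc]
    · exact FixedPointLemma.odd_case hp2 E' Y' hE' hY' hEY' R hRp (hRN _) (hRN _) hC
  have hY1 : Y' ≤ R := hYR.trans (centralizer_pCore_quotient hH)
  have hY2 : Y' = ⊥ := by rw [← hdisj]; exact (inf_eq_left.mpr hY1).symm
  rw [Subgroup.map_eq_bot_iff, QuotientGroup.ker_mk'] at hY2
  exact hY2

end Quotient

variable {G : Type u} [Group G] [Finite G] {p : ℕ} [hp : Fact p.Prime]

/-- The hypotheses of the transitivity theorem. -/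
structure Setup (p : ℕ) (E : Subgroup G) : Prop where
  loc : ∀ T : Subgroup G, IsPGroup p T → T ≠ ⊥ → Cfsg.IsPConstrained p ↥(Subgroup.normalizer (T : Set G))
  cls : p = 2 → ∀ P : Subgroup G, IsPGroup p P → ∀ a ∈ P, ∀ b ∈ P, ∀ c ∈ P, ⁅a, b⁆ * c = c * ⁅a, b⁆
  pgroup : IsPGroup p E
  comm : ∀ a ∈ E, ∀ b ∈ E, a * b = b * a
  full : ∀ x ∈ Subgroup.centralizer (E : Set G), IsPGroup p (Subgroup.zpowers x) → x ∈ E

variable {E : Subgroup G}

/-- The `p'`-core of the normalizer of `⟨a⟩`, in `G`. -/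
def localCore (p : ℕ) (a : G) : Subgroup G :=
  (Cfsg.pPrimeCore p ↥(Subgroup.normalizer (Subgroup.zpowers a : Set G))).map
    (Subgroup.normalizer (Subgroup.zpowers a : Set G)).subtype

theorem Setup.le_normalizer (hS : Setup p E) {a : G} (ha : a ∈ E) :
    E ≤ Subgroup.normalizer (Subgroup.zpowers a : Set G) := by
  refine le_trans (fun e he => ?_) (Subgroup.centralizer_le_normalizer _)
  refine Subgroup.mem_centralizer_iff.mpr fun x hx => ?_
  exact hS.comm x (Subgroup.zpowers_le.mpr ha hx) e he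

theorem le_localCore (hS : Setup p E) {a : G} (ha : a ∈ E) (ha1 : a ≠ 1) {Y : Subgroup G}
    (hY : (Nat.card Y).Coprime p) (hEY : E ≤ Subgroup.normalizer (Y : Set G))
    (hYa : Y ≤ Subgroup.centralizer {a}) : Y ≤ localCore p a := by
  have hT : IsPGroup p (Subgroup.zpowers a) :=
    hS.pgroup.to_le (Subgroup.zpowers_le.mpr ha)
  set N := Subgroup.normalizer (Subgroup.zpowers a : Set G)
  have hEN : E ≤ N := hS.le_normalizer ha
  have hYN : Y ≤ N := by
    refine hYa.trans ?_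
    rw [Grp.centralizer_singleton_eq_zpowers]
    exact Subgroup.centralizer_le_normalizer _
  have key := le_pPrimeCore_of_invariant (H := ↥N)
    (hS.loc _ hT (by rwa [Ne, Subgroup.zpowers_eq_bot])) (E.subgroupOf N)
    (hS.pgroup.of_equiv (Subgroup.subgroupOfEquivOfLe hEN).symm)
    (fun x hx y hy => Subtype.ext (hS.comm x hx y hy))
    (fun x hx hxp => hS.full x.1
      (Subgroup.mem_centralizer_iff.mpr fun e he =>
        congrArg Subtype.val (Subgroup.mem_centralizer_iff.mp hx ⟨e, hEN he⟩ he))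
      (by
        have := hxp.map N.subtype
        rwa [MonoidHom.map_zpowers] at this))
    (fun h2 P hP a ha b hb c hc => Subtype.ext (hS.cls h2 (P.map N.subtype) (hP.map _) a.1
      ⟨a, ha, rfl⟩ b.1 ⟨b, hb, rfl⟩ c.1 ⟨c, hc, rfl⟩))
    (Y.subgroupOf N) (by rwa [Nat.card_congr (Subgroup.subgroupOfEquivOfLe hYN).toEquiv])
    (by
      intro e he
      rw [Subgroup.mem_normalizer_iff]
      intro y
      exact Subgroup.mem_normalizer_iff.mp (hEY he) y)
  rw [← Subgroup.map_subgroupOf_eq_of_le hYN]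
  exact Subgroup.map_mono key

theorem localCore_coprime (a : G) : (Nat.card (localCore p a)).Coprime p := by
  rw [localCore, Subgroup.card_map_of_injective (Subgroup.subtype_injective _)]
  exact pPrimeCore_coprime

theorem le_normalizer_localCore (hS : Setup p E) {a : G} (ha : a ∈ E) :
    E ≤ Subgroup.normalizer (localCore p a : Set G) := by
  haveI : (Cfsg.pPrimeCore p ↥(Subgroup.normalizer (Subgroup.zpowers a : Set G))).Normal :=
    pPrimeCore_isNormal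
  have h := Subgroup.le_normalizer_map (H := Cfsg.pPrimeCore p
    ↥(Subgroup.normalizer (Subgroup.zpowers a : Set G))) (Subgroup.normalizer (Subgroup.zpowers a : Set G)).subtype
  rw [Subgroup.normalizer_eq_top (H := Cfsg.pPrimeCore p ↥(Subgroup.normalizer (Subgroup.zpowers a : Set G))),
    ← MonoidHom.range_eq_map, Subgroup.range_subtype] at h
  exact (hS.le_normalizer ha).trans h

/-- Elements of order prime to `p` centralizing `E` lie in `O_{p'}(C(E))`. -/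
theorem mem_piCoreOf (hS : Setup p E) {c : G} (hc : c ∈ Subgroup.centralizer (E : Set G))
    (hcp : (orderOf c).Coprime p) :
    c ∈ Cfsg.piCoreOf (Cfsg.primesNotDvd p) (Subgroup.centralizer (E : Set G)) := by
  set C := Subgroup.centralizer (E : Set G)
  have hEC : E ≤ C := fun e he => Subgroup.mem_centralizer_iff.mpr fun x hx => hS.comm x hx e he
  set Z := E.subgroupOf C
  have hZp : IsPGroup p Z := hS.pgroup.of_equiv (Subgroup.subgroupOfEquivOfLe hEC).symm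
  have hZc : Z ≤ Subgroup.center C := fun z hz => Subgroup.mem_center_iff.mpr fun x =>
    Subtype.ext (Subgroup.mem_centralizer_iff.mp x.2 z.1 hz).symm
  haveI : Z.Normal := ⟨fun z hz x => by
    rw [Subgroup.mem_center_iff.mp (hZc hz) x, mul_inv_cancel_right]; exact hz⟩
  have hidx : ¬ p ∣ Z.index := by
    intro hdvd
    obtain ⟨q, hq⟩ := exists_prime_orderOf_dvd_card' (G := C ⧸ Z) p hdvd
    obtain ⟨x, rfl⟩ := QuotientGroup.mk_surjective q
    have hxp : x ^ p ∈ Z := by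
      rw [← QuotientGroup.eq_one_iff, QuotientGroup.mk_pow, ← hq, pow_orderOf_eq_one]
    obtain ⟨j, hj⟩ := hZp ⟨x ^ p, hxp⟩
    have hxE : (x : G) ∈ E := by
      refine hS.full x.1 x.2 fun y => ⟨j + 1, ?_⟩
      obtain ⟨i, hi⟩ := Subgroup.mem_zpowers_iff.mp y.2
      refine Subtype.ext ?_
      have h1 : (x : G) ^ p ^ (j + 1) = 1 := by
        have := congrArg (fun z : Z => ((z : C) : G)) hj
        simpa [pow_succ', ← pow_mul] using this
      rw [SubmonoidClass.coe_pow, ← hi, ← zpow_natCast, ← zpow_mul, mul_comm, zpow_mul, zpow_natCast,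
        h1, one_zpow, Subgroup.coe_one]
    rw [(QuotientGroup.eq_one_iff x).mpr hxE, orderOf_one] at hq
    exact hp.out.ne_one hq.symm
  obtain ⟨n, hn⟩ := IsPGroup.iff_card.mp hZp
  have hcopZ : (Nat.card Z).Coprime Z.index := by
    rw [hn]; exact (hp.out.coprime_iff_not_dvd.mpr hidx).pow_left n
  obtain ⟨K, hK⟩ := Subgroup.exists_right_complement'_of_coprime hcopZ
  have hdec : ∀ x : C, ∃ z ∈ Z, ∃ k ∈ K, x = z * k := fun x => by
    obtain ⟨⟨z, k⟩, hzk, -⟩ := hK.existsUnique x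
    exact ⟨z, z.2, k, k.2, hzk.symm⟩
  have hKn : K.Normal := ⟨fun y hy x => by
    obtain ⟨z, hz, k, hk, rfl⟩ := hdec x
    have hzc := Subgroup.mem_center_iff.mp (hZc hz)
    rw [show z * k * y * (z * k)⁻¹ = z * (k * y * k⁻¹) * z⁻¹ by group, ← hzc, mul_inv_cancel_right]
    exact K.mul_mem (K.mul_mem hk hy) (K.inv_mem hk)⟩
  have hKcard : Nat.card K = Z.index := (hK.symm.index_eq_card).symm
  have hcK : (⟨c, hc⟩ : C) ∈ K := by
    obtain ⟨z, hz, k, hk, he⟩ := hdec ⟨c, hc⟩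
    refine mem_of_pow_mem (n := Nat.card Z) ?_ (by
      rw [hn, Subgroup.orderOf_mk]; exact hcp.pow_right n)
    rw [he, (show Commute z k from (Subgroup.mem_center_iff.mp (hZc hz) k).symm).mul_pow,
      show z ^ Nat.card Z = 1 from congrArg Subtype.val (pow_card_eq_one' (x := (⟨z, hz⟩ : Z))),
      one_mul]
    exact K.pow_mem hk _
  refine ⟨⟨c, hc⟩, (le_sSup ?_ : K ≤ Cfsg.piCore (Cfsg.primesNotDvd p) C) hcK, rfl⟩
  refine ⟨hKn, fun r hr hrK => ⟨hr, fun hrp => hidx ?_⟩⟩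
  rw [(Nat.prime_dvd_prime_iff_eq hr hp.out).mp hrp] at hrK
  rwa [hKcard] at hrK

variable {q : ℕ} [hq : Fact q.Prime]

omit [Finite G] hp in
theorem mem_inv_iff [Finite G] {Q : Subgroup G} :
    Q ∈ Cfsg.invSubgroups ⊤ E ({q} : Set ℕ) ↔
      IsPGroup q Q ∧ E ≤ Subgroup.normalizer (Q : Set G) := by
  constructor
  · rintro ⟨-, hQ, hn⟩
    refine ⟨IsPGroup.of_card (n := (Nat.card Q).primeFactorsList.length) ?_, hn⟩
    exact Nat.eq_prime_pow_of_unique_prime_dvd Nat.card_pos.ne'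
      (fun {d} hd hdQ => Set.mem_singleton_iff.mp (hQ d hd hdQ))
  · rintro ⟨hQ, hn⟩
    refine ⟨le_top, fun r hr hrQ => ?_, hn⟩
    obtain ⟨m, hm⟩ := IsPGroup.iff_card.mp hQ
    rw [hm] at hrQ
    exact Set.mem_singleton_iff.mpr
      ((Nat.prime_dvd_prime_iff_eq hr hq.out).mp (hr.dvd_of_dvd_pow hrQ))

theorem exists_max (U : Subgroup G) (hU : U ∈ Cfsg.invSubgroups ⊤ E ({q} : Set ℕ)) :
    ∃ Q ∈ Cfsg.maxInvSubgroups ⊤ E ({q} : Set ℕ), U ≤ Q := by
  obtain ⟨Q, hUQ, hQ⟩ := (Set.toFinite (Cfsg.invSubgroups ⊤ E ({q} : Set ℕ))).exists_le_maximal hU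
  exact ⟨Q, ⟨hQ.1, fun R hR hle => le_antisymm (hQ.2 hR hle) hle⟩, hUQ⟩

theorem conj_mem {Q : Subgroup G} (hQ : Q ∈ Cfsg.invSubgroups ⊤ E ({q} : Set ℕ)) {c : G}
    (hc : c ∈ Subgroup.centralizer (E : Set G)) :
    MulAut.conj c • Q ∈ Cfsg.invSubgroups ⊤ E ({q} : Set ℕ) := by
  rw [mem_inv_iff] at hQ ⊢
  refine ⟨?_, fun e he => ?_⟩
  · rw [← Grp.map_conj_eq_smul]; exact hQ.1.map _
  · have hec : e * c = c * e := Subgroup.mem_centralizer_iff.mp hc e he
    rw [Grp.mem_normalizer_iff_smul, Grp.conj_smul_conj_smul, hec, ← Grp.conj_smul_conj_smul,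
      Grp.mem_normalizer_iff_smul.mp (hQ.2 he)]

theorem conj_mem_max {Q : Subgroup G} (hQ : Q ∈ Cfsg.maxInvSubgroups ⊤ E ({q} : Set ℕ)) {c : G}
    (hc : c ∈ Subgroup.centralizer (E : Set G)) :
    MulAut.conj c • Q ∈ Cfsg.maxInvSubgroups ⊤ E ({q} : Set ℕ) := by
  refine ⟨conj_mem hQ.1 hc, fun R hR hle => ?_⟩
  have hle' : Q ≤ MulAut.conj c⁻¹ • R := by
    have := Subgroup.pointwise_smul_le_pointwise_smul_iff (a := MulAut.conj c⁻¹) |>.mpr hle
    rwa [Grp.conj_smul_conj_smul, inv_mul_cancel, map_one, one_smul] at this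
  have := hQ.2 _ (conj_mem hR (inv_mem hc)) hle'
  rw [← this, Grp.conj_smul_conj_smul, mul_inv_cancel, map_one, one_smul]

theorem transitivity (hS : Setup p E) {A : Subgroup G} (hAE : A ≤ E)
    (hA : Cfsg.IsElementaryAbelian p A) (hA3 : p ^ 3 ≤ Nat.card A) (hqp : q ≠ p) :
    ∀ {Q₁ Q₂ : Subgroup G}, Q₁ ∈ Cfsg.maxInvSubgroups ⊤ E ({q} : Set ℕ) →
      Q₂ ∈ Cfsg.maxInvSubgroups ⊤ E ({q} : Set ℕ) →
      ∃ c ∈ Cfsg.piCoreOf (Cfsg.primesNotDvd p) (Subgroup.centralizer (E : Set G)),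
        MulAut.conj c • Q₁ = Q₂ := by
  set L := Cfsg.piCoreOf (Cfsg.primesNotDvd p) (Subgroup.centralizer (E : Set G))
  suffices H : ∀ n, ∀ {Q₁ Q₂ : Subgroup G}, Q₁ ∈ Cfsg.maxInvSubgroups ⊤ E ({q} : Set ℕ) →
      Q₂ ∈ Cfsg.maxInvSubgroups ⊤ E ({q} : Set ℕ) →
      Nat.card G - Nat.card ↥(Q₁ ⊓ Q₂) = n → ∃ c ∈ L, MulAut.conj c • Q₁ = Q₂ from
    fun {_ _} h1 h2 => H _ h1 h2 rfl
  intro n
  induction n using Nat.strong_induction_on with
  | _ n ih =>
  intro Q₁ Q₂ h₁ h₂ hn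
  have m₁ := mem_inv_iff.mp h₁.1
  have m₂ := mem_inv_iff.mp h₂.1
  by_cases hD₁ : Q₁ ⊓ Q₂ = Q₁
  · exact ⟨1, L.one_mem, by rw [map_one, one_smul]; exact (h₁.2 Q₂ h₂.1 (inf_eq_left.mp hD₁)).symm⟩
  by_cases hD₂ : Q₁ ⊓ Q₂ = Q₂
  · exact ⟨1, L.one_mem, by rw [map_one, one_smul]; exact h₂.2 Q₁ h₁.1 (inf_eq_right.mp hD₂)⟩
  set D := Q₁ ⊓ Q₂ with hDdef
  have hED : E ≤ Subgroup.normalizer (D : Set G) := Grp.le_normalizer_inf' m₁.2 m₂.2
  obtain ⟨a, ha, ha1, hg₁, hg₂⟩ := Grp.exists_two_sided hA hA3 hqp m₁.1 m₂.1 (hAE.trans m₁.2)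
    (hAE.trans m₂.2) hD₁ hD₂
  have haE := hAE ha
  set K := Subgroup.normalizer (D : Set G) ⊓ localCore p a
  have hKE : E ≤ Subgroup.normalizer (K : Set G) :=
    Grp.le_normalizer_inf' (hED.trans Subgroup.le_normalizer) (le_normalizer_localCore hS haE)
  have hKD : K ≤ Subgroup.normalizer (D : Set G) := inf_le_left
  have hcopq : ∀ {Q : Subgroup G}, IsPGroup q Q → (Nat.card Q).Coprime p := by
    intro Q hQ
    obtain ⟨m, hm⟩ := IsPGroup.iff_card.mp hQ
    rw [hm]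
    exact ((Nat.coprime_primes hq.out hp.out).mpr hqp).pow_left m
  have hXp : (Nat.card ↥(D ⊔ K)).Coprime p := by
    have h := Grp.card_sup_dvd_mul hKD
    rw [sup_comm] at h
    exact (Nat.Coprime.mul_left ((localCore_coprime a).coprime_dvd_left
      (Subgroup.card_dvd_of_le inf_le_right)) (hcopq (m₁.1.to_le inf_le_left))).coprime_dvd_left h
  have hEX : E ≤ Subgroup.normalizer ((D ⊔ K : Subgroup G) : Set G) :=
    Grp.le_normalizer_sup' hED hKE
  have hcopE : (Nat.card E).Coprime (Nat.card ↥(D ⊔ K)) := by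
    obtain ⟨m, hm⟩ := IsPGroup.iff_card.mp hS.pgroup
    rw [hm]; exact hXp.symm.pow_left m
  have hsolv : Group.IsSolvable E ∨ Group.IsSolvable ↥(D ⊔ K) :=
    Or.inl (have := hS.pgroup.isNilpotent; inferInstance)
  have grow : ∀ Q ∈ Cfsg.maxInvSubgroups ⊤ E ({q} : Set ℕ), D ≤ Q →
      ¬ Subgroup.normalizer (D : Set G) ⊓ Q ⊓ Subgroup.centralizer {a} ≤ D →
      ∃ S R, IsSylowIn q S (D ⊔ K) ∧ E ≤ Subgroup.normalizer (S : Set G) ∧
        R ∈ Cfsg.maxInvSubgroups ⊤ E ({q} : Set ℕ) ∧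
        S ≤ R ∧ Nat.card D < Nat.card ↥(Q ⊓ R) ∧ Nat.card D < Nat.card S := by
    intro Q hQ hDQ hgr
    have mQ := mem_inv_iff.mp hQ.1
    set P := Subgroup.normalizer (D : Set G) ⊓ Q ⊓ Subgroup.centralizer {a}
    have hca : E ≤ Subgroup.normalizer ((Subgroup.centralizer {a} : Subgroup G) : Set G) := by
      rw [Grp.centralizer_singleton_eq_zpowers]
      exact Grp.le_normalizer_centralizer_of_commute fun x hx y hy =>
        hS.comm x hx y (Subgroup.zpowers_le.mpr haE hy)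
    have hPE : E ≤ Subgroup.normalizer (P : Set G) :=
      Grp.le_normalizer_inf' (Grp.le_normalizer_inf' (hED.trans Subgroup.le_normalizer) mQ.2) hca
    have hPK : P ≤ K := le_inf (inf_le_left.trans inf_le_left)
      (le_localCore hS haE ha1 (hcopq (mQ.1.to_le (inf_le_left.trans inf_le_right))) hPE inf_le_right)
    have hPQ : D ⊔ P ≤ Q := sup_le hDQ (inf_le_left.trans inf_le_right)
    obtain ⟨S, hSyl, hSA, hle⟩ := Grp.exists_invariant_sylow_ge E (D ⊔ K) hEX hcopE hsolv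
      (sup_le_sup_left hPK D) (mQ.1.to_le hPQ) (Grp.le_normalizer_sup' hED hPE)
    obtain ⟨R, hR, hSR⟩ := exists_max S (mem_inv_iff.mpr ⟨hSyl.2.1, hSA⟩)
    refine ⟨S, R, hSyl, hSA, hR, hSR, ?_, ?_⟩
    · exact not_le.mp fun hc => hgr ((le_sup_right.trans (le_inf hPQ (hle.trans hSR))).trans
        (Subgroup.eq_of_le_of_card_ge (le_inf hDQ (le_sup_left.trans (hle.trans hSR))) hc).ge)
    · exact not_le.mp fun hc => hgr ((le_sup_right.trans hle).trans
        (Subgroup.eq_of_le_of_card_ge (le_sup_left.trans hle) hc).ge)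
  obtain ⟨S₁, R₁, hS₁, hSA₁, hR₁, hSR₁, hc₁, _⟩ := grow Q₁ h₁ inf_le_left hg₁
  obtain ⟨S₂, R₂, hS₂, hSA₂, hR₂, hSR₂, hc₂, hcard₂⟩ := grow Q₂ h₂ inf_le_right hg₂
  obtain ⟨c, hc, hcS⟩ := Grp.invariant_sylow_conj E (D ⊔ K) hEX hcopE hsolv hS₁ hS₂ hSA₁ hSA₂
  have hcL : c ∈ L := mem_piCoreOf hS hc.2
    (hXp.coprime_dvd_left (Subgroup.orderOf_dvd_natCard _ hc.1))
  set R₃ := MulAut.conj c • R₁
  have hR₃ : R₃ ∈ Cfsg.maxInvSubgroups ⊤ E ({q} : Set ℕ) := conj_mem_max hR₁ hc.2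
  have hS₂R₃ : S₂ ≤ R₃ := by
    rw [← hcS]; exact Subgroup.pointwise_smul_le_pointwise_smul_iff.mpr hSR₁
  have hlt : ∀ {X Y : Subgroup G}, Nat.card D < Nat.card ↥(X ⊓ Y) →
      Nat.card G - Nat.card ↥(X ⊓ Y) < n := by
    intro X Y h
    rw [← hn]
    have := Subgroup.card_le_card_group (X ⊓ Y)
    omega
  obtain ⟨c₁, hcc₁, e₁⟩ := ih _ (hlt hc₁) h₁ hR₁ rfl
  have hc₂' : Nat.card D < Nat.card ↥(R₂ ⊓ Q₂) := by rw [inf_comm]; exact hc₂
  obtain ⟨c₂, hcc₂, e₂⟩ := ih _ (hlt hc₂') hR₂ h₂ rfl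
  have hc₃ : Nat.card D < Nat.card ↥(R₃ ⊓ R₂) :=
    lt_of_lt_of_le hcard₂ (Subgroup.card_le_of_le (le_inf hS₂R₃ hSR₂))
  obtain ⟨c₃, hcc₃, e₃⟩ := ih _ (hlt hc₃) hR₃ hR₂ rfl
  refine ⟨c₂ * c₃ * c * c₁, L.mul_mem (L.mul_mem (L.mul_mem hcc₂ hcc₃) hcL) hcc₁, ?_⟩
  rw [← Grp.conj_smul_conj_smul, ← Grp.conj_smul_conj_smul, ← Grp.conj_smul_conj_smul, e₁, e₃, e₂]

end Cfsg.Agent.Transfer.Transitivity
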