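import Mathlib
import Cfsg.Agent.Lib.Grp.Frattini
import Cfsg.Agent.Lib.Transfer.PGroups

/-! For odd `p`, a `p`-group all of whose abelian subgroups are cyclic is cyclic. -/

set_option autoImplicit false

namespace Cfsg.Agent.Transfer.RankOneCyclic

universe u

variable {p : ℕ} [hp : Fact p.Prime]

theorem mem_zpowers_of_pow_eq_one {G : Type*} [Group G] [Finite G] {B : Subgroup G} (hB : IsCyclic B)
    {z d : G} (hz : z ∈ B) (hzo : orderOf z = p) (hd : d ∈ B) (hdp : d ^ p = 1) :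
    d ∈ Subgroup.zpowers z := by
  obtain ⟨⟨g, hg⟩, hgen⟩ := hB.exists_generator
  obtain ⟨a, ha⟩ := hgen ⟨d, hd⟩
  obtain ⟨b, hb⟩ := hgen ⟨z, hz⟩
  replace ha : g ^ a = d := congrArg Subtype.val ha
  replace hb : g ^ b = z := congrArg Subtype.val hb
  set n := orderOf g
  have hpn : p ∣ n := by rw [← hzo, ← hb]; exact orderOf_dvd_of_pow_eq_one (by
    rw [← zpow_natCast, ← zpow_mul, mul_comm, zpow_mul, zpow_natCast, pow_orderOf_eq_one, one_zpow])
  obtain ⟨t, ht⟩ := hpn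
  have key : ∀ e : ℤ, (g ^ e) ^ p = 1 → (t : ℤ) ∣ e := fun e he => by
    rw [← zpow_natCast, ← zpow_mul, ← orderOf_dvd_iff_zpow_eq_one] at he
    change (n : ℤ) ∣ _ at he
    rw [ht, Nat.cast_mul, mul_comm e] at he
    exact Int.dvd_of_mul_dvd_mul_left (by exact_mod_cast hp.out.ne_zero) he
  obtain ⟨b', hb'⟩ := key b (by rw [hb, ← hzo]; exact pow_orderOf_eq_one z)
  obtain ⟨a', ha'⟩ := key a (by rw [ha]; exact hdp)
  have hb'' : ¬ (p : ℤ) ∣ b' := fun ⟨c, hc⟩ => by
    have : z = 1 := by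
      rw [← hb, hb', hc, ← orderOf_dvd_iff_zpow_eq_one]
      exact ⟨c, by change _ = (n : ℤ) * c; rw [ht]; push_cast; ring⟩
    rw [this, orderOf_one] at hzo
    exact hp.out.ne_one hzo.symm
  have hco : IsCoprime (p : ℤ) b' :=
    (Nat.prime_iff_prime_int.mp hp.out).coprime_iff_not_dvd.mpr hb''
  obtain ⟨u, v, huv⟩ := hco
  refine ⟨a' * v, ?_⟩
  show z ^ (a' * v) = d
  rw [← hb, ← ha, ← zpow_mul, hb', ha', zpow_eq_zpow_iff_modEq, Int.modEq_iff_dvd]
  refine ⟨a' * u, ?_⟩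
  change _ = (n : ℤ) * _
  rw [ht]; push_cast
  linear_combination (-(t : ℤ) * a') * huv

theorem aux : ∀ (n : ℕ) (P : Type u) [Group P] [Finite P], Nat.card P = n → p ≠ 2 → IsPGroup p P →
    (∀ A : Subgroup P, IsMulCommutative A → IsCyclic A) → IsCyclic P := by
  intro n
  induction n using Nat.strong_induction_on with
  | _ n ih =>
  intro P _ _ hn hp2 hP hab
  haveI := hP.isNilpotent
  rcases subsingleton_or_nontrivial P with hs | hnt
  · infer_instance
  have hproper : ∀ K : Subgroup P, K ≠ ⊤ → IsCyclic K := fun K hK => by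
    refine ih (Nat.card K) (hn ▸ ?_) K rfl hp2 (hP.to_subgroup K) fun A hA => ?_
    · exact lt_of_le_of_ne (Subgroup.card_le_card_group K) fun e => hK (Subgroup.eq_top_of_card_eq K e)
    · have : IsMulCommutative (A.map K.subtype) := Subgroup.map_isMulCommutative _ _
      have h := hab _ this
      exact (Subgroup.equivMapOfInjective A K.subtype K.subtype_injective).isCyclic.mpr h
  obtain ⟨M, hM, -⟩ := (eq_top_or_exists_le_coatom (⊥ : Subgroup P)).resolve_left bot_ne_top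
  have hMn : M.Normal := Subgroup.NormalizerCondition.normal_of_coatom M Group.normalizerCondition_of_isNilpotent hM
  obtain ⟨y, hy⟩ : ∃ y, y ∉ M := by
    by_contra! h
    exact hM.1 ((Subgroup.eq_top_iff' M).mpr h)
  obtain ⟨x, hx, hxp⟩ : ∃ x, x ∉ M ∧ x ^ p ∈ M := by
    obtain ⟨k, hk⟩ := hP y
    have hex : ∃ j, y ^ p ^ j ∈ M := ⟨k, by rw [hk]; exact one_mem M⟩
    classical
    have h0 : Nat.find hex ≠ 0 := fun e => by
      have := Nat.find_spec hex
      rw [e, pow_zero, pow_one] at this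
      exact hy this
    obtain ⟨j, hj⟩ := Nat.exists_eq_succ_of_ne_zero h0
    refine ⟨y ^ p ^ j, Nat.find_min hex (by omega), ?_⟩
    rw [← pow_mul, ← pow_succ, ← Nat.succ_eq_add_one, ← hj]
    exact Nat.find_spec hex
  have hxtop : Subgroup.zpowers x ⊔ M = ⊤ :=
    hM.2 _ (lt_of_le_of_ne le_sup_right fun e => hx (e ▸ Subgroup.mem_sup_left (Subgroup.mem_zpowers x)))
  haveI hMc := hproper M hM.1
  obtain ⟨⟨m, hm⟩, hgen⟩ := hMc.exists_generator
  have hgen' : ∀ w ∈ M, ∃ i : ℤ, m ^ i = w := fun w hw => by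
    obtain ⟨i, hi⟩ := hgen ⟨w, hw⟩
    exact ⟨i, congrArg Subtype.val hi⟩
  obtain ⟨a, ha⟩ := hgen' _ hxp
  have cyc : M ≤ Subgroup.zpowers x → IsCyclic P := fun h => by
    rw [sup_eq_left.mpr h] at hxtop
    exact ⟨⟨x, fun g => (Subgroup.eq_top_iff' _).mp hxtop g⟩⟩
  by_cases hpa : (p : ℤ) ∣ a
  swap
  · obtain ⟨k, hk⟩ := hP m
    have hco : IsCoprime ((p : ℤ) ^ k) a :=
      ((Nat.prime_iff_prime_int.mp hp.out).coprime_iff_not_dvd.mpr hpa).pow_left
    obtain ⟨u, v, huv⟩ := hco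
    refine cyc fun w hw => ?_
    obtain ⟨i, rfl⟩ := hgen' w hw
    refine zpow_mem ?_ i
    have : m = (x ^ p) ^ v := by
      rw [← ha, ← zpow_mul]
      calc m = m ^ (u * (p : ℤ) ^ k + v * a) := by rw [huv, zpow_one]
        _ = m ^ (a * v) := by
          rw [zpow_add, mul_comm u, zpow_mul, ← Nat.cast_pow, zpow_natCast, hk, one_zpow, one_mul,
            mul_comm v]
    rw [this]
    exact zpow_mem (pow_mem (Subgroup.mem_zpowers x) p) v
  obtain ⟨a', rfl⟩ := hpa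
  by_cases hm1 : m = 1
  · refine cyc fun w hw => ?_
    obtain ⟨i, rfl⟩ := hgen' w hw
    rw [hm1, one_zpow]; exact one_mem _
  -- `x` centralizes `m ^ p`
  set Mp := Subgroup.zpowers (m ^ (p : ℤ))
  haveI hMpn : Mp.Normal := ⟨fun w hw g => by
    obtain ⟨i, rfl⟩ := hw
    obtain ⟨k, hk⟩ := hgen' (g * m * g⁻¹) (hMn.conj_mem m hm g)
    refine ⟨k * i, ?_⟩
    change (m ^ (p : ℤ)) ^ (k * i) = g * (m ^ (p : ℤ)) ^ i * g⁻¹
    rw [← conj_zpow, ← conj_zpow, ← hk, ← zpow_mul, ← zpow_mul, ← zpow_mul]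
    congr 1; ring⟩
  set K := Subgroup.zpowers x ⊔ Mp
  have hK : K ≠ ⊤ := by
    intro e
    have hmK : m ∈ K := e ▸ Subgroup.mem_top m
    obtain ⟨w, ⟨i, rfl⟩, v, hv, hwv⟩ := Subgroup.mem_sup_of_normal_right.mp hmK
    have hvM : v ∈ M := by
      obtain ⟨l, rfl⟩ := hv
      exact zpow_mem (zpow_mem hm _) _
    have hxi : x ^ i ∈ M := by
      have : x ^ i * v ∈ M := by rw [show x ^ i * v = m from hwv]; exact hm
      exact (M.mul_mem_cancel_right hvM).mp this
    have hpi : (p : ℤ) ∣ i := by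
      by_contra hndvd
      obtain ⟨u, t, hut⟩ := (Nat.prime_iff_prime_int.mp hp.out).coprime_iff_not_dvd.mpr hndvd
      refine hx ?_
      have : x = (x ^ p) ^ u * (x ^ i) ^ t := by
        rw [← zpow_natCast, ← zpow_mul, ← zpow_mul, ← zpow_add, mul_comm (p : ℤ), mul_comm i, hut,
          zpow_one]
      rw [this]; exact M.mul_mem (zpow_mem hxp u) (zpow_mem hxi t)
    obtain ⟨i', rfl⟩ := hpi
    have hmMp : m ∈ Mp := by
      have hv' : x ^ ((p : ℤ) * i') ∈ Mp := by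
        rw [zpow_mul, zpow_natCast, ← ha, zpow_mul]
        exact zpow_mem (zpow_mem (Subgroup.mem_zpowers _) _) _
      have := Mp.mul_mem hv' hv
      rwa [hwv] at this
    obtain ⟨l, hl⟩ := hmMp
    obtain ⟨k, hk⟩ := hP m
    change (m ^ (p : ℤ)) ^ l = m at hl
    apply hm1
    have hstep : ∀ j : ℕ, m = (m ^ (p ^ j : ℕ)) ^ (l ^ j) := by
      intro j
      induction j with
      | zero => simp
      | succ j ihj =>
        conv_lhs => rw [ihj, ← hl]
        rw [← zpow_natCast, ← zpow_natCast, ← zpow_mul, ← zpow_mul, ← zpow_mul, ← zpow_mul]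
        congr 1; push_cast; ring
    rw [hstep k, hk, one_zpow]
  haveI := hproper K hK
  have hcomm : ∀ i : ℤ, x * (m ^ (p : ℤ)) ^ i = (m ^ (p : ℤ)) ^ i * x := fun i => by
    letI := IsCyclic.commGroup (α := K)
    exact congrArg Subtype.val (mul_comm (⟨x, Subgroup.mem_sup_left (Subgroup.mem_zpowers x)⟩ : K)
      ⟨(m ^ (p : ℤ)) ^ i, Subgroup.mem_sup_right (zpow_mem (Subgroup.mem_zpowers _) i)⟩)
  have hMne : M ≠ ⊥ := fun e => hm1 (by rw [e, Subgroup.mem_bot] at hm; exact hm)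
  have hIc : M ⊓ Subgroup.center P ≠ ⊥ := Grp.inf_center_ne_bot M hMne
  haveI : Nontrivial ↥(M ⊓ Subgroup.center P) := (Subgroup.nontrivial_iff_ne_bot _).mpr hIc
  obtain ⟨k, hk, hcard⟩ := ((hP.to_subgroup (M ⊓ Subgroup.center P)).nontrivial_iff_card).mp inferInstance
  obtain ⟨z, hz⟩ := exists_prime_orderOf_dvd_card' (G := ↥(M ⊓ Subgroup.center P)) p
    (hcard ▸ dvd_pow_self p (Nat.pos_iff_ne_zero.mp hk))
  have hzo : orderOf (z : P) = p := by rw [Subgroup.orderOf_coe, hz]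
  have hzc : ∀ g, g * (z : P) = z * g := Subgroup.mem_center_iff.mp z.2.2
  set b := m ^ (-a')
  have hbM : b ∈ M := zpow_mem hm _
  set u := b⁻¹ * x⁻¹ * b * x with hu
  have huM : u ∈ M := by
    have : x⁻¹ * b * x ∈ M := by simpa using hMn.conj_mem b hbM x⁻¹
    rw [hu, show b⁻¹ * x⁻¹ * b * x = b⁻¹ * (x⁻¹ * b * x) by group]
    exact M.mul_mem (M.inv_mem hbM) this
  have hup : u ^ p = 1 := by
    letI := IsCyclic.commGroup (α := M)
    have hxbM : x⁻¹ * b * x ∈ M := by simpa using hMn.conj_mem b hbM x⁻¹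
    have hc : Commute b⁻¹ (x⁻¹ * b * x) :=
      congrArg Subtype.val (mul_comm (⟨b⁻¹, M.inv_mem hbM⟩ : M) ⟨_, hxbM⟩)
    rw [hu, show b⁻¹ * x⁻¹ * b * x = b⁻¹ * (x⁻¹ * b * x) by group, hc.mul_pow,
      show x⁻¹ * b * x = x⁻¹ * b * x⁻¹⁻¹ by rw [inv_inv], conj_pow, inv_pow]
    have hbp : b ^ p = (m ^ (p : ℤ)) ^ (-a') := by
      rw [← zpow_natCast, ← zpow_mul, ← zpow_mul, mul_comm]
    rw [hbp, inv_inv, mul_assoc x⁻¹, ← hcomm, ← mul_assoc x⁻¹, inv_mul_cancel, one_mul, inv_mul_cancel]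
  obtain ⟨e, he⟩ := mem_zpowers_of_pow_eq_one hMc z.2.1 hzo huM hup
  have huc : ∀ g, u * g = g * u := fun g => by
    rw [← he]; exact ((show Commute g (z : P) from hzc g).zpow_right e).symm.eq
  have hw : ∀ g : P, (1 : P) * g = g * 1 := fun g => by simp
  have hyp := PGroups.mul_pow_class_three (a := x) (b := b) (u := u) (v := 1) (w := 1)
    (by rw [hu]; group) (by rw [mul_one]; exact huc x) (by rw [mul_one]; exact huc b) hw hw p
  have hch : p ∣ Nat.choose p 2 := hp.out.dvd_choose_self two_ne_zero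
    (lt_of_le_of_ne hp.out.two_le (Ne.symm hp2))
  obtain ⟨c, hc⟩ := hch
  rw [hc, pow_mul, hup, one_pow, one_pow, one_pow, mul_one, mul_one, mul_one] at hyp
  have hy1 : (x * b) ^ p = 1 := by
    rw [hyp, ← ha]
    show m ^ ((p : ℤ) * a') * (m ^ (-a')) ^ p = 1
    rw [← zpow_natCast, ← zpow_mul, ← zpow_add, show (p : ℤ) * a' + -a' * p = 0 by ring, zpow_zero]
  set B := Subgroup.closure ({x * b, (z : P)} : Set P)
  have hBc : IsMulCommutative B := Subgroup.isMulCommutative_closure (by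
    intro g hg g' hg'
    simp only [Set.mem_insert_iff, Set.mem_singleton_iff] at hg hg'
    rcases hg with rfl | rfl <;> rcases hg' with rfl | rfl
    · rfl
    · exact hzc _
    · exact (hzc _).symm
    · rfl)
  have hB := hab B hBc
  obtain ⟨j, hj⟩ := mem_zpowers_of_pow_eq_one hB (Subgroup.subset_closure (by simp)) hzo
    (Subgroup.subset_closure (by simp)) hy1
  refine absurd ?_ hx
  have : x * b ∈ M := by rw [← hj]; exact zpow_mem (Subgroup.mem_inf.mp z.2).1 j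
  exact (M.mul_mem_cancel_right hbM).mp this

theorem isCyclic_of_abelian_cyclic {P : Type u} [Group P] [Finite P] (hp2 : p ≠ 2) (hP : IsPGroup p P)
    (hab : ∀ A : Subgroup P, IsMulCommutative A → IsCyclic A) : IsCyclic P :=
  aux _ P rfl hp2 hP hab

end Cfsg.Agent.Transfer.RankOneCyclic
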