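import Mathlib

/-! Jordan's theorem on primitive groups with a prime cycle, in the centralizer form. -/

set_option autoImplicit false

open scoped Pointwise commutatorElement

namespace Cfsg.Agent.Transfer.JordanPrimeCycle

open Equiv Equiv.Perm MulAction

variable {α : Type*} [Fintype α] [DecidableEq α] {G : Subgroup (Perm α)}

/-- A primitive group with an element `g` of prime order `r` fixing three points, such that `r ^ 2` does
not divide the order of the pointwise stabilizer of the fixed points, all permutations of the fixed points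
are induced, and the centralizer of `g` has exponent prime to `3` on the support. -/
theorem alternatingGroup_le_of_fix (hG : IsPreprimitive G α) {g : Perm α} (hg : g ∈ G) {r : ℕ}
    [Fact r.Prime] (hgo : orderOf g = r)
    (hr2 : ¬ r ^ 2 ∣ Nat.card ↥(G ⊓ fixingSubgroup (Perm α) (((g.support : Finset α) : Set α)ᶜ)))
    (hF : 3 ≤ g.supportᶜ.card)
    (htr : IsMultiplyPretransitive G α g.supportᶜ.card)
    {e : ℕ} (he3 : ¬ 3 ∣ e)
    (hexp : ∀ c : Perm α, c * g = g * c → ∀ s ∈ g.support, (c ^ e) s = s) :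
    alternatingGroup α ≤ G := by
  classical
  set S := g.support with hS
  set K := G ⊓ fixingSubgroup (Perm α) ((S : Set α)ᶜ) with hK
  have hmemK : ∀ k, k ∈ K ↔ k ∈ G ∧ ∀ x ∉ S, k x = x := fun k => by
    rw [hK, Subgroup.mem_inf, mem_fixingSubgroup_iff]; rfl
  have hgK : g ∈ K := (hmemK g).mpr ⟨hg, fun x hx => Equiv.Perm.notMem_support.mp hx⟩
  have hPc : Nat.card (Subgroup.zpowers (⟨g, hgK⟩ : K)) = r := by
    rw [Nat.card_zpowers, Subgroup.orderOf_mk, hgo]
  have hrK : r ^ (Nat.card K).factorization r = r := by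
    have hd : r ∣ Nat.card K := hPc ▸ Subgroup.card_subgroup_dvd_card _
    have h1 := (Nat.Prime.pow_dvd_iff_le_factorization Fact.out Nat.card_pos.ne').not.mp hr2
    have h2 : 1 ≤ (Nat.card K).factorization r :=
      (Nat.Prime.pow_dvd_iff_le_factorization (p := r) Fact.out Nat.card_pos.ne').mp
        (by rwa [pow_one])
    rw [show (Nat.card K).factorization r = 1 by omega, pow_one]
  -- every permutation of the fixed points is induced by an element normalizing `⟨g⟩`
  have hnorm : ∀ σ : Perm ↥(Sᶜ), ∃ h ∈ G, (∀ x : ↥(Sᶜ), h x = σ x) ∧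
      (∃ i : ℤ, h * g * h⁻¹ = g ^ i) := by
    intro σ
    let e₁ : Fin Sᶜ.card ↪ α := Sᶜ.equivFin.symm.toEmbedding.trans ⟨Subtype.val, Subtype.val_injective⟩
    let e₂ : Fin Sᶜ.card ↪ α :=
      (Sᶜ.equivFin.symm.trans σ).toEmbedding.trans ⟨Subtype.val, Subtype.val_injective⟩
    obtain ⟨h, hh⟩ := htr.exists_smul_eq e₁ e₂
    have hh' : ∀ x : ↥(Sᶜ), (h : Perm α) x = σ x := fun x => by
      have := DFunLike.congr_fun hh (Sᶜ.equivFin x)
      simpa [e₁, e₂, Subgroup.smul_def] using this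
    have hstab : ∀ x, x ∉ S → (h : Perm α)⁻¹ x ∉ S := fun x hx => by
      have := hh' (σ.symm ⟨x, Finset.mem_compl.mpr hx⟩)
      rw [Equiv.apply_symm_apply] at this
      rw [show x = ((⟨x, Finset.mem_compl.mpr hx⟩ : ↥(Sᶜ)) : α) from rfl, ← this, Equiv.Perm.inv_def,
        Equiv.symm_apply_apply]
      exact Finset.mem_compl.mp (σ.symm ⟨x, Finset.mem_compl.mpr hx⟩).2
    have hk : (h : Perm α) * g * (h : Perm α)⁻¹ ∈ K := by
      refine (hmemK _).mpr ⟨G.mul_mem (G.mul_mem h.2 hg) (G.inv_mem h.2), fun x hx => ?_⟩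
      rw [Equiv.Perm.mul_apply, Equiv.Perm.mul_apply, Equiv.Perm.notMem_support.mp (hstab x hx),
        Equiv.Perm.inv_def, Equiv.apply_symm_apply]
    have hQc : Nat.card (Subgroup.zpowers (⟨_, hk⟩ : K)) = r := by
      rw [Nat.card_zpowers, Subgroup.orderOf_mk]
      exact ((MulAut.conj (h : Perm α)).orderOf_eq g).trans hgo
    set P : Sylow r K := Sylow.ofCard (Subgroup.zpowers ⟨g, hgK⟩) (by rw [hPc, hrK])
    set Q : Sylow r K := Sylow.ofCard (Subgroup.zpowers ⟨_, hk⟩) (by rw [hQc, hrK])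
    obtain ⟨k, hk'⟩ := MulAction.exists_smul_eq K Q P
    have hmem : k * ⟨_, hk⟩ * k⁻¹ ∈ (P : Subgroup K) := by
      rw [← hk', Sylow.coe_subgroup_smul]
      exact ⟨⟨_, hk⟩, Subgroup.mem_zpowers _, rfl⟩
    have hmem' : k * (⟨_, hk⟩ : K) * k⁻¹ ∈ Subgroup.zpowers (⟨g, hgK⟩ : K) := hmem
    obtain ⟨i, hi⟩ := Subgroup.mem_zpowers_iff.mp hmem'
    refine ⟨(k : Perm α) * h, G.mul_mem ((hmemK _).mp k.2).1 h.2, fun x => ?_, i, ?_⟩
    · rw [Equiv.Perm.mul_apply, hh', ((hmemK _).mp k.2).2 _ (Finset.mem_compl.mp (σ x).2)]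
    · have := congrArg Subtype.val hi
      simp only [SubgroupClass.coe_zpow, Subgroup.coe_mul, Subgroup.coe_inv] at this
      rw [this, mul_inv_rev]; group
  obtain ⟨a, b, c, ha, hb, hc, hab, hac, hbc⟩ := Finset.two_lt_card_iff.mp (show 2 < Sᶜ.card from hF)
  set A : ↥(Sᶜ) := ⟨a, ha⟩
  set B : ↥(Sᶜ) := ⟨b, hb⟩
  set C : ↥(Sᶜ) := ⟨c, hc⟩
  obtain ⟨u, hu, huF, i, hui⟩ := hnorm (Equiv.swap A B)
  obtain ⟨v, hv, hvF, j, hvj⟩ := hnorm (Equiv.swap B C)
  have hswap : ∀ (s t : ↥(Sᶜ)) (x : ↥(Sᶜ)), ((Equiv.swap s t x : ↥(Sᶜ)) : α) = Equiv.swap (s : α) t x :=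
    fun s t x => by
      rcases eq_or_ne x s with rfl | hs
      · simp
      rcases eq_or_ne x t with rfl | ht
      · simp
      rw [Equiv.swap_apply_of_ne_of_ne hs ht, Equiv.swap_apply_of_ne_of_ne
        (fun h => hs (Subtype.ext h)) (fun h => ht (Subtype.ext h))]
  set z := ⁅u⁻¹, v⁻¹⁆
  have hcomm : z * g = g * z := by
    have key : ∀ (w : Perm α) (l : ℤ), w * g * w⁻¹ = g ^ l → ∀ n : ℤ, w * g ^ n * w⁻¹ = g ^ (l * n) :=
      fun w l hw n => by rw [← conj_zpow, hw, zpow_mul]
    have h1 : v * u * g * (v * u)⁻¹ = g ^ (j * i) := by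
      calc v * u * g * (v * u)⁻¹ = v * (u * g * u⁻¹) * v⁻¹ := by group
        _ = g ^ (j * i) := by rw [hui, key v j hvj]
    have h2 : u * v * g * (u * v)⁻¹ = g ^ (j * i) := by
      calc u * v * g * (u * v)⁻¹ = u * (v * g * v⁻¹) * u⁻¹ := by group
        _ = g ^ (j * i) := by rw [hvj, key u i hui, mul_comm]
    calc z * g = (v * u)⁻¹ * (u * v * g * (u * v)⁻¹) * (u * v) := by
          simp only [z, commutatorElement_def]; group
      _ = (v * u)⁻¹ * (v * u * g * (v * u)⁻¹) * (u * v) := by rw [h2, ← h1]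
      _ = g * z := by simp only [z, commutatorElement_def]; group
  set T : Perm α := ⁅Equiv.swap a b, Equiv.swap b c⁆
  have hzF : ∀ x, x ∉ S → z x = T x := by
    have hinv : ∀ (w : Perm α) (τ : Perm ↥(Sᶜ)), (∀ y : ↥(Sᶜ), w y = τ y) →
        ∀ y : ↥(Sᶜ), w⁻¹ y = τ⁻¹ y := fun w τ h y => by
      rw [Equiv.Perm.inv_eq_iff_eq, h, Equiv.Perm.inv_def, Equiv.apply_symm_apply]
    intro x hx
    obtain ⟨y, rfl⟩ : ∃ y : ↥(Sᶜ), (y : α) = x := ⟨⟨x, Finset.mem_compl.mpr hx⟩, rfl⟩
    simp only [z, T, commutatorElement_def, Equiv.Perm.mul_apply, Equiv.Perm.inv_def,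
      Equiv.symm_swap]
    have hu' := hinv u _ huF
    have hv' := hinv v _ hvF
    simp only [Equiv.Perm.inv_def, Equiv.symm_swap] at hu' hv'
    simp only [Equiv.symm_symm]
    rw [hvF, huF, hv', hu', hswap, hswap, hswap, hswap]
  have hTc : T.IsThreeCycle := by
    have h : T = (Equiv.swap b a * Equiv.swap b c) * (Equiv.swap b a * Equiv.swap b c) := by
      simp [T, commutatorElement_def, Equiv.swap_comm a b, mul_assoc]
    rw [h]
    exact (Equiv.Perm.isThreeCycle_swap_mul_swap_same hab.symm hbc hac).isThreeCycle_sq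
  have hTS : ∀ x ∈ S, T x = x := by
    intro x hx
    have h1 : x ≠ a := fun h => Finset.mem_compl.mp ha (h ▸ hx)
    have h2 : x ≠ b := fun h => Finset.mem_compl.mp hb (h ▸ hx)
    have h3 : x ≠ c := fun h => Finset.mem_compl.mp hc (h ▸ hx)
    simp [T, commutatorElement_def, Equiv.Perm.mul_apply, Equiv.swap_apply_of_ne_of_ne, h1, h2, h3]
  have hTF : ∀ x, x ∉ S → T x ∉ S := fun x hx h => hx (by
    have := hTS _ h
    rwa [T.injective this] at h)
  have hpow : ∀ n : ℕ, ∀ x, x ∉ S → (z ^ n) x = (T ^ n) x ∧ (T ^ n) x ∉ S := by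
    intro n
    induction n with
    | zero => intro x hx; exact ⟨rfl, hx⟩
    | succ n ih =>
      intro x hx
      obtain ⟨h1, h2⟩ := ih x hx
      rw [pow_succ', pow_succ', Equiv.Perm.mul_apply, Equiv.Perm.mul_apply, h1, hzF _ h2]
      exact ⟨rfl, hTF _ h2⟩
  have hze : z ^ e = T ^ e := by
    ext x
    by_cases hx : x ∈ S
    · rw [hexp z hcomm x hx, Equiv.Perm.pow_apply_eq_self_of_apply_eq_self (hTS x hx)]
    · exact (hpow e x hx).1
  have hTe : (T ^ e).IsThreeCycle := by
    have h3 := hTc.orderOf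
    obtain ⟨q, hq⟩ : ∃ q, e = 3 * q + 1 ∨ e = 3 * q + 2 := ⟨e / 3, by omega⟩
    have hT3 : ∀ q, T ^ (3 * q) = 1 := fun q => by rw [pow_mul, ← h3, pow_orderOf_eq_one, one_pow]
    rcases hq with rfl | rfl
    · rwa [pow_add, hT3, one_mul, pow_one]
    · rw [pow_add, hT3, one_mul, pow_two]
      exact hTc.isThreeCycle_sq
  refine Equiv.Perm.alternatingGroup_le_of_isPreprimitive_of_isThreeCycle_mem hG hTe ?_
  rw [← hze]
  exact G.pow_mem (by
    simp only [z, commutatorElement_def, inv_inv]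
    exact G.mul_mem (G.mul_mem (G.mul_mem (G.inv_mem hu) (G.inv_mem hv)) hu) hv) e

theorem card_fixingSubgroup_compl_dvd (S : Finset α) :
    Nat.card ↥(fixingSubgroup (Perm α) ((S : Set α)ᶜ)) ∣ S.card.factorial := by
  classical
  have hle : fixingSubgroup (Perm α) ((S : Set α)ᶜ) ≤
      (Equiv.Perm.ofSubtype : Perm {x // x ∈ S} →* Perm α).range := by
    intro k hk
    rw [mem_fixingSubgroup_iff] at hk
    have hfix : ∀ x, k x ≠ x → x ∈ S := fun x hx => by
      by_contra h
      exact hx (hk x h)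
    have hS : ∀ x, k x ∈ S ↔ x ∈ S := fun x => by
      by_cases h : k x = x
      · rw [h]
      · exact iff_of_true (hfix _ fun h' => h (k.injective h')) (hfix _ h)
    exact ⟨k.subtypePerm hS, Equiv.Perm.ofSubtype_subtypePerm hS hfix⟩
  refine (Subgroup.card_dvd_of_le hle).trans ?_
  refine (Subgroup.card_range_dvd _).trans ?_
  rw [Nat.card_perm, Nat.card_eq_fintype_card, Fintype.card_coe]

/-- Jordan's theorem: a primitive group with a cycle of prime length `p ≤ n - 3`. -/
theorem alternatingGroup_le_of_cycle (hG : IsPreprimitive G α) {p : ℕ} (hp : p.Prime)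
    (hpn : p + 3 ≤ Fintype.card α) {g : Perm α} (hgc : g.IsCycle) (hgp : g.support.card = p)
    (hg : g ∈ G) : alternatingGroup α ≤ G := by
  classical
  haveI := Fact.mk hp
  by_cases hp3 : p = 3
  · exact Equiv.Perm.alternatingGroup_le_of_isPreprimitive_of_isThreeCycle_mem hG
      (card_support_eq_three_iff.mp (hgp.trans hp3)) hg
  have hF : g.supportᶜ.card = Fintype.card α - p := by rw [Finset.card_compl, hgp]
  have hprim : IsPreprimitive (fixingSubgroup G ((g.support : Set α))ᶜ)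
      (SubMulAction.ofFixingSubgroup G ((g.support : Set α))ᶜ) := by
    haveI := Equiv.Perm.isPretransitive_of_isCycle_mem hgc hg
    refine IsPreprimitive.of_prime_card ?_
    convert hp using 1
    rw [Nat.card_eq_fintype_card, Fintype.card_subtype, ← hgp]
    apply congr_arg
    ext x
    simp [SubMulAction.mem_ofFixingSubgroup_iff]
  obtain ⟨n, hn⟩ : ∃ n, Fintype.card α - p = n + 1 := ⟨Fintype.card α - p - 1, by omega⟩
  have h2 := (hG.isMultiplyPreprimitive (s := ((g.support : Set α))ᶜ) (n := n)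
    (by rw [← Finset.coe_compl, Set.ncard_coe_finset, hF, hn])
    (by rw [Nat.card_eq_fintype_card]; have := hp.two_le; omega) hprim).isMultiplyPretransitive
  refine alternatingGroup_le_of_fix hG hg (r := p) (hgp ▸ hgc.orderOf) ?_ (by omega) ?_ (e := p)
    (fun h => hp3 ((Nat.prime_dvd_prime_iff_eq Nat.prime_three hp).mp h).symm) ?_
  · intro h
    have h1 := h.trans ((Subgroup.card_dvd_of_le inf_le_right).trans (card_fixingSubgroup_compl_dvd g.support))
    rw [hgp] at h1
    have h4 : p ^ 2 ∣ p * (p - 1).factorial := by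
      rwa [Nat.mul_factorial_pred hp.ne_zero]
    rw [pow_two] at h4
    have := hp.two_le
    have := (hp.dvd_factorial).mp (Nat.dvd_of_mul_dvd_mul_left hp.pos h4)
    omega
  · haveI := h2
    exact MulAction.isMultiplyPretransitive_of_le (n := n + 2) (by omega) (by
      rw [Nat.card_eq_fintype_card]; have := hp.two_le; omega)
  · intro z hz s hs
    obtain ⟨i, hi⟩ : g.SameCycle s (z s) := hgc.sameCycle (Equiv.Perm.mem_support.mp hs) (by
      intro h
      apply Equiv.Perm.mem_support.mp hs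
      apply z.injective
      rw [← Equiv.Perm.mul_apply, hz, Equiv.Perm.mul_apply, h])
    have hcom : Commute z g := hz
    have : ∀ k : ℕ, (z ^ k) s = ((g ^ i) ^ k) s := by
      intro k
      induction k with
      | zero => rfl
      | succ k ih =>
        rw [pow_succ, Equiv.Perm.mul_apply, ← hi, ← Equiv.Perm.mul_apply,
          ((hcom.zpow_right i).pow_left k).eq, Equiv.Perm.mul_apply, ih, ← Equiv.Perm.mul_apply,
          ← pow_succ']
    rw [this, ← zpow_natCast, ← zpow_mul, mul_comm, zpow_mul, zpow_natCast,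
      ← hgp, ← hgc.orderOf, pow_orderOf_eq_one, one_zpow, Equiv.Perm.one_apply]

end Cfsg.Agent.Transfer.JordanPrimeCycle
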