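import Cfsg.Agent.Lib.Transfer.Burnside

/-!
Abelian normal Hall subgroups, abelian Sylow subgroups and Burnside's criterion.
-/
set_option autoImplicit false
set_option linter.style.haveILetI false

open scoped commutatorElement Pointwise

namespace Cfsg.Agent.Transfer

variable {G : Type*} [Group G] {p : ℕ}

/-- An abelian Hall subgroup meets `G' ∩ Z(G)` trivially. -/
theorem hall_inf_commutator_inf_center [Finite G] (H : Subgroup G) (hc : IsMulCommutative H)
    (hHall : Nat.Coprime (Nat.card H) H.index) : H ⊓ commutator G ⊓ Subgroup.center G = ⊥ := by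
  letI : CommGroup H := { (inferInstance : Group H) with mul_comm := fun a b => hc.is_comm.comm a b }
  rw [eq_bot_iff]
  rintro x ⟨⟨hxH, hxG⟩, hxZ⟩
  have hcent : ∀ (k : ℕ) (g₀ : G), g₀⁻¹ * x ^ k * g₀ ∈ H → g₀⁻¹ * x ^ k * g₀ = x ^ k := fun k g₀ _ => by
    have hk : x ^ k ∈ Subgroup.center G := pow_mem hxZ k
    rw [mul_assoc, ← Subgroup.mem_center_iff.1 hk g₀, inv_mul_cancel_left]
  have h1 : MonoidHom.transfer (MonoidHom.id H) x = 1 :=
    Abelianization.commutator_subset_ker (MonoidHom.transfer (MonoidHom.id H)) hxG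
  rw [MonoidHom.transfer_eq_pow _ _ hcent] at h1
  have h2 : x ^ H.index = 1 := congrArg Subtype.val h1
  have h3 : orderOf x ∣ 1 := hHall ▸ Nat.dvd_gcd (H.orderOf_dvd_natCard hxH) (orderOf_dvd_of_pow_eq_one h2)
  exact orderOf_eq_one_iff.1 (Nat.dvd_one.1 h3)

/-- An abelian normal Hall subgroup `A` is `[A,G] ⊔ (Z(G) ∩ A)`. -/
theorem abelian_normal_hall_le_sup [Finite G] (A : Subgroup G) [A.Normal] (hc : IsMulCommutative A)
    (hHall : Nat.Coprime (Nat.card A) A.index) :
    A ≤ ⁅A, (⊤ : Subgroup G)⁆ ⊔ (Subgroup.center G ⊓ A) := by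
  intro a ha
  haveI : Fintype (G ⧸ A) := Fintype.ofFinite _
  have hcm : ∀ u ∈ A, ∀ v ∈ A, u * v = v * u := fun u hu v hv =>
    congrArg Subtype.val (hc.is_comm.comm ⟨u, hu⟩ ⟨v, hv⟩)
  letI : CommGroup A := { (inferInstance : Group A) with mul_comm := fun x y => hc.is_comm.comm x y }
  let a' : A := ⟨a, ha⟩
  have hwd : ∀ g₁ g₂ : G, (QuotientGroup.mk g₁ : G ⧸ A) = QuotientGroup.mk g₂ →
      g₁ * a * g₁⁻¹ = g₂ * a * g₂⁻¹ := by
    intro g₁ g₂ h
    have h' := QuotientGroup.eq.1 h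
    obtain ⟨u, hu, rfl⟩ : ∃ u ∈ A, g₂ = g₁ * u := ⟨_, h', by group⟩
    have := hcm u hu a ha
    calc g₁ * a * g₁⁻¹ = g₁ * (a * u) * u⁻¹ * g₁⁻¹ := by group
      _ = g₁ * (u * a) * u⁻¹ * g₁⁻¹ := by rw [this]
      _ = _ := by group
  let f : G ⧸ A → A := fun q => ⟨q.out * a * q.out⁻¹, Subgroup.Normal.conj_mem ‹_› a ha _⟩
  let z : A := ∏ q : G ⧸ A, f q
  have hz : (z : G) ∈ Subgroup.center G := by
    rw [Subgroup.mem_center_iff]
    intro g
    let cg : A →* A :=
      { toFun := fun x => ⟨g * x * g⁻¹, Subgroup.Normal.conj_mem ‹_› _ x.2 _⟩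
        map_one' := by ext; simp
        map_mul' := fun x y => by ext; simp [mul_assoc] }
    have : cg z = z := by
      rw [map_prod]
      refine Fintype.prod_equiv (Equiv.mulLeft (QuotientGroup.mk g)) _ _ fun q => ?_
      apply Subtype.ext
      change g * (q.out * a * q.out⁻¹) * g⁻¹ = _
      rw [show g * (q.out * a * q.out⁻¹) * g⁻¹ = (g * q.out) * a * (g * q.out)⁻¹ by group]
      apply hwd
      simp
    have h1 : g * (z : G) * g⁻¹ = z := congrArg Subtype.val this
    exact mul_inv_eq_iff_eq_mul.1 h1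
  -- `z⁻¹ a^m ∈ [A, G]`
  let K : Subgroup A := (⁅A, (⊤ : Subgroup G)⁆).subgroupOf A
  have hK : (QuotientGroup.mk z : A ⧸ K) = QuotientGroup.mk (a' ^ A.index) := by
    rw [QuotientGroup.mk_pow, ← QuotientGroup.mk'_apply, map_prod,
      Subgroup.index_eq_card, Nat.card_eq_fintype_card, ← Finset.card_univ, ← Finset.prod_const]
    refine Finset.prod_congr rfl fun q _ => ?_
    rw [QuotientGroup.mk'_apply, QuotientGroup.eq]
    change ((f q)⁻¹ * a' : A).1 ∈ ⁅A, (⊤ : Subgroup G)⁆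
    have hm : ⁅a, q.out⁆ ∈ ⁅A, (⊤ : Subgroup G)⁆ :=
      Subgroup.commutator_mem_commutator ha (Subgroup.mem_top _)
    have he : ((f q)⁻¹ * a' : A).1 = a⁻¹ * ⁅a, q.out⁆ * a := by
      change (q.out * a * q.out⁻¹)⁻¹ * a = _
      rw [commutatorElement_def]; group
    rw [he]
    haveI := Subgroup.commutator_normal A (⊤ : Subgroup G)
    have := Subgroup.Normal.conj_mem ‹(⁅A, (⊤ : Subgroup G)⁆).Normal› _ hm a⁻¹
    simpa using this
  refine mem_of_pow_mem (n := A.index) ?_ (hHall.coprime_dvd_left (A.orderOf_dvd_natCard ha))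
  have h2' : z⁻¹ * a' ^ A.index ∈ K := QuotientGroup.eq.1 hK
  have h2 : ((z : G)⁻¹ * a ^ A.index) ∈ ⁅A, (⊤ : Subgroup G)⁆ := h2'
  have h3 : a ^ A.index = (z : G) * ((z : G)⁻¹ * a ^ A.index) := by group
  rw [h3]
  exact mul_mem (Subgroup.mem_sup_right ⟨hz, z.2⟩) (Subgroup.mem_sup_left h2)

/-- For an abelian normal Hall subgroup, `[A,G]` and `Z(G) ∩ A` are complements in `A`. -/
theorem abelian_normal_hall_decomp [Finite G] (A : Subgroup G) [A.Normal] (hc : IsMulCommutative A)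
    (hHall : Nat.Coprime (Nat.card A) A.index) :
    ⁅A, (⊤ : Subgroup G)⁆ = commutator G ⊓ A ∧
      (commutator G ⊓ A) ⊓ (Subgroup.center G ⊓ A) = ⊥ ∧
      (commutator G ⊓ A) ⊔ (Subgroup.center G ⊓ A) = A := by
  have hbot : (commutator G ⊓ A) ⊓ (Subgroup.center G ⊓ A) = ⊥ := by
    rw [eq_bot_iff, ← hall_inf_commutator_inf_center A hc hHall]
    exact fun x hx => ⟨⟨hx.1.2, hx.1.1⟩, hx.2.1⟩
  have hle : ⁅A, (⊤ : Subgroup G)⁆ ≤ commutator G ⊓ A :=
    le_inf (Subgroup.commutator_mono le_top le_rfl) (Subgroup.commutator_le_left A ⊤)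
  have hsup := abelian_normal_hall_le_sup A hc hHall
  refine ⟨le_antisymm hle ?_, hbot, le_antisymm (sup_le inf_le_right inf_le_right)
    (hsup.trans (sup_le_sup_right hle _))⟩
  intro x hx
  haveI := Subgroup.commutator_normal A (⊤ : Subgroup G)
  obtain ⟨k, hk, z, hz, rfl⟩ := Subgroup.mem_sup_of_normal_left.1 (hsup hx.2)
  have hzG : z ∈ commutator G := by
    have := (commutator G).mul_mem ((commutator G).inv_mem (hle hk).1) hx.1
    rwa [inv_mul_cancel_left] at this
  have : z ∈ (commutator G ⊓ A) ⊓ (Subgroup.center G ⊓ A) := ⟨⟨hzG, hz.2⟩, hz⟩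
  rw [hbot, Subgroup.mem_bot] at this
  rw [this, mul_one]; exact hk

theorem sylow_le_normalizer [Fact p.Prime] [Finite G] (P : Sylow p G) :
    (P : Subgroup G) ≤ Subgroup.normalizer (P : Set G) := by
  intro a ha
  rw [← Sylow.smul_eq_iff_mem_normalizer]
  apply Sylow.ext
  rw [Sylow.coe_subgroup_smul]
  exact Subgroup.conj_smul_eq_self_of_mem ha

/-- An abelian Sylow subgroup `P` is `(P ∩ O^p(G)) × (P ∩ Z(N(P)))`. -/
theorem abelian_sylow_decomp [Finite G] [hp : Fact p.Prime] (P : Sylow p G) (hP : IsMulCommutative P) :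
    let C := (P : Subgroup G) ⊓ Subgroup.centralizer (Subgroup.normalizer (P : Set G) : Set G)
    (P : Subgroup G) ⊓ pResidual p G ⊓ C = ⊥ ∧
      (P : Subgroup G) ≤ ((P : Subgroup G) ⊓ pResidual p G) ⊔ C := by
  intro C
  set N := Subgroup.normalizer (P : Set G) with hN
  set A := (P : Subgroup G).subgroupOf N with hA
  have hPN := sylow_le_normalizer P
  haveI : A.Normal := by
    refine ⟨fun a ha n => ?_⟩
    exact (Subgroup.mem_set_normalizer_iff.1 n.2 a).1 ha
  have hcA : IsMulCommutative A := ⟨⟨fun x y => Subtype.ext (Subtype.ext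
    (congrArg Subtype.val (hP.is_comm.comm ⟨x.1.1, x.2⟩ ⟨y.1.1, y.2⟩) : _))⟩⟩
  have hcard : Nat.card A = Nat.card (P : Subgroup G) :=
    Nat.card_congr (Subgroup.subgroupOfEquivOfLe hPN).toEquiv
  have hHall : Nat.Coprime (Nat.card A) A.index := by
    rw [hcard]
    obtain ⟨m, hm⟩ := IsPGroup.iff_card.1 P.isPGroup'
    rw [hm]
    refine (hp.out.coprime_iff_not_dvd.2 ?_).pow_left m
    exact fun hd => P.not_dvd_index (hd.trans (Subgroup.relIndex_dvd_index_of_le hPN))
  obtain ⟨h1, h2, h3⟩ := abelian_normal_hall_decomp A hcA hHall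
  obtain ⟨hf1, hf2⟩ := abelian_sylow_inf_commutator P hP
  have hPT : (P : Subgroup G) ⊓ pResidual p G = ⁅(P : Subgroup G), N⁆ :=
    le_antisymm ((le_inf (sylow_inf_pResidual_le_commutator P) inf_le_left).trans hf1) hf2
  have hmap : (⁅A, (⊤ : Subgroup N)⁆).map N.subtype = ⁅(P : Subgroup G), N⁆ := by
    rw [Subgroup.map_commutator, hA, Subgroup.map_subgroupOf_eq_of_le hPN, ← MonoidHom.range_eq_map,
      Subgroup.range_subtype]
  have hC : (Subgroup.center N ⊓ A).map N.subtype = C := by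
    ext x
    constructor
    · rintro ⟨y, ⟨hy1, hy2⟩, rfl⟩
      exact ⟨hy2, fun n hn => congrArg Subtype.val (Subgroup.mem_center_iff.1 hy1 ⟨n, hn⟩)⟩
    · rintro ⟨hxP, hxC⟩
      exact ⟨⟨x, hPN hxP⟩, ⟨Subgroup.mem_center_iff.2 fun n => Subtype.ext (hxC n n.2), hxP⟩, rfl⟩
  rw [hPT, ← hmap, ← hC]
  constructor
  · rw [h1, ← Subgroup.map_inf _ _ _ N.subtype_injective, h2, Subgroup.map_bot]
  · rw [← Subgroup.map_sup, h1, h3, hA, Subgroup.map_subgroupOf_eq_of_le hPN]

/-- Burnside: an abelian Sylow subgroup centralized by the prime-power `p'`-elements of its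
normalizer has a normal complement. -/
theorem hasNormalPComplement_of_prime_elements [Finite G] [hp : Fact p.Prime] (P : Sylow p G)
    (hP : IsMulCommutative P)
    (h : ∀ q : ℕ, q.Prime → q ≠ p → ∀ g ∈ Subgroup.normalizer (P : Set G), (∃ k, orderOf g = q ^ k) →
      ∀ x ∈ (P : Subgroup G), g * x * g⁻¹ = x) :
    HasNormalPComplement p G := by
  have hle : Subgroup.normalizer (P : Set G) ≤ Subgroup.centralizer (P : Set G) := by
    intro g hg
    refine prime_parts g _ fun q hq y hy hyz => ?_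
    have hyN : y ∈ Subgroup.normalizer (P : Set G) := (Subgroup.zpowers_le.2 hg) hyz
    by_cases hqp : q = p
    · subst hqp
      obtain ⟨k, hk⟩ := hy
      have hyp : IsPGroup q (Subgroup.zpowers y) := IsPGroup.of_card (n := k) (by rw [Nat.card_zpowers, hk])
      have : Subgroup.zpowers y ⊓ Subgroup.normalizer (P : Set G) = Subgroup.zpowers y ⊓ (P : Subgroup G) :=
        hyp.inf_normalizer_sylow P
      have hyP : y ∈ (P : Subgroup G) :=
        ((this ▸ ⟨Subgroup.mem_zpowers y, hyN⟩ : y ∈ Subgroup.zpowers y ⊓ (P : Subgroup G))).2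
      intro x hx
      exact congrArg Subtype.val (hP.is_comm.comm ⟨x, hx⟩ ⟨y, hyP⟩)
    · intro x hx
      exact (mul_inv_eq_iff_eq_mul.1 (h q hq hqp y hyN hy x hx)).symm
  exact ⟨P, _, inferInstance, MonoidHom.ker_transferSylow_isComplement' P hle⟩

/-- A `q`-element normalizing `P` centralizes it, provided `q ∤ |P| - d` for each proper divisor
`d` of `|P|`. -/
theorem conj_eq_self_of_counting [Finite G] {q : ℕ} [hq : Fact q.Prime] (P : Subgroup G) {g : G}
    (hg : g ∈ Subgroup.normalizer (P : Set G)) {k : ℕ} (hk : orderOf g = q ^ k)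
    (hd : ∀ d, d ∣ Nat.card P → d ≠ Nat.card P → ¬ Nat.card P ≡ d [MOD q]) :
    ∀ x ∈ P, g * x * g⁻¹ = x := by
  let c : Subgroup.zpowers g →* MulAut P :=
    P.normalizerMonoidHom.comp (Subgroup.inclusion (Subgroup.zpowers_le.2 hg))
  letI : MulAction (Subgroup.zpowers g) P := MulAction.compHom P c
  have hpg : IsPGroup q (Subgroup.zpowers g) := IsPGroup.of_card (n := k) (by rw [Nat.card_zpowers, hk])
  have hmod := hpg.card_modEq_card_fixedPoints (α := P)
  let F : Subgroup P := ⨅ s : Subgroup.zpowers g, (c s).toMonoidHom.eqLocus (MonoidHom.id P)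
  have hF : MulAction.fixedPoints (Subgroup.zpowers g) P = (F : Set P) := by
    ext x
    simp only [MulAction.mem_fixedPoints, SetLike.mem_coe, F, Subgroup.mem_iInf]
    exact Iff.rfl
  rw [Nat.card_congr (Equiv.setCongr hF)] at hmod
  have hFtop : F = ⊤ := by
    by_contra hne
    exact hd _ (Subgroup.card_subgroup_dvd_card F)
      (fun he => hne (Subgroup.eq_top_of_card_eq F he)) hmod
  intro x hx
  have hx' : (⟨x, hx⟩ : P) ∈ F := hFtop ▸ Subgroup.mem_top _
  simp only [F, Subgroup.mem_iInf] at hx'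
  exact congrArg Subtype.val (hx' ⟨g, Subgroup.mem_zpowers g⟩)

end Cfsg.Agent.Transfer
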