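import Mathlib
import Cfsg.Agent.Lib.Transfer.NormalSteps
import Cfsg.Agent.Lib.Transfer.PGroups

/-! A maximal normal abelian subgroup of exponent dividing `q = p ^ n ≠ 2` absorbs all elements of
order dividing `q` in its centralizer. -/

set_option autoImplicit false

open scoped commutatorElement

namespace Cfsg.Agent.Transfer.MaxAbelianExponent

variable {G : Type*} [Group G]

theorem commutator_lt_of_normal [Group.IsNilpotent G] {N : Subgroup G} [N.Normal] (hN : N ≠ ⊥) :
    ⁅N, (⊤ : Subgroup G)⁆ < N := by
  refine lt_of_le_of_ne (Subgroup.commutator_le_left N ⊤) fun he => hN ?_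
  have hle : ∀ i, N ≤ (⊤ : Subgroup G).lowerCentralSeries i := by
    intro i
    induction i with
    | zero => simp
    | succ i ih =>
      rw [Subgroup.lowerCentralSeries_succ, ← he]
      exact Subgroup.commutator_mono ih le_rfl
  obtain ⟨k, hk⟩ := Subgroup.nilpotent_iff_lowerCentralSeries.mp (inferInstance : Group.IsNilpotent G)
  exact le_bot_iff.mp (hk ▸ hle k)

theorem not_mem_commutator_of_closure [Group.IsNilpotent G] {x : G} (hx : x ≠ 1) :
    x ∉ ⁅Subgroup.normalClosure {x}, (⊤ : Subgroup G)⁆ := by
  intro h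
  have hne : Subgroup.normalClosure ({x} : Set G) ≠ ⊥ := fun e =>
    hx (by simpa [e] using Subgroup.subset_normalClosure (Set.mem_singleton x))
  exact (commutator_lt_of_normal hne).not_ge
    (Subgroup.normalClosure_le_normal (Set.singleton_subset_iff.mpr h))

/-- The normal closure of a `p`-th power is smaller. -/
theorem normalClosure_pow_lt [Finite G] {p : ℕ} [hp : Fact p.Prime] (hG : IsPGroup p G) {x : G}
    (hx : x ≠ 1) :
    Subgroup.normalClosure ({x ^ p} : Set G) < Subgroup.normalClosure {x} := by
  haveI := hG.isNilpotent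
  set N := Subgroup.normalClosure ({x} : Set G)
  have hxN : x ∈ N := Subgroup.subset_normalClosure (Set.mem_singleton x)
  refine lt_of_le_of_ne (Subgroup.normalClosure_le_normal
    (Set.singleton_subset_iff.mpr (N.pow_mem hxN p))) fun he => ?_
  set K := ⁅N, (⊤ : Subgroup G)⁆
  set M := Subgroup.zpowers (x ^ p) ⊔ K
  have hM : M.Normal := by
    refine ⟨fun a ha g => ?_⟩
    have haN : a ∈ N := (sup_le (Subgroup.zpowers_le.mpr (N.pow_mem hxN p))
      (Subgroup.commutator_le_left N ⊤) : M ≤ N) ha
    rw [show g * a * g⁻¹ = a * ⁅a⁻¹, g⁆ by simp [commutatorElement_def, mul_assoc]]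
    exact M.mul_mem ha (Subgroup.mem_sup_right
      (Subgroup.commutator_mem_commutator (N.inv_mem haN) (Subgroup.mem_top g)))
  have hxM : x ∈ M := Subgroup.normalClosure_le_normal
    (Set.singleton_subset_iff.mpr (Subgroup.mem_sup_left (Subgroup.mem_zpowers _))) (he ▸ hxN)
  obtain ⟨a, ⟨k, hk⟩, b, hb, hab⟩ := Subgroup.mem_sup_of_normal_right.mp hxM
  have hb' : x ^ (1 - (p : ℤ) * k) ∈ K := by
    have : b = x ^ (1 - (p : ℤ) * k) := by
      have hb0 : b = a⁻¹ * x := by rw [← hab, inv_mul_cancel_left]
      rw [hb0, ← hk, sub_eq_neg_add, zpow_add, zpow_one, zpow_neg, zpow_mul, zpow_natCast]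
    exact this ▸ hb
  apply not_mem_commutator_of_closure hx
  obtain ⟨r, hr⟩ := hG x
  have hcop : IsCoprime (1 - (p : ℤ) * k) ((p : ℤ) ^ r) :=
    IsCoprime.pow_right ⟨1, k, by ring⟩
  obtain ⟨s, t, hst⟩ := hcop
  have hx1 : x = (x ^ (1 - (p : ℤ) * k)) ^ s := by
    conv_lhs => rw [← zpow_one x, ← hst, zpow_add, mul_comm t, zpow_mul x _ t]
    rw [← Int.natCast_pow, zpow_natCast, hr, one_zpow, mul_one, mul_comm s, zpow_mul]
  have := K.zpow_mem hb' s
  rwa [← hx1] at this

theorem conj_pow_product {c x w : G} (hxc : x * c * x⁻¹ = w⁻¹ * c) (hwx : w * x = x * w)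
    (hwc : w * c = c * w) (v : G) (hv : ⁅v, x⁆ = c) (k : ℕ) :
    x ^ k * c * (x ^ k)⁻¹ = (w ^ k)⁻¹ * c ∧
      ⁅v, x ^ k⁆ = c ^ k * (w ^ Nat.choose k 2)⁻¹ := by
  induction k with
  | zero => simp
  | succ k ih =>
    obtain ⟨h1, h2⟩ := ih
    have hcw : ∀ i : ℕ, Commute c (w ^ i)⁻¹ := fun i =>
      ((Commute.symm hwc).pow_right i).inv_right
    refine ⟨?_, ?_⟩
    · calc x ^ (k + 1) * c * (x ^ (k + 1))⁻¹ = x * (x ^ k * c * (x ^ k)⁻¹) * x⁻¹ := by
            rw [pow_succ']; group
        _ = (w ^ k)⁻¹ * (x * c * x⁻¹) := by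
            rw [h1]
            have hc' : Commute x (w ^ k)⁻¹ := ((Commute.symm hwx).pow_right k).inv_right
            rw [← mul_assoc x, hc'.eq]; group
        _ = (w ^ (k + 1))⁻¹ * c := by rw [hxc, pow_succ']; group
    · calc ⁅v, x ^ (k + 1)⁆ = ⁅v, x ^ k⁆ * (x ^ k * ⁅v, x⁆ * (x ^ k)⁻¹) := by
            rw [pow_succ]; simp only [commutatorElement_def]; group
        _ = c ^ k * ((w ^ Nat.choose k 2)⁻¹ * (w ^ k)⁻¹) * c := by rw [h2, hv, h1]; group
        _ = c ^ (k + 1) * (w ^ Nat.choose (k + 1) 2)⁻¹ := by
            rw [← mul_inv_rev, ← pow_add, mul_assoc, ← (hcw _).eq, ← mul_assoc, ← pow_succ,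
              Nat.choose_succ_succ k 1, Nat.choose_one_right]

theorem mem_of_max [Finite G] {p : ℕ} [hp : Fact p.Prime] (hG : IsPGroup p G) (n : ℕ)
    (hn : p ^ n ≠ 2) (A : Subgroup G) [A.Normal] (hA : IsMulCommutative A)
    (hAe : ∀ a ∈ A, a ^ p ^ n = 1)
    (hmax : ∀ B : Subgroup G, B.Normal → IsMulCommutative B → (∀ b ∈ B, b ^ p ^ n = 1) → A ≤ B →
      B = A) (x : G) (hx : x ∈ Subgroup.centralizer (A : Set G)) (hxn : x ^ p ^ n = 1) : x ∈ A := by
  haveI := hA
  haveI := hG.isNilpotent
  set C := Subgroup.centralizer (A : Set G)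
  haveI : C.Normal := Subgroup.normal_centralizer
  set q := p ^ n
  rcases Nat.eq_zero_or_pos n with rfl | hn0
  · have h1 : x = 1 := by simpa [q] using hxn
    exact h1 ▸ A.one_mem
  have hpq : p ∣ q := dvd_pow_self p hn0.ne'
  induction hN : Nat.card (Subgroup.normalClosure ({x} : Set G)) using Nat.strong_induction_on
    generalizing x with
  | _ m ih =>
    subst hN
    by_contra hxA
    have hx1 : x ≠ 1 := fun e => hxA (e ▸ A.one_mem)
    set N := Subgroup.normalClosure ({x} : Set G)
    have hxN : x ∈ N := Subgroup.subset_normalClosure (Set.mem_singleton x)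
    have hNC : N ≤ C := Subgroup.normalClosure_le_normal (Set.singleton_subset_iff.mpr hx)
    have hK := commutator_lt_of_normal (N := N) (fun e => hx1 (by simpa [e] using hxN))
    have small : ∀ c ∈ ⁅N, (⊤ : Subgroup G)⁆, c ^ q = 1 → c ∈ A := by
      intro c hc hcq
      refine ih _ ?_ c (hNC (hK.le hc)) hcq rfl
      by_contra hge
      have hle := Subgroup.normalClosure_le_normal (N := ⁅N, (⊤ : Subgroup G)⁆)
        (Set.singleton_subset_iff.mpr hc)
      exact hK.not_ge (Subgroup.eq_of_le_of_card_ge (hle.trans hK.le) (not_lt.mp hge) ▸ hle)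
    have hxpA : x ^ p ∈ A := by
      have hlt := normalClosure_pow_lt (p := p) hG hx1
      refine ih _ ?_ (x ^ p) (C.pow_mem hx p) ?_ rfl
      · by_contra hge
        exact hlt.ne (Subgroup.eq_of_le_of_card_ge hlt.le (not_lt.mp hge))
      · rw [← pow_mul, mul_comm, pow_mul, hxn, one_pow]
    have hAC : ∀ a ∈ A, ∀ t ∈ C, a * t = t * a := fun a ha t ht =>
      Subgroup.mem_centralizer_iff.mp ht a ha
    have hAA : A ≤ C := fun a ha =>
      Subgroup.mem_centralizer_iff.mpr fun b hb => setLike_mul_comm hb ha
    have hgen : N = Subgroup.closure {y : G | ∃ g, y = g * x * g⁻¹} := by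
      rw [show N = Subgroup.normalClosure ({x} : Set G) from rfl, Subgroup.normalClosure]
      congr 1
      ext y
      simp only [Group.mem_conjugatesOfSet_iff, Set.mem_singleton_iff, exists_eq_left,
        isConj_iff, Set.mem_ofPred_eq, eq_comm]
      exact ⟨by rintro ⟨a, rfl, c, hc⟩; exact ⟨c, hc⟩, fun ⟨g, hg⟩ => ⟨x, rfl, g, hg⟩⟩
    have hconj : ∀ g : G, (g * x * g⁻¹) ^ p ∈ A := fun g => by
      rw [conj_pow]; exact Subgroup.Normal.conj_mem inferInstance _ hxpA g
    -- the derived subgroup of `N` lies in `A`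
    let L : ℕ → Subgroup G := fun i => Nat.rec (motive := fun _ => Subgroup G) N (fun _ (K : Subgroup G) => ⁅K, N⁆) i
    have hLsucc : ∀ i, L (i + 1) = ⁅L i, N⁆ := fun i => rfl
    have hLn : ∀ i, (L i).Normal := by
      intro i
      induction i with
      | zero => exact Subgroup.normalClosure_normal
      | succ i ih => rw [hLsucc]; haveI := ih; exact Subgroup.commutator_normal (L i) N
    have hLle : ∀ i, L i ≤ (⊤ : Subgroup G).lowerCentralSeries i := by
      intro i
      induction i with
      | zero => simp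
      | succ i ih =>
        rw [hLsucc, Subgroup.lowerCentralSeries_succ]
        exact Subgroup.commutator_mono ih le_top
    have hLN : ∀ i, L i ≤ N := by
      intro i
      induction i with
      | zero => exact le_rfl
      | succ i _ =>
        rw [hLsucc]
        exact Subgroup.commutator_le_right (L i) N
    have hstep : ∀ i, L (i + 2) ≤ A → L (i + 1) ≤ A := by
      intro i hi
      rw [hLsucc i, Subgroup.commutator_le]
      intro v hv t ht
      have hmul : ∀ t₁ ∈ N, ∀ t₂ ∈ N, ⁅v, t₁ * t₂⁆ = ⁅v, t₁⁆ * (t₁ * ⁅v, t₂⁆ * t₁⁻¹) := by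
        intro t₁ _ t₂ _
        simp only [commutatorElement_def]; group
      rw [hgen] at ht
      induction ht using Subgroup.closure_induction with
      | mem y hy =>
        obtain ⟨g, rfl⟩ := hy
        set y := g * x * g⁻¹
        have hyN : y ∈ N := Subgroup.Normal.conj_mem inferInstance _ hxN g
        set c := ⁅v, y⁆
        have hcL : c ∈ L (i + 1) := Subgroup.commutator_mem_commutator hv hyN
        set w := ⁅c, y⁆
        have hwA : w ∈ A := hi (Subgroup.commutator_mem_commutator hcL hyN)
        have hcC : c ∈ C := hNC (hLN (i + 1) hcL)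
        have hwy : w * y = y * w := hAC w hwA y (hNC hyN)
        have hwc : w * c = c * w := hAC w hwA c hcC
        have hyc : y * c * y⁻¹ = w⁻¹ * c := by
          simp only [w, commutatorElement_def]; group
        obtain ⟨h1, h2⟩ := conj_pow_product hyc hwy hwc v rfl p
        have hvy : ⁅v, y ^ p⁆ = 1 :=
          commutatorElement_eq_one_iff_mul_comm.mpr (hAC _ (hconj g) v (hNC (hLN _ hv))).symm
        rw [hvy] at h2
        have hwp : w ^ p = 1 := by
          rw [(show y ^ p * c = c * y ^ p from hAC _ (hconj g) c hcC), mul_inv_cancel_right] at h1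
          exact inv_eq_one.mp (right_eq_mul.mp h1)
        have hcp : c ^ p = w ^ Nat.choose p 2 := mul_inv_eq_one.mp h2.symm
        have hcK : c ∈ ⁅N, (⊤ : Subgroup G)⁆ :=
          Subgroup.commutator_mono (hLN i) le_top (Subgroup.commutator_mem_commutator hv hyN)
        refine small c hcK ?_
        rcases eq_or_ne p 2 with rfl | hp2
        · obtain ⟨r, hr⟩ : ∃ r, n = r + 2 := ⟨n - 2, by
            rcases Nat.lt_or_ge n 2 with h | h
            · obtain rfl : n = 1 := by omega
              exact absurd (by norm_num [q]) hn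
            · omega⟩
          have hc4 : c ^ 4 = 1 := by
            rw [show (4 : ℕ) = 2 * 2 from rfl, pow_mul, hcp, Nat.choose_self, pow_one, hwp]
          rw [show q = 4 * 2 ^ r by simp only [q, hr]; ring, pow_mul, hc4, one_pow]
        · obtain ⟨d, hd⟩ := hp.out.dvd_choose_self (by norm_num)
            (lt_of_le_of_ne hp.out.two_le (Ne.symm hp2))
          obtain ⟨e, he⟩ := hpq
          rw [he, pow_mul, hcp, hd, pow_mul, hwp, one_pow, one_pow]
      | one => simp
      | mul s t hs ht ihs iht =>
        rw [hmul s (hgen ▸ hs) t (hgen ▸ ht)]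
        exact A.mul_mem ihs (Subgroup.Normal.conj_mem inferInstance _ iht s)
      | inv s hs ihs =>
        rw [show ⁅v, s⁻¹⁆ = s⁻¹ * ⁅v, s⁆⁻¹ * s by simp only [commutatorElement_def]; group]
        simpa using Subgroup.Normal.conj_mem (inferInstance : A.Normal) _ (A.inv_mem ihs) s⁻¹
    have hD : L 1 ≤ A := by
      obtain ⟨k, hk⟩ := Subgroup.nilpotent_iff_lowerCentralSeries.mp
        (inferInstance : Group.IsNilpotent G)
      have hdown : ∀ j, L (j + 1) ≤ A → L 1 ≤ A := by
        intro j
        induction j with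
        | zero => exact id
        | succ j ih => exact fun h => ih (hstep j h)
      exact hdown k ((hLle _).trans ((Subgroup.lowerCentralSeries_antitone (⊤ : Subgroup G) (Nat.le_succ k)).trans
        (hk.le.trans bot_le)))
    -- all commutators with `x` lie in `A`
    have hcomm : ∀ g : G, ⁅g, x⁆ ∈ A := by
      intro g
      set y := g * x * g⁻¹
      have hyN : y ∈ N := Subgroup.Normal.conj_mem inferInstance _ hxN g
      set u := Transfer.PGroups.u_ y x⁻¹ with hu
      have hxy := Transfer.PGroups.mul_eq_u y x⁻¹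
      have huA : u ∈ A := hD (by
        have : u = ⁅x, y⁻¹⁆ := by simp [hu, Transfer.PGroups.u_, commutatorElement_def]
        rw [this]
        exact Subgroup.commutator_mem_commutator (show x ∈ L 0 from hxN) (N.inv_mem hyN))
      have huy : u * y = y * u * 1 := by rw [mul_one]; exact hAC u huA y (hNC hyN)
      have hux : u * x⁻¹ = x⁻¹ * u * 1 := by
        rw [mul_one]; exact hAC u huA _ (C.inv_mem hx)
      have h1 := Transfer.PGroups.mul_pow_class_three hxy huy hux (by simp) (by simp) q
      have hyq : y ^ q = 1 := by rw [conj_pow, hxn]; simp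
      have hxiq : x⁻¹ ^ q = 1 := by rw [inv_pow, hxn, inv_one]
      have hup : u ^ p = 1 := by
        have h2 := Transfer.PGroups.collect_b_pow hxy hux (by simp) p
        rw [one_pow, mul_one, ← hAC _ (by rw [inv_pow]; exact A.inv_mem hxpA : x⁻¹ ^ p ∈ A) y
          (hNC hyN)] at h2
        exact left_eq_mul.mp h2
      have hc2 : p ∣ Nat.choose q 2 := by
        rcases eq_or_ne p 2 with rfl | hp2
        · obtain ⟨r, hr⟩ : ∃ r, n = r + 2 := ⟨n - 2, by
            rcases Nat.lt_or_ge n 2 with h | h
            · obtain rfl : n = 1 := by omega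
              exact absurd (by norm_num [q]) hn
            · omega⟩
          exact hp.out.dvd_choose_pow (by norm_num) (by simp only [hr, pow_add]; have := Nat.one_le_two_pow (n := r); omega)
        · refine hp.out.dvd_choose_pow (by norm_num) ?_
          have h3 : p ≤ q := Nat.le_of_dvd (pow_pos hp.out.pos n) hpq
          have := hp.out.two_le
          omega
      obtain ⟨d, hd⟩ := hc2
      rw [hyq, hxiq, one_pow, one_pow, hd, pow_mul, hup, one_pow] at h1
      refine small _ ?_ (by rw [commutatorElement_def]; simpa [y, mul_assoc] using h1)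
      rw [Subgroup.commutator_comm]
      exact Subgroup.commutator_mem_commutator (Subgroup.mem_top g) hxN
    set B := Subgroup.closure (insert x (A : Set G))
    have hAB : A ≤ B := fun a ha => Subgroup.subset_closure (Set.mem_insert_of_mem _ ha)
    have hxB : x ∈ B := Subgroup.subset_closure (Set.mem_insert _ _)
    have hBn : B.Normal := by
      refine ⟨fun b hb g => ?_⟩
      induction hb using Subgroup.closure_induction with
      | mem y hy =>
        rcases hy with rfl | hy
        · rw [show g * y * g⁻¹ = ⁅g, y⁆ * y by simp [commutatorElement_def]]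
          exact B.mul_mem (hAB (hcomm g)) hxB
        · exact hAB (Subgroup.Normal.conj_mem inferInstance _ hy g)
      | one => simp
      | mul s t _ _ hs ht => simpa [conj_mul] using B.mul_mem hs ht
      | inv s _ hs => rw [← conj_inv]; exact B.inv_mem hs
    have hBc : IsMulCommutative B := NormalSteps.closure_insert_comm
      (fun a ha b hb => setLike_mul_comm ha hb) (fun a ha => (hAC a ha x hx).symm)
    have hBe : ∀ b ∈ B, b ^ q = 1 := by
      intro b hb
      induction hb using Subgroup.closure_induction with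
      | mem y hy =>
        rcases hy with rfl | hy
        · exact hxn
        · exact hAe y hy
      | one => exact one_pow _
      | mul s t hs ht ihs iht =>
        haveI := hBc
        have hst : Commute s t := setLike_mul_comm hs ht
        rw [hst.mul_pow, ihs, iht, one_mul]
      | inv s _ ihs => rw [inv_pow, ihs, inv_one]
    exact hxA (hmax B hBn hBc hBe hAB ▸ hxB)

end Cfsg.Agent.Transfer.MaxAbelianExponent
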