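import Mathlib
import Cfsg.Prelude.Def_HallClasses

/-!
Pronormality of the subgroups containing a Sylow `p`-subgroup, and extensions.
-/

set_option autoImplicit false
set_option maxHeartbeats 1000000

namespace Cfsg.Agent.Transfer.PronormalSyl

open scoped Pointwise

universe u

variable {G : Type u} [Group G]

/-- Conjugate subgroup. -/
def cj (g : G) (H : Subgroup G) : Subgroup G := H.map (MulAut.conj g).toMonoidHom

theorem mem_cj {g x : G} {H : Subgroup G} : x ∈ cj g H ↔ g⁻¹ * x * g ∈ H := by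
  constructor
  · rintro ⟨y, hy, rfl⟩
    simpa [mul_assoc] using hy
  · intro h
    exact ⟨_, h, by simp [mul_assoc]⟩

theorem cj_mul (a b : G) (H : Subgroup G) : cj (a * b) H = cj a (cj b H) := by
  ext x
  simp only [mem_cj, mul_inv_rev]
  group

theorem cj_one (H : Subgroup G) : cj 1 H = H := by ext x; simp [mem_cj]

theorem cj_eq_self {g : G} {H : Subgroup G} : cj g H = H ↔ g ∈ Subgroup.normalizer (H : Set G) := by
  constructor
  · intro h
    rw [Subgroup.mem_normalizer_iff]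
    intro x
    constructor
    · intro hx; rw [← h, mem_cj]; simpa [mul_assoc] using hx
    · intro hx; rw [← h, mem_cj] at hx; simpa [mul_assoc] using hx
  · intro h
    ext x
    rw [mem_cj]
    have := Subgroup.mem_normalizer_iff.1 h (g⁻¹ * x * g)
    simpa [mul_assoc] using this

theorem cj_mono {g : G} {H K : Subgroup G} (h : H ≤ K) : cj g H ≤ cj g K := Subgroup.map_mono h

theorem cj_le_of_mem {g : G} {H L : Subgroup G} (hg : g ∈ L) (h : H ≤ L) : cj g H ≤ L := fun x hx => by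
  have := L.mul_mem (L.mul_mem hg (h (mem_cj.1 hx))) (L.inv_mem hg)
  simpa [mul_assoc] using this

/-- Conjugate inside the subgroup generated. -/
def Good (K : Subgroup G) (g : G) : Prop := ∃ x ∈ K ⊔ cj g K, cj g K = cj x K

theorem isPronormal_iff (K : Subgroup G) : Cfsg.IsPronormal K ↔ ∀ g, Good K g := Iff.rfl

theorem good_of_mul {K : Subgroup G} {x g : G} (hx : x ∈ K ⊔ cj g K) (h : Good K (x⁻¹ * g)) : Good K g := by
  obtain ⟨y, hy, e⟩ := h
  have hle : cj (x⁻¹ * g) K ≤ K ⊔ cj g K := by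
    rw [cj_mul]; exact cj_le_of_mem (inv_mem hx) le_sup_right
  refine ⟨x * y, mul_mem hx ((sup_le le_sup_left hle : K ⊔ cj (x⁻¹ * g) K ≤ _) hy), ?_⟩
  rw [cj_mul x y, ← e, ← cj_mul, mul_inv_cancel_left]

theorem good_cj {K : Subgroup G} {w g : G} (h : Good K g) : Good (cj w K) (w * g * w⁻¹) := by
  obtain ⟨x, hx, e⟩ := h
  have e1 : ∀ z, cj (w * z * w⁻¹) (cj w K) = cj w (cj z K) := fun z => by
    rw [← cj_mul, inv_mul_cancel_right, cj_mul]
  refine ⟨w * x * w⁻¹, ?_, by rw [e1, e1, e]⟩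
  rw [e1, cj, cj, ← Subgroup.map_sup]
  exact ⟨x, hx, rfl⟩

theorem isPronormal_cj {K : Subgroup G} (w : G) (h : Cfsg.IsPronormal K) : Cfsg.IsPronormal (cj w K) := fun g => by
  have := good_cj (w := w) ((isPronormal_iff K).1 h (w⁻¹ * g * w))
  rwa [show w * (w⁻¹ * g * w) * w⁻¹ = g by group] at this

theorem map_cj {Q : Type*} [Group Q] (f : G →* Q) (g : G) (K : Subgroup G) :
    (cj g K).map f = cj (f g) (K.map f) := by
  rw [cj, cj, Subgroup.map_map, Subgroup.map_map]
  congr 1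
  ext x
  simp

/-- A homomorphic image of a pronormal subgroup is pronormal. -/
theorem isPronormal_map {Q : Type u} [Group Q] (f : G →* Q) (hf : Function.Surjective f) {K : Subgroup G}
    (h : Cfsg.IsPronormal K) : Cfsg.IsPronormal (K.map f) := by
  intro q
  obtain ⟨g, rfl⟩ := hf q
  obtain ⟨x, hx, e⟩ := (isPronormal_iff K).1 h g
  show Good (K.map f) (f g)
  refine ⟨f x, ?_, by rw [← map_cj, ← map_cj, e]⟩
  rw [← map_cj, ← Subgroup.map_sup]
  exact ⟨x, hx, rfl⟩

theorem isPronormal_subgroupOf {K M : Subgroup G} (hKM : K ≤ M) (h : Cfsg.IsPronormal K) :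
    Cfsg.IsPronormal (K.subgroupOf M) := by
  intro m
  obtain ⟨x, hx, e⟩ := (isPronormal_iff K).1 h (m : G)
  have hle : cj (m : G) K ≤ M := cj_le_of_mem m.2 hKM
  have hxM : x ∈ M := (sup_le hKM hle) hx
  have hmap : (cj m (K.subgroupOf M)).map M.subtype = cj (m : G) K := by
    rw [map_cj, Subgroup.map_subgroupOf_eq_of_le hKM]; rfl
  have hmap2 : (cj ⟨x, hxM⟩ (K.subgroupOf M)).map M.subtype = cj x K := by
    rw [map_cj, Subgroup.map_subgroupOf_eq_of_le hKM]; rfl
  show Good (K.subgroupOf M) m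
  refine ⟨⟨x, hxM⟩, ?_, Subgroup.map_injective M.subtype_injective (by rw [hmap, hmap2, e])⟩
  have : (⟨x, hxM⟩ : M) ∈ ((K.subgroupOf M) ⊔ cj m (K.subgroupOf M)).comap (MonoidHom.id M) ↔ x ∈
      (((K.subgroupOf M) ⊔ cj m (K.subgroupOf M)).map M.subtype) := by
    rw [Subgroup.comap_id]
    exact ⟨fun hh => ⟨_, hh, rfl⟩, fun ⟨y, hy, ey⟩ => by
      rwa [show (⟨x, hxM⟩ : M) = y from Subtype.ext ey.symm]⟩
  rw [Subgroup.comap_id] at this
  rw [this, Subgroup.map_sup, Subgroup.map_subgroupOf_eq_of_le hKM, hmap]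
  exact hx

/-- An overgroup of the normalizer of a Sylow subgroup is pronormal. -/
theorem isPronormal_of_normalizer_le [Finite G] {p : ℕ} [Fact p.Prime] (S : Sylow p G) {K : Subgroup G}
    (hSK : (S : Subgroup G) ≤ K) (hN : Subgroup.normalizer ((S : Subgroup G) : Set G) ≤ K) : Cfsg.IsPronormal K := by
  intro g
  show Good K g
  set L := K ⊔ cj g K
  have h1 : (S : Subgroup G) ≤ L := hSK.trans le_sup_left
  have h2 : ((g • S : Sylow p G) : Subgroup G) ≤ L := (Subgroup.map_mono hSK).trans le_sup_right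
  obtain ⟨k, hk⟩ := MulAction.exists_smul_eq L ((g • S : Sylow p G).subtype h2) (S.subtype h1)
  have hkg : ((k : G) * g) • S = S := by
    rw [mul_smul]
    exact Sylow.subtype_injective ((Sylow.smul_subtype h2 k).symm.trans hk)
  have hn : (k : G) * g ∈ K := hN (Sylow.smul_eq_iff_mem_normalizer.1 hkg)
  refine ⟨(k : G)⁻¹, inv_mem k.2, ?_⟩
  conv_rhs => rw [← cj_eq_self.2 (Subgroup.le_normalizer hn), ← cj_mul, inv_mul_cancel_left]

variable {p : ℕ} [Fact p.Prime] [Finite G]

theorem sylow_le_normalizer {A T : Subgroup G} [A.Normal] (hT : ∃ P : Sylow p ↥A, (P : Subgroup ↥A).map A.subtype = T) :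
    ∃ S : Sylow p G, T ≤ (S : Subgroup G) ∧ (S : Subgroup G) ≤ Subgroup.normalizer (T : Set G) := by
  obtain ⟨P, rfl⟩ := hT
  obtain ⟨S, hS⟩ := (P.isPGroup'.map A.subtype).exists_le_sylow
  refine ⟨S, hS, fun s hs => ?_⟩
  have e : (S : Subgroup G) ⊓ A = (P : Subgroup A).map A.subtype := by
    refine le_antisymm (fun x hx => ⟨⟨x, hx.2⟩, ?_, rfl⟩) (le_inf hS (Subgroup.map_subtype_le _))
    have h1 : IsPGroup p (((S : Subgroup G) ⊓ A).subgroupOf A) := (S.isPGroup'.to_le inf_le_left).comap_subtype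
    have h2 : (P : Subgroup A) ≤ ((S : Subgroup G) ⊓ A).subgroupOf A := fun y hy => ⟨hS ⟨y, hy, rfl⟩, y.2⟩
    exact (P.3 h1 h2) ▸ (show (⟨x, hx.2⟩ : A) ∈ ((S : Subgroup G) ⊓ A).subgroupOf A from hx)
  rw [← cj_eq_self, ← e]
  ext x
  rw [mem_cj]
  constructor
  · rintro ⟨h1, h2⟩
    exact ⟨show x ∈ (S : Subgroup G) by simpa [mul_assoc, -SetLike.mem_coe] using (S : Subgroup G).mul_mem ((S : Subgroup G).mul_mem hs h1) ((S : Subgroup G).inv_mem hs),
      by simpa [mul_assoc] using (‹A.Normal›.conj_mem _ h2 s)⟩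
  · rintro ⟨h1, h2⟩
    exact ⟨(S : Subgroup G).mul_mem ((S : Subgroup G).mul_mem ((S : Subgroup G).inv_mem hs) h1) hs, by simpa using (‹A.Normal›.conj_mem _ h2 s⁻¹)⟩

/-- The extension criterion, forward. -/
theorem forward (A : Subgroup G) [A.Normal] (T : Subgroup G) (hT : ∃ P : Sylow p ↥A, (P : Subgroup ↥A).map A.subtype = T)
    [(T.subgroupOf (Subgroup.normalizer (T : Set G))).Normal]
    (h : ∀ K : Subgroup G, (∃ P : Sylow p G, (P : Subgroup G) ≤ K) → Cfsg.IsPronormal K) :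
    (∀ K : Subgroup (↥(Subgroup.normalizer (T : Set G)) ⧸ T.subgroupOf (Subgroup.normalizer (T : Set G))), (∃ P : Sylow p (↥(Subgroup.normalizer (T : Set G)) ⧸ T.subgroupOf (Subgroup.normalizer (T : Set G))), (P : Subgroup (↥(Subgroup.normalizer (T : Set G)) ⧸ T.subgroupOf (Subgroup.normalizer (T : Set G)))) ≤ K) → Cfsg.IsPronormal K) ∧
      ∀ K : Subgroup G, (∃ P : Sylow p G, (P : Subgroup G) ≤ K) →
          (Subgroup.normalizer (K : Set G)).map (QuotientGroup.mk' A) = Subgroup.normalizer ((K.map (QuotientGroup.mk' A) : Subgroup (G ⧸ A)) : Set (G ⧸ A)) := by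
  obtain ⟨S, hTS, hSN⟩ := sylow_le_normalizer hT
  refine ⟨fun K hK => ?_, fun K hK => le_antisymm ?_ ?_⟩
  · obtain ⟨P, hP⟩ := hK
    set N := Subgroup.normalizer (T : Set G)
    set q := QuotientGroup.mk' (T.subgroupOf N)
    have hq : Function.Surjective q := QuotientGroup.mk'_surjective _
    set K₀ := (K.comap q).map N.subtype
    obtain ⟨R, hR⟩ := Sylow.mapSurjective_surjective hq p P
    have hRle : (R : Subgroup N).map N.subtype ≤ K₀ := Subgroup.map_mono (Subgroup.map_le_iff_le_comap.1 (by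
      rw [← hR] at hP; exact hP))
    obtain ⟨S', hS'⟩ := (R.isPGroup'.map N.subtype).exists_le_sylow
    have hSS : (S' : Subgroup G) = (R : Subgroup N).map N.subtype := by
      refine (Subgroup.eq_of_le_of_card_ge hS' ?_).symm
      rw [Sylow.card_eq_multiplicity S', Subgroup.card_map_of_injective N.subtype_injective,
        Sylow.card_eq_multiplicity R]
      have h1 : Nat.card (S : Subgroup G) ∣ Nat.card N := Subgroup.card_dvd_of_le hSN
      rw [Sylow.card_eq_multiplicity] at h1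
      exact Nat.le_of_dvd (pow_pos (Fact.out : p.Prime).pos _) (pow_dvd_pow p
        (((Fact.out : p.Prime).pow_dvd_iff_le_factorization Nat.card_pos.ne').1 h1))
    have h1 : Cfsg.IsPronormal K₀ := h K₀ ⟨S', hSS ▸ hRle⟩
    have h2 := isPronormal_map q hq (isPronormal_subgroupOf (Subgroup.map_subtype_le (K.comap q)) h1)
    have e : (K₀.subgroupOf N).map q = K := by
      show (((K.comap q).map N.subtype).comap N.subtype).map q = K
      rw [Subgroup.comap_map_eq_self_of_injective N.subtype_injective, Subgroup.map_comap_eq_self_of_surjective hq]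
    rwa [e] at h2
  · rintro _ ⟨n, hn, rfl⟩
    rw [← cj_eq_self, ← map_cj, cj_eq_self.2 hn]
  · intro y hy
    obtain ⟨g, rfl⟩ := QuotientGroup.mk'_surjective A y
    obtain ⟨x, hx, e⟩ := (isPronormal_iff K).1 (h K hK) g
    set q := QuotientGroup.mk' A
    have hxK : q x ∈ K.map q := by
      have : q x ∈ (K ⊔ cj g K).map q := ⟨x, hx, rfl⟩
      rwa [Subgroup.map_sup, map_cj, cj_eq_self.2 hy, sup_idem] at this
    obtain ⟨k, hk, hkx⟩ := hxK
    have hn : x⁻¹ * g ∈ Subgroup.normalizer (K : Set G) := by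
      rw [← cj_eq_self, cj_mul, e, ← cj_mul, inv_mul_cancel, cj_one]
    refine ⟨k * (x⁻¹ * g), mul_mem (Subgroup.le_normalizer hk) hn, ?_⟩
    rw [map_mul, hkx, ← map_mul, mul_inv_cancel_left]

/-- The extension criterion, backward. -/
theorem backward (A : Subgroup G) [A.Normal]
    (hA : ∀ K : Subgroup ↥A, (∃ P : Sylow p ↥A, (P : Subgroup ↥A) ≤ K) → Cfsg.IsPronormal K)
    (hQ : ∀ K : Subgroup (G ⧸ A), (∃ P : Sylow p (G ⧸ A), (P : Subgroup (G ⧸ A)) ≤ K) → Cfsg.IsPronormal K)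
    (T : Subgroup G) (hT : ∃ P : Sylow p ↥A, (P : Subgroup ↥A).map A.subtype = T)
    [(T.subgroupOf (Subgroup.normalizer (T : Set G))).Normal]
    (hN : ∀ K : Subgroup (↥(Subgroup.normalizer (T : Set G)) ⧸ T.subgroupOf (Subgroup.normalizer (T : Set G))), (∃ P : Sylow p (↥(Subgroup.normalizer (T : Set G)) ⧸ T.subgroupOf (Subgroup.normalizer (T : Set G))), (P : Subgroup (↥(Subgroup.normalizer (T : Set G)) ⧸ T.subgroupOf (Subgroup.normalizer (T : Set G)))) ≤ K) → Cfsg.IsPronormal K)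
    (hii : ∀ K : Subgroup G, (∃ P : Sylow p G, (P : Subgroup G) ≤ K) →
          (Subgroup.normalizer (K : Set G)).map (QuotientGroup.mk' A) = Subgroup.normalizer ((K.map (QuotientGroup.mk' A) : Subgroup (G ⧸ A)) : Set (G ⧸ A)))
    (K₀ : Subgroup G) (hK₀ : ∃ P : Sylow p G, (P : Subgroup G) ≤ K₀) : Cfsg.IsPronormal K₀ := by
  obtain ⟨S, hTS, hSN⟩ := sylow_le_normalizer hT
  -- conjugate so that S lies in K
  obtain ⟨P₀, hP₀⟩ := hK₀
  obtain ⟨w, hw⟩ := MulAction.exists_smul_eq G P₀ S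
  suffices key : ∀ K : Subgroup G, (S : Subgroup G) ≤ K → Cfsg.IsPronormal K by
    have h1 : (S : Subgroup G) ≤ cj w K₀ := by
      rw [← hw]; exact Subgroup.map_mono hP₀
    have h2 := isPronormal_cj w⁻¹ (key _ h1)
    rwa [← cj_mul, inv_mul_cancel, cj_one] at h2
  intro K hSK g
  show Good K g
  set q := QuotientGroup.mk' A
  have hq : Function.Surjective q := QuotientGroup.mk'_surjective A
  -- modulo A
  obtain ⟨y, hy, e⟩ := (isPronormal_iff _).1 (hQ (K.map q) ⟨S.mapSurjective hq, Subgroup.map_mono hSK⟩) (q g)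
  rw [← map_cj, ← Subgroup.map_sup] at hy
  obtain ⟨x, hx, rfl⟩ := hy
  refine good_of_mul hx ?_
  have hn : q (x⁻¹ * g) ∈ Subgroup.normalizer ((K.map q : Subgroup (G ⧸ A)) : Set (G ⧸ A)) := by
    rw [← cj_eq_self, map_mul, map_inv, cj_mul, e, ← cj_mul, inv_mul_cancel, cj_one]
  rw [← hii K ⟨S, hSK⟩] at hn
  obtain ⟨m, hm, hmq⟩ := hn
  -- reduce to an element of A
  have hm' : m⁻¹ ∈ Subgroup.normalizer (K : Set G) := inv_mem hm
  set a := x⁻¹ * g * m⁻¹ with ha_def
  have haA : a ∈ A := by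
    rw [← QuotientGroup.eq_one_iff, ← QuotientGroup.mk'_apply A, ha_def]
    show q _ = 1
    rw [map_mul, map_inv, ← hmq, mul_inv_cancel]
  suffices hmain : Good K a by
    obtain ⟨z, hz, ez⟩ := hmain
    have he : cj (x⁻¹ * g) K = cj a K := by
      rw [ha_def, cj_mul _ m⁻¹, cj_eq_self.2 hm']
    exact ⟨z, by rwa [he], by rw [he, ez]⟩
  -- the part in A
  set B := K ⊓ A with hB_def
  have hBA : B ≤ A := inf_le_right
  have hTA : T ≤ A := by obtain ⟨P, rfl⟩ := hT; exact Subgroup.map_subtype_le _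
  have hTB : T ≤ B := le_inf (hTS.trans hSK) hTA
  obtain ⟨P, hPT⟩ := hT
  have hPB : (P : Subgroup A) ≤ B.subgroupOf A := fun v hv => hTB (hPT ▸ ⟨v, hv, rfl⟩)
  obtain ⟨y, hy, ey⟩ := (isPronormal_iff _).1 (hA (B.subgroupOf A) ⟨P, hPB⟩) ⟨a, haA⟩
  have hmapB : ∀ v : A, (cj v (B.subgroupOf A)).map A.subtype = cj (v : G) B := fun v => by
    rw [map_cj, Subgroup.map_subgroupOf_eq_of_le hBA]; rfl
  have hy' : (y : G) ∈ K ⊔ cj a K := by
    have : (y : G) ∈ ((B.subgroupOf A) ⊔ cj ⟨a, haA⟩ (B.subgroupOf A)).map A.subtype := ⟨y, hy, rfl⟩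
    rw [Subgroup.map_sup, Subgroup.map_subgroupOf_eq_of_le hBA, hmapB] at this
    exact (sup_le_sup inf_le_left (cj_mono inf_le_left)) this
  refine good_of_mul hy' ?_
  have ey' : cj a B = cj (y : G) B := by
    have := congrArg (Subgroup.map A.subtype) ey
    rwa [hmapB, hmapB] at this
  set a₁ := (y : G)⁻¹ * a with ha1_def
  have ha1B : cj a₁ B = B := by
    rw [ha1_def, cj_mul, ey', ← cj_mul, inv_mul_cancel, cj_one]
  have ha1A : a₁ ∈ A := A.mul_mem (A.inv_mem y.2) haA
  -- into the normalizer of T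
  obtain ⟨b, hbB, hbN⟩ : ∃ b ∈ B, b * a₁ ∈ Subgroup.normalizer (T : Set G) := by
    let PB : Sylow p B := P.subtype (N := B.subgroupOf A) hPB |> fun _ => by
      exact (IsPGroup.toSylow (G := B) (P := T.subgroupOf B) (by
        rw [← hPT]; exact (P.isPGroup'.map A.subtype).comap_subtype) (by
        intro hd
        refine P.not_dvd_index (hd.trans ?_)
        show T.relIndex B ∣ _
        have h1 : T.relIndex A = (P : Subgroup A).index := by
          rw [Subgroup.relIndex, ← hPT]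
          congr 1
          exact Subgroup.comap_map_eq_self_of_injective A.subtype_injective _
        rw [← h1, ← Subgroup.relIndex_mul_relIndex T B A hTB hBA]
        exact dvd_mul_right _ _))
    have hPBmap : (PB : Subgroup B).map B.subtype = T := Subgroup.map_subgroupOf_eq_of_le hTB
    have hle : cj a₁ T ≤ B := ha1B ▸ cj_mono hTB
    obtain ⟨R, hR⟩ := (show IsPGroup p ((cj a₁ T).subgroupOf B) from
      ((hPBmap ▸ PB.isPGroup'.map B.subtype : IsPGroup p T).map _).comap_subtype).exists_le_sylow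
    obtain ⟨b, hb⟩ := MulAction.exists_smul_eq B R PB
    refine ⟨b, b.2, cj_eq_self.1 (Subgroup.eq_of_le_of_card_ge (fun v hv => ?_)
      (Nat.card_congr (Subgroup.equivMapOfInjective T _ (MulAut.conj ((b : G) * a₁)).injective).toEquiv).le)⟩
    rw [cj_mul, mem_cj] at hv
    have h1 : (⟨(b : G)⁻¹ * v * b, hle hv⟩ : B) ∈ (R : Subgroup B) := hR hv
    rw [← hPBmap]
    refine ⟨b * ⟨(b : G)⁻¹ * v * b, hle hv⟩ * b⁻¹, ?_, by simp [mul_assoc]⟩
    rw [← hb, Sylow.coe_subgroup_smul]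
    have h7 := Subgroup.smul_mem_pointwise_smul _ (MulAut.conj b) _ h1
    rw [MulAut.smul_def, MulAut.conj_apply] at h7
    exact h7
  have hbK : b ∈ K ⊔ cj a₁ K := Subgroup.mem_sup_left hbB.1
  refine good_of_mul (x := b⁻¹) (inv_mem hbK) ?_
  rw [inv_inv]
  set a₂ := b * a₁ with ha2_def
  have ha2B : cj a₂ B = B := by rw [ha2_def, cj_mul, ha1B, cj_eq_self.2 (Subgroup.le_normalizer hbB)]
  -- the part in N(T)/T
  set N := Subgroup.normalizer (T : Set G)
  set KT := K ⊓ N with hKT_def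
  set r := QuotientGroup.mk' (T.subgroupOf N)
  have hr : Function.Surjective r := QuotientGroup.mk'_surjective _
  obtain ⟨z, hz, ez⟩ := (isPronormal_iff _).1 (hN ((KT.subgroupOf N).map r)
    ⟨(S.subtype hSN).mapSurjective hr, Subgroup.map_mono fun v hv => ⟨hSK hv, v.2⟩⟩) (r ⟨a₂, hbN⟩)
  have hker : ∀ W : Subgroup N, T.subgroupOf N ≤ W → (W.map r).comap r = W := fun W hW => by
    rw [Subgroup.comap_map_eq, QuotientGroup.ker_mk', sup_eq_left.2 hW]
  rw [← map_cj, ← Subgroup.map_sup] at hz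
  obtain ⟨z, hz, rfl⟩ := hz
  have hTle : ∀ v : N, T.subgroupOf N ≤ cj v (KT.subgroupOf N) := fun v t ht => by
    rw [mem_cj]
    have ht' : (v : G)⁻¹ * t * v ∈ T := by
      have := (Subgroup.mem_normalizer_iff.1 (inv_mem v.2) (t : G)).1 ht
      simpa using this
    exact ⟨hSK (hTS ht'), (v⁻¹ * t * v).2⟩
  have ez' : cj (⟨a₂, hbN⟩ : N) (KT.subgroupOf N) = cj z (KT.subgroupOf N) := by
    rw [← map_cj, ← map_cj] at ez
    have := congrArg (Subgroup.comap r) ez
    rwa [hker _ (hTle _), hker _ (hTle _)] at this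
  have hKTN : KT ≤ N := inf_le_right
  have hmapN : ∀ v : N, (cj v (KT.subgroupOf N)).map N.subtype = cj (v : G) KT := fun v => by
    rw [map_cj, Subgroup.map_subgroupOf_eq_of_le hKTN]; rfl
  have hzmem : (z : G) ∈ KT ⊔ cj a₂ KT := by
    have : (z : G) ∈ ((KT.subgroupOf N) ⊔ cj (⟨a₂, hbN⟩ : N) (KT.subgroupOf N)).map N.subtype := ⟨z, hz, rfl⟩
    rwa [Subgroup.map_sup, Subgroup.map_subgroupOf_eq_of_le hKTN, hmapN] at this
  refine ⟨(z : G), (sup_le_sup inf_le_left (cj_mono inf_le_left)) hzmem, ?_⟩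
  -- K is the product of B and KT
  have hKB : K ≤ Subgroup.normalizer (B : Set G) := fun k hk => by
    rw [← cj_eq_self]
    ext v
    rw [mem_cj]
    constructor
    · rintro ⟨h1, h2⟩
      exact ⟨by simpa [mul_assoc] using K.mul_mem (K.mul_mem hk h1) (K.inv_mem hk), by simpa [mul_assoc] using (‹A.Normal›.conj_mem _ h2 k)⟩
    · rintro ⟨h1, h2⟩
      exact ⟨K.mul_mem (K.mul_mem (K.inv_mem hk) h1) hk, by simpa using (‹A.Normal›.conj_mem _ h2 k⁻¹)⟩
  have hdec : K = B ⊔ KT := by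
    refine le_antisymm (fun k hk => ?_) (sup_le inf_le_left inf_le_left)
    haveI : (A.subgroupOf K).Normal := Subgroup.Normal.subgroupOf ‹A.Normal› K
    have hBsyl : ∃ PB : Sylow p (A.subgroupOf K), ((PB : Subgroup (A.subgroupOf K)).map (A.subgroupOf K).subtype).map K.subtype = T := by
      have hp' : IsPGroup p ((T.subgroupOf K).subgroupOf (A.subgroupOf K)) := by
        rw [← hPT]; exact ((P.isPGroup'.map A.subtype).comap_subtype).comap_subtype
      refine ⟨hp'.toSylow ?_, ?_⟩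
      · intro hd
        refine P.not_dvd_index (hd.trans ?_)
        show (T.subgroupOf K).relIndex (A.subgroupOf K) ∣ _
        have h1 : T.relIndex A = (P : Subgroup A).index := by
          rw [Subgroup.relIndex, ← hPT]
          congr 1
          exact Subgroup.comap_map_eq_self_of_injective A.subtype_injective _
        rw [← h1, show (T.subgroupOf K).relIndex (A.subgroupOf K) = T.relIndex ((A.subgroupOf K).map K.subtype) from
          Subgroup.relIndex_comap T K.subtype _, Subgroup.subgroupOf_map_subtype, inf_comm A K, ← hB_def,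
          ← Subgroup.relIndex_mul_relIndex T B A hTB hBA]
        exact dvd_mul_right _ _
      · show (((T.subgroupOf K).subgroupOf (A.subgroupOf K)).map (A.subgroupOf K).subtype).map K.subtype = T
        rw [Subgroup.map_subgroupOf_eq_of_le (H := T.subgroupOf K) (K := A.subgroupOf K) (fun t ht => hTA ht), Subgroup.map_subgroupOf_eq_of_le (hTS.trans hSK)]
    obtain ⟨PB, hPBT⟩ := hBsyl
    have := Sylow.normalizer_sup_eq_top PB
    have hk' : (⟨k, hk⟩ : K) ∈ Subgroup.normalizer (((PB : Subgroup (A.subgroupOf K)).map (A.subgroupOf K).subtype : Subgroup K) : Set K) ⊔ A.subgroupOf K := by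
      rw [this]; trivial
    have h3 := Subgroup.mem_map_of_mem K.subtype hk'
    rw [Subgroup.map_sup] at h3
    refine (sup_le ?_ ?_ : _ ≤ B ⊔ KT) h3
    · rintro _ ⟨v, hv, rfl⟩
      refine Subgroup.mem_sup_right ⟨v.2, cj_eq_self.1 ?_⟩
      rw [← hPBT]
      show cj (K.subtype v) _ = _
      rw [← map_cj, cj_eq_self.2 hv]
    · rintro _ ⟨v, hv, rfl⟩
      exact Subgroup.mem_sup_left ⟨v.2, hv⟩
  have hzB : cj (z : G) B = B := by
    rw [cj_eq_self]
    refine (sup_le (inf_le_left.trans hKB) ?_) hzmem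
    intro v hv
    rw [← ha2B]
    rw [mem_cj] at hv
    have h1 := cj_eq_self.2 (hKB hv.1)
    rw [← cj_eq_self, show v = a₂ * (a₂⁻¹ * v * a₂) * a₂⁻¹ by group, cj_mul, cj_mul, ← cj_mul a₂⁻¹ a₂, inv_mul_cancel, cj_one, h1]
  have ezG : cj a₂ KT = cj (z : G) KT := by
    have := congrArg (Subgroup.map N.subtype) ez'
    rwa [hmapN, hmapN] at this
  rw [hdec]
  simp only [cj] at ha2B hzB ezG ⊢
  rw [Subgroup.map_sup, Subgroup.map_sup, ha2B, hzB, ezG]

end Cfsg.Agent.Transfer.PronormalSyl
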