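import Mathlib
import Cfsg.Prelude
import Cfsg.Agent.Lib.Grp.Frattini

/-!
Power structure of regular p-groups (Hall).
-/

set_option autoImplicit false
set_option linter.style.haveILetI false

open scoped commutatorElement

namespace Cfsg.Agent.Transfer.Regular

variable {G : Type*} [Group G] {p : ℕ}

/-- If two generators commute modulo a normalized subgroup, the derived subgroup lies in it. -/
theorem commutator_closure_le {a b : G} {N : Subgroup G}
    (hn : Subgroup.closure ({a, b} : Set G) ≤ Subgroup.normalizer (N : Set G)) (h : ⁅a, b⁆ ∈ N) :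
    ⁅Subgroup.closure ({a, b} : Set G), Subgroup.closure ({a, b} : Set G)⁆ ≤ N := by
  set K := Subgroup.closure ({a, b} : Set G) with hK
  set N' := N.subgroupOf K with hN'
  haveI : N'.Normal := ⟨fun x hx k => (Subgroup.mem_normalizer_iff.1 (hn k.2) x).1 hx⟩
  have ha : a ∈ K := Subgroup.subset_closure (Set.mem_insert _ _)
  have hb : b ∈ K := Subgroup.subset_closure (Set.mem_insert_of_mem _ rfl)
  set q := QuotientGroup.mk' N'
  have hab : q ⟨a, ha⟩ * q ⟨b, hb⟩ = q ⟨b, hb⟩ * q ⟨a, ha⟩ := by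
    rw [← commutatorElement_eq_one_iff_mul_comm, ← map_commutatorElement]
    exact (QuotientGroup.eq_one_iff _).2 h
  have hgen : Subgroup.closure ({q ⟨a, ha⟩, q ⟨b, hb⟩} : Set (K ⧸ N')) = ⊤ := by
    have h1 : Subgroup.closure ({⟨a, ha⟩, ⟨b, hb⟩} : Set K) = ⊤ := by
      refine Subgroup.map_injective K.subtype_injective ?_
      rw [MonoidHom.map_closure, Set.image_pair, ← MonoidHom.range_eq_map, Subgroup.range_subtype]
      rfl
    rw [← Set.image_pair q, ← MonoidHom.map_closure, h1, Subgroup.map_top_of_surjective q (QuotientGroup.mk'_surjective N')]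
  have hc : IsMulCommutative (Subgroup.closure ({q ⟨a, ha⟩, q ⟨b, hb⟩} : Set (K ⧸ N'))) :=
    Subgroup.isMulCommutative_closure (by
      rintro x (rfl | rfl) y (rfl | rfl)
      exacts [rfl, hab, hab.symm, rfl])
  rw [Subgroup.commutator_le]
  intro x hx y hy
  set u : K := ⟨x, hx⟩ with hu
  set v : K := ⟨y, hy⟩ with hv
  refine (QuotientGroup.eq_one_iff (N := N') ⁅u, v⁆).1 ?_
  show q ⁅u, v⁆ = 1
  rw [map_commutatorElement, commutatorElement_eq_one_iff_mul_comm]
  exact congrArg Subtype.val (hc.is_comm.comm ⟨_, hgen ▸ Subgroup.mem_top (q ⟨x, hx⟩)⟩ ⟨_, hgen ▸ Subgroup.mem_top (q ⟨y, hy⟩)⟩)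

theorem closure_inv_right (a b : G) : Subgroup.closure ({a, b⁻¹} : Set G) = Subgroup.closure ({a, b} : Set G) := by
  refine le_antisymm ?_ ?_ <;> rw [Subgroup.closure_le, Set.insert_subset_iff, Set.singleton_subset_iff] <;> constructor
  · exact Subgroup.subset_closure (Set.mem_insert _ _)
  · exact inv_mem (Subgroup.subset_closure (Set.mem_insert_of_mem _ rfl))
  · exact Subgroup.subset_closure (Set.mem_insert _ _)
  · have h : b⁻¹ ∈ Subgroup.closure ({a, b⁻¹} : Set G) := Subgroup.subset_closure (Set.mem_insert_of_mem _ rfl)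
    simpa using inv_mem h

theorem powerClosure_eq_bot {H : Subgroup G} {n : ℕ} (h : ∀ x ∈ H, x ^ p ^ n = 1) :
    Cfsg.powerClosure p n H = ⊥ := by
  rw [Cfsg.powerClosure, Subgroup.closure_eq_bot_iff]
  rintro _ ⟨x, hx, rfl⟩
  exact h x hx

/-- Equal `p^k`-th powers force `(a b⁻¹)^(p^k) = 1`. -/
theorem pow_div_eq_one [Finite G] [Fact p.Prime] (hG : Cfsg.IsRegularPGroup p G) (k : ℕ) :
    ∀ (n : ℕ) (a b : G), Nat.card (Subgroup.closure ({a, b} : Set G)) = n →
      a ^ p ^ k = b ^ p ^ k → (a * b⁻¹) ^ p ^ k = 1 := by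
  intro n
  induction n using Nat.strong_induction_on with
  | _ n ih =>
  intro a b hn hab
  by_cases hcomm : Commute a b
  · rw [hcomm.inv_right.mul_pow, inv_pow, hab, mul_inv_cancel]
  set K := Subgroup.closure ({a, b} : Set G) with hK
  have ha : a ∈ K := Subgroup.subset_closure (Set.mem_insert _ _)
  have hb : b ∈ K := Subgroup.subset_closure (Set.mem_insert_of_mem _ rfl)
  set D := ⁅K, K⁆ with hD
  have hDK : D ≤ K := Subgroup.commutator_le_self K
  -- the smaller subgroup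
  have hlt : Nat.card ↥(Subgroup.zpowers a ⊔ D : Subgroup G) < n := by
    have hle : Subgroup.zpowers a ⊔ D ≤ K := sup_le (Subgroup.zpowers_le.2 ha) hDK
    rw [← hn]
    refine lt_of_le_of_ne (Subgroup.card_le_of_le hle) fun heq => hcomm ?_
    have htop : Subgroup.zpowers (⟨a, ha⟩ : K) = ⊤ := by
      refine frattini_nongenerating (eq_top_iff.2 fun x _ => ?_)
      have hD' : commutator K ≤ frattini K := Cfsg.Agent.Grp.pGroup_commutator_le_frattini (hG.1.to_subgroup K)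
      have hx : (x : G) ∈ (Subgroup.zpowers (⟨a, ha⟩ : K) ⊔ commutator K).map K.subtype := by
        rw [Subgroup.map_sup, MonoidHom.map_zpowers, commutator_def, Subgroup.map_commutator,
          ← MonoidHom.range_eq_map, Subgroup.range_subtype]
        exact (Subgroup.eq_of_le_of_card_ge hle heq.ge).symm ▸ x.2
      obtain ⟨y, hy, hyx⟩ := hx
      rw [← show y = x from Subtype.ext hyx]
      exact (sup_le_sup_left hD' _) hy
    obtain ⟨i, hi⟩ := Subgroup.mem_zpowers_iff.1 (htop ▸ Subgroup.mem_top (⟨b, hb⟩ : K) : (⟨b, hb⟩ : K) ∈ Subgroup.zpowers (⟨a, ha⟩ : K))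
    have hi' : a ^ i = b := by simpa using congrArg Subtype.val hi
    rw [← hi']
    exact (Commute.refl a).zpow_right i
  have hih : ∀ x ∈ (Subgroup.zpowers a ⊔ D : Subgroup G), ∀ y ∈ (Subgroup.zpowers a ⊔ D : Subgroup G),
      x ^ p ^ k = y ^ p ^ k → (x * y⁻¹) ^ p ^ k = 1 := fun x hx y hy h =>
    ih _ (lt_of_le_of_lt (Subgroup.card_le_of_le ((Subgroup.closure_le _).2 (Set.insert_subset hx (Set.singleton_subset_iff.2 hy)))) hlt)
      x y rfl h
  let S : Subgroup G :=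
    { carrier := {x | x ∈ D ∧ x ^ p ^ k = 1}
      one_mem' := ⟨one_mem _, one_pow _⟩
      mul_mem' := fun {x y} hx hy => ⟨mul_mem hx.1 hy.1, by
        have h := hih x (Subgroup.mem_sup_right hx.1) y⁻¹ (Subgroup.mem_sup_right (inv_mem hy.1))
          (by rw [hx.2, inv_pow, hy.2, inv_one])
        rwa [inv_inv] at h⟩
      inv_mem' := fun {x} hx => ⟨inv_mem hx.1, by rw [inv_pow, hx.2, inv_one]⟩ }
  have hnorm : K ≤ Subgroup.normalizer (S : Set G) := by
    have key : ∀ g ∈ K, ∀ x ∈ S, g * x * g⁻¹ ∈ S := fun g hg x hx => by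
      refine ⟨?_, by rw [conj_pow, hx.2, mul_one, mul_inv_cancel]⟩
      have h1 : g * x * g⁻¹ = ⁅g, x⁆ * x := by rw [commutatorElement_def, inv_mul_cancel_right]
      rw [h1]
      exact mul_mem (Subgroup.commutator_mem_commutator hg (hDK hx.1)) hx.1
    intro g hg
    refine Subgroup.mem_normalizer_iff.2 fun x => ⟨key g hg x, fun hx => ?_⟩
    simpa [mul_assoc] using key g⁻¹ (inv_mem hg) _ hx
  have hcS : ⁅a, b⁆ ∈ S := by
    refine ⟨Subgroup.commutator_mem_commutator ha hb, ?_⟩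
    have hu : b * a * b⁻¹ ∈ (Subgroup.zpowers a ⊔ D : Subgroup G) := by
      have h1 : b * a * b⁻¹ = ⁅b, a⁆ * a := by rw [commutatorElement_def, inv_mul_cancel_right]
      rw [h1]
      exact mul_mem (Subgroup.mem_sup_right (Subgroup.commutator_mem_commutator hb ha))
        (Subgroup.mem_sup_left (Subgroup.mem_zpowers a))
    have h := hih a (Subgroup.mem_sup_left (Subgroup.mem_zpowers a)) _ hu
      (by rw [conj_pow, hab, (Commute.self_pow b _).eq, mul_inv_cancel_right])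
    rw [commutatorElement_def]
    simpa [mul_assoc] using h
  have hDS : D ≤ S := commutator_closure_le hnorm hcS
  obtain ⟨c, hc, he⟩ := hG.2 a b⁻¹ k
  rw [closure_inv_right, ← hK, powerClosure_eq_bot fun x hx => (hDS hx).2, Subgroup.mem_bot] at hc
  rw [he, hc, mul_one, inv_pow, hab, mul_inv_cancel]

theorem pow_mul_eq_one [Finite G] [Fact p.Prime] (hG : Cfsg.IsRegularPGroup p G) {a b : G} {k : ℕ}
    (ha : a ^ p ^ k = 1) (hb : b ^ p ^ k = 1) : (a * b) ^ p ^ k = 1 := by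
  have h := pow_div_eq_one hG k _ a b⁻¹ rfl (by rw [ha, inv_pow, hb, inv_one])
  rwa [inv_inv] at h

/-- The elements of order dividing `p^k`. -/
def omegaSub [Finite G] [Fact p.Prime] (hG : Cfsg.IsRegularPGroup p G) (k : ℕ) : Subgroup G where
  carrier := {x | x ^ p ^ k = 1}
  one_mem' := one_pow _
  mul_mem' := fun hx hy => pow_mul_eq_one hG hx hy
  inv_mem' := fun {x} hx => by show x⁻¹ ^ p ^ k = 1; rw [inv_pow, show x ^ p ^ k = 1 from hx, inv_one]

theorem pow_eq_iff [Finite G] [Fact p.Prime] (hG : Cfsg.IsRegularPGroup p G) (a b : G) (k : ℕ) :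
    a ^ p ^ k = b ^ p ^ k ↔ (a * b⁻¹) ^ p ^ k = 1 := by
  refine ⟨fun h => pow_div_eq_one hG k _ a b rfl h, fun h => ?_⟩
  set x := a * b⁻¹ with hx
  haveI : (omegaSub hG k).Normal := ⟨fun y hy g => by
    show (g * y * g⁻¹) ^ p ^ k = 1
    rw [conj_pow, show y ^ p ^ k = 1 from hy, mul_one, mul_inv_cancel]⟩
  have hxS : x ∈ omegaSub hG k := h
  have hc : ⁅x, b⁆ ∈ omegaSub hG k := by
    rw [commutatorElement_def, mul_assoc x b, mul_assoc x]
    exact mul_mem hxS ((inferInstance : (omegaSub hG k).Normal).conj_mem _ (inv_mem hxS) b)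
  have hD := commutator_closure_le (a := x) (b := b) (N := omegaSub hG k)
    (by rw [Subgroup.normalizer_eq_top]; exact le_top) hc
  obtain ⟨c, hc', he⟩ := hG.2 x b k
  rw [powerClosure_eq_bot fun y hy => hD hy, Subgroup.mem_bot] at hc'
  rw [hc', mul_one, h, one_mul, hx, inv_mul_cancel_right] at he
  exact he

/-- The regularity condition at one exponent `p^k`. -/
def CondAt (p k : ℕ) (G : Type*) [Group G] : Prop :=
  ∀ a b : G, ∃ c ∈ Cfsg.powerClosure p k ⁅Subgroup.closure ({a, b} : Set G), Subgroup.closure ({a, b} : Set G)⁆,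
    (a * b) ^ p ^ k = a ^ p ^ k * b ^ p ^ k * c

theorem powerClosure_mono {H K : Subgroup G} {k : ℕ} (h : H ≤ K) :
    Cfsg.powerClosure p k H ≤ Cfsg.powerClosure p k K :=
  Subgroup.closure_mono (fun _ ⟨x, hx, e⟩ => ⟨x, h hx, e⟩)

theorem closure_pair_le {H : Subgroup G} {a b : G} (ha : a ∈ H) (hb : b ∈ H) :
    Subgroup.closure ({a, b} : Set G) ≤ H :=
  (Subgroup.closure_le _).2 (Set.insert_subset ha (Set.singleton_subset_iff.2 hb))

theorem exists_pow_of_mem_powerClosure [Finite G] {k : ℕ} {H : Subgroup G}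
    (hmul : ∀ x ∈ H, ∀ y ∈ H, ∃ e ∈ H, x ^ p ^ k * y ^ p ^ k = e ^ p ^ k) :
    ∀ c ∈ Cfsg.powerClosure p k H, ∃ d ∈ H, c = d ^ p ^ k := by
  intro c hc
  refine Subgroup.closure_induction (p := fun c _ => ∃ d ∈ H, c = d ^ p ^ k) (fun _ h => h)
    ⟨1, one_mem _, (one_pow _).symm⟩ ?_ ?_ hc
  · rintro _ _ _ _ ⟨x, hx, rfl⟩ ⟨y, hy, rfl⟩
    exact hmul x hx y hy
  · rintro _ _ ⟨x, hx, rfl⟩
    exact ⟨x⁻¹, inv_mem hx, (inv_pow x _).symm⟩

/-- Products of `p^k`-th powers are `p^k`-th powers. -/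
theorem pow_mul_pow [Finite G] [Fact p.Prime] (hG : IsPGroup p G) {k : ℕ} (hk : CondAt p k G) :
    ∀ (n : ℕ) (a b : G), Nat.card (Subgroup.closure ({a, b} : Set G)) = n →
      ∃ e ∈ Subgroup.closure ({a, b} : Set G), a ^ p ^ k * b ^ p ^ k = e ^ p ^ k := by
  intro n
  induction n using Nat.strong_induction_on with
  | _ n ih =>
  intro a b hn
  set K := Subgroup.closure ({a, b} : Set G) with hK
  have ha : a ∈ K := Subgroup.subset_closure (Set.mem_insert _ _)
  have hb : b ∈ K := Subgroup.subset_closure (Set.mem_insert_of_mem _ rfl)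
  by_cases hcomm : Commute a b
  · exact ⟨a * b, mul_mem ha hb, (hcomm.mul_pow _).symm⟩
  set D := ⁅K, K⁆ with hD
  have hle : Subgroup.zpowers (a * b) ⊔ D ≤ K :=
    sup_le (Subgroup.zpowers_le.2 (mul_mem ha hb)) (Subgroup.commutator_le_self K)
  have hlt : Nat.card ↥(Subgroup.zpowers (a * b) ⊔ D : Subgroup G) < n := by
    rw [← hn]
    refine lt_of_le_of_ne (Subgroup.card_le_of_le hle) fun heq => hcomm ?_
    have htop : Subgroup.zpowers (⟨a * b, mul_mem ha hb⟩ : K) = ⊤ := by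
      refine frattini_nongenerating (eq_top_iff.2 fun x _ => ?_)
      have hD' : commutator K ≤ frattini K := Cfsg.Agent.Grp.pGroup_commutator_le_frattini (hG.to_subgroup K)
      have hx : (x : G) ∈ (Subgroup.zpowers (⟨a * b, mul_mem ha hb⟩ : K) ⊔ commutator K).map K.subtype := by
        rw [Subgroup.map_sup, MonoidHom.map_zpowers, commutator_def, Subgroup.map_commutator,
          ← MonoidHom.range_eq_map, Subgroup.range_subtype]
        exact (Subgroup.eq_of_le_of_card_ge hle heq.ge).symm ▸ x.2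
      obtain ⟨y, hy, hyx⟩ := hx
      rw [← show y = x from Subtype.ext hyx]
      exact (sup_le_sup_left hD' _) hy
    have hz : ∀ x ∈ K, x ∈ Subgroup.zpowers (a * b) := fun x hx => by
      obtain ⟨i, hi⟩ := Subgroup.mem_zpowers_iff.1 (htop ▸ Subgroup.mem_top (⟨x, hx⟩ : K) :
        (⟨x, hx⟩ : K) ∈ Subgroup.zpowers (⟨a * b, mul_mem ha hb⟩ : K))
      exact ⟨i, by simpa using congrArg Subtype.val hi⟩
    obtain ⟨i, hi⟩ := hz a ha
    obtain ⟨j, hj⟩ := hz b hb
    have := (Commute.refl (a * b)).zpow_zpow i j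
    change (a * b) ^ i = a at hi
    change (a * b) ^ j = b at hj
    rwa [hi, hj] at this
  have hih : ∀ x ∈ (Subgroup.zpowers (a * b) ⊔ D : Subgroup G), ∀ y ∈ (Subgroup.zpowers (a * b) ⊔ D : Subgroup G),
      ∃ e ∈ Subgroup.closure ({x, y} : Set G), x ^ p ^ k * y ^ p ^ k = e ^ p ^ k := fun x hx y hy =>
    ih _ (lt_of_le_of_lt (Subgroup.card_le_of_le (closure_pair_le hx hy)) hlt) x y rfl
  obtain ⟨c, hc, he⟩ := hk a b
  obtain ⟨d, hd, rfl⟩ := exists_pow_of_mem_powerClosure (fun x hx y hy => by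
    obtain ⟨e, hem, hee⟩ := hih x (Subgroup.mem_sup_right hx) y (Subgroup.mem_sup_right hy)
    exact ⟨e, closure_pair_le hx hy hem, hee⟩) c hc
  obtain ⟨e, hem, hee⟩ := hih (a * b) (Subgroup.mem_sup_left (Subgroup.mem_zpowers _)) d⁻¹
    (Subgroup.mem_sup_right (inv_mem hd))
  refine ⟨e, hle (closure_pair_le (Subgroup.mem_sup_left (Subgroup.mem_zpowers _))
    (Subgroup.mem_sup_right (inv_mem hd)) hem), ?_⟩
  rw [← hee, inv_pow, he, mul_inv_cancel_right]

/-- `℧_k(H)` is the set of `p^k`-th powers. -/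
theorem powerClosure_eq [Finite G] [Fact p.Prime] (hG : IsPGroup p G) {k : ℕ} (hk : CondAt p k G) (H : Subgroup G) :
    ∀ c, c ∈ Cfsg.powerClosure p k H ↔ ∃ d ∈ H, c = d ^ p ^ k := fun c =>
  ⟨exists_pow_of_mem_powerClosure (fun x hx y hy => by
    obtain ⟨e, hem, hee⟩ := pow_mul_pow hG hk _ x y rfl
    exact ⟨e, closure_pair_le hx hy hem, hee⟩) c, fun h => Subgroup.subset_closure h⟩

theorem commutator_powerClosure_le [Finite G] [Fact p.Prime] (hG : IsPGroup p G) {k : ℕ} (hk : CondAt p k G)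
    (H : Subgroup G) :
    ⁅Cfsg.powerClosure p k H, Cfsg.powerClosure p k H⁆ ≤ Cfsg.powerClosure p k ⁅H, H⁆ := by
  rw [Subgroup.commutator_le]
  intro x hx y hy
  obtain ⟨a, ha, rfl⟩ := (powerClosure_eq hG hk H x).1 hx
  obtain ⟨b, hb, rfl⟩ := (powerClosure_eq hG hk H y).1 hy
  set u := b ^ p ^ k * a⁻¹ * (b ^ p ^ k)⁻¹ with hu
  have huH : u ∈ H := mul_mem (mul_mem (pow_mem hb _) (inv_mem ha)) (inv_mem (pow_mem hb _))
  obtain ⟨c, hc, he⟩ := hk a u
  have hau : a * u = ⁅a, b ^ p ^ k⁆ := by rw [hu, commutatorElement_def]; group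
  have heq : ⁅a ^ p ^ k, b ^ p ^ k⁆ = (a * u) ^ p ^ k * c⁻¹ := by
    rw [he, mul_inv_cancel_right, hu, conj_pow, inv_pow, commutatorElement_def]; group
  rw [heq]
  refine mul_mem (Subgroup.subset_closure ⟨a * u, hau ▸ Subgroup.commutator_mem_commutator ha (pow_mem hb _), rfl⟩)
    (inv_mem (powerClosure_mono ?_ hc))
  exact Subgroup.commutator_mono (closure_pair_le ha huH) (closure_pair_le ha huH)

/-- Kemhadze: the condition at exponent `p` gives all of them. -/
theorem condAt_all [Finite G] [hp : Fact p.Prime] (hG : IsPGroup p G) (h1 : CondAt p 1 G) :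
    ∀ (N : ℕ) (a b : G), Nat.card (Subgroup.closure ({a, b} : Set G)) = N → ∀ n : ℕ,
      ∃ c ∈ Cfsg.powerClosure p n ⁅Subgroup.closure ({a, b} : Set G), Subgroup.closure ({a, b} : Set G)⁆,
        (a * b) ^ p ^ n = a ^ p ^ n * b ^ p ^ n * c := by
  intro N
  induction N using Nat.strong_induction_on with
  | _ N ih =>
  intro a b hN n
  set H := Subgroup.closure ({a, b} : Set G) with hH
  have ha : a ∈ H := Subgroup.subset_closure (Set.mem_insert _ _)
  have hb : b ∈ H := Subgroup.subset_closure (Set.mem_insert_of_mem _ rfl)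
  by_cases hbot : H = ⊥
  · rw [hbot, Subgroup.mem_bot] at ha hb
    exact ⟨1, one_mem _, by rw [ha, hb]; simp⟩
  cases n with
  | zero => exact ⟨1, one_mem _, by simp⟩
  | succ m =>
  set P := Cfsg.powerClosure p 1 H with hP
  have hPH : P ≤ H := by
    rw [hP, Cfsg.powerClosure, Subgroup.closure_le]
    rintro _ ⟨x, hx, rfl⟩
    exact pow_mem hx _
  have hlt : Nat.card P < N := by
    rw [← hN]
    refine lt_of_le_of_ne (Subgroup.card_le_of_le hPH) fun heq => hbot ?_
    have hPf : P ≤ (frattini H).map H.subtype := by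
      rw [hP, Cfsg.powerClosure, Subgroup.closure_le]
      rintro _ ⟨x, hx, rfl⟩
      exact ⟨(⟨x, hx⟩ : H) ^ p, Cfsg.Agent.Grp.pGroup_pow_mem_frattini (hG.to_subgroup H) _, by simp⟩
    have htop : frattini H = ⊤ := eq_top_iff.2 fun x _ => by
      obtain ⟨y, hy, hyx⟩ := hPf ((Subgroup.eq_of_le_of_card_ge hPH heq.ge).symm ▸ x.2 : (x : G) ∈ P)
      rwa [← show y = x from Subtype.ext hyx]
    have hbt : (⊥ : Subgroup H) = ⊤ := frattini_nongenerating (by rw [htop, sup_top_eq])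
    refine (Subgroup.eq_bot_iff_forall H).2 fun x hx => ?_
    have hm : (⟨x, hx⟩ : H) ∈ (⊥ : Subgroup H) := hbt ▸ Subgroup.mem_top _
    exact congrArg Subtype.val (Subgroup.mem_bot.1 hm)
  obtain ⟨c, hc, he⟩ := h1 a b
  obtain ⟨d, hd, rfl⟩ := (powerClosure_eq hG h1 _ c).1 hc
  have hXP : ∀ {z : G}, z ∈ H → z ^ p ^ 1 ∈ P := fun hz => Subgroup.subset_closure ⟨_, hz, rfl⟩
  have hdH : d ∈ H := Subgroup.commutator_le_self H hd
  have hsmall : ∀ x ∈ P, ∀ y ∈ P, ∃ e ∈ Cfsg.powerClosure p (m + 1) ⁅H, H⁆,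
      (x * y) ^ p ^ m = x ^ p ^ m * y ^ p ^ m * e := by
    intro x hx y hy
    obtain ⟨e, he1, he2⟩ := ih _ (lt_of_le_of_lt (Subgroup.card_le_of_le (closure_pair_le hx hy)) hlt) x y rfl m
    refine ⟨e, ?_, he2⟩
    have hle : Cfsg.powerClosure p m ⁅Subgroup.closure ({x, y} : Set G), Subgroup.closure ({x, y} : Set G)⁆ ≤
        Cfsg.powerClosure p (m + 1) ⁅H, H⁆ := by
      rw [Cfsg.powerClosure, Subgroup.closure_le]
      rintro _ ⟨w, hw, rfl⟩
      have hw' := commutator_powerClosure_le hG h1 H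
        (Subgroup.commutator_mono (closure_pair_le hx hy) (closure_pair_le hx hy) hw)
      obtain ⟨v, hv, rfl⟩ := (powerClosure_eq hG h1 _ w).1 hw'
      exact Subgroup.subset_closure ⟨v, hv, by rw [← pow_mul, ← pow_add, add_comm 1 m]⟩
    exact hle he1
  obtain ⟨c1, hc1, he1⟩ := hsmall _ (mul_mem (hXP ha) (hXP hb)) _ (hXP hdH)
  obtain ⟨c2, hc2, he2⟩ := hsmall _ (hXP ha) _ (hXP hb)
  refine ⟨c2 * (d ^ p ^ 1) ^ p ^ m * c1, mul_mem (mul_mem hc2 (Subgroup.subset_closure
    ⟨d, hd, by rw [← pow_mul, ← pow_add, add_comm 1 m]⟩)) hc1, ?_⟩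
  have hpm : ∀ z : G, z ^ p ^ (m + 1) = (z ^ p ^ 1) ^ p ^ m := fun z => by rw [← pow_mul, ← pow_add, add_comm 1 m]
  rw [hpm (a * b), he, he1, he2, hpm a, hpm b]
  simp only [mul_assoc]

end Cfsg.Agent.Transfer.Regular
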