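import Mathlib
import Cfsg.Prelude
import Cfsg.Agent.S4206

/-!
Polynomial sequences in nilpotent groups (Lazard, Leibman) and the Hall–Petrescu congruence
for groups of class less than `p`.
-/

set_option autoImplicit false
set_option linter.style.haveILetI false

open scoped commutatorElement

namespace Cfsg.Agent.Transfer.PolySeq

variable {G : Type*} [Group G]

/-- The lower central series truncated at `L`, indexed from one (and `fil L 0 = ⊤`). -/
def fil (L d : ℕ) : Subgroup G :=
  if L ≤ d then ⊥ else (⊤ : Subgroup G).lowerCentralSeries (d - 1)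

/-- The difference of a sequence. -/
def diff (g : ℕ → G) : ℕ → G := fun n => (g n)⁻¹ * g (n + 1)

/-- Polynomial sequences of level `d`. -/
def Poly (L d : ℕ) (g : ℕ → G) : Prop := ∀ k n, (diff^[k]) g n ∈ fil L (d + k)

theorem fil_anti {L d e : ℕ} (h : d ≤ e) : (fil L e : Subgroup G) ≤ fil L d := by
  unfold fil
  split_ifs with h1 h2 h2
  · exact le_rfl
  · exact bot_le
  · omega
  · exact Subgroup.lowerCentralSeries_antitone _ (by omega)

theorem fil_commutator [Finite G] {L i j : ℕ} (hL : (⊤ : Subgroup G).lowerCentralSeries (L - 1) = ⊥)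
    {x y : G} (hx : x ∈ fil L i) (hy : y ∈ fil L j) : ⁅x, y⁆ ∈ fil L (i + j) := by
  by_cases hi : L ≤ i
  · rw [fil, if_pos hi, Subgroup.mem_bot] at hx
    simp [hx]
  by_cases hj : L ≤ j
  · rw [fil, if_pos hj, Subgroup.mem_bot] at hy
    simp [hy]
  rw [fil, if_neg hi] at hx
  rw [fil, if_neg hj] at hy
  have h1 : ⁅(⊤ : Subgroup G).lowerCentralSeries (i - 1), (⊤ : Subgroup G).lowerCentralSeries (j - 1)⁆ ≤
      (⊤ : Subgroup G).lowerCentralSeries (i - 1 + (j - 1) + 1) :=
    Cfsg.Agent.S4206.result (fun n => (⊤ : Subgroup G).lowerCentralSeries n) (fun n => inferInstance)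
      (fun n => Subgroup.lowerCentralSeries_antitone _ (Nat.le_succ n)) ⊤
      (fun n => le_of_eq (Subgroup.lowerCentralSeries_succ _ n).symm) (i - 1) (j - 1)
  have h2 := h1 (Subgroup.commutator_mem_commutator hx hy)
  have h3 := Subgroup.lowerCentralSeries_antitone (⊤ : Subgroup G) (show i + j - 1 ≤ i - 1 + (j - 1) + 1 by omega) h2
  unfold fil
  split_ifs with h4
  · rw [← hL]
    exact Subgroup.lowerCentralSeries_antitone (⊤ : Subgroup G) (show L - 1 ≤ i + j - 1 by omega) h3
  · exact h3

theorem poly_iff {L d : ℕ} {g : ℕ → G} :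
    Poly L d g ↔ (∀ n, g n ∈ fil L d) ∧ Poly L (d + 1) (diff g) := by
  constructor
  · intro h
    refine ⟨fun n => h 0 n, fun k n => ?_⟩
    rw [add_right_comm]
    have := h (k + 1) n
    rwa [Function.iterate_succ_apply] at this
  · rintro ⟨h0, h1⟩ k n
    cases k with
    | zero => exact h0 n
    | succ k =>
      rw [Function.iterate_succ_apply, ← add_assoc, add_right_comm]
      exact h1 k n

theorem poly_eq_one {L d : ℕ} {g : ℕ → G} (h : Poly L d g) (hd : L ≤ d) : g = 1 := by
  funext n
  have := h 0 n
  rwa [fil, if_pos (by omega), Subgroup.mem_bot] at this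

theorem poly_one (L d : ℕ) : Poly L d (1 : ℕ → G) := fun k n => by
  have h : ∀ k, (diff^[k]) (1 : ℕ → G) = 1 := fun k => by
    induction k with
    | zero => rfl
    | succ k ih => rw [Function.iterate_succ_apply', ih]; funext n; simp [diff]
  rw [h]
  exact one_mem _

theorem poly_mono {L d e : ℕ} {g : ℕ → G} (h : Poly L e g) (hde : d ≤ e) : Poly L d g :=
  fun k n => fil_anti (by omega) (h k n)

theorem poly_shift {L d : ℕ} {g : ℕ → G} (h : Poly L d g) : Poly L d (fun n => g (n + 1)) := by
  intro k n
  have h1 : ∀ k (g : ℕ → G) n, (diff^[k]) (fun n => g (n + 1)) n = (diff^[k]) g (n + 1) := by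
    intro k
    induction k with
    | zero => intros; rfl
    | succ k ih => intro g n; rw [Function.iterate_succ_apply, Function.iterate_succ_apply, ← ih (diff g)]; rfl
  rw [h1]
  exact h k (n + 1)

/-- Products and commutators of polynomial sequences are polynomial. -/
theorem poly_closed [Finite G] {L : ℕ} (hL : (⊤ : Subgroup G).lowerCentralSeries (L - 1) = ⊥) :
    ∀ r d : ℕ, L ≤ d + r →
      (∀ f g : ℕ → G, Poly L d f → Poly L d g → Poly L d (f * g)) ∧
      (∀ i j (f g : ℕ → G), i + j = d → Poly L i f → Poly L j g → Poly L d (fun n => ⁅f n, g n⁆)) := by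
  intro r
  induction r with
  | zero =>
    intro d hd
    refine ⟨fun f g hf hg => ?_, fun i j f g hij hf hg => ?_⟩
    · rw [poly_eq_one hf (by omega), poly_eq_one hg (by omega), one_mul]
      exact poly_one L d
    · have h1 : (fun n => ⁅f n, g n⁆) = 1 := by
        funext n
        have := fil_commutator hL (hf 0 n) (hg 0 n)
        rwa [add_zero, add_zero, hij, fil, if_pos (by omega), Subgroup.mem_bot] at this
      rw [h1]
      exact poly_one L d
  | succ r ih =>
    intro d hd
    -- conjugation by any sequence preserves the higher levels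
    have hconj1 : ∀ (i e : ℕ) (f c : ℕ → G), d < e → Poly L i f → Poly L e c →
        Poly L e (fun n => f n * c n * (f n)⁻¹) := by
      intro i e f c he hf hc
      have h1 := (ih (i + e) (by omega)).2 i e f c rfl hf hc
      have h2 : (fun n => f n * c n * (f n)⁻¹) = (fun n => ⁅f n, c n⁆) * c := by
        funext n; simp [commutatorElement_def]
      rw [h2]
      exact (ih e (by omega)).1 _ _ (poly_mono h1 (by omega)) hc
    have hconjpow : ∀ (m i e : ℕ) (f c : ℕ → G), d < e → Poly L i f → Poly L e c →
        Poly L e (fun n => f n ^ m * c n * (f n ^ m)⁻¹) := by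
      intro m
      induction m with
      | zero => intro i e f c _ _ hc; simpa using hc
      | succ m ihm =>
        intro i e f c he hf hc
        have := hconj1 i e f _ he hf (ihm i e f c he hf hc)
        simpa [pow_succ', mul_assoc] using this
    have hconj2 : ∀ (i e : ℕ) (f c : ℕ → G), d < e → Poly L i f → Poly L e c →
        Poly L e (fun n => (f n)⁻¹ * c n * f n) := by
      intro i e f c he hf hc
      have h1 := hconjpow (Nat.card G - 1) i e f c he hf hc
      have h2 : ∀ n, f n ^ (Nat.card G - 1) = (f n)⁻¹ := fun n => by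
        refine eq_inv_of_mul_eq_one_left ?_
        rw [← pow_succ, Nat.sub_add_cancel Nat.card_pos, pow_card_eq_one']
      simpa [h2] using h1
    have hmul : ∀ f g : ℕ → G, Poly L d f → Poly L d g → Poly L d (f * g) := by
      intro f g hf hg
      refine poly_iff.2 ⟨fun n => mul_mem ((poly_iff.1 hf).1 n) ((poly_iff.1 hg).1 n), ?_⟩
      have h1 : diff (f * g) = (fun n => (g n)⁻¹ * diff f n * g n) * diff g := by
        funext n; simp [diff, mul_assoc]
      rw [h1]
      exact (ih (d + 1) (by omega)).1 _ _ (hconj2 d (d + 1) g _ (by omega) hg (poly_iff.1 hf).2) (poly_iff.1 hg).2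
    refine ⟨hmul, fun i j f g hij hf hg => poly_iff.2 ⟨fun n => ?_, ?_⟩⟩
    · have := fil_commutator hL ((poly_iff.1 hf).1 n) ((poly_iff.1 hg).1 n)
      rwa [hij] at this
    · have hW := hconj1 i (d + 1) f _ (by omega) hf
        ((ih (d + 1) (by omega)).2 (i + 1) j (diff f) (fun n => g (n + 1)) (by omega) (poly_iff.1 hf).2 (poly_shift hg))
      have hV := hconj1 j (d + 1) g _ (by omega) hg
        ((ih (d + 1) (by omega)).2 i (j + 1) f (diff g) (by omega) hf (poly_iff.1 hg).2)
      -- conjugation by the commutator of `f` and `g`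
      have hW1 := hconj2 i (d + 1) f _ (by omega) hf hW
      have hW2 := hconj2 j (d + 1) g _ (by omega) hg hW1
      have hW3 := hconj1 i (d + 1) f _ (by omega) hf hW2
      have hW4 := hconj1 j (d + 1) g _ (by omega) hg hW3
      have h1 : diff (fun n => ⁅f n, g n⁆) =
          (fun n => g n * (f n * ((g n)⁻¹ * ((f n)⁻¹ * (f n * ⁅diff f n, g (n + 1)⁆ * (f n)⁻¹) * f n) * g n) * (f n)⁻¹) * (g n)⁻¹) *
            (fun n => g n * ⁅f n, diff g n⁆ * (g n)⁻¹) := by
        funext n
        simp only [diff, Pi.mul_apply, commutatorElement_def]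
        group
      rw [h1]
      exact (ih (d + 1) (by omega)).1 _ _ hW4 hV

theorem poly_mul [Finite G] {L d : ℕ} (hL : (⊤ : Subgroup G).lowerCentralSeries (L - 1) = ⊥) {f g : ℕ → G}
    (hf : Poly L d f) (hg : Poly L d g) : Poly L d (f * g) :=
  (poly_closed hL L d (by omega)).1 f g hf hg

theorem poly_inv [Finite G] {L d : ℕ} (hL : (⊤ : Subgroup G).lowerCentralSeries (L - 1) = ⊥) {f : ℕ → G}
    (hf : Poly L d f) : Poly L d f⁻¹ := by
  have hpow : ∀ m : ℕ, Poly L d (f ^ m) := fun m => by
    induction m with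
    | zero => rw [pow_zero]; exact poly_one L d
    | succ m ih => rw [pow_succ]; exact poly_mul hL ih hf
  have h : f⁻¹ = f ^ (Nat.card G - 1) := by
    refine (eq_inv_of_mul_eq_one_left ?_).symm
    funext n
    rw [← pow_succ, Nat.sub_add_cancel Nat.card_pos, Pi.pow_apply, pow_card_eq_one', Pi.one_apply]
  rw [h]
  exact hpow _

theorem poly_choose (L : ℕ) : ∀ (i d e : ℕ) (c : G), c ∈ fil L e → d + i ≤ e →
    Poly L d (fun n => c ^ Nat.choose n i) := by
  intro i
  induction i with
  | zero =>
    intro d e c hc hde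
    refine poly_iff.2 ⟨fun n => pow_mem (fil_anti (by omega) hc) _, ?_⟩
    have : diff (fun n => c ^ Nat.choose n 0) = 1 := by funext n; simp [diff]
    rw [this]
    exact poly_one L _
  | succ i ih =>
    intro d e c hc hde
    refine poly_iff.2 ⟨fun n => pow_mem (fil_anti (by omega) hc) _, ?_⟩
    have : diff (fun n => c ^ Nat.choose n (i + 1)) = fun n => c ^ Nat.choose n i := by
      funext n
      simp only [diff]
      rw [Nat.choose_succ_succ', add_comm (n.choose i), pow_add, inv_mul_cancel_left]
    rw [this]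
    exact ih (d + 1) e c hc (by omega)

theorem diff_iterate_zero : ∀ (i : ℕ) (g : ℕ → G), (∀ n < i, g n = 1) → (diff^[i]) g 0 = g i := by
  intro i
  induction i with
  | zero => intros; rfl
  | succ i ih =>
    intro g hg
    rw [Function.iterate_succ_apply, ih (diff g) fun n hn => by simp [diff, hg n (by omega), hg (n + 1) (by omega)]]
    simp [diff, hg i (by omega)]

theorem eq_one_of_vanish : ∀ (i : ℕ) (g : ℕ → G), (∀ n < i, g n = 1) → (diff^[i]) g = 1 → g = 1 := by
  intro i
  induction i with
  | zero => intro g _ h; exact h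
  | succ i ih =>
    intro g hg h
    rw [Function.iterate_succ_apply] at h
    have h1 := ih (diff g) (fun n hn => by simp [diff, hg n (by omega), hg (n + 1) (by omega)]) h
    funext n
    induction n with
    | zero => exact hg 0 (Nat.succ_pos i)
    | succ n ihn =>
      have h2 := congrFun h1 n
      simp only [diff, ihn, Pi.one_apply, inv_one, one_mul] at h2
      exact h2

theorem dvd_choose_prime_pow {p k i : ℕ} (hp : p.Prime) (hi : 0 < i) (hip : i < p) :
    p ^ k ∣ Nat.choose (p ^ k) i := by
  obtain ⟨j, rfl⟩ : ∃ j, i = j + 1 := ⟨i - 1, by omega⟩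
  have h : p ^ k * Nat.choose (p ^ k - 1) j = Nat.choose (p ^ k) (j + 1) * (j + 1) := by
    have := Nat.add_one_mul_choose_eq (p ^ k - 1) j
    rwa [Nat.sub_add_cancel (Nat.one_le_pow _ _ hp.pos)] at this
  exact ((Nat.Coprime.pow_left k (hp.coprime_iff_not_dvd.2 (Nat.not_dvd_of_pos_of_lt hi hip)))).dvd_of_dvd_mul_right ⟨_, h.symm⟩

/-- A polynomial sequence vanishing at `0` and `1` takes `p^k`-th powers of derived elements at `p^k`. -/
theorem eval_mem [Finite G] {p : ℕ} (hp : p.Prime) (hL : (⊤ : Subgroup G).lowerCentralSeries (p - 1) = ⊥)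
    (k : ℕ) : ∀ (r i : ℕ), p ≤ i + r → 2 ≤ i → ∀ g : ℕ → G, Poly p 0 g → (∀ n < i, g n = 1) →
      g (p ^ k) ∈ Cfsg.powerClosure p k (commutator G) := by
  intro r
  induction r with
  | zero =>
    intro i hpi hi g hg hvan
    have h1 : (diff^[i]) g = 1 := by
      funext n
      have := hg i n
      rwa [fil, if_pos (by omega), Subgroup.mem_bot] at this
    rw [eq_one_of_vanish i g hvan h1]
    exact one_mem _
  | succ r ih =>
    intro i hpi hi g hg hvan
    by_cases hip : p ≤ i
    · have h1 : (diff^[i]) g = 1 := by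
        funext n
        have := hg i n
        rwa [fil, if_pos (by omega), Subgroup.mem_bot] at this
      rw [eq_one_of_vanish i g hvan h1]
      exact one_mem _
    set c := g i with hc
    have hcf : c ∈ fil p i := by
      have := hg i 0
      rwa [diff_iterate_zero i g hvan, zero_add] at this
    have hcD : c ∈ commutator G := by
      have h2 : (fil p i : Subgroup G) ≤ fil p 2 := fil_anti hi
      have h3 := h2 hcf
      unfold fil at h3
      split_ifs at h3 with h4
      · rw [Subgroup.mem_bot] at h3; rw [h3]; exact one_mem _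
      · rwa [show (2 : ℕ) - 1 = 1 from rfl, Subgroup.top_lowerCentralSeries_one] at h3
    set g' : ℕ → G := (fun n => c ^ Nat.choose n i)⁻¹ * g with hg'
    have hg'p : Poly p 0 g' := poly_mul hL (poly_inv hL (poly_choose p i 0 i c hcf (by omega))) hg
    have hvan' : ∀ n < i + 1, g' n = 1 := fun n hn => by
      rcases Nat.lt_succ_iff_lt_or_eq.1 hn with h | h
      · simp [hg', Nat.choose_eq_zero_of_lt h, hvan n h]
      · subst h; simp [hg', ← hc]
    have h := ih (i + 1) (by omega) (by omega) g' hg'p hvan'
    obtain ⟨m, hm⟩ := dvd_choose_prime_pow (k := k) hp (show 0 < i by omega) (by omega)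
    have he : g (p ^ k) = (c ^ m) ^ (p ^ k) * g' (p ^ k) := by
      simp only [hg', Pi.mul_apply, Pi.inv_apply]
      rw [← pow_mul, mul_comm m, ← hm, mul_inv_cancel_left]
    rw [he]
    exact mul_mem (Subgroup.subset_closure ⟨c ^ m, pow_mem hcD m, rfl⟩) h

/-- The Hall–Petrescu congruence in class less than `p`. -/
theorem hall_petrescu [Finite G] {p : ℕ} (hp : p.Prime) (hL : (⊤ : Subgroup G).lowerCentralSeries (p - 1) = ⊥)
    (a b : G) (k : ℕ) :
    ∃ c ∈ Cfsg.powerClosure p k (commutator G), (a * b) ^ p ^ k = a ^ p ^ k * b ^ p ^ k * c := by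
  have hpow : ∀ x : G, Poly p 0 (fun n => x ^ n) := fun x => by
    have h : x ∈ fil p 1 := by
      unfold fil
      rw [if_neg (by have := hp.two_le; omega)]
      exact Subgroup.mem_top x
    simpa using poly_choose p 1 0 1 x h le_rfl
  set g : ℕ → G := (fun n => a ^ n * b ^ n)⁻¹ * (fun n => (a * b) ^ n) with hg
  have hgp : Poly p 0 g := poly_mul hL (poly_inv hL (poly_mul hL (hpow a) (hpow b))) (hpow _)
  refine ⟨g (p ^ k), eval_mem hp hL k p 2 (by omega) le_rfl g hgp (fun n hn => ?_), ?_⟩
  · interval_cases n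
    · simp [hg]
    · simp [hg]
  · simp only [hg, Pi.mul_apply, Pi.inv_apply]
    rw [mul_inv_cancel_left]

end Cfsg.Agent.Transfer.PolySeq
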