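import Cfsg.Agent.Lib.Invol.Critical
import Cfsg.Agent.Lib.Transfer.Regular
import Cfsg.Agent.S4209

/-!
For odd `p`, a `p'`-automorphism of a `p`-group fixing every element of order `p` is trivial.
-/

set_option autoImplicit false
set_option linter.style.haveILetI false

open scoped commutatorElement

namespace Cfsg.Agent.Transfer

theorem aut_eq_one_of_fix_omega {P : Type*} [Group P] [Finite P] {p : ℕ} [hp : Fact p.Prime] (hp2 : p ≠ 2)
    (hP : IsPGroup p P) {a : MulAut P} (ha : (orderOf a).Coprime p) (h : ∀ x : P, x ^ p = 1 → a x = x) :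
    a = 1 := by
  obtain ⟨H, hHc, hH1, -, hH3⟩ := Cfsg.Agent.Invol.exists_critical hP
  haveI := hHc
  refine Cfsg.Agent.Invol.aut_eq_one_of_fixed hP hH3 ha ?_
  have hlcs : (⊤ : Subgroup H).lowerCentralSeries (p - 1) = ⊥ := by
    have h2 : (⊤ : Subgroup H).lowerCentralSeries 2 = ⊥ := by
      refine Subgroup.map_injective H.subtype_injective ?_
      rw [Subgroup.map_bot, Subgroup.top_subtype_lowerCentralSeries]
      show ⁅⁅H, H⁆, H⁆ = ⊥
      refine Subgroup.commutator_eq_bot_iff_le_centralizer.2 ?_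
      exact (Subgroup.commutator_mono le_rfl le_top).trans (hH1.trans inf_le_right)
    refine le_bot_iff.1 (le_trans (Subgroup.lowerCentralSeries_antitone _ ?_) h2.le)
    have := hp.out.two_le
    omega
  have hreg : Cfsg.IsRegularPGroup p H := Cfsg.Agent.S4209.result (hP.to_subgroup H) hlcs
  have haH : ∀ x ∈ H, a x ∈ H := fun x hx => by
    rw [← Subgroup.Characteristic.fixed (H := H) inferInstance a] at hx
    exact hx
  suffices key : ∀ k : ℕ, ∀ x ∈ H, x ^ p ^ k = 1 → a x = x by
    intro x hx
    obtain ⟨k, hk⟩ := hP x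
    exact key k x hx hk
  intro k
  induction k with
  | zero => intro x _ hx; rw [pow_zero, pow_one] at hx; rw [hx, map_one]
  | succ k ih =>
    intro x hx hxk
    have hxp : a (x ^ p) = x ^ p := ih _ (pow_mem hx p) (by rw [← pow_mul, ← pow_succ', hxk])
    -- the displacement has order dividing `p`
    have hd : ((a x)⁻¹ * x) ^ p = 1 := by
      have h1 := (Cfsg.Agent.Transfer.Regular.pow_eq_iff hreg (⟨_, inv_mem (haH x hx)⟩ : H) ⟨_, inv_mem hx⟩ 1).1
        (Subtype.ext (by simp [← map_pow, hxp]))
      simpa using congrArg Subtype.val h1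
    set d := (a x)⁻¹ * x with hdd
    have had : a d = d := h d hd
    have hax : a x = x * d⁻¹ := by rw [hdd]; group
    have hpow : ∀ m : ℕ, (a ^ m) x = x * d⁻¹ ^ m := fun m => by
      induction m with
      | zero => simp
      | succ m ihm => rw [pow_succ', MulAut.mul_apply, ihm, map_mul, map_pow, map_inv, had, hax, pow_succ', mul_assoc]
    have h2 := hpow (orderOf a)
    rw [pow_orderOf_eq_one, MulAut.one_apply] at h2
    have h3 : orderOf d⁻¹ ∣ orderOf a := orderOf_dvd_of_pow_eq_one (mul_left_cancel (h2.symm.trans (mul_one x).symm))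
    have h4 : orderOf d⁻¹ ∣ p := orderOf_dvd_of_pow_eq_one (by rw [inv_pow, hd, inv_one])
    have h5 := orderOf_eq_one_iff.1 (Nat.eq_one_of_dvd_coprimes ha h3 h4)
    rw [hax, h5, mul_one]

end Cfsg.Agent.Transfer
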