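import Cfsg.Agent.Lib.Transfer.Fusion

/-!
Tate's transfer theorem, proved with a transfer of a central extension.
-/
set_option autoImplicit false
set_option linter.style.haveILetI false

open scoped commutatorElement Pointwise

namespace Cfsg.Agent.Transfer

variable {G : Type*} [Group G] {p : ℕ}

/-- Maximal subgroups of finite `p`-groups have index `p`. -/
theorem coatom_index_eq {E : Type*} [Group E] [Finite E] [hp : Fact p.Prime] (hE : IsPGroup p E)
    {L : Subgroup E} (hL : IsCoatom L) : L.index = p := by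
  haveI : L.Normal := Subgroup.NormalizerCondition.normal_of_coatom L
    (Group.normalizerCondition_of_isNilpotent (h := hE.isNilpotent)) hL
  obtain ⟨k, hk⟩ := IsPGroup.iff_card.1 (hE.to_quotient L)
  have hk0 : k ≠ 0 := by
    rintro rfl
    rw [← Subgroup.index_eq_card, pow_zero, Subgroup.index_eq_one] at hk
    exact hL.1 hk
  obtain ⟨x, hx⟩ := exists_prime_orderOf_dvd_card' (G := E ⧸ L) p (hk ▸ dvd_pow_self p hk0)
  have hlt : L < (Subgroup.zpowers x).comap (QuotientGroup.mk' L) := by
    obtain ⟨g, rfl⟩ := QuotientGroup.mk'_surjective L x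
    refine lt_of_le_of_ne (QuotientGroup.le_comap_mk' L _) fun h => ?_
    have hg : g ∈ (Subgroup.zpowers (QuotientGroup.mk' L g)).comap (QuotientGroup.mk' L) :=
      Subgroup.mem_zpowers _
    rw [← h] at hg
    rw [show QuotientGroup.mk' L g = 1 from (QuotientGroup.eq_one_iff g).2 hg, orderOf_one] at hx
    exact hp.out.ne_one hx.symm
  have htop := congrArg (Subgroup.map (QuotientGroup.mk' L)) (hL.2 _ hlt)
  rw [Subgroup.map_comap_eq_self_of_surjective (QuotientGroup.mk'_surjective L),
    Subgroup.map_top_of_surjective _ (QuotientGroup.mk'_surjective L)] at htop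
  rw [Subgroup.index_eq_card, ← Subgroup.card_top, ← htop, Nat.card_zpowers, hx]

/-- Gaschütz for central kernels: a homomorphism which splits over a subgroup of index prime to
`p` splits. -/
theorem exists_retraction_of_central {E : Type*} [Group E] [Finite E] [hp : Fact p.Prime]
    (A : Subgroup E) (hA : A ≤ Subgroup.center E) (hAp : IsPGroup p A) (H : Subgroup E) (hAH : A ≤ H)
    (hi : ¬ p ∣ H.index) (r : H →* A) (hr : ∀ a : A, r ⟨a, hAH a.2⟩ = a) :
    ∃ V : E →* A, Function.Bijective (V.comp A.subtype) := by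
  have hc : IsMulCommutative A := ⟨⟨fun a b => Subtype.ext (Subgroup.mem_center_iff.1 (hA b.2) a)⟩⟩
  letI : CommGroup A := { (inferInstance : Group A) with mul_comm := fun a b => hc.is_comm.comm a b }
  refine ⟨MonoidHom.transfer r, ?_⟩
  have he : ∀ a : A, (MonoidHom.transfer r) (a : E) = a ^ H.index := by
    intro a
    have hcent : ∀ (k : ℕ) (g₀ : E), g₀⁻¹ * (a : E) ^ k * g₀ ∈ H →
        g₀⁻¹ * (a : E) ^ k * g₀ = (a : E) ^ k := fun k g₀ _ => by
      have hk : (a : E) ^ k ∈ Subgroup.center E := pow_mem (hA a.2) k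
      rw [mul_assoc, ← Subgroup.mem_center_iff.1 hk g₀, inv_mul_cancel_left]
    rw [MonoidHom.transfer_eq_pow r _ hcent]
    have : (⟨(a : E) ^ H.index, MonoidHom.transfer_eq_pow_aux _ hcent⟩ : H)
        = (⟨a, hAH a.2⟩ : H) ^ H.index := rfl
    rw [this, map_pow, hr]
  have hb := (hAp.powEquiv' hi).bijective
  convert hb using 1
  funext a
  exact he a

/-- Tate's theorem. If `P ∩ O^p(G)` lies in every normal subgroup of index `p` of `H ≥ P`, then
`P ∩ O^p(G) ≤ O^p(H)`. -/
theorem tate [Finite G] [hp : Fact p.Prime] (P : Sylow p G) (H : Subgroup G)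
    (hPH : (P : Subgroup G) ≤ H)
    (hQ : ∀ L : Subgroup H, L.Normal → L.index = p →
      (pResidual p G ⊓ (P : Subgroup G)).subgroupOf H ≤ L) :
    pResidual p G ⊓ (P : Subgroup G) ≤ (pResidual p H).map H.subtype := by
  set M := pResidual p G with hM
  set R : Subgroup (P : Subgroup G) := (pResidual p H).comap (Subgroup.inclusion hPH) with hR
  set Q : Subgroup (P : Subgroup G) := M.subgroupOf (P : Subgroup G) with hQ'
  have hRQ : R ≤ Q := fun x hx =>
    (pResidual_map_le (p := p) H.subtype) ⟨_, hx, rfl⟩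
  by_contra hcon
  have hQR : ¬ Q ≤ R := fun hle => hcon fun x hx =>
    ⟨⟨x, hPH hx.2⟩, hle (show (⟨x, hx.2⟩ : (P : Subgroup G)) ∈ Q from hx.1), rfl⟩
  haveI : R.Normal := Subgroup.Normal.comap inferInstance _
  haveI : Q.Normal := Subgroup.Normal.comap inferInstance _
  set S : Subgroup (P : Subgroup G) := R ⊔ ⁅Q, (⊤ : Subgroup (P : Subgroup G))⁆ with hS
  have hSQ : S ≤ Q := sup_le hRQ (Subgroup.commutator_le_left _ _)
  have hQS : ¬ Q ≤ S := by
    intro hle
    apply hQR
    have hnil : Group.IsNilpotent ((P : Subgroup G) ⧸ R) :=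
      (P.isPGroup'.to_quotient R).isNilpotent
    have h1 : Q.map (QuotientGroup.mk' R) ≤ ⁅Q.map (QuotientGroup.mk' R), (⊤ : Subgroup _)⁆ := by
      refine (Subgroup.map_mono hle).trans ?_
      rw [Subgroup.map_sup, Subgroup.map_commutator,
        (Subgroup.map_eq_bot_iff (f := QuotientGroup.mk' R) (H := R)).2 (QuotientGroup.ker_mk' R).ge, bot_sup_eq,
        Subgroup.map_top_of_surjective _ (QuotientGroup.mk'_surjective R)]
    have := eq_bot_of_le_commutator_top h1
    rwa [Subgroup.map_eq_bot_iff, QuotientGroup.ker_mk'] at this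
  haveI : S.Normal := by rw [hS]; infer_instance
  -- the central extension `E = P / S` of `G / M`
  let E := (P : Subgroup G) ⧸ S
  let π : E →* G ⧸ M := QuotientGroup.map S M (P : Subgroup G).subtype hSQ
  have hπ : Function.Surjective π := by
    intro q
    induction q using QuotientGroup.induction_on with
    | H g =>
      have hg : g ∈ (P : Subgroup G) ⊔ M := by rw [hM, sylow_sup_pResidual]; exact Subgroup.mem_top g
      obtain ⟨a, ha, o, ho, rfl⟩ := Subgroup.mem_sup_of_normal_right.1 hg
      exact ⟨QuotientGroup.mk ⟨a, ha⟩, QuotientGroup.eq.2 (by simpa using ho)⟩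
  have hker : π.ker = Q.map (QuotientGroup.mk' S) :=
    QuotientGroup.ker_map S M (P : Subgroup G).subtype hSQ
  have hAc : π.ker ≤ Subgroup.center E := by
    rw [hker]
    rintro _ ⟨q, hq, rfl⟩
    rw [Subgroup.mem_center_iff]
    intro e
    induction e using QuotientGroup.induction_on with
    | H u =>
      change (QuotientGroup.mk (u * q) : E) = QuotientGroup.mk (q * u)
      rw [QuotientGroup.eq]
      have hm : ⁅q⁻¹, u⁻¹⁆ ∈ S :=
        (le_sup_right : _ ≤ S) (Subgroup.commutator_mem_commutator (Q.inv_mem hq) (Subgroup.mem_top _))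
      simpa [commutatorElement_def, mul_assoc] using hm
  -- the map `H → E` extending `P → E`
  let fP : (P : Subgroup G) →* H ⧸ pResidual p H :=
    (QuotientGroup.mk' _).comp (Subgroup.inclusion hPH)
  have hfP : Function.Surjective fP := by
    intro q
    induction q using QuotientGroup.induction_on with
    | H g =>
      have hsup := sylow_sup_pResidual (P.subtype hPH)
      have hg : g ∈ ((P.subtype hPH : Sylow p H) : Subgroup H) ⊔ pResidual p H := by
        rw [hsup]; exact Subgroup.mem_top g
      obtain ⟨a, ha, o, ho, rfl⟩ := Subgroup.mem_sup_of_normal_right.1 hg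
      exact ⟨⟨(a : G), ha⟩, QuotientGroup.eq.2 (show a⁻¹ * (a * o) ∈ _ by simpa using ho)⟩
  have hkP : fP.ker ≤ (QuotientGroup.mk' S).ker := by
    intro x hx
    rw [QuotientGroup.ker_mk']
    exact (le_sup_left : R ≤ S) ((QuotientGroup.eq_one_iff (Subgroup.inclusion hPH x)).1 hx)
  let φ : H →* E := (fP.liftOfSurjective hfP ⟨QuotientGroup.mk' S, hkP⟩).comp (QuotientGroup.mk' _)
  have hφP : ∀ x : (P : Subgroup G), φ (Subgroup.inclusion hPH x) = (QuotientGroup.mk x : E) := fun x =>
    MonoidHom.liftOfRightInverse_comp_apply (G₃ := E) fP (Function.surjInv hfP) (Function.rightInverse_surjInv hfP) ⟨QuotientGroup.mk' S, hkP⟩ x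
  have hπφ : ∀ h : H, π (φ h) = QuotientGroup.mk (h : G) := by
    intro h
    obtain ⟨x, hx⟩ := hfP (QuotientGroup.mk h)
    have h1 : φ h = φ (Subgroup.inclusion hPH x) :=
      congrArg (fun q => fP.liftOfSurjective hfP ⟨QuotientGroup.mk' S, hkP⟩ q) hx.symm
    rw [h1, hφP]
    refine QuotientGroup.eq.2 ?_
    exact (pResidual_map_le (p := p) H.subtype) ⟨_, QuotientGroup.eq.1 hx, rfl⟩
  -- the fibre product
  let T : Subgroup (G × E) :=
    ((QuotientGroup.mk' M).comp (MonoidHom.fst G E)).eqLocus (π.comp (MonoidHom.snd G E))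
  have hT : ∀ t : T, (QuotientGroup.mk (t : G × E).1 : G ⧸ M) = π (t : G × E).2 := fun t => t.2
  let f1 : T →* G := (MonoidHom.fst G E).comp T.subtype
  let f2 : T →* E := (MonoidHom.snd G E).comp T.subtype
  have hf1 : Function.Surjective f1 := fun g => by
    obtain ⟨e, he⟩ := hπ (QuotientGroup.mk g)
    exact ⟨⟨(g, e), he.symm⟩, rfl⟩
  let A : Subgroup T := f1.ker
  have hA2 : ∀ t : T, t ∈ A → f2 t ∈ π.ker := fun t ht => by
    have h1 := hT t
    have h2 : (t : G × E).1 = 1 := ht
    rw [h2, QuotientGroup.mk_one] at h1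
    exact h1.symm
  have hAcT : A ≤ Subgroup.center T := by
    intro t ht
    rw [Subgroup.mem_center_iff]
    intro s
    have h2 : (t : G × E).1 = 1 := ht
    refine Subtype.ext (Prod.ext ?_ ?_)
    · simp [h2]
    · exact Subgroup.mem_center_iff.1 (hAc (hA2 t ht)) (f2 s)
  have hAp : IsPGroup p A := by
    refine (P.isPGroup'.to_quotient S).of_injective (f2.comp A.subtype) ?_
    intro a b hab
    refine Subtype.ext (Subtype.ext (Prod.ext ?_ hab))
    exact (show ((a : T) : G × E).1 = 1 from a.2).trans (show ((b : T) : G × E).1 = 1 from b.2).symm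
  let HT : Subgroup T := H.comap f1
  have hAH : A ≤ HT := fun t ht => by
    change f1 t ∈ H
    rw [show f1 t = 1 from ht]; exact H.one_mem
  have hiT : ¬ p ∣ HT.index := by
    rw [Subgroup.index_comap_of_surjective _ hf1]
    exact fun hd => P.not_dvd_index (hd.trans (Subgroup.index_dvd_of_le hPH))
  let hh : HT →* H := f1.subgroupComap H
  have hmem : ∀ t : HT, (φ (hh t))⁻¹ * f2 t ∈ π.ker := fun t => by
    rw [MonoidHom.mem_ker, map_mul, map_inv, hπφ, inv_mul_eq_one]
    exact hT t
  have hmk : ∀ t : HT, ((1 : G), (φ (hh t))⁻¹ * f2 t) ∈ T := fun t => by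
    change (QuotientGroup.mk' M) 1 = π _
    rw [map_one]; exact (hmem t).symm
  let r : HT →* A :=
    { toFun := fun t => ⟨⟨((1 : G), (φ (hh t))⁻¹ * f2 t), hmk t⟩, rfl⟩
      map_one' := by
        refine Subtype.ext (Subtype.ext (Prod.ext rfl ?_))
        simp
      map_mul' := fun s t => by
        refine Subtype.ext (Subtype.ext (Prod.ext (one_mul (1 : G)).symm ?_))
        change (φ (hh (s * t)))⁻¹ * f2 ((s * t : HT) : T) =
          ((φ (hh s))⁻¹ * f2 s) * ((φ (hh t))⁻¹ * f2 t)
        rw [map_mul, map_mul, Subgroup.coe_mul, map_mul]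
        have hc := Subgroup.mem_center_iff.1 (hAc (hmem s))
        calc (φ (hh s) * φ (hh t))⁻¹ * (f2 s * f2 t)
            = (φ (hh t))⁻¹ * ((φ (hh s))⁻¹ * f2 s) * f2 t := by group
          _ = _ := by rw [hc]; group }
  have hr : ∀ a : A, r ⟨a, hAH a.2⟩ = a := by
    intro a
    refine Subtype.ext (Subtype.ext (Prod.ext ?_ ?_))
    · exact (show ((a : T) : G × E).1 = 1 from a.2).symm
    · change (φ (hh ⟨a, hAH a.2⟩))⁻¹ * f2 a = f2 a
      have : hh ⟨a, hAH a.2⟩ = 1 := Subtype.ext a.2
      rw [this, map_one, inv_one, one_mul]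
  haveI : Finite T := Subtype.finite
  obtain ⟨V, hV⟩ := exists_retraction_of_central A hAcT hAp HT hAH hiT r hr
  -- the section `G → T` and the lift `ψ : G → E`
  have hbij : Function.Bijective (f1.comp V.ker.subtype) := by
    refine ⟨(injective_iff_map_eq_one _).2 fun t ht => ?_, fun g => ?_⟩
    · have h1 : (⟨(t : T), ht⟩ : A) = 1 := hV.1 (by
        rw [map_one]; exact t.2)
      exact Subtype.ext (congrArg Subtype.val h1 : _)
    · obtain ⟨t, ht⟩ := hf1 g
      obtain ⟨a, ha⟩ := hV.2 (V t)
      refine ⟨⟨t * (a : T)⁻¹, ?_⟩, ?_⟩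
      · rw [MonoidHom.mem_ker, map_mul, map_inv]
        rw [show V (a : T) = V t from ha, mul_inv_cancel]
      · change f1 (t * (a : T)⁻¹) = g
        rw [map_mul, map_inv, show f1 (a : T) = 1 from a.2, inv_one, mul_one, ht]
  let e := MulEquiv.ofBijective (f1.comp V.ker.subtype) hbij
  let ψ : G →* E := (f2.comp V.ker.subtype).comp e.symm.toMonoidHom
  have hπψ : ∀ g, π (ψ g) = QuotientGroup.mk g := fun g => by
    have h1 := hT ((e.symm g : V.ker) : T)
    have h2 : f1 ((e.symm g : V.ker) : T) = g := e.apply_symm_apply g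
    change π (f2 ((e.symm g : V.ker) : T)) = _
    exact h1.symm.trans (congrArg QuotientGroup.mk h2)
  by_cases hsurj : Function.Surjective ψ
  · -- `ψ` onto: `G` has a larger `p`-quotient than `G / M`
    have h1 : M ≤ ψ.ker := pResidual_le_of_isPGroup_quotient (p := p)
      ((P.isPGroup'.to_quotient S).of_equiv (QuotientGroup.quotientKerEquivOfSurjective ψ hsurj).symm)
    have h2 : Nat.card E ∣ M.index := by
      rw [← Nat.card_congr (QuotientGroup.quotientKerEquivOfSurjective ψ hsurj).toEquiv,
        ← Subgroup.index_eq_card]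
      exact Subgroup.index_dvd_of_le h1
    have h3 : M.index * Nat.card π.ker = Nat.card E := by
      rw [Subgroup.index_eq_card M, ← Nat.card_congr (QuotientGroup.quotientKerEquivOfSurjective π hπ).toEquiv,
        ← Subgroup.index_eq_card, mul_comm, Subgroup.card_mul_index]
    have h4 : Nat.card π.ker = 1 := by
      have hpos : 0 < M.index := Nat.pos_of_ne_zero Subgroup.index_ne_zero_of_finite
      have h5 : M.index * Nat.card π.ker ≤ M.index := h3 ▸ Nat.le_of_dvd hpos h2
      have h6 : 0 < Nat.card π.ker := Nat.card_pos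
      have h7 : Nat.card π.ker ≤ 1 := by
        by_contra hlt
        exact absurd h5 (Nat.not_le.2 (by nlinarith))
      omega
    apply hQS
    rw [Subgroup.card_eq_one, hker, Subgroup.map_eq_bot_iff, QuotientGroup.ker_mk'] at h4
    exact h4
  · -- `ψ` not onto: `E` has a maximal subgroup missing the kernel of `π`
    have hne : ψ.range ≠ ⊤ := fun h => hsurj (MonoidHom.range_eq_top.1 h)
    haveI : Finite E := inferInstance
    obtain ⟨L, hL, hWL⟩ := (Finite.to_isCoatomic (α := Subgroup E)).eq_top_or_exists_le_coatom ψ.range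
      |>.resolve_left hne
    have hLn : L.Normal :=
      (Subgroup.NormalizerCondition.normal_of_coatom L
        (Group.normalizerCondition_of_isNilpotent (h := (P.isPGroup'.to_quotient S).isNilpotent)) hL)
    have hLi : L.index = p := coatom_index_eq (P.isPGroup'.to_quotient S) hL
    have hsub := hQ (L.comap φ) (hLn.comap φ) (by
      rw [Subgroup.index_comap_of_surjective _ (fun e => by
        induction e using QuotientGroup.induction_on with
        | H x => exact ⟨_, hφP x⟩), hLi])
    apply hL.1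
    rw [eq_top_iff]
    intro e _
    obtain ⟨g, hg⟩ := QuotientGroup.mk'_surjective M (π e)
    have hd : (ψ g)⁻¹ * e ∈ π.ker := by
      rw [MonoidHom.mem_ker, map_mul, map_inv, hπψ, inv_mul_eq_one]
      exact hg
    rw [hker] at hd
    obtain ⟨q, hq, hqe⟩ := hd
    have hqL : (QuotientGroup.mk q : E) ∈ L := by
      rw [← hφP q]
      exact hsub (show Subgroup.inclusion hPH q ∈ (M ⊓ (P : Subgroup G)).subgroupOf H from ⟨hq, q.2⟩)
    have := L.mul_mem (hWL ⟨g, rfl⟩) hqL
    rwa [show (QuotientGroup.mk q : E) = (ψ g)⁻¹ * e from hqe, mul_inv_cancel_left] at this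

/-- Normal subgroups of prime index contain the derived subgroup. -/
theorem commutator_le_of_index_prime {H : Type*} [Group H] [hp : Fact p.Prime] {L : Subgroup H}
    [L.Normal] (hL : L.index = p) : commutator H ≤ L := by
  have hcyc : IsCyclic (H ⧸ L) := isCyclic_of_prime_card (p := p) hL
  exact Subgroup.Normal.quotient_commutative_iff_commutator_le.1 IsCyclic.isMulCommutative

theorem tate_of_le_commutator [Finite G] [hp : Fact p.Prime] (P : Sylow p G) (H : Subgroup G)
    (hPH : (P : Subgroup G) ≤ H)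
    (hQ : pResidual p G ⊓ (P : Subgroup G) ≤ (commutator H).map H.subtype) :
    pResidual p G ⊓ (P : Subgroup G) ≤ (pResidual p H).map H.subtype := by
  refine tate P H hPH fun L hLn hL x hx => ?_
  obtain ⟨y, hy, hyx⟩ := hQ hx
  rw [← Subtype.ext (a1 := y) (a2 := x) hyx]
  exact commutator_le_of_index_prime hL hy

theorem pResidual_eq_bot_of_isPGroup {H : Type*} [Group H] [hp : Fact p.Prime] (hH : IsPGroup p H) :
    pResidual p H = ⊥ := by
  rw [eq_bot_iff, pResidual, Subgroup.closure_le]
  intro g hg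
  obtain ⟨k, hk⟩ := IsPGroup.iff_orderOf.1 hH g
  rw [Set.mem_setOf_eq, hk] at hg
  rcases k with _ | k
  · rw [pow_zero, orderOf_eq_one_iff] at hk
    exact hk
  · exact absurd ((Nat.coprime_pow_left_iff k.succ_pos p p).1 hg)
      (by rw [Nat.coprime_self]; exact hp.out.ne_one)

theorem hasNormalPComplement_of_inf_eq_bot [Finite G] [hp : Fact p.Prime] (P : Sylow p G)
    (h : pResidual p G ⊓ (P : Subgroup G) = ⊥) : HasNormalPComplement p G := by
  rw [hasNormalPComplement_iff_not_dvd]
  intro hd
  have h1 := Cfsg.Agent.Grp.sylow_inf_normal_relIndex P (pResidual p G)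
  rw [← Subgroup.inf_relIndex_right, inf_comm, h, Subgroup.relIndex_bot_left] at h1
  exact h1 hd

/-- Tate: a normal subgroup meeting `P` inside `Φ(P)` has a normal `p`-complement. -/
theorem hasNormalPComplement_of_inf_le_frattini [Finite G] [hp : Fact p.Prime] (P : Sylow p G)
    (N : Subgroup G) [hN : N.Normal]
    (h : N ⊓ (P : Subgroup G) ≤ (frattini P).map (P : Subgroup G).subtype) :
    HasNormalPComplement p N := by
  set G₁ := (P : Subgroup G) ⊔ N with hG₁
  set P₁ : Sylow p G₁ := P.subtype le_sup_left with hP₁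
  have hM : pResidual p G₁ ≤ N.subgroupOf G₁ := by
    have hd : (N.subgroupOf G₁).index ∣ Nat.card (P : Subgroup G) := by
      change N.relIndex ((P : Subgroup G) ⊔ N) ∣ _
      rw [Subgroup.relIndex_sup_right]
      exact Subgroup.relIndex_dvd_card N (P : Subgroup G)
    obtain ⟨m, hm⟩ := IsPGroup.iff_card.1 P.isPGroup'
    rw [hm] at hd
    obtain ⟨j, -, hj⟩ := (Nat.dvd_prime_pow hp.out).1 hd
    exact pResidual_le_of_index hj
  have hle := tate P₁ (P₁ : Subgroup G₁) le_rfl (fun L hLn hL x hx => by
    have hx1 : (((x : G₁) : G)) ∈ N ⊓ (P : Subgroup G) := ⟨hM hx.1, hx.2⟩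
    obtain ⟨y, hy, hyx⟩ := h hx1
    let i : (P : Subgroup G) →* (P₁ : Subgroup G₁) :=
      { toFun := fun z => ⟨⟨z, le_sup_left (b := N) z.2⟩, z.2⟩
        map_one' := rfl
        map_mul' := fun _ _ => rfl }
    have hi : Function.Surjective i := fun z => ⟨⟨((z : G₁) : G), z.2⟩, rfl⟩
    have hLi : (L.comap i).index = p := (Subgroup.index_comap_of_surjective _ hi).trans hL
    have hco : IsCoatom (L.comap i) := by
      refine ⟨fun ht => ?_, fun B hB => ?_⟩
      · rw [ht, Subgroup.index_top] at hLi; exact hp.out.ne_one hLi.symm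
      · have hd : B.index ∣ p := (Subgroup.index_dvd_of_le hB.le).trans hLi.dvd
        rcases (Nat.dvd_prime hp.out).1 hd with h1 | h1
        · exact Subgroup.index_eq_one.1 h1
        · have hrel := Subgroup.relIndex_mul_index hB.le
          rw [h1, hLi, mul_eq_right₀ hp.out.ne_zero, Subgroup.relIndex_eq_one] at hrel
          exact absurd hrel hB.not_ge
    have hyL : y ∈ L.comap i := frattini_le_coatom hco hy
    have : i y = x := Subtype.ext (Subtype.ext hyx)
    rwa [← this])
  rw [pResidual_eq_bot_of_isPGroup P₁.isPGroup', Subgroup.map_bot, le_bot_iff] at hle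
  exact hasNormalPComplement_mono (le_sup_right : N ≤ G₁)
    (hasNormalPComplement_of_inf_eq_bot P₁ hle)

end Cfsg.Agent.Transfer
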