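import Cfsg.Agent.Lib.Classical.DicksonAbstract
import Cfsg.Agent.Lib.Classical.DicksonTorus
import Cfsg.Agent.Lib.Invol.GW.Klein.LinearPSL

/-!
# Groups without Hall subgroups of a given order (for S4044, one direction)

For a Hall number `m = A * B * k` a prime `r` is chosen by Dirichlet's theorem such that `A` and `B` are
exact divisors of `r - 1` and `r + 1`; then `PSL₂(r) × C_k` has no subgroup of order `m`.
-/

set_option autoImplicit false
set_option linter.style.haveILetI false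

namespace Cfsg.Agent.Transfer.HallCounter

open Dickson

/-- Orders of the subgroups of `PSL₂(q)` of order prime to the characteristic. -/
theorem coprime_subgroup_card {F : Type} [Field F] [Fintype F] (p : ℕ) [hp : Fact p.Prime] [CharP F p]
    (hodd : Odd (Fintype.card F)) (H : Subgroup (Matrix.ProjectiveSpecialLinearGroup (Fin 2) F))
    (hH : ¬ p ∣ Nat.card H) :
    Nat.card H = 1 ∨ Nat.card H = 12 ∨ Nat.card H = 24 ∨ Nat.card H = 60 ∨
      Nat.card H ∣ Fintype.card F - 1 ∨ Nat.card H ∣ Fintype.card F + 1 := by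
  have hg : Nat.gcd 2 (Fintype.card F - 1) = 2 :=
    Nat.gcd_eq_left (by obtain ⟨k, hk⟩ := hodd; exact ⟨k, by omega⟩)
  have hne : ∀ a : H, a ≠ 1 → a ^ p = 1 → False := fun a ha hap =>
    hH (orderOf_eq_prime hap ha ▸ orderOf_dvd_natCard a)
  have hsemi : ∀ a : H, a ≠ 1 → a ^ p ≠ 1 →
      2 * Nat.card ((((pslData (F := F) p).restrict H).T a)) ∣ Fintype.card F - 1 ∨
        2 * Nat.card ((((pslData (F := F) p).restrict H).T a)) ∣ Fintype.card F + 1 := by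
    intro a ha hap
    have ha' : (a : Matrix.ProjectiveSpecialLinearGroup (Fin 2) F) ≠ 1 := fun e => ha (Subtype.ext e)
    have hap' : (a : Matrix.ProjectiveSpecialLinearGroup (Fin 2) F) ^ p ≠ 1 :=
      fun e => hap (Subtype.ext (by simpa using e))
    have hd : Nat.card ((((pslData (F := F) p).restrict H).T a)) ∣
        Nat.card (tor (a : Matrix.ProjectiveSpecialLinearGroup (Fin 2) F)) :=
      Subgroup.card_comap_dvd_of_injective _ H.subtype H.subtype_injective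
    have h2 : (2 : ℕ) ∣ Fintype.card F + 1 := by obtain ⟨k, hk⟩ := hodd; exact ⟨k + 1, by omega⟩
    have h1 : (2 : ℕ) ∣ Fintype.card F - 1 := hg ▸ Nat.gcd_dvd_right _ _
    rcases card_tor_dvd p ha' hap' with h | h <;> rw [hg] at h
    · exact Or.inl ((Nat.mul_dvd_mul_left 2 (hd.trans h)).trans (Nat.mul_div_cancel' h1).dvd)
    · exact Or.inr ((Nat.mul_dvd_mul_left 2 (hd.trans h)).trans (Nat.mul_div_cancel' h2).dvd)
  rcases ((pslData (F := F) p).restrict H).kind_coprime hp.out hH with h | ⟨a, ha, hap, hT⟩ |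
      ⟨a, ha, hap, hidx, -, -⟩ | ⟨a, ha, hap, -⟩ | ⟨h, -⟩ | ⟨h, -⟩ | ⟨h, -⟩ | ⟨a, t, ha, hap, -⟩
  · exact Or.inl h
  · have h := hsemi a ha hap
    rw [hT, Subgroup.card_top] at h
    rcases h with h | h
    · exact Or.inr (Or.inr (Or.inr (Or.inr (Or.inl (dvd_of_mul_left_dvd h)))))
    · exact Or.inr (Or.inr (Or.inr (Or.inr (Or.inr (dvd_of_mul_left_dvd h)))))
  · have h := hsemi a ha hap
    have e := Subgroup.card_mul_index (((pslData (F := F) p).restrict H).T a)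
    rw [hidx, mul_comm] at e
    rw [e] at h
    rcases h with h | h
    · exact Or.inr (Or.inr (Or.inr (Or.inr (Or.inl h))))
    · exact Or.inr (Or.inr (Or.inr (Or.inr (Or.inr h))))
  · exact (hne a ha hap).elim
  · exact Or.inr (Or.inl h)
  · exact Or.inr (Or.inr (Or.inl h))
  · exact Or.inr (Or.inr (Or.inr (Or.inl h)))
  · exact (hne a ha hap).elim

/-- The group without a subgroup of order `A * B * k`. -/
theorem counterexample {A B k : ℕ} (hA : 3 ≤ A) (hB : 3 ≤ B) (hBo : Odd B) (hA4 : Odd A ∨ 4 ∣ A)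
    (hAB : A.Coprime B) (hkA : k.Coprime A) (hkB : k.Coprime B) (hk2 : k.Coprime 2) (hk3 : k.Coprime 3)
    (hne : A * B ≠ 12 ∧ A * B ≠ 24 ∧ A * B ≠ 60) :
    ¬ ∀ (G : Type) [Group G] [Finite G], A * B * k ∣ Nat.card G →
      (A * B * k).Coprime (Nat.card G / (A * B * k)) → ∃ H : Subgroup G, Nat.card H = A * B * k := by
  have hk0 : k ≠ 0 := fun h => by simp [h] at hk2
  have hcA : (1 + A).Coprime (A ^ 2) := (Nat.coprime_add_self_left.2 (Nat.coprime_one_left A)).pow_right 2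
  have hcB : (B - 1).Coprime (B ^ 2) := by
    refine Nat.Coprime.pow_right 2 (Nat.coprime_of_dvd fun q hq h1 h2 => hq.not_dvd_one ?_)
    have h := Nat.dvd_sub h2 h1
    rwa [show B - (B - 1) = 1 by omega] at h
  obtain ⟨c₀, hc₀A, hc₀B⟩ := Nat.chineseRemainder (hAB.pow 2 2) (1 + A) (B - 1)
  have hk12 : (A ^ 2 * B ^ 2).Coprime k := ((hkA.symm).pow_left 2).mul_left ((hkB.symm).pow_left 2)
  obtain ⟨c, hc₀, hck⟩ := Nat.chineseRemainder hk12 c₀ 2
  have hcA' : c ≡ 1 + A [MOD A ^ 2] := (hc₀.of_mul_right _).trans hc₀A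
  have hcB' : c ≡ B - 1 [MOD B ^ 2] := (hc₀.of_mul_left _).trans hc₀B
  have hcop : c.Coprime (A ^ 2 * B ^ 2 * k) := by
    refine Nat.Coprime.mul_right (Nat.Coprime.mul_right ?_ ?_) ?_
    · rw [Nat.coprime_iff_gcd_eq_one, hcA'.gcd_eq]; exact hcA
    · rw [Nat.coprime_iff_gcd_eq_one, hcB'.gcd_eq]; exact hcB
    · rw [Nat.coprime_iff_gcd_eq_one, hck.gcd_eq]; exact hk2.symm
  obtain ⟨r, hrbig, hr, hrc⟩ := Nat.forall_exists_prime_gt_and_modEq (A * B * k + 2) (q := A ^ 2 * B ^ 2 * k)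
    (by positivity) hcop
  haveI : Fact r.Prime := ⟨hr⟩
  have hm0 : 0 < A * B * k := by positivity
  have hAle : A ≤ A * B * k := Nat.le_of_dvd hm0 (Dvd.intro (B * k) (by ring))
  have hBle : B ≤ A * B * k := Nat.le_of_dvd hm0 (Dvd.intro (A * k) (by ring))
  have hrA : r ≡ 1 + A [MOD A ^ 2] := ((hrc.of_mul_right _).of_mul_right _).trans hcA'
  have hrB : r ≡ B - 1 [MOD B ^ 2] := ((hrc.of_mul_right _).of_mul_left _).trans hcB'
  have hrk : r ≡ 2 [MOD k] := (hrc.of_mul_left _).trans hck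
  have hrodd : Odd r := hr.odd_of_ne_two (by omega)
  obtain ⟨t, ht⟩ := (Nat.modEq_iff_dvd' (by omega)).1 hrA.symm
  obtain ⟨s, hs⟩ := (Nat.modEq_iff_dvd' (by omega)).1 hrB.symm
  obtain ⟨u, hu⟩ : ∃ u, u = 1 + A * t := ⟨_, rfl⟩
  obtain ⟨v, hv⟩ : ∃ v, v = 1 + B * s := ⟨_, rfl⟩
  have hr1 : r - 1 = A * u := by
    have e : A * u = A + A ^ 2 * t := by rw [hu]; ring
    omega
  have hr2 : r + 1 = B * v := by
    have e : B * v = B + B ^ 2 * s := by rw [hv]; ring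
    omega
  obtain ⟨w, hw⟩ : 2 ∣ v := by
    refine (Nat.Coprime.dvd_of_dvd_mul_left (Nat.coprime_two_left.2 hBo) ?_)
    rw [← hr2]
    obtain ⟨j, hj⟩ := hrodd
    exact ⟨j + 1, by omega⟩
  -- a divisor of both neighbours of `r` divides two
  have htwo : ∀ d, d ∣ r - 1 → d ∣ r + 1 → d ∣ 2 := fun d h1 h2 => by
    have h := Nat.dvd_sub h2 h1
    rwa [show r + 1 - (r - 1) = 2 by omega] at h
  have hodd_cop : ∀ d e, d ∣ r - 1 → e ∣ r + 1 → (Odd d ∨ Odd e) → d.Coprime e := fun d e h1 h2 ho => by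
    refine Nat.coprime_of_dvd fun q hq hqd hqe => ?_
    obtain rfl := (Nat.prime_dvd_prime_iff_eq hq Nat.prime_two).1 (htwo q (hqd.trans h1) (hqe.trans h2))
    rcases ho with ho | ho
    · exact Nat.not_even_iff_odd.2 ho (even_iff_two_dvd.2 hqd)
    · exact Nat.not_even_iff_odd.2 ho (even_iff_two_dvd.2 hqe)
  have hwdvd : w ∣ r + 1 := ⟨2 * B, by rw [hr2, hw]; ring⟩
  have hudvd : u ∣ r - 1 := ⟨A, by rw [hr1]; ring⟩
  have hAu : A.Coprime u := by
    rw [hu, Nat.coprime_comm, Nat.coprime_add_mul_left_left]; exact Nat.coprime_one_left A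
  have hBw : B.Coprime w := by
    refine Nat.Coprime.coprime_dvd_right (show w ∣ v from ⟨2, by rw [hw]; ring⟩) ?_
    rw [hv, Nat.coprime_comm, Nat.coprime_add_mul_left_left]; exact Nat.coprime_one_left B
  have hBu : B.Coprime u := (hodd_cop u B hudvd ⟨v, hr2⟩ (Or.inr hBo)).symm
  have hAw : A.Coprime w := by
    refine hodd_cop A w ⟨u, hr1⟩ hwdvd ?_
    rcases hA4 with h | ⟨a', ha'⟩
    · exact Or.inl h
    · refine Or.inr (Nat.not_even_iff_odd.1 fun ⟨w', hw'⟩ => ?_)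
      have e : B * v = 4 * (B * w') := by rw [hw, hw']; ring
      have e' : A * u = 4 * (a' * u) := by rw [ha']; ring
      omega
  have hku : k.Coprime u := by
    refine Nat.Coprime.coprime_dvd_right hudvd ?_
    rw [Nat.coprime_comm, Nat.coprime_iff_gcd_eq_one,
      (show r - 1 ≡ 1 [MOD k] from Nat.ModEq.sub (by omega) (by omega) hrk (Nat.ModEq.refl 1)).gcd_eq]
    exact Nat.gcd_one_left k
  have hkw : k.Coprime w := by
    refine Nat.Coprime.coprime_dvd_right hwdvd ?_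
    rw [Nat.coprime_comm, Nat.coprime_iff_gcd_eq_one, (hrk.add_right 1).gcd_eq]
    exact hk3.symm
  have hsmall : ∀ d, d ∣ A * B * k → d.Coprime r := fun d hd =>
    (hr.coprime_iff_not_dvd.2 fun h => by
      have := Nat.le_of_dvd hm0 (h.trans hd)
      omega).symm
  have hcardF : Fintype.card (ZMod r) = r := ZMod.card r
  have hN : Nat.card (Matrix.ProjectiveSpecialLinearGroup (Fin 2) (ZMod r)) = A * B * (r * (u * w)) := by
    have h := Invol.GW.Klein.PSL.card_mul (F := ZMod r) (by rw [hcardF]; exact hrodd)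
    rw [hcardF, hr1, hr2, hw] at h
    linarith
  haveI : NeZero k := ⟨hk0⟩
  intro hall
  let P := Matrix.ProjectiveSpecialLinearGroup (Fin 2) (ZMod r)
  let C := Multiplicative (ZMod k)
  have hC : Nat.card C = k := by rw [Nat.card_congr Multiplicative.toAdd, Nat.card_zmod]
  have hG : Nat.card (P × C) = A * B * k * (r * (u * w)) := by
    rw [Nat.card_prod, hC, hN]; ring
  have hcopN : (A * B * k).Coprime (r * (u * w)) := by
    refine Nat.Coprime.mul_left (Nat.Coprime.mul_left ?_ ?_) ?_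
    · exact (hsmall A (Dvd.intro (B * k) (by ring))).mul_right (hAu.mul_right hAw)
    · exact (hsmall B (Dvd.intro (A * k) (by ring))).mul_right (hBu.mul_right hBw)
    · exact (hsmall k (Dvd.intro_left _ rfl)).mul_right (hku.mul_right hkw)
  obtain ⟨H, hH⟩ := hall (P × C) (hG ▸ Dvd.intro _ rfl) (by
    rw [hG, Nat.mul_div_cancel_left _ hm0]; exact hcopN)
  -- the image in the first factor has order `A * B`
  let K : Subgroup P := H.map (MonoidHom.fst P C)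
  have h1 : Nat.card K ∣ A * B * k := hH ▸ Subgroup.card_map_dvd H (MonoidHom.fst P C)
  have h2 : A * B * k ∣ Nat.card K * k := by
    have h := Subgroup.card_dvd_of_le (show H ≤ K.prod (⊤ : Subgroup C) from fun x hx =>
      Subgroup.mem_prod.2 ⟨⟨x, hx, rfl⟩, Subgroup.mem_top _⟩)
    rwa [hH, Nat.card_congr (Subgroup.prodEquiv K ⊤).toEquiv, Nat.card_prod, Subgroup.card_top, hC] at h
  have hK : Nat.card K = A * B := by
    refine Nat.dvd_antisymm ?_ ((Nat.mul_dvd_mul_iff_right (Nat.pos_of_ne_zero hk0)).1 h2)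
    refine Nat.Coprime.dvd_of_dvd_mul_right ?_ h1
    refine Nat.Coprime.coprime_dvd_left (hN ▸ Subgroup.card_subgroup_dvd_card K) ?_
    exact (hkA.symm.mul_left hkB.symm).mul_left (hcopN.coprime_dvd_left (Dvd.intro_left _ rfl)).symm
  have hA1 : ¬ A ∣ 2 := fun h => by have := Nat.le_of_dvd two_pos h; omega
  have hB1 : ¬ B ∣ 2 := fun h => by have := Nat.le_of_dvd two_pos h; omega
  have hnr : ¬ r ∣ Nat.card K := fun h => by
    rw [hK] at h
    exact (hr.coprime_iff_not_dvd.1 (hsmall (A * B) (Dvd.intro _ rfl)).symm) h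
  have hAB9 : 9 ≤ A * B := le_trans (by norm_num) (Nat.mul_le_mul hA hB)
  rcases coprime_subgroup_card r (by rw [hcardF]; exact hrodd) K hnr with h | h | h | h | h | h <;>
    rw [hK] at h
  · omega
  · exact hne.1 h
  · exact hne.2.1 h
  · exact hne.2.2 h
  · rw [hcardF] at h
    exact hB1 (htwo B ((Dvd.intro_left _ rfl).trans h) ⟨v, hr2⟩)
  · rw [hcardF] at h
    exact hA1 (htwo A ⟨u, hr1⟩ ((Dvd.intro _ rfl).trans h))

/-- The decomposition of a number that is not a Hall number. -/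
theorem exists_decomposition {m : ℕ} (hm : 2 ≤ m)
    (h : ¬ (IsPrimePow m ∨ m % 4 = 2 ∨ m = 12 ∨ m = 24 ∨ m = 60)) :
    ∃ A B k : ℕ, m = A * B * k ∧ 3 ≤ A ∧ 3 ≤ B ∧ Odd B ∧ (Odd A ∨ 4 ∣ A) ∧ A.Coprime B ∧ k.Coprime A ∧
      k.Coprime B ∧ k.Coprime 2 ∧ k.Coprime 3 ∧ (A * B ≠ 12 ∧ A * B ≠ 24 ∧ A * B ≠ 60) := by
  simp only [not_or] at h
  obtain ⟨hpp, h4, h12, h24, h60⟩ := h
  -- splitting off the part for one prime
  have split : ∀ n p : ℕ, n ≠ 0 → p.Prime → p ∣ n → ∃ a b : ℕ, n = a * b ∧ 1 < a ∧ p ∣ a ∧ ¬ p ∣ b ∧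
      (∀ c : ℕ, ¬ p ∣ c → c.Coprime a) ∧ IsPrimePow a := by
    intro n p hn hp hd
    have he : 1 ≤ n.factorization p := (hp.dvd_iff_one_le_factorization hn).1 hd
    refine ⟨p ^ n.factorization p, n / p ^ n.factorization p, (Nat.ordProj_mul_ordCompl_eq_self n p).symm,
      Nat.one_lt_pow (by omega) hp.one_lt, dvd_pow_self p (by omega), Nat.not_dvd_ordCompl hp hn,
      fun c hc => ((hp.coprime_iff_not_dvd.2 hc).symm).pow_right _,
      ⟨p, _, hp.prime, he, rfl⟩⟩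
  have cop : ∀ a b p : ℕ, (∀ c : ℕ, ¬ p ∣ c → c.Coprime a) → ¬ p ∣ b → b.Coprime a := fun a b p h hb => h b hb
  have three_le : ∀ n p : ℕ, 0 < n → p ∣ n → 3 ≤ p → 3 ≤ n := fun n p hn hd hp =>
    hp.trans (Nat.le_of_dvd hn hd)
  have notlist : ∀ q n : ℕ, q.Prime → 7 ≤ q → q ∣ n → n ≠ 12 ∧ n ≠ 24 ∧ n ≠ 60 := by
    intro q n hq h7 hd
    have h60' : ¬ q ∣ 120 := fun h => by
      have hle := Nat.le_of_dvd (by norm_num) h
      rcases hq.dvd_mul.1 (show q ∣ 8 * 15 from h) with h | h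
      · have := (Nat.prime_dvd_prime_iff_eq hq Nat.prime_two).1 (hq.dvd_of_dvd_pow (show q ∣ 2 ^ 3 from h))
        omega
      · rcases hq.dvd_mul.1 (show q ∣ 3 * 5 from h) with h | h
        · have := Nat.le_of_dvd (by norm_num) h; omega
        · have := Nat.le_of_dvd (by norm_num) h; omega
    exact ⟨fun e => h60' (hd.trans (e ▸ ⟨10, rfl⟩)), fun e => h60' (hd.trans (e ▸ ⟨5, rfl⟩)),
      fun e => h60' (hd.trans (e ▸ ⟨2, rfl⟩))⟩
  rcases Nat.even_or_odd m with hev | hodd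
  swap
  · have hoddd : ∀ d, d ∣ m → Odd d := fun d hd => hodd.of_dvd_nat hd
    obtain ⟨p, hp, hpm, hp3⟩ : ∃ p, p.Prime ∧ p ∣ m ∧ (3 ∣ m → p = 3) := by
      by_cases h3 : 3 ∣ m
      · exact ⟨3, Nat.prime_three, h3, fun _ => rfl⟩
      · exact ⟨m.minFac, Nat.minFac_prime (by omega), Nat.minFac_dvd m, fun h => absurd h h3⟩
    obtain ⟨A, m₁, rfl, hA1, hpA, hpm₁, hcA, hApp⟩ := split m p (by omega) hp hpm
    have hm₁ : m₁ ≠ 1 := fun e => hpp (by rwa [e, mul_one])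
    have hm₁0 : m₁ ≠ 0 := fun e => by simp [e] at hm
    obtain ⟨B, k, rfl, hB1, hqB, hqk, hcB, -⟩ :=
      split m₁ m₁.minFac hm₁0 (Nat.minFac_prime hm₁) (Nat.minFac_dvd m₁)
    have hAo := hoddd A ⟨B * k, rfl⟩
    have hBo := hoddd B ⟨A * k, by ring⟩
    have hko := hoddd k ⟨A * B, by ring⟩
    refine ⟨A, B, k, by ring, ?_, ?_, hBo, Or.inl hAo, (hcA B fun h => hpm₁ (h.trans ⟨k, rfl⟩)).symm,
      hcA k fun h => hpm₁ (h.trans ⟨B, by ring⟩), hcB k hqk, Nat.coprime_two_right.2 hko, ?_, ?_⟩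
    · obtain ⟨j, hj⟩ := hAo; omega
    · obtain ⟨j, hj⟩ := hBo; omega
    · refine (Nat.prime_three.coprime_iff_not_dvd.2 fun h3 => ?_).symm
      have h3m : 3 ∣ A * (B * k) := h3.trans ⟨A * B, by ring⟩
      exact hpm₁ (hp3 h3m ▸ h3.trans ⟨B, by ring⟩)
    · have hABo : Odd (A * B) := hAo.mul hBo
      refine ⟨?_, ?_, ?_⟩ <;> intro e <;> rw [e, Nat.odd_iff] at hABo <;> omega
  have h2 : 2 ∣ m := hev.two_dvd
  have h4' : 4 ∣ m := by omega
  obtain ⟨A, m₁, rfl, -, -, h2m₁, hcA, hApp⟩ := split m 2 (by omega) Nat.prime_two h2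
  have hm₁o : Odd m₁ := Nat.odd_iff.2 (by omega)
  have hA4 : 4 ∣ A := Nat.Coprime.dvd_of_dvd_mul_right
    (Nat.Coprime.pow_left 2 (Nat.coprime_two_left.2 hm₁o) : Nat.Coprime (2 ^ 2) m₁) h4'
  have hA0 : 0 < A := Nat.pos_of_ne_zero fun e => by simp [e] at hm
  have hA3 : 3 ≤ A := by have := Nat.le_of_dvd hA0 hA4; omega
  have hm₁1 : m₁ ≠ 1 := fun e => hpp (by rwa [e, mul_one])
  have hm₁0 : 0 < m₁ := hm₁o.pos
  have hdodd : ∀ d, d ∣ m₁ → ¬ 2 ∣ d := fun d hd h => h2m₁ (h.trans hd)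
  by_cases hex : ∃ q, q.Prime ∧ 7 ≤ q ∧ q ∣ m₁
  · obtain ⟨q, hq, h7, hqm⟩ := hex
    obtain ⟨Q, m₂, rfl, hQ1, hqQ, hqm₂, hcQ, -⟩ := split m₁ q (by omega) hq hqm
    have hq3 : ¬ q ∣ 3 := fun h => by have := Nat.le_of_dvd (by norm_num) h; omega
    by_cases h3 : 3 ∣ m₂
    · obtain ⟨B₀, k, rfl, hB1, h3B, h3k, hcB, -⟩ :=
        split m₂ 3 (fun e => by simp [e] at hm₁0) Nat.prime_three h3
      refine ⟨A, Q * B₀, k, by ring, hA3, ?_, hm₁o.of_dvd_nat ⟨k, by ring⟩, Or.inr hA4,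
        (hcA _ (hdodd _ ⟨k, by ring⟩)).symm, hcA k (hdodd k ⟨Q * B₀, by ring⟩),
        (hcQ k fun h => hqm₂ (h.trans ⟨B₀, by ring⟩)).mul_right (hcB k h3k),
        (Nat.prime_two.coprime_iff_not_dvd.2 (hdodd k ⟨Q * B₀, by ring⟩)).symm,
        (Nat.prime_three.coprime_iff_not_dvd.2 h3k).symm,
        notlist q _ hq h7 (hqQ.trans ⟨A * B₀, by ring⟩)⟩
      calc 3 ≤ 3 * 1 := le_rfl
        _ ≤ B₀ * Q := Nat.mul_le_mul (Nat.le_of_dvd (by omega) h3B) hQ1.le
        _ = Q * B₀ := mul_comm _ _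
    · refine ⟨A, Q, m₂, by ring, hA3, ?_, hm₁o.of_dvd_nat ⟨m₂, rfl⟩, Or.inr hA4,
        (hcA Q (hdodd Q ⟨m₂, rfl⟩)).symm, hcA m₂ (hdodd m₂ ⟨Q, by ring⟩), hcQ m₂ hqm₂,
        (Nat.prime_two.coprime_iff_not_dvd.2 (hdodd m₂ ⟨Q, by ring⟩)).symm,
        (Nat.prime_three.coprime_iff_not_dvd.2 h3).symm, notlist q _ hq h7 (hqQ.trans ⟨A, by ring⟩)⟩
      exact three_le Q q (by omega) hqQ (by omega)
  · refine ⟨A, m₁, 1, (mul_one _).symm, hA3, ?_, hm₁o, Or.inr hA4, (hcA m₁ h2m₁).symm, Nat.coprime_one_left _,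
      Nat.coprime_one_left _, Nat.coprime_one_left _, Nat.coprime_one_left _, h12, h24, h60⟩
    obtain ⟨j, hj⟩ := hm₁o
    omega

/-- One direction of the theorem on Hall numbers. -/
theorem not_hall_number {m : ℕ} (hm : 2 ≤ m)
    (h : ¬ (IsPrimePow m ∨ m % 4 = 2 ∨ m = 12 ∨ m = 24 ∨ m = 60)) :
    ¬ ∀ (G : Type) [Group G] [Finite G], m ∣ Nat.card G → m.Coprime (Nat.card G / m) →
      ∃ H : Subgroup G, Nat.card H = m := by
  obtain ⟨A, B, k, rfl, hA, hB, hBo, hA4, hAB, hkA, hkB, hk2, hk3, hne⟩ := exists_decomposition hm h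
  exact counterexample hA hB hBo hA4 hAB hkA hkB hk2 hk3 hne

end Cfsg.Agent.Transfer.HallCounter
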