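import Cfsg.Agent.Lib.Fus.Metacyclic
import Cfsg.Agent.Lib.Transfer.NormalSteps
import Cfsg.Agent.S0016

/-!
The elements of order dividing `p` in noncyclic metacyclic groups, `p` odd; normal subgroups of type `(p, p)`.
-/

set_option autoImplicit false
set_option linter.style.haveILetI false

namespace Cfsg.Agent.Transfer

universe u

theorem omega_card_metacyclic {R : Type u} [Group R] [Finite R] {p : ℕ} [hp : Fact p.Prime] (hp2 : p ≠ 2)
    (hR : IsPGroup p R) (hm : Cfsg.IsMetacyclic R) (hnc : ¬ IsCyclic R) :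
    ∃ V : Subgroup R, (∀ x, x ∈ V ↔ x ^ p = 1) ∧ IsMulCommutative V ∧ Nat.card V = p ^ 2 := by
  obtain ⟨V, hV, hab, hle⟩ := Cfsg.Agent.Fus.exists_omega_metacyclic hp2 hR hm
  refine ⟨V, hV, ⟨⟨fun a b => Subtype.ext (hab a a.2 b b.2)⟩⟩, le_antisymm hle ?_⟩
  obtain ⟨j, hj⟩ := IsPGroup.iff_card.1 (hR.to_subgroup V)
  rw [hj]
  refine Nat.pow_le_pow_right hp.out.pos ?_
  by_contra hlt
  refine hnc ((Cfsg.Agent.S0016.result p hR fun H K hH hK => ?_).resolve_right fun h => hp2 h.1)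
  have key : ∀ H : Subgroup R, Nat.card H = p → H = V := fun H hH => by
    refine Subgroup.eq_of_le_of_card_ge (fun x hx => (hV x).2 ?_) ?_
    · have h1 := H.orderOf_dvd_natCard hx
      rw [hH] at h1
      exact orderOf_dvd_iff_pow_eq_one.1 h1
    · rw [hj, hH]
      exact le_trans (Nat.pow_le_pow_right hp.out.pos (by omega : j ≤ 1)) (pow_one p).le
  rw [key H hH, key K hK]

/-- A noncyclic normal subgroup contains a normal subgroup of type `(p, p)`, `p` odd. -/
theorem exists_normal_elementary {R : Type u} [Group R] [Finite R] {p : ℕ} [hp : Fact p.Prime] (hp2 : p ≠ 2)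
    (hR : IsPGroup p R) (S : Subgroup R) [S.Normal] (hS : ¬ IsCyclic S) :
    ∃ A : Subgroup R, A ≤ S ∧ A.Normal ∧ Cfsg.IsElementaryAbelian p A ∧ Nat.card A = p ^ 2 := by
  haveI := hR.isNilpotent
  -- a normal subgroup of order `p²` inside an elementary one
  have hdown : ∀ W : Subgroup R, W.Normal → Cfsg.IsElementaryAbelian p W → p ^ 2 ≤ Nat.card W → W ≤ S →
      ∃ A : Subgroup R, A ≤ S ∧ A.Normal ∧ Cfsg.IsElementaryAbelian p A ∧ Nat.card A = p ^ 2 := by
    intro W hW hWe hWc hWS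
    haveI := hW
    have hsub : ∀ L : Subgroup R, L ≤ W → Cfsg.IsElementaryAbelian p L := fun L hL =>
      ⟨⟨⟨fun a b => Subtype.ext (congrArg (fun v : W => (v : R)) (hWe.1.is_comm.comm ⟨a, hL a.2⟩ ⟨b, hL b.2⟩))⟩⟩,
        fun a ha => hWe.2 a (hL ha)⟩
    have hp1 := hp.out.one_lt
    obtain ⟨L, hLn, -, hLW, hLc, -⟩ := NormalSteps.exists_normal_step hR (M := ⊥) (N := W) (bot_lt_iff_ne_bot.2 fun h => by
      rw [h, Subgroup.card_bot] at hWc
      exact absurd hWc (not_le.2 (Nat.one_lt_pow (by norm_num) hp1)))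
    rw [Subgroup.card_bot, mul_one] at hLc
    haveI := hLn
    obtain ⟨K, hKn, -, hKW, hKc, -⟩ := NormalSteps.exists_normal_step hR (M := L) (N := W) (lt_of_le_of_ne hLW fun h => by
      rw [← h, hLc, pow_two] at hWc
      exact absurd hWc (not_le.2 (lt_mul_of_one_lt_left hp.out.pos hp1)))
    exact ⟨K, hKW.trans hWS, hKn, hsub K hKW, by rw [hKc, hLc, pow_two]⟩
  haveI : Nonempty {A : Subgroup R // A.Normal ∧ IsMulCommutative A ∧ A ≤ S} :=
    ⟨⟨⊥, inferInstance, ⟨⟨fun a b => Subsingleton.elim _ _⟩⟩, bot_le⟩⟩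
  obtain ⟨⟨A, hAn, hAab, hAS⟩, hmax⟩ := Finite.exists_max
    (fun A : {A : Subgroup R // A.Normal ∧ IsMulCommutative A ∧ A ≤ S} => Nat.card A.1)
  haveI := hAn
  have hmax' : ∀ B : Subgroup R, B.Normal → IsMulCommutative B → A ≤ B → B ≤ S → B = A := fun B h1 h2 h3 h4 =>
    (Subgroup.eq_of_le_of_card_ge h3 (hmax ⟨B, h1, h2, h4⟩)).symm
  by_cases hAc : IsCyclic A
  · have hAS' : A ≠ S := fun h => hS (h ▸ hAc)
    -- `A` is its own centralizer in `S`
    have hcen : S ⊓ Subgroup.centralizer (A : Set R) ≤ A := by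
      by_contra hne
      have hle : A ≤ S ⊓ Subgroup.centralizer (A : Set R) := le_inf hAS fun a ha =>
        Subgroup.mem_centralizer_iff.2 fun b hb => congrArg Subtype.val (hAab.is_comm.comm ⟨b, hb⟩ ⟨a, ha⟩)
      haveI : (S ⊓ Subgroup.centralizer (A : Set R)).Normal := Subgroup.normal_inf_normal _ _
      obtain ⟨L, hLn, hAL, hLC, hLc, -⟩ := NormalSteps.exists_normal_step hR (lt_of_le_of_ne hle fun h => hne h.ge)
      obtain ⟨x, hxL, hxA⟩ := SetLike.exists_of_lt hAL
      have hLab : IsMulCommutative L := by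
        rw [NormalSteps.eq_closure_insert (p := p) hAL.le hLc hxL hxA]
        exact NormalSteps.closure_insert_comm (fun a ha b hb => congrArg Subtype.val (hAab.is_comm.comm ⟨a, ha⟩ ⟨b, hb⟩))
          fun a ha => (Subgroup.mem_centralizer_iff.1 (hLC hxL).2 a ha).symm
      exact hAL.ne' (hmax' L hLn hLab hAL.le (hLC.trans inf_le_left))
    obtain ⟨L, hLn, hAL, hLS, hLc, -⟩ := NormalSteps.exists_normal_step hR (lt_of_le_of_ne hAS hAS')
    haveI := hLn
    have hLnc : ¬ IsCyclic L := fun h => by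
      haveI := h
      exact hAL.ne' (hmax' L hLn ⟨⟨fun a b => (IsCyclic.commGroup (α := L)).mul_comm a b⟩⟩ hAL.le hLS)
    have hm : Cfsg.IsMetacyclic L := by
      refine ⟨A.subgroupOf L, inferInstance, ?_, ?_⟩
      · exact (MulEquiv.isCyclic (Subgroup.subgroupOfEquivOfLe hAL.le)).2 hAc
      · refine isCyclic_of_prime_card (p := p) ?_
        have h1 := Subgroup.card_eq_card_quotient_mul_card_subgroup (A.subgroupOf L)
        rw [Nat.card_congr (Subgroup.subgroupOfEquivOfLe hAL.le).toEquiv, hLc] at h1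
        exact (Nat.eq_of_mul_eq_mul_right Nat.card_pos h1).symm
    obtain ⟨V, hV, hVab, hVc⟩ := omega_card_metacyclic hp2 (hR.to_subgroup L) hm hLnc
    haveI := hVab
    refine hdown (V.map L.subtype) ⟨?_⟩ ⟨inferInstance, ?_⟩ (by rw [Subgroup.card_map_of_injective L.subtype_injective, hVc]) ((Subgroup.map_subtype_le _).trans hLS)
    · rintro _ ⟨v, hv, rfl⟩ g
      refine ⟨⟨g * v * g⁻¹, hLn.conj_mem _ v.2 g⟩, (hV _).2 (Subtype.ext ?_), rfl⟩
      show (g * (v : R) * g⁻¹) ^ p = 1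
      rw [conj_pow, show (v : R) ^ p = 1 from congrArg Subtype.val ((hV v).1 hv), mul_one, mul_inv_cancel]
    · rintro _ ⟨v, hv, rfl⟩
      exact congrArg Subtype.val ((hV v).1 hv)
  · have hAcomm : ∀ a ∈ A, ∀ b ∈ A, a * b = b * a := fun a ha b hb =>
      congrArg Subtype.val (hAab.is_comm.comm ⟨a, ha⟩ ⟨b, hb⟩)
    let W : Subgroup R :=
      { carrier := {x | x ∈ A ∧ x ^ p = 1}
        one_mem' := ⟨one_mem _, one_pow _⟩
        mul_mem' := fun {x y} hx hy => ⟨mul_mem hx.1 hy.1, by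
          rw [(show Commute x y from hAcomm x hx.1 y hy.1).mul_pow, hx.2, hy.2, one_mul]⟩
        inv_mem' := fun {x} hx => ⟨inv_mem hx.1, by rw [inv_pow, hx.2, inv_one]⟩ }
    refine hdown W ⟨fun x hx g => ⟨hAn.conj_mem x hx.1 g, by rw [conj_pow, hx.2, mul_one, mul_inv_cancel]⟩⟩
      ⟨⟨⟨fun a b => Subtype.ext (hAcomm a a.2.1 b b.2.1)⟩⟩, fun a ha => ha.2⟩ ?_ fun x hx => hAS hx.1
    obtain ⟨j, hj⟩ := IsPGroup.iff_card.1 (hR.to_subgroup W)
    rw [hj]
    refine Nat.pow_le_pow_right hp.out.pos ?_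
    by_contra hlt
    refine hAc ((Cfsg.Agent.S0016.result p (hR.to_subgroup A) fun H K hH hK => ?_).resolve_right fun h => hp2 h.1)
    have key : ∀ H : Subgroup A, Nat.card H = p → H.map A.subtype = W := fun H hH => by
      refine Subgroup.eq_of_le_of_card_ge ?_ ?_
      · rintro _ ⟨x, hx, rfl⟩
        have h1 := H.orderOf_dvd_natCard hx
        rw [hH] at h1
        exact ⟨x.2, congrArg Subtype.val (orderOf_dvd_iff_pow_eq_one.1 h1)⟩
      · rw [hj, Subgroup.card_map_of_injective A.subtype_injective, hH]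
        exact le_trans (Nat.pow_le_pow_right hp.out.pos (by omega : j ≤ 1)) (pow_one p).le
    exact Subgroup.map_injective A.subtype_injective ((key H hH).trans (key K hK).symm)

end Cfsg.Agent.Transfer
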