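import Cfsg.Agent.Lib.Transfer.Frobenius
import Cfsg.Agent.Lib.OddUse.MetacyclicTwo
import Cfsg.Agent.Lib.Grp.TwoSymFour.Known
import Cfsg.Agent.Lib.Invol.CharP
import Cfsg.Agent.S0205

/-!
# Groups with Sylow 2-subgroups of order at most eight: movers of small 2-subgroups

In a non-solvable group some odd-order element moves a subgroup of a Sylow 2-subgroup; for subgroups of
order four this gives an element of order three in a solvable normalizer.
-/

set_option autoImplicit false
set_option linter.style.haveILetI false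

namespace Cfsg.Agent.Transfer.SmallTwo

open Subgroup

universe u

variable {X : Type u} [Group X] [Finite X]

/-- Frobenius' criterion: a non-solvable group has a moved subgroup in every Sylow 2-subgroup. -/
theorem exists_mover (T : Sylow 2 X) (hns : ¬ Group.IsSolvable X) :
    ∃ Q : Subgroup X, Q ≤ (T : Subgroup X) ∧ ∃ g ∈ normalizer (Q : Set X),
      Odd (orderOf g) ∧ g ∉ centralizer (Q : Set X) := by
  haveI : Fact (Nat.Prime 2) := ⟨Nat.prime_two⟩
  by_contra h
  push Not at h
  exact hns (OddUse.isSolvable_of_two_complement (fun K _ _ h => Cfsg.Agent.S0205.result h)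
    ((hasNormalPComplement_iff_frobeniusCondition T).2 fun Q hQ g hg hc =>
      h Q hQ g hg (Nat.coprime_two_right.1 hc)))

/-- A power of an element of odd order centralizing a small subgroup it normalizes. -/
theorem pow_centralizes {Q : Subgroup X} {g : X} (hg : g ∈ normalizer (Q : Set X)) {n : ℕ}
    (hn : ∀ d, d ∣ orderOf g → d ∣ (Nat.card Q).factorial → d ∣ n) : g ^ n ∈ centralizer (Q : Set X) := by
  classical
  let f : normalizer (Q : Set X) →* Equiv.Perm Q := (MulAut.toPerm Q).comp Q.normalizerMonoidHom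
  have h1 : orderOf (f ⟨g, hg⟩) ∣ n := hn _ ((orderOf_map_dvd f ⟨g, hg⟩).trans (Subgroup.orderOf_mk g hg).dvd)
    (Nat.card_perm (α := Q) ▸ orderOf_dvd_natCard _)
  have h2 := orderOf_dvd_iff_pow_eq_one.1 h1
  rw [← map_pow] at h2
  refine mem_centralizer_iff.2 fun q hq => ?_
  have h3 : g ^ n * q * (g ^ n)⁻¹ = q := congrArg Subtype.val (Equiv.congr_fun h2 ⟨q, hq⟩)
  exact (mul_inv_eq_iff_eq_mul.1 h3).symm

theorem pow_three_centralizes {Q : Subgroup X} (hQ : Nat.card Q ∣ 4) {g : X} (hg : g ∈ normalizer (Q : Set X))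
    (ho : Odd (orderOf g)) : g ^ 3 ∈ centralizer (Q : Set X) :=
  pow_centralizes hg fun d hd hd' => Nat.Coprime.dvd_of_dvd_mul_left
    ((Nat.coprime_two_right.2 (ho.of_dvd_nat hd)).pow_right 3)
    (hd'.trans (Nat.factorial_dvd_factorial (Nat.le_of_dvd (by norm_num) hQ)))

/-- A mover of a subgroup of order dividing four. -/
theorem mover_facts {Q : Subgroup X} (hQ : Nat.card Q ∣ 4) {g : X} (hg : g ∈ normalizer (Q : Set X))
    (ho : Odd (orderOf g)) (hgc : g ∉ centralizer (Q : Set X)) :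
    Nat.card Q = 4 ∧ 3 ∣ Nat.card ↥(normalizer (Q : Set X)) := by
  have h3 := pow_three_centralizes hQ hg ho
  refine ⟨?_, ?_⟩
  · obtain ⟨i, hi, he⟩ := (Nat.dvd_prime_pow Nat.prime_two).1 (show Nat.card Q ∣ 2 ^ 2 from hQ)
    interval_cases i
    · exact (hgc (pow_one g ▸ pow_centralizes hg fun d _ hd' => by rwa [he] at hd')).elim
    · refine (hgc (pow_one g ▸ pow_centralizes hg fun d hd hd' => ?_)).elim
      rw [he] at hd'
      exact (Nat.eq_one_of_dvd_coprimes (Nat.coprime_two_right.2 (ho.of_dvd_nat hd)) dvd_rfl hd').dvd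
    · simpa using he
  · refine Dvd.dvd.trans ?_ ((Subgroup.orderOf_mk g hg).symm.dvd.trans (orderOf_dvd_natCard _))
    by_contra hn
    obtain ⟨k, hk⟩ := exists_pow_eq_self_of_coprime (x := g) (n := 3) (Nat.prime_three.coprime_iff_not_dvd.2 hn)
    exact hgc (hk ▸ pow_mem h3 k)

/-- The order of a Sylow 2-subgroup from the exact 2-part of the order. -/
theorem sylow_card {k : ℕ} (T : Sylow 2 X) (h1 : 2 ^ k ∣ Nat.card X) (h2 : ¬ 2 ^ (k + 1) ∣ Nat.card X) :
    Nat.card (T : Subgroup X) = 2 ^ k := by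
  haveI : Fact (Nat.Prime 2) := ⟨Nat.prime_two⟩
  obtain ⟨j, hj⟩ := IsPGroup.iff_card.1 T.isPGroup'
  have h3 : 2 ^ k ∣ Nat.card (T : Subgroup X) := T.pow_dvd_card_of_pow_dvd_card h1
  have h4 : ¬ 2 ^ (k + 1) ∣ Nat.card (T : Subgroup X) := fun h => h2 (h.trans (Subgroup.card_subgroup_dvd_card _))
  rw [hj, Nat.pow_dvd_pow_iff_le_right Nat.one_lt_two] at h3 h4
  rw [hj, show j = k by omega]

/-- A group of order not divisible by four is solvable. -/
theorem isSolvable_of_not_four (h : ¬ 4 ∣ Nat.card X) : Group.IsSolvable X := by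
  haveI : Fact (Nat.Prime 2) := ⟨Nat.prime_two⟩
  by_contra hns
  obtain ⟨T⟩ : Nonempty (Sylow 2 X) := inferInstance
  obtain ⟨Q, hQT, g, hg, ho, hgc⟩ := exists_mover T hns
  obtain ⟨j, hj⟩ := IsPGroup.iff_card.1 (T.isPGroup'.to_le hQT)
  have hj1 : j ≤ 1 := by
    by_contra hlt
    exact h ((show (4 : ℕ) ∣ Nat.card Q from hj ▸ (show 2 ^ 2 ∣ 2 ^ j from Nat.pow_dvd_pow 2 (by omega))).trans
      (Subgroup.card_subgroup_dvd_card Q))
  have h4 := (mover_facts (hj ▸ (show 2 ^ j ∣ 2 ^ 2 from Nat.pow_dvd_pow 2 (by omega))) hg ho hgc).1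
  exact h (h4 ▸ Subgroup.card_subgroup_dvd_card Q)

/-- The normalizer of a subgroup of order four is solvable if sixteen does not divide the order. -/
theorem normalizer_four_solvable {Q : Subgroup X} (hQ : Nat.card Q = 4) (h16 : ¬ 16 ∣ Nat.card X) :
    Group.IsSolvable ↥(normalizer (Q : Set X)) := by
  haveI : Fact (Nat.Prime 2) := ⟨Nat.prime_two⟩
  classical
  set C := centralizer (Q : Set X) with hC
  haveI : IsMulCommutative Q := IsPGroup.isMulCommutative_of_card_eq_prime_sq (p := 2) (by rw [hQ]; rfl)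
  have hQC : Q ≤ C := le_centralizer_iff_isMulCommutative.2 inferInstance
  haveI : Group.IsSolvable C := by
    haveI hn : (Q.subgroupOf C).Normal := ⟨fun a ha c => by
      have h1 : (c : X) * (a : X) * (c : X)⁻¹ = a :=
        mul_inv_eq_iff_eq_mul.2 (mem_centralizer_iff.1 c.2 _ ha).symm
      rw [mem_subgroupOf]
      show (c : X) * (a : X) * (c : X)⁻¹ ∈ Q
      rw [h1]
      exact ha⟩
    have hc : Nat.card (Q.subgroupOf C) = 4 := by
      rw [Nat.card_congr (subgroupOfEquivOfLe hQC).toEquiv, hQ]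
    haveI := (IsPGroup.of_card (p := 2) (n := 2) (show Nat.card (Q.subgroupOf C) = 2 ^ 2 by rw [hc]; rfl)).isNilpotent
    refine (Group.isSolvable_iff_subgroup_quotient (Q.subgroupOf C)).2 ⟨inferInstance, isSolvable_of_not_four ?_⟩
    intro h
    refine h16 (Dvd.dvd.trans ?_ (Subgroup.card_subgroup_dvd_card C))
    rw [Subgroup.card_eq_card_quotient_mul_card_subgroup (Q.subgroupOf C), hc]
    exact Nat.mul_dvd_mul_right h 4
  let f : normalizer (Q : Set X) →* Equiv.Perm Q := (MulAut.toPerm Q).comp Q.normalizerMonoidHom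
  haveI : Group.IsSolvable (Equiv.Perm Q) := by
    haveI := Grp.TwoSymFour.isSolvable_perm_four
    let e : Q ≃ Fin 4 := Nat.equivFinOfCardPos (by rw [hQ]; norm_num) |>.trans (finCongr hQ)
    exact Group.isSolvable_of_isSolvable_injective (f := e.permCongrHom.toMonoidHom) e.permCongrHom.injective
  refine Group.isSolvable_of_ker_le_range (inclusion (centralizer_le_normalizer (Q : Set X))) f fun x hx => ?_
  have hx' : x ∈ Q.normalizerMonoidHom.ker := by
    rw [MonoidHom.mem_ker] at hx ⊢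
    exact MulEquiv.ext fun q => Equiv.congr_fun hx q
  rw [normalizerMonoidHom_ker, mem_subgroupOf] at hx'
  exact ⟨⟨x, hx'⟩, rfl⟩

/-- A subgroup of order four of a group with Sylow subgroups of order eight is normalized by one of them. -/
theorem eight_dvd_normalizer {Q : Subgroup X} (hQ : Nat.card Q = 4) (h8 : 8 ∣ Nat.card X)
    (h16 : ¬ 16 ∣ Nat.card X) : 8 ∣ Nat.card ↥(normalizer (Q : Set X)) := by
  haveI : Fact (Nat.Prime 2) := ⟨Nat.prime_two⟩
  obtain ⟨T, hT⟩ := (IsPGroup.of_card (p := 2) (n := 2) (show Nat.card Q = 2 ^ 2 by rw [hQ]; rfl)).exists_le_sylow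
  have hTc : Nat.card (T : Subgroup X) = 8 := sylow_card (k := 3) T h8 h16
  have hidx : (Q.subgroupOf (T : Subgroup X)).index = 2 := by
    have h := Subgroup.card_mul_index (Q.subgroupOf (T : Subgroup X))
    rw [Nat.card_congr (subgroupOfEquivOfLe hT).toEquiv, hQ, hTc] at h
    omega
  exact hTc ▸ Subgroup.card_dvd_of_le
    ((normal_subgroupOf_iff_le_normalizer hT).1 (normal_of_index_eq_two hidx))

/-- A Sylow subgroup of order four of a non-solvable group: a four-group with three in its normalizer. -/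
theorem sylow_four_facts (hns : ¬ Group.IsSolvable X) (h4 : 4 ∣ Nat.card X) (h8 : ¬ 8 ∣ Nat.card X)
    (T : Sylow 2 X) : Nat.card (T : Subgroup X) = 4 ∧ 3 ∣ Nat.card ↥(normalizer ((T : Subgroup X) : Set X)) ∧
      IsKleinFour (T : Subgroup X) := by
  haveI : Fact (Nat.Prime 2) := ⟨Nat.prime_two⟩
  have hT : Nat.card (T : Subgroup X) = 4 := sylow_card (k := 2) T h4 h8
  obtain ⟨Q, hQT, g, hg, ho, hgc⟩ := exists_mover T hns
  obtain ⟨hQ, h3⟩ := mover_facts (hT ▸ Subgroup.card_dvd_of_le hQT) hg ho hgc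
  obtain rfl : Q = (T : Subgroup X) := eq_of_le_of_card_ge hQT (by rw [hQ, hT])
  refine ⟨hT, h3, ⟨hT, ?_⟩⟩
  haveI : Nontrivial (T : Subgroup X) := Finite.one_lt_card_iff_nontrivial.1 (by omega)
  refine (Monoid.exponent_eq_prime_iff Nat.prime_two).2 fun x hx => ?_
  have hd : orderOf x ∣ 2 ^ 2 := (show orderOf x ∣ Nat.card (T : Subgroup X) from orderOf_dvd_natCard x).trans hT.dvd
  obtain ⟨i, hi, he⟩ := (Nat.dvd_prime_pow Nat.prime_two).1 hd
  interval_cases i
  · exact absurd (orderOf_eq_one_iff.1 he) hx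
  · simpa using he
  · exfalso
    have hcyc : IsCyclic (T : Subgroup X) := isCyclic_of_orderOf_eq_card x (by rw [he, hT]; rfl)
    exact hgc (IsCyclic.normalizer_le_centralizer
      ((Nat.minFac_eq_two_iff _).2 ((show (2 : ℕ) ∣ 4 by norm_num).trans h4)) hcyc hg)

/-- A cube centralizes a group of order eight, if a central involution is fixed. -/
theorem pow_three_centralizes_eight {T : Subgroup X} (hT : Nat.card T = 8) {t : X} (htT : t ∈ T)
    (ht : orderOf t = 2) (hTt : ∀ x ∈ T, Commute x t) {g : X} (hg : g ∈ normalizer (T : Set X))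
    (hgt : Commute g t) (ho : Odd (orderOf g)) : g ^ 3 ∈ centralizer (T : Set X) := by
  haveI : Fact (Nat.Prime 2) := ⟨Nat.prime_two⟩
  set C := centralizer ({t} : Set X) with hC
  have hTC : T ≤ C := fun x hx => mem_centralizer_singleton_iff.2 (hTt x hx)
  have hgC : g ∈ C := mem_centralizer_singleton_iff.2 hgt
  set Z := (zpowers t).subgroupOf C with hZ
  haveI hZn : Z.Normal := ⟨fun a ha c => by
    obtain ⟨i, hi⟩ := mem_zpowers_iff.1 (mem_subgroupOf.1 ha)
    rw [hZ, mem_subgroupOf]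
    refine mem_zpowers_iff.2 ⟨i, ?_⟩
    show t ^ i = (c : X) * (a : X) * (c : X)⁻¹
    rw [← hi, ((show Commute (c : X) t from mem_centralizer_singleton_iff.1 c.2).zpow_right i).eq, mul_inv_cancel_right]⟩
  let φ := (QuotientGroup.mk' Z).comp (inclusion hTC)
  have hker : Nat.card φ.ker = 2 := by
    have h : φ.ker = (zpowers t).subgroupOf T := by
      ext x
      rw [MonoidHom.mem_ker]
      exact (QuotientGroup.eq_one_iff _).trans Iff.rfl
    rw [h, Nat.card_congr (subgroupOfEquivOfLe (zpowers_le.2 htT)).toEquiv, Nat.card_zpowers, ht]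
  have hrange : Nat.card φ.range = 4 := by
    have h := Subgroup.card_mul_index φ.ker
    rw [hker, Subgroup.index_ker, hT] at h
    omega
  let gC : C := ⟨g, hgC⟩
  have hgn : QuotientGroup.mk' Z gC ∈ normalizer (φ.range : Set (C ⧸ Z)) := by
    have h1 : gC ∈ normalizer ((T.subgroupOf C : Subgroup C) : Set C) :=
      mem_normalizer_iff.2 fun y => by
        rw [mem_subgroupOf, mem_subgroupOf]
        exact mem_normalizer_iff.1 hg y
    have h2 := le_normalizer_map (QuotientGroup.mk' Z) (mem_map_of_mem _ h1)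
    have e : (T.subgroupOf C).map (QuotientGroup.mk' Z) = φ.range := by
      rw [MonoidHom.range_comp, inclusion_range]
    rwa [e] at h2
  have hodd : Odd (orderOf (QuotientGroup.mk' Z gC)) :=
    ho.of_dvd_nat ((orderOf_map_dvd _ gC).trans (Subgroup.orderOf_mk g hgC).dvd)
  have h3 := pow_three_centralizes (hrange.dvd) hgn hodd
  refine mem_centralizer_iff.2 fun q hq => ?_
  have hcomm := mem_centralizer_iff.1 h3 (φ ⟨q, hq⟩) ⟨⟨q, hq⟩, rfl⟩
  rw [show φ ⟨q, hq⟩ = QuotientGroup.mk' Z ⟨q, hTC hq⟩ from rfl, ← map_pow, ← map_mul, ← map_mul] at hcomm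
  set x := g ^ 3 with hx
  set z := x * q * x⁻¹ * q⁻¹ with hz
  have hzt : z ∈ zpowers t := by
    have h1 : gC ^ 3 * ⟨q, hTC hq⟩ * (gC ^ 3)⁻¹ * (⟨q, hTC hq⟩ : C)⁻¹ ∈ Z := by
      rw [← QuotientGroup.eq_one_iff]
      show QuotientGroup.mk' Z _ = 1
      rw [map_mul, map_mul, map_inv, map_inv, ← hcomm, map_mul, mul_inv_cancel_right, mul_inv_cancel]
    exact h1
  obtain ⟨i, hi⟩ := mem_zpowers_iff.1 hzt
  have hxz : Commute x z := hi ▸ ((hgt.pow_left 3).zpow_right i)
  have hz2 : z ^ 2 ^ 1 = 1 := by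
    rw [← hi, pow_one, ← zpow_natCast, ← zpow_mul, mul_comm, zpow_mul, zpow_natCast,
      (orderOf_eq_prime_iff.1 ht).1, one_zpow]
  have hcop : (orderOf x).Coprime 2 :=
    Nat.coprime_two_right.2 (ho.of_dvd_nat (orderOf_pow_dvd 3))
  exact (Invol.commute_of_stabilises hcop hz2 hxz (by rw [hz]; group)).symm.eq

/-- A Sylow subgroup of order eight with three in its normalizer lies in a subgroup of order 24. -/
theorem exists_twentyfour {T : Subgroup X} (hT : Nat.card T = 8)
    (h3 : 3 ∣ Nat.card ↥(normalizer (T : Set X))) : ∃ H : Subgroup X, Nat.card H = 24 := by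
  haveI : Fact (Nat.Prime 3) := ⟨Nat.prime_three⟩
  set N := normalizer (T : Set X) with hN
  haveI : (T.subgroupOf N).Normal := normal_in_normalizer
  have hTN : Nat.card (T.subgroupOf N) = 8 := by
    rw [Nat.card_congr (subgroupOfEquivOfLe (le_normalizer : T ≤ N)).toEquiv, hT]
  have hd : 3 ∣ Nat.card (N ⧸ T.subgroupOf N) := by
    have h := Subgroup.card_eq_card_quotient_mul_card_subgroup (T.subgroupOf N)
    rw [hTN] at h
    exact Nat.Coprime.dvd_of_dvd_mul_right (by norm_num) (h ▸ h3)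
  obtain ⟨y, hy⟩ := exists_prime_orderOf_dvd_card' 3 hd
  let K := (zpowers y).comap (QuotientGroup.mk' (T.subgroupOf N))
  have hK : Nat.card K = 24 := by
    have h1 := Subgroup.card_mul_index K
    rw [Subgroup.index_comap_of_surjective _ (QuotientGroup.mk'_surjective _),
      Subgroup.card_eq_card_quotient_mul_card_subgroup (T.subgroupOf N), hTN,
      ← Subgroup.card_mul_index (zpowers y), Nat.card_zpowers, hy] at h1
    refine Nat.eq_of_mul_eq_mul_right (Nat.pos_of_ne_zero (Subgroup.index_ne_zero_of_finite (H := zpowers y))) ?_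
    rw [h1]; ring
  exact ⟨K.map N.subtype, by rw [Subgroup.card_map_of_injective N.subtype_injective, hK]⟩

/-- The centre of a non-abelian group of order eight contains a single involution. -/
theorem exists_central_involution_eight {T : Subgroup X} (hT : Nat.card T = 8) (hna : ¬ IsMulCommutative T) :
    ∃ t ∈ T, orderOf t = 2 ∧ (∀ x ∈ T, Commute x t) ∧
      ∀ g ∈ normalizer (T : Set X), Commute g t := by
  haveI : Fact (Nat.Prime 2) := ⟨Nat.prime_two⟩
  obtain ⟨k, hk0, hk⟩ := IsPGroup.card_center_eq_prime_pow (p := 2) (G := T) (n := 3) (by rw [hT]; rfl) (by norm_num)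
  have hk3 : 2 ^ k ∣ 2 ^ 3 := hk ▸ (show Nat.card (center T) ∣ 2 ^ 3 from
    (Subgroup.card_subgroup_dvd_card (center T)).trans (hT.trans (by norm_num)).dvd)
  rw [Nat.pow_dvd_pow_iff_le_right Nat.one_lt_two] at hk3
  have hc : Nat.card (center T) = 2 := by
    rcases (show k = 1 ∨ k = 2 ∨ k = 3 by omega) with rfl | rfl | rfl
    · simpa using hk
    · exfalso
      have hi := Subgroup.card_mul_index (center T)
      rw [hk, hT] at hi
      haveI : IsCyclic (T ⧸ center T) := isCyclic_of_prime_card (p := 2)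
        (by rw [← Subgroup.index_eq_card]; omega)
      exact hna (isMulCommutative_of_isCyclic_quotient_center_self T)
    · exfalso
      have htop := Subgroup.eq_top_of_card_eq (center T) (by rw [hk, hT]; rfl)
      exact hna ⟨⟨fun a b => Subgroup.mem_center_iff.1 (htop ▸ mem_top b) a⟩⟩
  obtain ⟨⟨z, hzc⟩, hz⟩ := exists_prime_orderOf_dvd_card' (G := center T) 2 (by rw [hc])
  rw [Subgroup.orderOf_mk] at hz
  refine ⟨z, z.2, by rw [Subgroup.orderOf_coe, hz], fun x hx =>
    congrArg Subtype.val (mem_center_iff.1 hzc ⟨x, hx⟩), fun g hg => ?_⟩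
  have hmem : g * z * g⁻¹ ∈ T := (mem_normalizer_iff.1 hg z).1 z.2
  have hzc' : (⟨_, hmem⟩ : T) ∈ center T := mem_center_iff.2 fun x => Subtype.ext <| by
    have hx : g⁻¹ * x * g ∈ T := (mem_normalizer_iff''.1 hg x).1 x.2
    have h : g⁻¹ * x * g * z = z * (g⁻¹ * x * g) := congrArg Subtype.val (mem_center_iff.1 hzc ⟨_, hx⟩)
    show (x : X) * (g * z * g⁻¹) = g * z * g⁻¹ * x
    calc (x : X) * (g * z * g⁻¹) = g * (g⁻¹ * x * g * z) * g⁻¹ := by group
      _ = g * (z * (g⁻¹ * x * g)) * g⁻¹ := by rw [h]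
      _ = g * z * g⁻¹ * x := by group
  have hz1 : (⟨z, hzc⟩ : center T) ≠ 1 := fun e => by
    rw [show z = 1 from congrArg Subtype.val e, orderOf_one] at hz; omega
  have hw1 : (⟨_, hzc'⟩ : center T) ≠ 1 := fun e => by
    have e' : g * (z : X) * g⁻¹ = 1 := congrArg (fun u : center T => ((u : T) : X)) e
    rw [conj_eq_one_iff] at e'
    rw [show z = 1 from Subtype.ext e', orderOf_one] at hz; omega
  obtain ⟨w, -, huniq⟩ := (Nat.card_eq_two_iff' (1 : center T)).1 hc
  have he : (⟨_, hzc'⟩ : center T) = ⟨z, hzc⟩ := (huniq _ hw1).trans (huniq _ hz1).symm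
  exact mul_inv_eq_iff_eq_mul.1 (congrArg (fun u : center T => ((u : T) : X)) he)

end Cfsg.Agent.Transfer.SmallTwo
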