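import Mathlib
import Cfsg.Prelude.Def_Solvable
import Cfsg.Agent.Lib.Block.Principal
import Cfsg.Agent.Lib.Block.Elementary
import Cfsg.Agent.Lib.Char.Integral
import Cfsg.Agent.Lib.Char.ModP
import Cfsg.Agent.Lib.Grp.Cores

/-!
Kazarin: an element with class of `p`-power size lies in the Fitting subgroup modulo `O_p`.
-/

set_option autoImplicit false
set_option maxHeartbeats 1000000

open scoped ComplexConjugate Pointwise commutatorElement

universe u

namespace Cfsg.Agent.Transfer.Kazarin

open Cfsg Cfsg.Agent Cfsg.Agent.Block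

variable {G : Type u} [Group G] [Finite G]

theorem relIndex_dvd_index (C N : Subgroup G) [N.Normal] : C.relIndex N ∣ C.index := by
  have e := Grp.card_sup_mul_card_inf_normal (H := C) (N := N)
  have a : Nat.card C * C.relIndex (C ⊔ N) = Nat.card ↥(C ⊔ N) := by
    rw [← Subgroup.relIndex_bot_left, ← Subgroup.relIndex_bot_left,
      Subgroup.relIndex_mul_relIndex ⊥ C (C ⊔ N) bot_le le_sup_left]
  have b : Nat.card ↥(C ⊓ N) * C.relIndex N = Nat.card N := by
    rw [← Subgroup.inf_relIndex_right, ← Subgroup.relIndex_bot_left, ← Subgroup.relIndex_bot_left,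
      Subgroup.relIndex_mul_relIndex ⊥ (C ⊓ N) N bot_le inf_le_right]
  have hpos : 0 < Nat.card C * Nat.card ↥(C ⊓ N) := Nat.mul_pos Nat.card_pos Nat.card_pos
  have hrel : C.relIndex N = C.relIndex (C ⊔ N) := by
    refine Nat.eq_of_mul_eq_mul_left hpos ?_
    calc Nat.card C * Nat.card ↥(C ⊓ N) * C.relIndex N = Nat.card C * (Nat.card ↥(C ⊓ N) * C.relIndex N) := by ring
      _ = Nat.card ↥(C ⊔ N) * Nat.card ↥(C ⊓ N) := by rw [b, e]
      _ = _ := by rw [← a]; ring
  rw [hrel]
  exact ⟨_, (Subgroup.relIndex_mul_index le_sup_left).symm⟩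

/-- A subgroup of `p`-power index has every coset meeting a given Sylow subgroup. -/
theorem exists_sylow_mem {p a : ℕ} [hp : Fact p.Prime] (C : Subgroup G) (hC : C.index = p ^ a)
    (P : Sylow p G) (g : G) : ∃ s ∈ (P : Subgroup G), s⁻¹ * g ∈ C := by
  classical
  set O := MulAction.orbit (P : Subgroup G) ((1 : G) : G ⧸ C) with hO
  have hstab : MulAction.stabilizer (P : Subgroup G) ((1 : G) : G ⧸ C) = C.subgroupOf (P : Subgroup G) := by
    ext s
    rw [MulAction.mem_stabilizer_iff, Subgroup.mem_subgroupOf]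
    show ((((s : G) * 1 : G)) : G ⧸ C) = ((1 : G) : G ⧸ C) ↔ _
    rw [QuotientGroup.eq, mul_one, mul_one, inv_mem_iff]
  have hcard : O.ncard = C.relIndex (P : Subgroup G) := by
    rw [hO, ← MulAction.index_stabilizer, hstab]; rfl
  have hdvd : p ^ a ∣ C.relIndex (P : Subgroup G) := by
    have h1 : C.relIndex (P : Subgroup G) * (P : Subgroup G).index = (C ⊓ (P : Subgroup G)).index := by
      rw [← Subgroup.inf_relIndex_right, Subgroup.relIndex_mul_index inf_le_right]
    have h2 : C.index ∣ (C ⊓ (P : Subgroup G)).index := Subgroup.index_dvd_of_le inf_le_left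
    rw [← h1, hC] at h2
    exact ((hp.out.coprime_iff_not_dvd.2 P.not_dvd_index).pow_left a).dvd_of_dvd_mul_right h2
  have huniv : O = Set.univ := by
    refine Set.eq_of_subset_of_ncard_le (Set.subset_univ _) ?_ (Set.toFinite _)
    rw [Set.ncard_univ, ← Subgroup.index_eq_card, hcard, hC]
    exact Nat.le_of_dvd (Nat.pos_of_ne_zero Subgroup.index_ne_zero_of_finite) hdvd
  obtain ⟨s, hs⟩ : ((g : G) : G ⧸ C) ∈ O := huniv ▸ Set.mem_univ _
  refine ⟨s, s.2, ?_⟩
  have hs' : (((s : G) * 1 : G) : G ⧸ C) = ((g : G) : G ⧸ C) := hs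
  rw [QuotientGroup.eq, mul_one] at hs'
  exact hs'

theorem conj_eq_of_mem_centralizer {x s g : G} (h : s⁻¹ * g ∈ Subgroup.centralizer ({x} : Set G)) :
    g * x * g⁻¹ = s * x * s⁻¹ := by
  rw [Subgroup.mem_centralizer_singleton_iff] at h
  calc g * x * g⁻¹ = s * (s⁻¹ * g * x) * g⁻¹ := by group
    _ = s * (x * (s⁻¹ * g)) * g⁻¹ := by rw [h]
    _ = s * x * s⁻¹ := by group

/-- The character argument: an `r`-element generating the group normally, with class of `p`-power size,
forces the derived subgroup to have order prime to `r`. -/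
theorem not_dvd_commutator {p r : ℕ} [hp : Fact p.Prime] [hr : Fact r.Prime] (hrp : r ≠ p) {x : G}
    (hgen : Subgroup.normalClosure ({x} : Set G) = ⊤) (hx : ∃ k : ℕ, orderOf x = r ^ k) {a : ℕ}
    (hidx : (Subgroup.centralizer ({x} : Set G)).index = p ^ a) :
    (∃ k : ℕ, (commutator G).index = r ^ k) ∧ ¬ r ∣ Nat.card (commutator G) := by
  classical
  cases nonempty_fintype G
  set N := commutator G with hN
  obtain ⟨j, hj⟩ := hx
  obtain ⟨k, hk⟩ : ∃ k, N.index = r ^ k := by
    let f : G →* Abelianization G := Abelianization.of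
    have hle : (⊤ : Subgroup G) ≤ (Subgroup.zpowers (f x)).comap f := by
      rw [← hgen, Subgroup.normalClosure, Subgroup.closure_le]
      intro y hy
      obtain ⟨z, hz, hc⟩ := Group.mem_conjugatesOfSet_iff.1 hy
      rw [Set.mem_singleton_iff.1 hz] at hc
      obtain ⟨c, rfl⟩ := isConj_iff.1 hc
      rw [SetLike.mem_coe, Subgroup.mem_comap, map_mul, map_mul, map_inv, mul_comm (f c), mul_inv_cancel_right]
      exact Subgroup.mem_zpowers _
    have h1 : Nat.card (Abelianization G) ∣ orderOf x := by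
      refine dvd_trans ?_ (orderOf_map_dvd f x)
      rw [← Nat.card_zpowers]
      have hsurj : Subgroup.zpowers (f x) = ⊤ := top_le_iff.1 fun y _ => by
        obtain ⟨g, rfl⟩ := QuotientGroup.mk_surjective y
        exact hle (Subgroup.mem_top g)
      rw [hsurj, Subgroup.card_top]
    obtain ⟨i, -, hi⟩ := (Nat.dvd_prime_pow hr.out).1 (hj ▸ h1)
    exact ⟨i, hi⟩
  refine ⟨⟨k, hk⟩, fun hdvd => ?_⟩
  obtain ⟨t, ht⟩ := exists_prime_orderOf_dvd_card' r hdvd
  rw [← Subgroup.orderOf_coe] at ht
  obtain ⟨M, hM⟩ := Cfsg.Agent.Char.exists_isPModular r hr.out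
  have hrpa : ¬ r ∣ p ^ a := fun h => hrp ((Nat.prime_dvd_prime_iff_eq hr.out hp.out).1 (hr.out.dvd_of_dvd_pow h))
  set B := principalBlock M G with hB
  let T : IrrCharacter G → Prop := fun χ => ∀ u ∈ N, (χ : G → ℂ) u = (χ : G → ℂ) 1
  -- characters of the principal block not trivial on `N` have degree divisible by `p`
  have hdeg : ∀ χ ∈ B, ¬ T χ → p ∣ charDegree (χ : G → ℂ) := by
    intro χ hχ hT
    by_contra hpn
    obtain ⟨m, ρ, hρ, hρχ⟩ := χ.2
    have hfin : charDegree (χ : G → ℂ) = Module.finrank ℂ (Fin m → ℂ) := by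
      have h := charDeg_spec' χ
      rw [← hρχ, Representation.char_one] at h
      rw [← hρχ]
      exact_mod_cast h.symm
    haveI := hρ
    rcases Cfsg.Agent.Char.character_eq_zero_or_norm_eq ρ x (by
      rw [hidx, ← hfin]
      exact ((hp.out.coprime_iff_not_dvd.2 hpn).symm).pow_right a) with h0 | h0
    · refine hrpa ((ideal_natCast_iff hM _).1 ?_)
      have hs := pblock_sameBlock hM isPBlock_principalBlock (trivial_mem_principalBlock hM) hχ x
      have h1 : MemLocalIdeal M (centralChar (χ : G → ℂ) x) := by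
        rw [centralChar, ← hρχ, h0, mul_zero, zero_div]
        exact ideal_zero hM
      have h2 := (ideal_congr hM hs).2 h1
      rw [centralChar] at h2
      simp only [show ∀ g, ((trivialIrr G : IrrCharacter G) : G → ℂ) g = 1 from fun _ => rfl,
        mul_one, div_one, hidx] at h2
      exact h2
    · obtain ⟨ω, hω⟩ := (Cfsg.Agent.Char.norm_character_eq_iff ρ x).1 h0
      have hscal : ∀ g : G, ∃ c : ℂ, ρ g = c • LinearMap.id := by
        intro g
        have hg : g ∈ Subgroup.closure (Group.conjugatesOfSet ({x} : Set G)) := by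
          show g ∈ Subgroup.normalClosure ({x} : Set G)
          rw [hgen]; exact Subgroup.mem_top g
        refine Subgroup.closure_induction (p := fun g _ => ∃ c : ℂ, ρ g = c • LinearMap.id)
          (fun y hy => ?_) ⟨1, by rw [map_one, one_smul]; rfl⟩ (fun y z _ _ hy hz => ?_) (fun y _ hy => ?_) hg
        · obtain ⟨z, hz, hc⟩ := Group.mem_conjugatesOfSet_iff.1 hy
          rw [Set.mem_singleton_iff.1 hz] at hc
          obtain ⟨c, rfl⟩ := isConj_iff.1 hc
          refine ⟨ω, ?_⟩
          rw [map_mul, map_mul, hω, ← Module.End.one_eq_id, mul_smul_comm, smul_mul_assoc, mul_one, ← map_mul,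
            mul_inv_cancel, map_one]
        · obtain ⟨c, hc⟩ := hy
          obtain ⟨d, hd⟩ := hz
          refine ⟨c * d, ?_⟩
          rw [map_mul, hc, hd, ← Module.End.one_eq_id, smul_mul_smul_comm, one_mul]
        · obtain ⟨c, hc⟩ := hy
          refine ⟨c⁻¹, ?_⟩
          have h1 : ρ y * ρ y⁻¹ = 1 := by rw [← map_mul, mul_inv_cancel, map_one]
          rw [hc, ← Module.End.one_eq_id, smul_mul_assoc, one_mul] at h1
          rcases eq_or_ne c 0 with rfl | hc0
          · rw [zero_smul] at h1
            rw [inv_zero, zero_smul]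
            exact LinearMap.ext fun v => by
              have h2 := LinearMap.congr_fun h1 (ρ y⁻¹ v)
              simp only [LinearMap.zero_apply, Module.End.one_apply] at h2
              rw [LinearMap.zero_apply, ← h2]
          · rw [← Module.End.one_eq_id, ← h1, inv_smul_smul₀ hc0]
      refine hT fun u hu => ?_
      have hker : N ≤ MonoidHom.ker ρ := by
        rw [hN, commutator_def, Subgroup.commutator_le]
        intro g _ h _
        obtain ⟨c, hc⟩ := hscal g
        obtain ⟨d, hd⟩ := hscal h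
        have hcomm : ρ g * ρ h = ρ h * ρ g := by
          rw [hc, hd, ← Module.End.one_eq_id, smul_mul_smul_comm, smul_mul_smul_comm, mul_comm c d]
        rw [MonoidHom.mem_ker, commutatorElement_def, map_mul, map_mul, map_mul, hcomm, mul_assoc (ρ h),
          ← map_mul ρ g, mul_inv_cancel, map_one, mul_one, ← map_mul, mul_inv_cancel, map_one]
      rw [← hρχ]
      show LinearMap.trace ℂ _ (ρ u) = LinearMap.trace ℂ _ (ρ 1)
      rw [MonoidHom.mem_ker.1 (hker hu), map_one ρ]
  -- characters trivial on `N`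
  have hS : ∑ χ ∈ Finset.univ.filter T, (χ : G → ℂ) 1 * conj ((χ : G → ℂ) 1) = (N.index : ℂ) := by
    have hterm : ∀ χ : IrrCharacter G, (∑ u : N, (χ : G → ℂ) u) * conj ((χ : G → ℂ) 1) =
        if T χ then (Nat.card N : ℂ) * ((χ : G → ℂ) 1 * conj ((χ : G → ℂ) 1)) else 0 := by
      intro χ
      split_ifs with h
      · rw [Finset.sum_congr rfl fun (u : N) _ => h u u.2, Finset.sum_const, Finset.card_univ,
          ← Nat.card_eq_fintype_card, nsmul_eq_mul, mul_assoc]
      · have h0 : ∑ u : N, (χ : G → ℂ) u = 0 := by simpa using sum_normal_mul_eq_zero N χ h 1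
        rw [h0, zero_mul]
    have h1 : ∑ χ : IrrCharacter G, (∑ u : N, (χ : G → ℂ) u) * conj ((χ : G → ℂ) 1) = (Nat.card G : ℂ) := by
      simp only [Finset.sum_mul]
      rw [Finset.sum_comm]
      simp only [Cfsg.Agent.Char.sum_irr_mul_conj]
      rw [Finset.sum_eq_single (1 : N)]
      · rw [OneMemClass.coe_one, if_pos (IsConj.refl _)]
        rw [show Subgroup.centralizer ({1} : Set G) = ⊤ from top_le_iff.1 fun g _ => by
          rw [Subgroup.mem_centralizer_singleton_iff]; simp, Subgroup.card_top]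
      · intro u _ hu
        rw [if_neg fun h => hu (Subtype.ext (isConj_one_left.1 h))]
      · exact fun h => absurd (Finset.mem_univ _) h
    rw [Finset.sum_congr rfl fun χ _ => hterm χ, ← Finset.sum_filter, ← Finset.mul_sum,
      ← N.card_mul_index, Nat.cast_mul] at h1
    exact mul_left_cancel₀ (Nat.cast_ne_zero.2 Nat.card_pos.ne') h1
  -- weak orthogonality
  have horth := weak_orth hM (isPBlock_principalBlock (M := M) (G := G)) (x := 1) (y := (t : G))
    (by rw [orderOf_one]; exact hr.out.not_dvd_one) (by rw [ht])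
  rw [finsum_mem_eq_finite_toFinset_sum _ (Set.toFinite B)] at horth
  rw [← Finset.sum_filter_add_sum_filter_not _ T] at horth
  have htriv : ((Set.toFinite B).toFinset).filter T = Finset.univ.filter T := by
    ext χ
    simp only [Finset.mem_filter, Set.Finite.mem_toFinset, Finset.mem_univ, true_and]
    refine ⟨fun h => h.2, fun h => ⟨mem_principal_of_ker hM (K := N)
      (fun y hy => regular_mem_of_index_pPow hk hy) h, h⟩⟩
  rw [htriv, Finset.sum_congr rfl (g := fun χ : IrrCharacter G => (χ : G → ℂ) 1 * conj ((χ : G → ℂ) 1))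
    (fun χ hχ => by rw [(Finset.mem_filter.1 hχ).2 _ t.2]), hS] at horth
  set rest := ((Set.toFinite B).toFinset).filter (fun χ => ¬ T χ) with hrest
  have hint : IsIntegral ℤ ((∑ χ ∈ rest, (χ : G → ℂ) 1 * conj ((χ : G → ℂ) t)) / (p : ℂ)) := by
    rw [Finset.sum_div]
    refine IsIntegral.sum _ fun χ hχ => ?_
    rw [hrest, Finset.mem_filter, Set.Finite.mem_toFinset] at hχ
    obtain ⟨m, hm⟩ := hdeg χ hχ.1 hχ.2
    obtain ⟨n, ρ, hρ, hρχ⟩ := χ.2
    rw [charDeg_spec' χ, hm, Nat.cast_mul, mul_assoc, mul_div_cancel_left₀ _ (Nat.cast_ne_zero.2 hp.out.ne_zero)]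
    refine IsIntegral.mul (by simpa using isIntegral_algebraMap (R := ℤ) (A := ℂ) (x := (m : ℤ))) ?_
    rw [← hρχ]
    exact IsIntegral.map (starRingEnd ℂ).toIntAlgHom (Cfsg.Agent.Char.isIntegral_character ρ t)
  rw [show (∑ χ ∈ rest, (χ : G → ℂ) 1 * conj ((χ : G → ℂ) t)) = -(N.index : ℂ) by linear_combination horth,
    neg_div, hk] at hint
  have hd := Cfsg.Agent.Char.nat_dvd_of_isIntegral_div hp.out.ne_zero (a := r ^ k) (by simpa using hint.neg)
  exact hrp ((Nat.prime_dvd_prime_iff_eq hp.out hr.out).1 (hp.out.dvd_of_dvd_pow hd)).symm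

theorem mem_fitting_of_primePow {p r : ℕ} [hp : Fact p.Prime] [hr : Fact r.Prime] :
    ∀ (n : ℕ) (G : Type u) [Group G] [Finite G], Nat.card G ≤ n → pCore p G = ⊥ → ∀ x : G,
      (∃ k : ℕ, orderOf x = r ^ k) → (∃ a : ℕ, (Subgroup.centralizer ({x} : Set G)).index = p ^ a) →
      x ∈ fittingSubgroup G := by
  intro n
  induction n with
  | zero =>
    intro G _ _ hn
    exact absurd hn (by have := Nat.card_pos (α := G); omega)
  | succ n ih =>
    intro G _ _ hn hcore x hxr hxi
    obtain ⟨a, ha⟩ := hxi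
    set M := Subgroup.normalClosure ({x} : Set G) with hMdef
    haveI hMn : M.Normal := Subgroup.normalClosure_normal
    have hxM : x ∈ M := Subgroup.subset_normalClosure (Set.mem_singleton x)
    by_cases hMt : M = ⊤
    swap
    · have hlt : Nat.card M ≤ n := by
        have := Grp.card_lt_of_ne_top hMt
        omega
      have hcoreM : pCore p M = ⊥ := by
        haveI : (pCore p M).Characteristic := inferInstance
        have h1 : ((pCore p M).map M.subtype) ≤ pCore p G :=
          Grp.le_pCore ConjAct.normal_of_characteristic_of_normal (Grp.pCore_isPGroup.map _)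
        rw [hcore, le_bot_iff, Subgroup.map_eq_bot_iff_of_injective _ M.subtype_injective] at h1
        exact h1
      have hidx : ∃ b : ℕ, (Subgroup.centralizer ({⟨x, hxM⟩} : Set M)).index = p ^ b := by
        have e : Subgroup.centralizer ({⟨x, hxM⟩} : Set M) = (Subgroup.centralizer ({x} : Set G)).subgroupOf M := by
          ext y
          rw [Subgroup.mem_subgroupOf, Subgroup.mem_centralizer_singleton_iff, Subgroup.mem_centralizer_singleton_iff]
          exact Subtype.ext_iff
        have h1 := relIndex_dvd_index (Subgroup.centralizer ({x} : Set G)) M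
        rw [ha] at h1
        obtain ⟨b, -, hb⟩ := (Nat.dvd_prime_pow hp.out).1 h1
        exact ⟨b, by rw [e]; exact hb⟩
      have h := ih M hlt hcoreM ⟨x, hxM⟩ (by
        obtain ⟨k, hk⟩ := hxr
        exact ⟨k, by rw [Subgroup.orderOf_mk, hk]⟩) hidx
      haveI : (fittingSubgroup M).Characteristic := Grp.instCharFitting
      have hle : (fittingSubgroup M).map M.subtype ≤ fittingSubgroup G :=
        Grp.le_fittingSubgroup ConjAct.normal_of_characteristic_of_normal
          ((Group.isNilpotent_congr ((fittingSubgroup M).equivMapOfInjective _ M.subtype_injective)).1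
            Grp.fittingSubgroup_isNilpotent)
      exact hle ⟨_, h, rfl⟩
    -- now `G` is the normal closure of `x`
    obtain ⟨P₀⟩ : Nonempty (Sylow p G) := inferInstance
    by_cases hrp : r = p
    · subst hrp
      obtain ⟨k, hk⟩ := hxr
      obtain ⟨P, hP⟩ := (IsPGroup.of_card (n := k) (by rw [Nat.card_zpowers, hk]) :
        IsPGroup r (Subgroup.zpowers x)).exists_le_sylow
      have hMP : M ≤ (P : Subgroup G) := by
        rw [hMdef, Subgroup.normalClosure, Subgroup.closure_le]
        intro y hy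
        obtain ⟨z, hz, hc⟩ := Group.mem_conjugatesOfSet_iff.1 hy
        rw [Set.mem_singleton_iff.1 hz] at hc
        obtain ⟨c, rfl⟩ := isConj_iff.1 hc
        obtain ⟨s, hs, hsc⟩ := exists_sylow_mem (Subgroup.centralizer ({x} : Set G)) ha P c
        rw [conj_eq_of_mem_centralizer hsc]
        exact P.mul_mem (P.mul_mem hs (hP (Subgroup.mem_zpowers x))) (P.inv_mem hs)
      have h1 : M ≤ pCore r G := Grp.le_pCore hMn (P.isPGroup'.to_le hMP)
      rw [hcore] at h1
      rw [Subgroup.mem_bot.1 (h1 hxM)]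
      exact one_mem _
    obtain ⟨⟨k, hk⟩, hnd⟩ := not_dvd_commutator hrp hMt hxr ha
    set N := commutator G with hN
    obtain ⟨j, hj⟩ := hxr
    have hPN : (P₀ : Subgroup G) ≤ N := by
      intro y hy
      refine regular_mem_of_index_pPow hk fun h => hrp ?_
      obtain ⟨i, hi⟩ := IsPGroup.iff_card.1 P₀.isPGroup'
      have h2 := h.trans ((P₀ : Subgroup G).orderOf_dvd_natCard hy)
      rw [hi] at h2
      exact (Nat.prime_dvd_prime_iff_eq hr.out hp.out).1 (hr.out.dvd_of_dvd_pow h2)
    have hns : ¬ r ∣ Nat.card (Sylow p G) := by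
      intro h
      refine hnd (h.trans ?_)
      have htop : Subgroup.normalizer ((P₀ : Subgroup G) : Set G) ⊔ N = ⊤ := Sylow.normalizer_sup_eq_top' P₀ hPN
      have h2 : (Subgroup.normalizer ((P₀ : Subgroup G) : Set G)).index =
          (Subgroup.normalizer ((P₀ : Subgroup G) : Set G)).relIndex N := by
        refine Nat.dvd_antisymm ?_ (relIndex_dvd_index _ N)
        have e := Grp.card_sup_mul_card_inf_normal (H := Subgroup.normalizer ((P₀ : Subgroup G) : Set G)) (N := N)
        rw [htop, Subgroup.card_top, ← (Subgroup.normalizer ((P₀ : Subgroup G) : Set G)).card_mul_index, mul_assoc] at e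
        have e' := Nat.eq_of_mul_eq_mul_left Nat.card_pos e
        have b : Nat.card ↥(Subgroup.normalizer ((P₀ : Subgroup G) : Set G) ⊓ N) *
            (Subgroup.normalizer ((P₀ : Subgroup G) : Set G)).relIndex N = Nat.card N := by
          rw [← Subgroup.inf_relIndex_right, ← Subgroup.relIndex_bot_left, ← Subgroup.relIndex_bot_left,
            Subgroup.relIndex_mul_relIndex ⊥ _ N bot_le inf_le_right]
        rw [← b, mul_comm] at e'
        exact (Nat.eq_of_mul_eq_mul_left Nat.card_pos e').dvd
      rw [Sylow.card_eq_index_normalizer P₀]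
      show (Subgroup.normalizer ((P₀ : Subgroup G) : Set G)).index ∣ _
      rw [h2]
      exact Subgroup.index_dvd_card _
    obtain ⟨P, hPfix⟩ := (IsPGroup.of_card (n := j) (by rw [Nat.card_zpowers, hj]) :
      IsPGroup r (Subgroup.zpowers x)).nonempty_fixed_point_of_prime_not_dvd_card (Sylow p G) hns
    have hxN : x ∈ Subgroup.normalizer ((P : Subgroup G) : Set G) := by
      have h1 : x • P = P := hPfix ⟨x, Subgroup.mem_zpowers x⟩
      exact Sylow.smul_eq_iff_mem_normalizer.1 h1
    set H := (P : Subgroup G) ⊔ Subgroup.zpowers x with hH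
    have hall : M ≤ H := by
      rw [hMdef, Subgroup.normalClosure, Subgroup.closure_le]
      intro y hy
      obtain ⟨z, hz, hc⟩ := Group.mem_conjugatesOfSet_iff.1 hy
      rw [Set.mem_singleton_iff.1 hz] at hc
      obtain ⟨c, rfl⟩ := isConj_iff.1 hc
      obtain ⟨s, hs, hsc⟩ := exists_sylow_mem (Subgroup.centralizer ({x} : Set G)) ha P c
      rw [conj_eq_of_mem_centralizer hsc]
      exact H.mul_mem (H.mul_mem (le_sup_left (a := (P : Subgroup G)) hs) (Subgroup.mem_sup_right (Subgroup.mem_zpowers x)))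
        (H.inv_mem (le_sup_left (a := (P : Subgroup G)) hs))
    have hPn : (P : Subgroup G).Normal := by
      rw [← Subgroup.normalizer_eq_top_iff, eq_top_iff]
      refine le_trans ?_ (sup_le Subgroup.le_normalizer (Subgroup.zpowers_le.2 hxN) : H ≤ _)
      rw [← hMt]; exact hall
    have hP1 : (P : Subgroup G) = ⊥ := le_bot_iff.1 (hcore ▸ Grp.le_pCore hPn P.isPGroup')
    have htop : Subgroup.zpowers x = ⊤ := by
      rw [← top_le_iff, ← hMt]
      refine hall.trans ?_
      rw [hH, hP1, bot_sup_eq]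
    have hnil : Group.IsNilpotent (⊤ : Subgroup G) := by
      rw [← htop]
      exact (IsPGroup.of_card (n := j) (by rw [Nat.card_zpowers, hj]) :
        IsPGroup r (Subgroup.zpowers x)).isNilpotent
    exact Grp.le_fittingSubgroup inferInstance hnil (Subgroup.mem_top x)

/-- An element with class of `p`-power size lies in the Fitting subgroup when `O_p(G) = 1`. -/
theorem mem_fitting {G : Type u} [Group G] [Finite G] {p : ℕ} [hp : Fact p.Prime] (hcore : pCore p G = ⊥) {x : G}
    {a : ℕ} (ha : (Subgroup.centralizer ({x} : Set G)).index = p ^ a) : x ∈ fittingSubgroup G := by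
  haveI := Grp.fittingSubgroup_isNormal (G := G)
  rw [← QuotientGroup.eq_one_iff, ← orderOf_eq_one_iff, Nat.eq_one_iff_not_exists_prime_dvd]
  intro r hr hdvd
  haveI : Fact r.Prime := ⟨hr⟩
  obtain ⟨i, m, hm, hmo⟩ := Nat.exists_eq_pow_mul_and_not_dvd (orderOf_pos x).ne' r hr.ne_one
  have hy : orderOf (x ^ m) = r ^ i := by
    rw [orderOf_pow_of_dvd (n := m) (fun h => hm (by rw [h]; exact dvd_zero r)) ⟨r ^ i, by rw [hmo, mul_comm]⟩, hmo,
      Nat.mul_div_cancel _ (Nat.pos_of_ne_zero fun h => hm (by rw [h]; exact dvd_zero r))]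
  have hle : Subgroup.centralizer ({x} : Set G) ≤ Subgroup.centralizer ({x ^ m} : Set G) := by
    intro c hc
    rw [Subgroup.mem_centralizer_singleton_iff] at hc ⊢
    exact ((show Commute c x from hc).pow_right m).eq
  obtain ⟨b, -, hb⟩ := (Nat.dvd_prime_pow hp.out).1 (ha ▸ Subgroup.index_dvd_of_le hle)
  have hmem := mem_fitting_of_primePow (p := p) (r := r) (Nat.card G) G le_rfl hcore (x ^ m) ⟨i, hy⟩ ⟨b, hb⟩
  rw [← QuotientGroup.eq_one_iff, QuotientGroup.mk_pow, ← orderOf_dvd_iff_pow_eq_one] at hmem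
  exact hm (hdvd.trans hmem)

/-- Conjugates of an element with class of `p`-power size commute when `O_p(G) = 1`. -/
theorem conj_commute {G : Type u} [Group G] [Finite G] {p : ℕ} [hp : Fact p.Prime] (hcore : pCore p G = ⊥) {x : G}
    {a : ℕ} (ha : (Subgroup.centralizer ({x} : Set G)).index = p ^ a) (g h : G) :
    Commute (g * x * g⁻¹) (h * x * h⁻¹) := by
  haveI := Grp.fittingSubgroup_isNormal (G := G)
  set F := fittingSubgroup G with hF
  have hxF : x ∈ F := mem_fitting hcore ha
  have hFp : ¬ p ∣ Nat.card F := by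
    intro hd
    haveI := Grp.fittingSubgroup_isNilpotent (G := G)
    obtain ⟨P⟩ : Nonempty (Sylow p F) := inferInstance
    haveI hPn : (P : Subgroup F).Normal := Grp.isNilpotent_iff_sylow_normal.1 inferInstance p inferInstance P
    haveI := P.characteristic_of_normal hPn
    have h1 : (P : Subgroup F).map F.subtype ≤ pCore p G :=
      Grp.le_pCore ConjAct.normal_of_characteristic_of_normal (P.isPGroup'.map _)
    rw [hcore, le_bot_iff, Subgroup.map_eq_bot_iff_of_injective _ F.subtype_injective] at h1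
    have h2 := P.card_eq_multiplicity
    rw [show Nat.card P = 1 from (congrArg (fun U : Subgroup F => Nat.card U) h1).trans Subgroup.card_bot] at h2
    exact absurd h2.symm (Nat.one_lt_pow ((hp.out.dvd_iff_one_le_factorization Nat.card_pos.ne').1 hd |>
      Nat.one_le_iff_ne_zero.1) hp.out.one_lt).ne'
  have hFC : F ≤ Subgroup.centralizer ({x} : Set G) := by
    refine Subgroup.relIndex_eq_one.1 (Nat.eq_one_of_dvd_coprimes (a := p ^ a) ?_
      (ha ▸ relIndex_dvd_index _ F) (Subgroup.index_dvd_card _))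
    exact Nat.Coprime.pow_left a (hp.out.coprime_iff_not_dvd.2 hFp)
  have hmem : g⁻¹ * (h * x * h⁻¹) * g ∈ Subgroup.centralizer ({x} : Set G) := by
    refine hFC ?_
    have h1 := Subgroup.Normal.conj_mem (inferInstance : F.Normal) x hxF (g⁻¹ * h)
    convert h1 using 1
    group
  rw [Subgroup.mem_centralizer_singleton_iff] at hmem
  show g * x * g⁻¹ * (h * x * h⁻¹) = h * x * h⁻¹ * (g * x * g⁻¹)
  calc g * x * g⁻¹ * (h * x * h⁻¹) = g * (x * (g⁻¹ * (h * x * h⁻¹) * g)) * g⁻¹ := by group
    _ = g * (g⁻¹ * (h * x * h⁻¹) * g * x) * g⁻¹ := by rw [hmem]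
    _ = h * x * h⁻¹ * (g * x * g⁻¹) := by group

end Cfsg.Agent.Transfer.Kazarin
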