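import Mathlib
import Cfsg.Prelude.Def_Solvable
import Cfsg.Agent.Lib.Char.Integral
import Cfsg.Agent.Lib.Grp.HallConverse
import Cfsg.Agent.Lib.Recog.Frobenius
import Cfsg.Agent.Lib.Transfer.Kazarin

/-!
Groups whose class-size prime graph is disconnected: `G/Z(G)` is Frobenius with abelian kernel and complement.
-/

set_option autoImplicit false
set_option maxHeartbeats 1000000

open scoped Pointwise

universe u

namespace Cfsg.Agent.Transfer.ClassDisconnected

open Cfsg Cfsg.Agent

variable {G : Type u} [Group G] [Finite G]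

/-- The class size. -/
noncomputable abbrev cix (g : G) : ℕ := (Subgroup.centralizer ({g} : Set G)).index

/-- All prime divisors of the class size lie in `S`. -/
def Only (S : Set ℕ) (g : G) : Prop := ∀ r : ℕ, r.Prime → r ∣ cix g → r ∈ S

theorem cix_pos (g : G) : 0 < cix g := Nat.pos_of_ne_zero Subgroup.index_ne_zero_of_finite

theorem cix_eq_one {g : G} : cix g = 1 ↔ g ∈ Subgroup.center G := by
  rw [Subgroup.index_eq_one, Subgroup.centralizer_eq_top_iff_subset, Set.singleton_subset_iff, SetLike.mem_coe]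

theorem centralizer_le_pow (g : G) (k : ℕ) :
    Subgroup.centralizer ({g} : Set G) ≤ Subgroup.centralizer ({g ^ k} : Set G) := by
  intro c hc
  rw [Subgroup.mem_centralizer_singleton_iff] at hc ⊢
  exact ((show Commute c g from hc).pow_right k).eq

theorem cix_pow_dvd (g : G) (k : ℕ) : cix (g ^ k) ∣ cix g := Subgroup.index_dvd_of_le (centralizer_le_pow g k)

theorem Only.pow {S : Set ℕ} {g : G} (h : Only S g) (k : ℕ) : Only S (g ^ k) :=
  fun r hr hd => h r hr (hd.trans (cix_pow_dvd g k))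

theorem Only.coprime {S : Set ℕ} {a b : G} (ha : Only S a) (hb : Only Sᶜ b) : (cix a).Coprime (cix b) :=
  Nat.coprime_of_dvd fun r hr h1 h2 => hb r hr h2 (ha r hr h1)

theorem Only.center {S : Set ℕ} {g : G} (hg : g ∈ Subgroup.center G) : Only S g := by
  intro r hr hd
  rw [cix_eq_one.2 hg, Nat.dvd_one] at hd
  exact absurd hd hr.ne_one

/-- A subgroup containing all powers of `g` of prime power order contains `g`. -/
theorem mem_of_primary (H : Subgroup G) {g : G}
    (h : ∀ j r k : ℕ, r.Prime → orderOf (g ^ j) = r ^ k → g ^ j ∈ H) : g ∈ H := by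
  set T := H.subgroupOf (Subgroup.zpowers g) with hT
  have hd : Nat.card (Subgroup.zpowers g) ∣ Nat.card T := by
    rw [Nat.dvd_iff_prime_pow_dvd_dvd]
    intro r k hr hk
    rw [Nat.card_zpowers] at hk
    obtain ⟨j, hj⟩ := hk
    have hj0 : j ≠ 0 := fun h0 => (orderOf_pos g).ne' (by rw [hj, h0, mul_zero])
    have ho : orderOf (g ^ j) = r ^ k := by
      rw [orderOf_pow_of_dvd hj0 ⟨r ^ k, by rw [hj, mul_comm]⟩, hj, Nat.mul_div_cancel _ (Nat.pos_of_ne_zero hj0)]
    have hm : (⟨g ^ j, Subgroup.pow_mem _ (Subgroup.mem_zpowers g) j⟩ : Subgroup.zpowers g) ∈ T := h j r k hr ho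
    have := T.orderOf_dvd_natCard hm
    rwa [Subgroup.orderOf_mk, ho] at this
  have ht : T = ⊤ := Subgroup.eq_top_of_le_card T (Nat.le_of_dvd Nat.card_pos hd)
  have : (⟨g, Subgroup.mem_zpowers g⟩ : Subgroup.zpowers g) ∈ T := ht ▸ Subgroup.mem_top _
  exact this

theorem exists_primary_noncentral {g : G} (hg : g ∉ Subgroup.center G) :
    ∃ j r k : ℕ, r.Prime ∧ orderOf (g ^ j) = r ^ k ∧ g ^ j ∉ Subgroup.center G := by
  by_contra hc
  push Not at hc
  exact hg (mem_of_primary _ fun j r k hr h => hc j r k hr h)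

theorem pow_eq_one_of_commute {u v : G} (h : Commute u (u⁻¹ * v)) {n : ℕ} (hu : u ^ n = 1) (hv : v ^ n = 1) :
    (u⁻¹ * v) ^ n = 1 := by
  have h1 : (u * (u⁻¹ * v)) ^ n = (u⁻¹ * v) ^ n := by rw [h.mul_pow, hu, one_mul]
  rwa [mul_inv_cancel_left, hv, eq_comm] at h1

theorem exists_sylow_le_centralizer {r : ℕ} [Fact r.Prime] {u : G} (hu : ¬ r ∣ cix u) :
    ∃ P : Sylow r G, (P : Subgroup G) ≤ Subgroup.centralizer ({u} : Set G) := by
  set C := Subgroup.centralizer ({u} : Set G) with hC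
  obtain ⟨Q⟩ : Nonempty (Sylow r C) := inferInstance
  have hcardQ : Nat.card ((Q : Subgroup C).map C.subtype) = r ^ (Nat.card G).factorization r := by
    rw [Subgroup.card_map_of_injective C.subtype_injective, Q.card_eq_multiplicity, ← C.card_mul_index,
      Nat.factorization_mul Nat.card_pos.ne' Subgroup.index_ne_zero_of_finite, Finsupp.add_apply,
      Nat.factorization_eq_zero_of_not_dvd (show ¬ r ∣ C.index from hu), add_zero]
  exact ⟨Sylow.ofCard _ hcardQ, by rw [Sylow.coe_ofCard]; exact Subgroup.map_subtype_le _⟩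

theorem exists_of_mem_smul {q : ℕ} {g v : G} {P : Sylow q G} (hv : v ∈ g • P) :
    ∃ v' ∈ (P : Subgroup G), g * v' * g⁻¹ = v :=
  ⟨g⁻¹ * v * g, (Frob.mem_smul_conj_iff g v).1 (show v ∈ MulAut.conj g • (P : Subgroup G) from hv), by group⟩

/-- Product of elements with coprime class sizes: conjugates stay in the class of the product. -/
theorem exists_conj_mul {a b : G} (h : (cix a).Coprime (cix b)) (g : G) :
    IsConj (a * b) (a * (g * b * g⁻¹)) := by
  obtain ⟨c, hc, d, hd, rfl⟩ := Grp.HallConv.exists_mul_of_coprime h.symm g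
  rw [Subgroup.mem_centralizer_singleton_iff] at hc hd
  rw [isConj_iff]
  refine ⟨c, ?_⟩
  calc c * (a * b) * c⁻¹ = (c * a) * b * c⁻¹ := by group
    _ = (a * c) * b * c⁻¹ := by rw [hc]
    _ = a * (c * b * c⁻¹) := by group
    _ = a * (c * (b * d) * d⁻¹ * c⁻¹) := by group
    _ = a * (c * (d * b) * d⁻¹ * c⁻¹) := by rw [hd]
    _ = a * (c * d * b * (c * d)⁻¹) := by group

/-- The set of conjugates. -/
def cl (b : G) : Set G := {x | IsConj b x}

theorem ncard_cl (b : G) : (cl b).ncard = cix b := by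
  rw [← Nat.card_coe_set_eq]
  exact Char.card_conjClass b

theorem image_subset_cl {a b : G} (h : (cix a).Coprime (cix b)) : (a * ·) '' cl b ⊆ cl (a * b) := by
  rintro _ ⟨x, hx, rfl⟩
  obtain ⟨g, rfl⟩ := isConj_iff.1 hx
  exact exists_conj_mul h g

theorem le_cix_mul {a b : G} (h : (cix a).Coprime (cix b)) : cix b ≤ cix (a * b) := by
  rw [← ncard_cl b, ← ncard_cl (a * b),
    ← Set.ncard_image_of_injective (cl b) (mul_right_injective a)]
  exact Set.ncard_le_ncard (image_subset_cl h) (Set.toFinite _)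

theorem le_cix_mul' {a b : G} (h : (cix a).Coprime (cix b)) : cix a ≤ cix (a * b) := by
  have h1 : IsConj (b * a) (a * b) := isConj_iff.2 ⟨a, by group⟩
  have h2 : cix (b * a) = cix (a * b) := by
    rw [← ncard_cl (b * a), ← ncard_cl (a * b)]
    exact congrArg Set.ncard (Set.ext fun x => ⟨fun hx => h1.symm.trans hx, fun hx => h1.trans hx⟩)
  rw [← h2]
  exact le_cix_mul h.symm

theorem cix_mul_dvd {a b : G} (h : (cix a).Coprime (cix b)) : cix (a * b) ∣ cix a * cix b := by
  show (Subgroup.centralizer ({a * b} : Set G)).index ∣ _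
  rw [cix, cix, ← Grp.HallConv.index_inf_of_coprime h]
  refine Subgroup.index_dvd_of_le fun c hc => ?_
  rw [Subgroup.mem_inf, Subgroup.mem_centralizer_singleton_iff, Subgroup.mem_centralizer_singleton_iff] at hc
  rw [Subgroup.mem_centralizer_singleton_iff]
  exact ((show Commute c a from hc.1).mul_right (show Commute c b from hc.2)).eq

theorem cix_mul_eq {a b : G} (hab : Commute a b) (ho : (orderOf a).Coprime (orderOf b))
    (h : (cix a).Coprime (cix b)) : cix (a * b) = cix a * cix b := by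
  show (Subgroup.centralizer ({a * b} : Set G)).index = _
  rw [cix, cix, ← Grp.HallConv.index_inf_of_coprime h]
  have key : ∀ u v : G, Commute u v → (orderOf u).Coprime (orderOf v) →
      Subgroup.centralizer ({u * v} : Set G) ≤ Subgroup.centralizer ({u} : Set G) := by
    intro u v huv hc
    obtain ⟨m, hm⟩ := Nat.chineseRemainder hc 1 0
    have hp : (u * v) ^ m = u := by
      rw [huv.mul_pow, (pow_eq_pow_iff_modEq.2 hm.1 : u ^ m = u ^ 1), (pow_eq_pow_iff_modEq.2 hm.2 : v ^ m = v ^ 0),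
        pow_one, pow_zero, mul_one]
    have := centralizer_le_pow (u * v) m
    rwa [hp] at this
  refine congrArg Subgroup.index (le_antisymm (le_inf (key a b hab ho) ?_) fun c hc => ?_)
  · rw [hab.eq]
    exact key b a hab.symm ho.symm
  · rw [Subgroup.mem_inf, Subgroup.mem_centralizer_singleton_iff, Subgroup.mem_centralizer_singleton_iff] at hc
    rw [Subgroup.mem_centralizer_singleton_iff]
    exact ((show Commute c a from hc.1).mul_right (show Commute c b from hc.2)).eq

/-- If left translation by a conjugate of `a` maps one class onto another, the subgroup generated by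
the quotients of conjugates of `a` has order dividing the class size. -/
theorem card_normalClosure_dvd {a b : G} (h : (cix a).Coprime (cix b)) (he : cix (a * b) = cix b) :
    Nat.card (Subgroup.normalClosure (Set.range fun g : G => a⁻¹ * (g * a * g⁻¹))) ∣ cix b := by
  set L := MulAction.stabilizer G (cl b) with hL
  have himg : ∀ g : G, ((g * a * g⁻¹) * ·) '' cl b = cl (a * b) := by
    intro g
    refine Set.eq_of_subset_of_ncard_le ?_ ?_ (Set.toFinite _)
    · rintro _ ⟨x, hx, rfl⟩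
      obtain ⟨k, rfl⟩ := isConj_iff.1 hx
      refine (exists_conj_mul h (g⁻¹ * k)).trans (isConj_iff.2 ⟨g, ?_⟩)
      group
    · rw [Set.ncard_image_of_injective _ (mul_right_injective _), ncard_cl, ncard_cl, he]
  have hle : Subgroup.normalClosure (Set.range fun g : G => a⁻¹ * (g * a * g⁻¹)) ≤ L := by
    rw [Subgroup.normalClosure, Subgroup.closure_le]
    intro y hy
    obtain ⟨z, ⟨g, rfl⟩, hc⟩ := Group.mem_conjugatesOfSet_iff.1 hy
    obtain ⟨k, rfl⟩ := isConj_iff.1 hc
    rw [SetLike.mem_coe, hL, MulAction.mem_stabilizer_iff]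
    have hinj : Function.Injective (Set.image ((k * a * k⁻¹) * ·) : Set G → Set G) :=
      Set.image_injective.2 (mul_right_injective _)
    refine hinj ?_
    rw [← Set.image_smul, Set.image_image, himg k, ← himg (k * g)]
    refine Set.image_congr' fun x => ?_
    simp only [smul_eq_mul]
    group
  refine (Subgroup.card_dvd_of_le hle).trans ?_
  rw [← ncard_cl b]
  set D : Set G := (cl b)⁻¹ with hD
  have hDL : QuotientGroup.mk ⁻¹' ((QuotientGroup.mk : G → G ⧸ L) '' D) = D := by
    refine Set.Subset.antisymm ?_ (Set.subset_preimage_image _ _)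
    rintro x ⟨d, hd, hdx⟩
    rw [QuotientGroup.eq] at hdx
    rw [hD, Set.mem_inv] at hd ⊢
    have h1 : (d⁻¹ * x) • d⁻¹ ∈ cl b → x⁻¹ ∈ cl b := by
      intro hh
      exact hh |> fun _ => by
        have h2 : (d⁻¹ * x)⁻¹ • cl b = cl b := MulAction.mem_stabilizer_iff.1 (L.inv_mem hdx)
        rw [← h2]
        exact ⟨d⁻¹, hd, by simp [smul_eq_mul]⟩
    refine h1 ?_
    rw [← (MulAction.mem_stabilizer_iff.1 hdx : (d⁻¹ * x) • cl b = cl b)]
    exact ⟨d⁻¹, hd, rfl⟩
  refine ⟨Nat.card ((QuotientGroup.mk : G → G ⧸ L) '' D), ?_⟩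
  rw [show (cl b).ncard = D.ncard by rw [hD, ← Set.image_inv_eq_inv, Set.ncard_image_of_injective _ inv_injective],
    ← Nat.card_coe_set_eq, ← Nat.card_prod]
  exact (Nat.card_congr (Equiv.setCongr hDL.symm)).trans
    (Nat.card_congr (QuotientGroup.preimageMkEquivSubgroupProdSet _ _))

variable {S : Set ℕ}

section Main

variable (hd : ∀ g : G, Only S g ∨ Only Sᶜ g) {y₀ : G} (hy₀ : Only Sᶜ y₀) (hy₀c : y₀ ∉ Subgroup.center G)
  (hmax : ∀ g : G, cix g ≤ cix y₀)

include hd in
theorem cix_mul_of_lt {a b : G} (ha : Only S a) (hb : Only Sᶜ b) (hlt : cix a < cix b) :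
    Only Sᶜ (a * b) ∧ cix (a * b) = cix b := by
  have h := ha.coprime hb
  have hle := le_cix_mul h
  rcases hd (a * b) with h1 | h1
  · have := Nat.le_of_dvd (cix_pos a) ((h1.coprime hb).dvd_of_dvd_mul_right (cix_mul_dvd h))
    omega
  · have hc : (cix (a * b)).Coprime (cix a) := (ha.coprime h1).symm
    have := Nat.le_of_dvd (cix_pos b) (hc.dvd_of_dvd_mul_left (cix_mul_dvd h))
    exact ⟨h1, by omega⟩

include hd hy₀ hy₀c hmax in
/-- The subgroup `[a, G]`: order dividing the largest class size, centralized by every `S`-element. -/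
theorem exists_normal {a : G} (ha : Only S a) :
    ∃ N : Subgroup G, N.Normal ∧ (∀ g : G, a⁻¹ * (g * a * g⁻¹) ∈ N) ∧ Nat.card N ∣ cix y₀ ∧
      ∀ a' : G, Only S a' → N ≤ Subgroup.centralizer ({a'} : Set G) := by
  have hlt : cix a < cix y₀ := by
    refine lt_of_le_of_ne (hmax a) fun he => hy₀c (cix_eq_one.1 ?_)
    have := ha.coprime hy₀
    rw [he, Nat.coprime_self] at this
    exact this
  have h := card_normalClosure_dvd (ha.coprime hy₀) (cix_mul_of_lt hd ha hy₀ hlt).2
  refine ⟨Subgroup.normalClosure (Set.range fun g : G => a⁻¹ * (g * a * g⁻¹)), Subgroup.normalClosure_normal,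
    fun g => Subgroup.subset_normalClosure ⟨g, rfl⟩, h, fun a' ha' => ?_⟩
  refine Subgroup.relIndex_eq_one.1 (Nat.eq_one_of_dvd_coprimes (a := cix a') ((ha'.coprime hy₀)) ?_
    ((Subgroup.index_dvd_card _).trans h))
  exact Kazarin.relIndex_dvd_index _ _

theorem conj_pow_formula {a c t : G} (hc : c * a * c⁻¹ = a * t) (htc : Commute t c) (k : ℕ) :
    c ^ k * a * (c ^ k)⁻¹ = a * t ^ k := by
  induction k with
  | zero => simp
  | succ k ih =>
    calc c ^ (k + 1) * a * (c ^ (k + 1))⁻¹ = c ^ k * (c * a * c⁻¹) * (c ^ k)⁻¹ := by rw [pow_succ]; group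
      _ = c ^ k * a * (t * (c ^ k)⁻¹) := by rw [hc]; group
      _ = c ^ k * a * ((c ^ k)⁻¹ * t) := by rw [((htc.pow_right k).inv_right).eq]
      _ = a * t ^ (k + 1) := by rw [← mul_assoc, ih, mul_assoc, ← pow_succ]

include hd hy₀ hy₀c hmax in
theorem commute_primary {a a' : G} (ha : Only S a) (ha' : Only S a') {r s i j : ℕ} (hr : r.Prime) (hs : s.Prime)
    (ho : orderOf a = r ^ i) (ho' : orderOf a' = s ^ j) : Commute a a' := by
  by_cases hac : a ∈ Subgroup.center G
  · exact (Subgroup.mem_center_iff.1 hac a').symm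
  obtain ⟨N, hN, hmem, hcard, hcen⟩ := exists_normal hd hy₀ hy₀c hmax ha
  have key : ∀ g : G, ∃ t ∈ N, g * a * g⁻¹ = a * t ∧ t ^ orderOf a = 1 ∧ Commute a (g * a * g⁻¹) := by
    intro g
    refine ⟨a⁻¹ * (g * a * g⁻¹), hmem g, by group, ?_, ?_⟩
    · have hta : Commute a (a⁻¹ * (g * a * g⁻¹)) :=
        (Subgroup.mem_centralizer_singleton_iff.1 (hcen a ha (hmem g))).symm
      have h1 : (g * a * g⁻¹) ^ orderOf a = 1 := by rw [conj_pow, pow_orderOf_eq_one, mul_one, mul_inv_cancel]
      rw [show g * a * g⁻¹ = a * (a⁻¹ * (g * a * g⁻¹)) by group, hta.mul_pow, pow_orderOf_eq_one, one_mul] at h1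
      exact h1
    · have hta : Commute a (a⁻¹ * (g * a * g⁻¹)) :=
        (Subgroup.mem_centralizer_singleton_iff.1 (hcen a ha (hmem g))).symm
      have := (Commute.refl a).mul_right hta
      rwa [mul_inv_cancel_left] at this
  obtain ⟨t, htN, ht, htr, -⟩ := key a'
  have htc : Commute t a' := Subgroup.mem_centralizer_singleton_iff.1 (hcen a' ha' htN)
  by_cases hrs : r = s
  · subst hrs
    haveI : Fact r.Prime := ⟨hr⟩
    have hr' : ¬ r ∣ cix a' := by
      intro hd'
      have hne : ∃ g : G, g * a * g⁻¹ ≠ a := by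
        by_contra hc
        push Not at hc
        exact hac (Subgroup.mem_center_iff.2 fun g => mul_inv_eq_iff_eq_mul.1 (hc g))
      obtain ⟨g, hg⟩ := hne
      obtain ⟨t, htN, ht, htr, -⟩ := key g
      have ht1 : t ≠ 1 := fun h => hg (by rw [ht, h, mul_one])
      have h1 : orderOf t ∣ r ^ i := ho ▸ orderOf_dvd_of_pow_eq_one htr
      obtain ⟨l, -, hl⟩ := (Nat.dvd_prime_pow hr).1 h1
      have h2 : r ∣ orderOf t := by
        rw [hl]
        refine dvd_pow_self r fun h0 => ht1 (orderOf_eq_one_iff.1 (by rw [hl, h0, pow_zero]))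
      exact hy₀ r hr (h2.trans ((N.orderOf_dvd_natCard htN).trans hcard)) (ha' r hr hd')
    set M := Subgroup.closure (Set.range fun g : G => g * a * g⁻¹) with hM
    have hMn : M.Normal := by
      constructor
      intro x hx g
      have : x ∈ M.comap (MulAut.conj g).toMonoidHom := by
        refine (Subgroup.closure_le _).2 ?_ hx
        rintro _ ⟨k, rfl⟩
        refine Subgroup.subset_closure ⟨g * k, ?_⟩
        simp [MulAut.conj_apply, mul_assoc]
      exact this
    have hMc : IsMulCommutative M := Subgroup.isMulCommutative_closure (by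
      rintro _ ⟨g, rfl⟩ _ ⟨k, rfl⟩
      obtain ⟨-, -, -, -, hc⟩ := key (g⁻¹ * k)
      have h2 := hc.map (MulAut.conj g).toMonoidHom
      simp only [MulEquiv.coe_toMonoidHom, MulAut.conj_apply] at h2
      rw [show g * (g⁻¹ * k * a * (g⁻¹ * k)⁻¹) * g⁻¹ = k * a * k⁻¹ by group] at h2
      exact h2.eq)
    have hMp : IsPGroup r M := by
      intro x
      refine ⟨i, Subtype.ext ?_⟩
      rw [SubgroupClass.coe_pow, OneMemClass.coe_one]
      refine (Subgroup.closure_induction (p := fun y hy => y ^ r ^ i = 1) ?_ (one_pow _) ?_ ?_ x.2)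
      · rintro _ ⟨g, rfl⟩
        rw [conj_pow, ← ho, pow_orderOf_eq_one, mul_one, mul_inv_cancel]
      · intro y z hy hz h1 h2
        have hyz : Commute y z := congrArg Subtype.val (hMc.is_comm.comm ⟨y, hy⟩ ⟨z, hz⟩)
        rw [hyz.mul_pow, h1, h2, one_mul]
      · intro y _ h1
        rw [inv_pow, h1, inv_one]
    obtain ⟨P₁, hP₁⟩ := exists_sylow_le_centralizer hr'
    have hMle : M ≤ Subgroup.centralizer ({a'} : Set G) :=
      ((Grp.le_pCore hMn hMp).trans (Grp.pCore_le_sylow P₁)).trans hP₁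
    exact Subgroup.mem_centralizer_singleton_iff.1 (hMle (Subgroup.subset_closure ⟨1, by simp⟩))
  · have h1 : t ^ orderOf a' = 1 := by
      have h2 := conj_pow_formula ht htc (orderOf a')
      rw [pow_orderOf_eq_one, one_mul, inv_one, mul_one] at h2
      simpa using h2
    have ht1 : t = 1 := by
      rw [← orderOf_eq_one_iff]
      refine Nat.eq_one_of_dvd_coprimes ?_ (orderOf_dvd_of_pow_eq_one htr) (orderOf_dvd_of_pow_eq_one h1)
      rw [ho, ho']
      exact Nat.Coprime.pow _ _ ((Nat.coprime_primes hr hs).2 hrs)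
    rw [ht1, mul_one] at ht
    exact (mul_inv_eq_iff_eq_mul.1 ht).symm

include hd hy₀ hy₀c hmax in
theorem commute_only {a a' : G} (ha : Only S a) (ha' : Only S a') : Commute a a' := by
  have h1 : ∀ j r k : ℕ, r.Prime → orderOf (a' ^ j) = r ^ k → a' ^ j ∈ Subgroup.centralizer ({a} : Set G) := by
    intro j r k hr ho
    have h2 : a ∈ Subgroup.centralizer ({a' ^ j} : Set G) := mem_of_primary _ fun i s l hs hl =>
      Subgroup.mem_centralizer_singleton_iff.2 (commute_primary hd hy₀ hy₀c hmax (ha.pow i) (ha'.pow j) hs hr hl ho).eq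
    exact Subgroup.mem_centralizer_singleton_iff.2 (Subgroup.mem_centralizer_singleton_iff.1 h2).symm
  exact (show Commute a' a from Subgroup.mem_centralizer_singleton_iff.1 (mem_of_primary _ h1)).symm

include hd hy₀ hy₀c hmax in
theorem cix_lt {a b : G} (ha : Only S a) (hac : a ∉ Subgroup.center G) (hb : Only Sᶜ b)
    (hbc : b ∉ Subgroup.center G) : cix a < cix b := by
  by_contra hle
  have hne : cix b ≠ cix a := by
    intro he
    have := ha.coprime hb
    rw [he, Nat.coprime_self] at this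
    exact hac (cix_eq_one.1 this)
  have hd' : ∀ g : G, Only Sᶜ g ∨ Only (Sᶜ)ᶜ g := fun g => by rw [compl_compl]; exact (hd g).symm
  have haS : Only (Sᶜ)ᶜ a := by rwa [compl_compl]
  obtain ⟨hba, hbacix⟩ := cix_mul_of_lt hd' hb haS (by omega)
  rw [compl_compl] at hba
  -- `b` is a product of two commuting `S`-elements
  set c := b * a with hc
  have hbeq : b = c * a⁻¹ := by rw [hc, mul_inv_cancel_right]
  have hca : Commute c a := commute_only hd hy₀ hy₀c hmax hba ha
  obtain ⟨j, p, k, hp, hord, hnc⟩ := exists_primary_noncentral hbc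
  haveI : Fact p.Prime := ⟨hp⟩
  set b' := b ^ j with hb'
  obtain ⟨e, M, hM, hGM⟩ := Nat.exists_eq_pow_mul_and_not_dvd (Nat.card_pos (α := G)).ne' p hp.ne_one
  have hcop : (orderOf b').Coprime M := by
    rw [hord]; exact ((hp.coprime_iff_not_dvd.2 hM).pow_left k)
  have hnc' : b' ^ M ∉ Subgroup.center G := by
    intro h
    obtain ⟨m, hm⟩ := Nat.chineseRemainder hcop 1 0
    obtain ⟨q, hq⟩ := Nat.modEq_zero_iff_dvd.1 hm.2
    have : b' ^ m = b' := by rw [(pow_eq_pow_iff_modEq.2 hm.1 : b' ^ m = b' ^ 1), pow_one]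
    rw [← this, hq, pow_mul] at hnc
    exact hnc (Subgroup.pow_mem _ h q)
  have hsplit : b' ^ M = c ^ (j * M) * (a⁻¹) ^ (j * M) := by
    rw [hb', ← pow_mul, hbeq, hca.inv_right.mul_pow]
  have hpS : p ∉ S := by
    have hex : ∃ u : G, Only S u ∧ u ∉ Subgroup.center G ∧ ∃ l, orderOf u = p ^ l := by
      have hpow : ∀ u : G, ∀ n : ℕ, ∃ l, orderOf (u ^ (n * M)) = p ^ l := by
        intro u n
        have h1 : orderOf (u ^ (n * M)) ∣ p ^ e := by
          refine orderOf_dvd_of_pow_eq_one ?_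
          rw [← pow_mul, mul_assoc, mul_comm M, ← hGM, mul_comm, pow_mul, pow_card_eq_one', one_pow]
        obtain ⟨l, -, hl⟩ := (Nat.dvd_prime_pow hp).1 h1
        exact ⟨l, hl⟩
      by_cases h1 : c ^ (j * M) ∈ Subgroup.center G
      · refine ⟨a ^ (j * M), ha.pow _, fun h2 => hnc' ?_, hpow a j⟩
        rw [hsplit, inv_pow]
        exact Subgroup.mul_mem _ h1 (Subgroup.inv_mem _ h2)
      · exact ⟨c ^ (j * M), hba.pow _, h1, hpow c j⟩
    obtain ⟨u, hu, huc, l, hl⟩ := hex
    obtain ⟨N, -, hmem, hcard, hcen⟩ := exists_normal hd hy₀ hy₀c hmax hu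
    obtain ⟨g, hg⟩ : ∃ g : G, g * u * g⁻¹ ≠ u := by
      by_contra hh
      push Not at hh
      exact huc (Subgroup.mem_center_iff.2 fun g => mul_inv_eq_iff_eq_mul.1 (hh g))
    have htu : Commute u (u⁻¹ * (g * u * g⁻¹)) := (Subgroup.mem_centralizer_singleton_iff.1 (hcen u hu (hmem g))).symm
    have ht1 : u⁻¹ * (g * u * g⁻¹) ≠ 1 := fun h => hg (inv_mul_eq_one.1 h).symm
    have h1 : (u⁻¹ * (g * u * g⁻¹)) ^ (p ^ l) = 1 := by
      rw [← hl]
      have h2 : (g * u * g⁻¹) ^ orderOf u = 1 := by rw [conj_pow, pow_orderOf_eq_one, mul_one, mul_inv_cancel]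
      exact pow_eq_one_of_commute htu (pow_orderOf_eq_one _) h2
    obtain ⟨l', -, hl'⟩ := (Nat.dvd_prime_pow hp).1 (orderOf_dvd_of_pow_eq_one h1)
    refine hy₀ p hp ((dvd_pow_self p (n := l') fun h0 => ht1 (orderOf_eq_one_iff.1 ?_)).trans
      (hl' ▸ (N.orderOf_dvd_natCard (hmem g)).trans hcard))
    rw [hl', h0, pow_zero]
  -- the subgroup `[b', G]` has order dividing `cix a`
  have hb'lt : cix b' < cix a := by
    have := Nat.le_of_dvd (cix_pos b) (cix_pow_dvd b j)
    show cix (b ^ j) < _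
    omega
  obtain ⟨hb'a, hb'eq⟩ := cix_mul_of_lt hd' (hb.pow j) haS hb'lt
  have hcard := card_normalClosure_dvd ((hb.pow j).coprime haS) hb'eq
  set N' := Subgroup.normalClosure (Set.range fun g : G => b'⁻¹ * (g * b' * g⁻¹)) with hN'
  obtain ⟨g, hg⟩ : ∃ g : G, g * b' * g⁻¹ ≠ b' := by
    by_contra hh
    push Not at hh
    exact hnc (Subgroup.mem_center_iff.2 fun g => mul_inv_eq_iff_eq_mul.1 (hh g))
  have htN : b'⁻¹ * (g * b' * g⁻¹) ∈ N' := Subgroup.subset_normalClosure ⟨g, rfl⟩
  have hN'le : N' ≤ Subgroup.centralizer ({b'} : Set G) := by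
    haveI : N'.Normal := Subgroup.normalClosure_normal
    refine Subgroup.relIndex_eq_one.1 (Nat.eq_one_of_dvd_coprimes (a := cix b') ((hb.pow j).coprime haS) ?_
      ((Subgroup.index_dvd_card _).trans hcard))
    exact Kazarin.relIndex_dvd_index _ _
  have htu : Commute b' (b'⁻¹ * (g * b' * g⁻¹)) := (Subgroup.mem_centralizer_singleton_iff.1 (hN'le htN)).symm
  have ht1 : b'⁻¹ * (g * b' * g⁻¹) ≠ 1 := fun h => hg (inv_mul_eq_one.1 h).symm
  have h1 : (b'⁻¹ * (g * b' * g⁻¹)) ^ orderOf b' = 1 := by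
    have h2 : (g * b' * g⁻¹) ^ orderOf b' = 1 := by rw [conj_pow, pow_orderOf_eq_one, mul_one, mul_inv_cancel]
    exact pow_eq_one_of_commute htu (pow_orderOf_eq_one _) h2
  obtain ⟨l', -, hl'⟩ := (Nat.dvd_prime_pow hp).1 (hord ▸ orderOf_dvd_of_pow_eq_one h1)
  refine hpS (ha p hp ((dvd_pow_self p (n := l') fun h0 => ht1 (orderOf_eq_one_iff.1 ?_)).trans
    (hl' ▸ (N'.orderOf_dvd_natCard htN).trans hcard)))
  rw [hl', h0, pow_zero]

include hd hy₀ hy₀c hmax in
/-- The `S`-elements form an abelian normal subgroup. -/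
theorem exists_abelian : ∃ A : Subgroup G, A.Normal ∧ (∀ g : G, g ∈ A ↔ Only S g) ∧ IsMulCommutative A := by
  refine ⟨{ carrier := {g | Only S g}
            mul_mem' := ?_
            one_mem' := Only.center (Subgroup.one_mem _)
            inv_mem' := ?_ }, ⟨?_⟩, fun g => Iff.rfl, ⟨⟨fun a b => Subtype.ext (commute_only hd hy₀ hy₀c hmax a.2 b.2).eq⟩⟩⟩
  · intro a a' ha ha'
    by_contra hn
    have hb : Only Sᶜ (a * a') := (hd _).resolve_left hn
    have hbc : a * a' ∉ Subgroup.center G := fun h => hn (Only.center h)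
    by_cases hac : a ∈ Subgroup.center G
    · refine hn fun r hr hdr => ha' r hr ?_
      have : Subgroup.centralizer ({a * a'} : Set G) = Subgroup.centralizer ({a'} : Set G) := by
        ext c
        have hca : c * a = a * c := Subgroup.mem_center_iff.1 hac c
        rw [Subgroup.mem_centralizer_singleton_iff, Subgroup.mem_centralizer_singleton_iff, ← mul_assoc, hca,
          mul_assoc, mul_assoc, mul_left_cancel_iff]
      show r ∣ (Subgroup.centralizer ({a'} : Set G)).index
      rw [← this]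
      exact hdr
    · have hai : Only S a⁻¹ := by
        have := ha.pow (orderOf a - 1)
        rwa [show a ^ (orderOf a - 1) = a⁻¹ by
          rw [eq_inv_iff_mul_eq_one, ← pow_succ, Nat.sub_add_cancel (orderOf_pos a), pow_orderOf_eq_one]] at this
      have h1 := (cix_mul_of_lt hd hai hb (cix_lt hd hy₀ hy₀c hmax hai (fun h => hac (by simpa using Subgroup.inv_mem _ h)) hb hbc)).1
      rw [inv_mul_cancel_left] at h1
      have ha'c : a' ∈ Subgroup.center G := by
        rw [← cix_eq_one, Nat.eq_one_iff_not_exists_prime_dvd]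
        exact fun r hr hdr => h1 r hr hdr (ha' r hr hdr)
      refine hn fun r hr hdr => ha r hr ?_
      have : Subgroup.centralizer ({a * a'} : Set G) = Subgroup.centralizer ({a} : Set G) := by
        ext c
        have hca : c * a' = a' * c := Subgroup.mem_center_iff.1 ha'c c
        rw [Subgroup.mem_centralizer_singleton_iff, Subgroup.mem_centralizer_singleton_iff, ← mul_assoc,
          mul_assoc a a' c, ← hca, ← mul_assoc, mul_right_cancel_iff]
      show r ∣ (Subgroup.centralizer ({a} : Set G)).index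
      rw [← this]
      exact hdr
  · intro a ha
    show Only S a⁻¹
    have := Only.pow ha (orderOf a - 1)
    rwa [show a ^ (orderOf a - 1) = a⁻¹ by
      rw [eq_inv_iff_mul_eq_one, ← pow_succ, Nat.sub_add_cancel (orderOf_pos a), pow_orderOf_eq_one]] at this
  · intro a ha g r hr hdr
    refine (show Only S a from ha) r hr ?_
    rw [← ncard_cl] at hdr ⊢
    rwa [show cl (g * a * g⁻¹) = cl a from Set.ext fun x =>
      ⟨fun hx => (isConj_iff.2 ⟨g, rfl⟩ : IsConj a (g * a * g⁻¹)).trans hx,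
       fun hx => (isConj_iff.2 ⟨g, rfl⟩ : IsConj a (g * a * g⁻¹)).symm.trans hx⟩] at hdr

include hd hy₀ hy₀c hmax in
/-- The centralizer of a noncentral `S`-element is the abelian subgroup. -/
theorem centralizer_eq {A : Subgroup G} [A.Normal] (hA : ∀ g : G, g ∈ A ↔ Only S g) (hAc : IsMulCommutative A)
    {x₀ : G} (hx₀A : x₀ ∈ A) (hx₀ : x₀ ∉ Subgroup.center G) : Subgroup.centralizer ({x₀} : Set G) = A := by
  refine le_antisymm ?_ fun g hg => Subgroup.mem_centralizer_singleton_iff.2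
    (congrArg Subtype.val (hAc.is_comm.comm ⟨g, hg⟩ ⟨x₀, hx₀A⟩))
  obtain ⟨j, p, k, hp, hord, hxc⟩ := exists_primary_noncentral hx₀
  refine (centralizer_le_pow x₀ j).trans ?_
  set x := x₀ ^ j with hx
  have hxA : x ∈ A := Subgroup.pow_mem _ hx₀A j
  haveI : Fact p.Prime := ⟨hp⟩
  have hxS : Only S x := (hA x).1 hxA
  have hqA : ∀ q l : ℕ, ∀ w : G, q.Prime → orderOf w = q ^ l → q ≠ p → Commute w x → w ∈ A := by
    intro q l w hq hw hqp hwx
    by_contra hwA
    have hwB : Only Sᶜ w := (hd w).resolve_left fun h => hwA ((hA w).2 h)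
    have hwc : w ∉ Subgroup.center G := fun h => hwA ((hA w).2 (Only.center h))
    have h1 := (cix_mul_of_lt hd hxS hwB (cix_lt hd hy₀ hy₀c hmax hxS hxc hwB hwc)).2
    rw [cix_mul_eq hwx.symm (by rw [hord, hw]; exact Nat.Coprime.pow _ _ ((Nat.coprime_primes hp hq).2 (Ne.symm hqp)))
      (hxS.coprime hwB)] at h1
    exact hxc (cix_eq_one.1 (by nlinarith [cix_pos w]))
  intro y hy
  refine mem_of_primary A fun i q l hq ho => ?_
  have hyx : Commute (y ^ i) x := Commute.pow_left (Subgroup.mem_centralizer_singleton_iff.1 hy) i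
  by_cases hqp : q = p
  swap
  · exact hqA q l _ hq ho hqp hyx
  subst hqp
  by_contra hyA
  set y₁ := y ^ i with hy₁
  have hy₁c : y₁ ∉ Subgroup.center G := fun h => hyA ((hA _).2 (Only.center h))
  have hpS : q ∉ S := by
    obtain ⟨N, -, hmem, hcard, hcen⟩ := exists_normal hd hy₀ hy₀c hmax hxS
    obtain ⟨g, hg⟩ : ∃ g : G, g * x * g⁻¹ ≠ x := by
      by_contra hh
      push Not at hh
      exact hxc (Subgroup.mem_center_iff.2 fun g => mul_inv_eq_iff_eq_mul.1 (hh g))
    have htu : Commute x (x⁻¹ * (g * x * g⁻¹)) := (Subgroup.mem_centralizer_singleton_iff.1 (hcen x hxS (hmem g))).symm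
    have ht1 : x⁻¹ * (g * x * g⁻¹) ≠ 1 := fun h => hg (inv_mul_eq_one.1 h).symm
    have h1 : (x⁻¹ * (g * x * g⁻¹)) ^ orderOf x = 1 := by
      have h2 : (g * x * g⁻¹) ^ orderOf x = 1 := by rw [conj_pow, pow_orderOf_eq_one, mul_one, mul_inv_cancel]
      exact pow_eq_one_of_commute htu (pow_orderOf_eq_one _) h2
    obtain ⟨l', -, hl'⟩ := (Nat.dvd_prime_pow hp).1 (hord ▸ orderOf_dvd_of_pow_eq_one h1)
    refine hy₀ q hp ((dvd_pow_self q (n := l') fun h0 => ht1 (orderOf_eq_one_iff.1 ?_)).trans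
      (hl' ▸ (N.orderOf_dvd_natCard (hmem g)).trans hcard))
    rw [hl', h0, pow_zero]
  have hsyl : ∀ u : G, Only S u → ∃ P : Sylow q G, (P : Subgroup G) ≤ Subgroup.centralizer ({u} : Set G) :=
    fun u hu => exists_sylow_le_centralizer fun h => hpS (hu q hp h)
  obtain ⟨P, hP⟩ := (IsPGroup.of_card (n := l) (by rw [Nat.card_zpowers, ho]) :
    IsPGroup q (Subgroup.zpowers y₁)).exists_le_sylow
  have hy₁P : y₁ ∈ P := hP (Subgroup.mem_zpowers _)
  by_cases hcase : ∃ w ∈ A, w ∉ Subgroup.center G ∧ ∃ s f : ℕ, s.Prime ∧ orderOf w = s ^ f ∧ s ≠ q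
  · obtain ⟨w, hwA, hwc, s, f, hs, hwo, hsq⟩ := hcase
    have hwS : Only S w := (hA w).1 hwA
    obtain ⟨P', hP'⟩ := hsyl w hwS
    have hP'A : (P' : Subgroup G) ≤ A := by
      intro v hv
      by_contra hvA
      obtain ⟨t, ht⟩ := P'.isPGroup' ⟨v, hv⟩
      have hvt : v ^ q ^ t = 1 := by simpa using congrArg Subtype.val ht
      obtain ⟨t', -, ht'⟩ := (Nat.dvd_prime_pow hp).1 (orderOf_dvd_of_pow_eq_one hvt)
      have hvB : Only Sᶜ v := (hd v).resolve_left fun h => hvA ((hA v).2 h)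
      have hvc : v ∉ Subgroup.center G := fun h => hvA ((hA v).2 (Only.center h))
      have hvw : Commute v w := Subgroup.mem_centralizer_singleton_iff.1 (hP' hv)
      have h1 := (cix_mul_of_lt hd hwS hvB (cix_lt hd hy₀ hy₀c hmax hwS hwc hvB hvc)).2
      rw [cix_mul_eq hvw.symm (by rw [hwo, ht']; exact Nat.Coprime.pow _ _ ((Nat.coprime_primes hs hp).2 hsq))
        (hwS.coprime hvB)] at h1
      exact hwc (cix_eq_one.1 (by nlinarith [cix_pos v]))
    obtain ⟨g, hg⟩ := MulAction.exists_smul_eq G P' P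
    have hle : (P : Subgroup G) ≤ A := by
      rw [← hg]
      intro v hv
      obtain ⟨v', hv', rfl⟩ := exists_of_mem_smul hv
      exact Subgroup.Normal.conj_mem inferInstance v' (hP'A hv') g
    exact hyA (hle hy₁P)
  push Not at hcase
  -- the `q'`-primary elements of `A` are central
  have hcent : ∀ w s f, w ∈ A → s.Prime → orderOf w = s ^ f → s ≠ q → w ∈ Subgroup.center G := by
    intro w s f hw hs hwo hsq
    by_contra hh
    exact hsq (hcase w hw hh s f hs hwo)
  have hqx : ∀ s f w, s.Prime → orderOf w = s ^ f → s ≠ q → w ∉ Subgroup.center G → s ∣ cix x := by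
    intro s f w hs hwo hsq hwc
    haveI : Fact s.Prime := ⟨hs⟩
    by_contra hsd
    obtain ⟨Q₀, hQ₀⟩ := exists_sylow_le_centralizer hsd
    obtain ⟨Q', hQ'⟩ := (IsPGroup.of_card (n := f) (by rw [Nat.card_zpowers, hwo]) :
      IsPGroup s (Subgroup.zpowers w)).exists_le_sylow
    obtain ⟨g, hg⟩ := MulAction.exists_smul_eq G Q₀ Q'
    have hw' : w ∈ Q' := hQ' (Subgroup.mem_zpowers _)
    rw [← hg] at hw'
    obtain ⟨v, hv, rfl⟩ := exists_of_mem_smul hw'
    have hvC : v ∈ Subgroup.centralizer ({x} : Set G) := hQ₀ hv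
    have hvo : orderOf v = s ^ f := by
      rw [← hwo]; exact ((MulAut.conj g).orderOf_eq v).symm
    have hvZ : v ∈ Subgroup.center G := hcent v s f
      (hqA s f v hs hvo hsq (Subgroup.mem_centralizer_singleton_iff.1 hvC)) hs hvo hsq
    exact hwc (Subgroup.Normal.conj_mem (inferInstance : (Subgroup.center G).Normal) v hvZ g)
  have hBp : ∀ b : G, Only Sᶜ b → ∃ f, cix b = q ^ f := by
    intro b hb
    refine ⟨_, Nat.eq_prime_pow_of_unique_prime_dvd (cix_pos b).ne' fun {s} hs hsd => ?_⟩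
    by_contra hsq
    haveI : Fact s.Prime := ⟨hs⟩
    obtain ⟨Q⟩ : Nonempty (Sylow s G) := inferInstance
    by_cases hQ : (Q : Subgroup G) ≤ Subgroup.center G
    · refine Q.not_dvd_index (hsd.trans (Subgroup.index_dvd_of_le (hQ.trans fun c hc => ?_)))
      exact Subgroup.mem_centralizer_singleton_iff.2 (Subgroup.mem_center_iff.1 hc b).symm
    · obtain ⟨w, hw, hwc⟩ := SetLike.not_le_iff_exists.1 hQ
      obtain ⟨t, ht⟩ := Q.isPGroup' ⟨w, hw⟩
      have hwt : w ^ s ^ t = 1 := by simpa using congrArg Subtype.val ht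
      obtain ⟨t', -, ht'⟩ := (Nat.dvd_prime_pow hs).1 (orderOf_dvd_of_pow_eq_one hwt)
      exact hb s hs hsd (hxS s hs (hqx s t' w hs ht' hsq hwc))
  have hPn : (P : Subgroup G).Normal := by
    refine ⟨fun v hv g => ?_⟩
    suffices h : v ∈ pCore q G from
      Grp.pCore_le_sylow P (Subgroup.Normal.conj_mem (Grp.pCore_isNormal) v h g)
    obtain ⟨t, ht⟩ := P.isPGroup' ⟨v, hv⟩
    have hvt : v ^ q ^ t = 1 := by simpa using congrArg Subtype.val ht
    by_cases hvA : v ∈ A
    · set M := Subgroup.normalClosure ({v} : Set G)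
      have hMA : M ≤ A := Subgroup.normalClosure_le_normal (Set.singleton_subset_iff.2 hvA)
      refine Grp.le_pCore (N := M) Subgroup.normalClosure_normal ?_ (Subgroup.subset_normalClosure rfl)
      intro z
      refine ⟨t, Subtype.ext ?_⟩
      rw [SubgroupClass.coe_pow, OneMemClass.coe_one]
      have hzA : ∀ z ∈ M, z ∈ A := fun z hz => hMA hz
      refine Subgroup.closure_induction (p := fun y hy => y ^ q ^ t = 1) ?_ (one_pow _) ?_ ?_ z.2
      · intro y hy
        obtain ⟨v', hv', hc⟩ := Group.mem_conjugatesOfSet_iff.1 hy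
        rw [Set.mem_singleton_iff.1 hv'] at hc
        obtain ⟨g, rfl⟩ := isConj_iff.1 hc
        rw [conj_pow, hvt, mul_one, mul_inv_cancel]
      · intro y z hy hz h1 h2
        have hyz : Commute y z := congrArg Subtype.val (hAc.is_comm.comm ⟨y, hzA y hy⟩ ⟨z, hzA z hz⟩)
        rw [hyz.mul_pow, h1, h2, one_mul]
      · intro y _ h1
        rw [inv_pow, h1, inv_one]
    · obtain ⟨f, hf⟩ := hBp v ((hd v).resolve_left fun h => hvA ((hA v).2 h))
      have hMP : Subgroup.normalClosure ({v} : Set G) ≤ (P : Subgroup G) := by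
        rw [Subgroup.normalClosure, Subgroup.closure_le]
        intro y hy
        obtain ⟨v', hv', hc⟩ := Group.mem_conjugatesOfSet_iff.1 hy
        rw [Set.mem_singleton_iff.1 hv'] at hc
        obtain ⟨c, rfl⟩ := isConj_iff.1 hc
        obtain ⟨s, hs, hsc⟩ := Kazarin.exists_sylow_mem (Subgroup.centralizer ({v} : Set G)) hf P c
        rw [Kazarin.conj_eq_of_mem_centralizer hsc]
        exact P.mul_mem (P.mul_mem hs hv) (P.inv_mem hs)
      exact Grp.le_pCore Subgroup.normalClosure_normal (P.isPGroup'.to_le hMP) (Subgroup.subset_normalClosure rfl)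
  -- a noncentral `s`-element
  obtain ⟨s, hs, hsd⟩ := Nat.exists_prime_and_dvd (n := cix x) fun h => hxc (cix_eq_one.1 h)
  have hsq : s ≠ q := fun h => hpS (h ▸ hxS s hs hsd)
  haveI : Fact s.Prime := ⟨hs⟩
  obtain ⟨Q⟩ : Nonempty (Sylow s G) := inferInstance
  obtain ⟨w, hw, hwc⟩ : ∃ w ∈ (Q : Subgroup G), w ∉ Subgroup.center G := by
    refine SetLike.not_le_iff_exists.1 fun hQ => Q.not_dvd_index (hsd.trans (Subgroup.index_dvd_of_le ?_))
    exact hQ.trans fun c hc => Subgroup.mem_centralizer_singleton_iff.2 (Subgroup.mem_center_iff.1 hc x).symm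
  have hxP : x ∈ P := by
    obtain ⟨Q', hQ'⟩ := (IsPGroup.of_card (n := k) (by rw [Nat.card_zpowers, hord]) :
      IsPGroup q (Subgroup.zpowers x)).exists_le_sylow
    haveI := hPn
    obtain ⟨g, hg⟩ := MulAction.exists_smul_eq G P Q'
    have h1 : x ∈ Q' := hQ' (Subgroup.mem_zpowers _)
    rwa [← hg, Sylow.smul_eq_of_normal] at h1
  set U := (Subgroup.centralizer ({w} : Set G)).subgroupOf (P : Subgroup G) with hU
  have hUt : U ≠ ⊤ := by
    intro hU'
    have h1 : x ∈ Subgroup.centralizer ({w} : Set G) := Subgroup.subgroupOf_eq_top.1 hU' hxP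
    obtain ⟨t, ht⟩ := Q.isPGroup' ⟨w, hw⟩
    have hwt : w ^ s ^ t = 1 := by simpa using congrArg Subtype.val ht
    obtain ⟨t', -, ht'⟩ := (Nat.dvd_prime_pow hs).1 (orderOf_dvd_of_pow_eq_one hwt)
    have hwA := hqA s t' w hs ht' hsq (show Commute w x from
      (Subgroup.mem_centralizer_singleton_iff.1 h1).symm)
    exact hwc (hcent w s t' hwA hs ht' hsq)
  obtain ⟨Mx, hMx, hUM⟩ := (eq_top_or_exists_le_coatom U).resolve_left hUt
  haveI : Group.IsNilpotent (P : Subgroup G) := P.isPGroup'.isNilpotent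
  haveI : Mx.Normal := _root_.Subgroup.NormalizerCondition.normal_of_coatom Mx Group.normalizerCondition_of_isNilpotent hMx
  have hcover : ∀ v : (P : Subgroup G), v ∈ A.subgroupOf (P : Subgroup G) ∨ v ∈ Mx := by
    intro v
    rw [Subgroup.mem_subgroupOf]
    by_cases hvA : (v : G) ∈ A
    · exact Or.inl hvA
    right
    obtain ⟨f, hf⟩ := hBp v ((hd _).resolve_left fun h => hvA ((hA _).2 h))
    obtain ⟨Q₁, hQ₁⟩ := exists_sylow_le_centralizer (r := s) (u := (v : G)) (by
      rw [hf]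
      exact fun h => hsq ((Nat.prime_dvd_prime_iff_eq hs hp).1 (hs.dvd_of_dvd_pow h)))
    obtain ⟨g, hg⟩ := MulAction.exists_smul_eq G Q₁ Q
    rw [← hg] at hw
    obtain ⟨w', hw', hww'⟩ := exists_of_mem_smul hw
    have hw'v : Commute w' (v : G) := Subgroup.mem_centralizer_singleton_iff.1 (hQ₁ hw')
    obtain ⟨σ, hσ, hσc⟩ := Kazarin.exists_sylow_mem (Subgroup.centralizer ({(v : G)} : Set G)) hf P g
    have hgv := Kazarin.conj_eq_of_mem_centralizer hσc
    have hUmem : (⟨σ, hσ⟩ * v * (⟨σ, hσ⟩ : (P : Subgroup G))⁻¹) ∈ U := by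
      rw [hU, Subgroup.mem_subgroupOf, Subgroup.mem_centralizer_singleton_iff]
      show σ * (v : G) * σ⁻¹ * w = w * (σ * (v : G) * σ⁻¹)
      rw [← hgv, ← hww']
      exact (hw'v.symm.map (MulAut.conj g).toMonoidHom).eq
    have := Subgroup.Normal.conj_mem (inferInstance : Mx.Normal) _ (hUM hUmem) (⟨σ, hσ⟩ : (P : Subgroup G))⁻¹
    simpa [mul_assoc] using this
  obtain ⟨v₀, hv₀⟩ : ∃ v₀, v₀ ∉ Mx := by
    by_contra hh
    push Not at hh
    exact hMx.1 (eq_top_iff.2 fun v _ => hh v)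
  have hv₀A := (hcover v₀).resolve_right hv₀
  have hyv : (⟨y₁, hy₁P⟩ : (P : Subgroup G)) ∈ Mx := (hcover _).resolve_left fun h => hyA h
  rcases hcover (v₀ * ⟨y₁, hy₁P⟩) with h | h
  · exact hyA ((Subgroup.mul_mem_cancel_left _ hv₀A).1 h)
  · exact hv₀ ((Subgroup.mul_mem_cancel_right _ hyv).1 h)

include hd hy₀ hy₀c hmax in
/-- `G/Z(G)` is a Frobenius group with abelian kernel and abelian complement. -/
theorem frobenius {x : G} (hx : Only S x) (hxc : x ∉ Subgroup.center G) :
    ∃ H : Subgroup (G ⧸ Subgroup.center G), IsFrobeniusComplement H ∧ IsMulCommutative H ∧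
      ∀ u ∈ frobeniusKernel H, ∀ v ∈ frobeniusKernel H, u * v = v * u := by
  obtain ⟨A, hAn, hA, hAc⟩ := exists_abelian hd hy₀ hy₀c hmax
  haveI := hAn
  have hC : ∀ k ∈ A, k ∉ Subgroup.center G → Subgroup.centralizer ({k} : Set G) = A :=
    fun k hk hkc => centralizer_eq hd hy₀ hy₀c hmax hA hAc hk hkc
  have hAC : ∀ b : G, b ∉ A → Subgroup.centralizer ({b} : Set G) ⊓ A = Subgroup.center G := by
    intro b hb
    refine le_antisymm (fun k hk => ?_) (le_inf (Subgroup.center_le_centralizer _)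
      fun k hk => (hA k).2 (Only.center hk))
    by_contra hkc
    refine hb (hC k hk.2 hkc ▸ ?_)
    rw [Subgroup.mem_centralizer_singleton_iff]
    exact (Subgroup.mem_centralizer_singleton_iff.1 hk.1).symm
  have hidx : A.index = cix x := by rw [cix, hC x ((hA x).2 hx) hxc]
  have hB : ∀ b : G, b ∉ A → Only Sᶜ b ∧ b ∉ Subgroup.center G := fun b hb =>
    ⟨(hd b).resolve_left fun h => hb ((hA b).2 h), fun h => hb ((hA b).2 (Only.center h))⟩
  have hcop : ∀ b : G, b ∉ A → A.index.Coprime (cix b) := fun b hb => hidx ▸ hx.coprime (hB b hb).1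
  have hrel : ∀ b : G, b ∉ A → (Subgroup.center G).relIndex A = cix b := by
    intro b hb
    have h1 := Grp.HallConv.index_inf_of_coprime (H := A) (K := Subgroup.centralizer ({b} : Set G)) (hcop b hb)
    rw [inf_comm, hAC b hb, ← Subgroup.relIndex_mul_index (fun k hk => (hA k).2 (Only.center hk) :
      Subgroup.center G ≤ A), mul_comm A.index] at h1
    exact Nat.eq_of_mul_eq_mul_right (Nat.pos_of_ne_zero Subgroup.index_ne_zero_of_finite) h1
  -- no element of `A` outside the centre moves `b` by a central element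
  have hfix : ∀ b k : G, b ∉ A → k ∈ A → k * b * k⁻¹ * b⁻¹ ∈ Subgroup.center G → k ∈ Subgroup.center G := by
    intro b k hb hk hz
    suffices hkb : Commute k b by
      rw [← hAC b hb]
      exact ⟨Subgroup.mem_centralizer_singleton_iff.2 hkb.eq, hk⟩
    set z := k * b * k⁻¹ * b⁻¹ with hzdef
    have hzb : Commute z b := (Subgroup.mem_center_iff.1 hz b).symm
    have hzk : Commute z k := (Subgroup.mem_center_iff.1 hz k).symm
    have e1 : k * b * k⁻¹ = b * z := by rw [← hzb.eq, hzdef]; group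
    have hz1 : z ^ A.index = 1 := by
      have h1 : (k * b * k⁻¹) ^ A.index = b ^ A.index * z ^ A.index := by rw [e1, hzb.symm.mul_pow]
      have hbA : b ^ A.index ∈ A := A.pow_index_mem b
      rw [conj_pow, show k * b ^ A.index = b ^ A.index * k from congrArg Subtype.val (hAc.is_comm.comm ⟨k, hk⟩ ⟨_, hbA⟩),
        mul_inv_cancel_right, eq_comm, mul_eq_left] at h1
      exact h1
    have hz2 : z ^ cix b = 1 := by
      have e2 : b * k * b⁻¹ = k * z⁻¹ := by
        rw [← hzk.inv_left.eq, hzdef]; group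
      have h1 : (b * k * b⁻¹) ^ cix b = k ^ cix b * (z⁻¹) ^ cix b := by rw [e2, hzk.inv_left.symm.mul_pow]
      have hkZ : k ^ cix b ∈ Subgroup.center G := by
        have := ((Subgroup.center G).subgroupOf A).pow_index_mem ⟨k, hk⟩
        rw [Subgroup.mem_subgroupOf, SubgroupClass.coe_pow] at this
        rwa [← hrel b hb]
      rw [conj_pow, Subgroup.mem_center_iff.1 hkZ b, mul_inv_cancel_right, eq_comm, mul_eq_left, inv_pow,
        inv_eq_one] at h1
      exact h1
    have hz0 : z = 1 := orderOf_eq_one_iff.1 (Nat.eq_one_of_dvd_coprimes (hcop b hb)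
      (orderOf_dvd_of_pow_eq_one hz1) (orderOf_dvd_of_pow_eq_one hz2))
    rw [hzdef, mul_inv_eq_one] at hz0
    exact mul_inv_eq_iff_eq_mul.1 hz0
  have hmulAC : ∀ b : G, b ∉ A → ∀ g : G, ∃ k ∈ A, ∃ c ∈ Subgroup.centralizer ({b} : Set G), g = k * c :=
    fun b hb g => Grp.HallConv.exists_mul_of_coprime (hcop b hb).symm g
  have hsub : ∀ b w : G, b ∉ A → w ∉ A → Commute b w →
      Subgroup.centralizer ({w} : Set G) ≤ Subgroup.centralizer ({b} : Set G) := by
    intro b w hb hw hbw c hc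
    obtain ⟨k, hk, d, hd', rfl⟩ := hmulAC b hb c
    have hCw : Subgroup.centralizer ({w} : Set G) ⊓ A = Subgroup.center G := hAC w hw
    have hbCw : b ∈ Subgroup.centralizer ({w} : Set G) := Subgroup.mem_centralizer_singleton_iff.2 hbw.eq
    have h1 : k * b * k⁻¹ ∈ Subgroup.centralizer ({w} : Set G) := by
      have h2 := Subgroup.mul_mem _ (Subgroup.mul_mem _ hc hbCw) (Subgroup.inv_mem _ hc)
      rw [show k * d * b * (k * d)⁻¹ = k * (d * b) * d⁻¹ * k⁻¹ by group,
        Subgroup.mem_centralizer_singleton_iff.1 hd'] at h2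
      rwa [show k * (b * d) * d⁻¹ * k⁻¹ = k * b * k⁻¹ by group] at h2
    have h2 : k * b * k⁻¹ * b⁻¹ ∈ A := by
      rw [show k * b * k⁻¹ * b⁻¹ = k * (b * k⁻¹ * b⁻¹) by group]
      exact A.mul_mem hk (Subgroup.Normal.conj_mem hAn k⁻¹ (A.inv_mem hk) b)
    have hkZ : k ∈ Subgroup.center G := hfix b k hb hk
      (hCw ▸ ⟨Subgroup.mul_mem _ h1 (Subgroup.inv_mem _ hbCw), h2⟩)
    exact Subgroup.mul_mem _ (Subgroup.center_le_centralizer _ hkZ) hd'
  obtain ⟨b, hbA⟩ : ∃ b : G, b ∉ A := ⟨y₀, fun h => hy₀c (cix_eq_one.1 (Nat.eq_one_iff_not_exists_prime_dvd.2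
    fun r hr hdr => hy₀ r hr hdr ((hA y₀).1 h r hr hdr)))⟩
  set C := Subgroup.centralizer ({b} : Set G) with hCdef
  have hCb : ∀ w ∈ C, w ∉ Subgroup.center G → w ∉ A ∧ Subgroup.centralizer ({w} : Set G) = C := by
    intro w hw hwc
    have hwA : w ∉ A := fun h => hwc (hAC b hbA ▸ ⟨hw, h⟩)
    have hbw : Commute b w := (Subgroup.mem_centralizer_singleton_iff.1 hw).symm
    exact ⟨hwA, le_antisymm (hsub b w hbA hwA hbw) (hsub w b hwA hbA hbw.symm)⟩
  set f := QuotientGroup.mk' (Subgroup.center G) with hf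
  have hfs : Function.Surjective f := QuotientGroup.mk'_surjective _
  have hZC : Subgroup.center G ≤ C := Subgroup.center_le_centralizer _
  have hmem : ∀ g : G, f g ∈ C.map f ↔ g ∈ C := by
    intro g
    rw [← Subgroup.mem_comap, Subgroup.comap_map_eq_self (by rw [hf, QuotientGroup.ker_mk']; exact hZC)]
  have hcomm : ∀ u ∈ C, ∀ v ∈ C, u * v = v * u := by
    intro u hu v hv
    by_cases huc : u ∈ Subgroup.center G
    · exact (Subgroup.mem_center_iff.1 huc v).symm
    · rw [← (hCb u hu huc).2] at hv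
      exact (Subgroup.mem_centralizer_singleton_iff.1 hv).symm
  have hFC : IsFrobeniusComplement (C.map f) := by
    refine ⟨fun h => ?_, fun h => ?_, fun γ hγ => ?_⟩
    · rw [Subgroup.map_eq_bot_iff, hf, QuotientGroup.ker_mk'] at h
      exact hbA ((hA b).2 (Only.center (h (Subgroup.mem_centralizer_singleton_iff.2 rfl))))
    · have h1 : f x ∈ C.map f := h ▸ Subgroup.mem_top _
      exact hxc (hAC b hbA ▸ ⟨(hmem x).1 h1, (hA x).2 hx⟩)
    · obtain ⟨g, rfl⟩ := hfs γ
      have hg : g ∉ C := fun h => hγ ((hmem g).2 h)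
      refine eq_bot_iff.2 fun ω hω => ?_
      obtain ⟨hω1, hω2⟩ := hω
      replace hω2 := (Frob.mem_smul_conj_iff (f g) ω).1 hω2
      obtain ⟨w, rfl⟩ := hfs ω
      replace hω1 := (hmem w).1 hω1
      rw [← map_inv, ← map_mul, ← map_mul, hmem] at hω2
      rw [Subgroup.mem_bot, hf, QuotientGroup.mk'_apply, QuotientGroup.eq_one_iff]
      by_contra hwc
      obtain ⟨k, hk, d, hd', rfl⟩ := hmulAC b hbA g
      obtain ⟨hwA, hwC⟩ := hCb w hω1 hwc
      have h1 : k⁻¹ * w * k ∈ C := by
        have h2 := C.mul_mem (C.mul_mem hd' hω2) (C.inv_mem hd')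
        rwa [show d * ((k * d)⁻¹ * w * (k * d)) * d⁻¹ = k⁻¹ * w * k by group] at h2
      have h2 : k⁻¹ * w * k * w⁻¹ ∈ A := by
        rw [show k⁻¹ * w * k * w⁻¹ = k⁻¹ * (w * k * w⁻¹) by group]
        exact A.mul_mem (A.inv_mem hk) (Subgroup.Normal.conj_mem hAn k hk w)
      have hkZ : k⁻¹ ∈ Subgroup.center G := hfix w k⁻¹ hwA (A.inv_mem hk) (by
        rw [inv_inv]
        exact hAC b hbA ▸ ⟨C.mul_mem h1 (C.inv_mem hω1), h2⟩)
      exact hg (C.mul_mem (hZC (by simpa using Subgroup.inv_mem _ hkZ)) hd')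
  refine ⟨C.map f, hFC, ⟨⟨fun u v => ?_⟩⟩, ?_⟩
  · obtain ⟨_, u', hu', rfl⟩ := u
    obtain ⟨_, v', hv', rfl⟩ := v
    exact Subtype.ext (by show f u' * f v' = f v' * f u'; rw [← map_mul, ← map_mul, hcomm u' hu' v' hv'])
  have hker : frobeniusKernel (C.map f) = ((A.map f : Subgroup _) : Set (G ⧸ Subgroup.center G)) := by
    refine (Set.eq_of_subset_of_ncard_le ?_ ?_ (Set.toFinite _)).symm
    · rintro _ ⟨k, hk, rfl⟩
      rw [Frob.mem_kernel_iff]
      refine or_iff_not_imp_left.2 fun hk1 γ hγ => hk1 ?_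
      obtain ⟨g, rfl⟩ := hfs γ
      rw [← map_inv, ← map_mul, ← map_mul, hmem] at hγ
      have hgk : g⁻¹ * k * g ∈ A := by
        have := Subgroup.Normal.conj_mem hAn k hk g⁻¹
        rwa [inv_inv] at this
      have h1 : g⁻¹ * k * g ∈ Subgroup.center G := hAC b hbA ▸ ⟨hγ, hgk⟩
      rw [hf, QuotientGroup.mk'_apply, QuotientGroup.eq_one_iff]
      have h2 := Subgroup.Normal.conj_mem (inferInstance : (Subgroup.center G).Normal) _ h1 g
      simpa [mul_assoc] using h2
    · rw [← Nat.card_coe_set_eq, ← Nat.card_coe_set_eq, Frob.card_kernel hFC,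
        Subgroup.index_map_eq _ hfs (by rw [hf, QuotientGroup.ker_mk']; exact hZC)]
      show cix b ≤ Nat.card ↥(A.map f)
      rw [← hrel b hbA, ← Subgroup.relIndex_ker, hf, QuotientGroup.ker_mk']
  intro u hu v hv
  rw [hker] at hu hv
  obtain ⟨u', hu', rfl⟩ := hu
  obtain ⟨v', hv', rfl⟩ := hv
  rw [← map_mul, ← map_mul, show u' * v' = v' * u' from congrArg Subtype.val (hAc.is_comm.comm ⟨u', hu'⟩ ⟨v', hv'⟩)]

end Main

end Cfsg.Agent.Transfer.ClassDisconnected
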