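import Cfsg.Agent.Lib.Transfer.Abelian

/-!
Reductions for questions about the number of Sylow subgroups.
-/
set_option autoImplicit false
set_option linter.style.haveILetI false

open scoped Pointwise

namespace Cfsg.Agent.Transfer

universe u

variable {G : Type*} [Group G] {p : ℕ}

/-- Factoring out a subgroup fixing every Sylow subgroup keeps the Sylow number. -/
theorem card_sylow_quotient [Finite G] [Fact p.Prime] (K : Subgroup G) [K.Normal]
    (hK : ∀ P : Sylow p G, K ≤ Subgroup.normalizer (P : Set G)) :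
    Nat.card (Sylow p (G ⧸ K)) = Nat.card (Sylow p G) := by
  symm
  refine Nat.card_eq_of_bijective
    (fun P : Sylow p G => P.mapSurjective (QuotientGroup.mk'_surjective K))
    ⟨fun P Q h => ?_, Sylow.mapSurjective_surjective (QuotientGroup.mk'_surjective K) p⟩
  have h1 : (P : Subgroup G).map (QuotientGroup.mk' K) = (Q : Subgroup G).map (QuotientGroup.mk' K) := by
    have := congrArg Sylow.toSubgroup h
    simpa [Sylow.coe_mapSurjective] using this
  have hle : (Q : Subgroup G) ≤ Subgroup.normalizer (P : Set G) := by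
    intro q hq
    have hq' : QuotientGroup.mk' K q ∈ (P : Subgroup G).map (QuotientGroup.mk' K) := h1 ▸ ⟨q, hq, rfl⟩
    obtain ⟨a, ha, hae⟩ := hq'
    have hk : a⁻¹ * q ∈ K := QuotientGroup.eq.1 hae
    rw [show q = a * (a⁻¹ * q) by group]
    exact mul_mem (sylow_le_normalizer P ha) (hK P hk)
  have h2 := Q.isPGroup'.inf_normalizer_sylow P
  rw [inf_eq_left.2 hle] at h2
  exact (Sylow.ext (Q.3 P.isPGroup' (h2.le.trans inf_le_right)))

/-- A subgroup containing all Sylow subgroups has the same Sylow number. -/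
theorem card_sylow_subgroup [Finite G] [Fact p.Prime] (N : Subgroup G)
    (hN : ∀ P : Sylow p G, (P : Subgroup G) ≤ N) :
    Nat.card (Sylow p N) = Nat.card (Sylow p G) := by
  symm
  refine Nat.card_eq_of_bijective (fun P : Sylow p G => P.subtype (hN P))
    ⟨fun P Q h => Sylow.subtype_injective h, fun R => ?_⟩
  obtain ⟨Q, hQ⟩ := R.exists_comap_subtype_eq
  exact ⟨Q, Sylow.ext hQ⟩

/-- An element fixes a Sylow subgroup only through that Sylow subgroup, for `p`-elements. -/
theorem mem_sylow_of_smul_eq [Fact p.Prime] [Finite G] (Q : Sylow p G) {H : Subgroup G}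
    (hH : IsPGroup p H) {x : G} (hx : x ∈ H) (h : x • Q = Q) : x ∈ (Q : Subgroup G) := by
  have := hH.inf_normalizer_sylow Q
  have hx' : x ∈ H ⊓ Subgroup.normalizer (Q : Set G) := ⟨hx, Sylow.smul_eq_iff_mem_normalizer.1 h⟩
  rw [this] at hx'
  exact hx'.2

/-- It suffices to refute faithful Sylow actions of groups generated by their Sylow subgroups. -/
theorem card_sylow_ne_of_reduced {p : ℕ} [Fact p.Prime] {m : ℕ}
    (h : ∀ (G : Type u) [Group G] [Finite G], Nat.card (Sylow p G) = m →
      (∀ g : G, (∀ P : Sylow p G, g • P = P) → g = 1) →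
      (∀ M : Subgroup G, (∀ P : Sylow p G, (P : Subgroup G) ≤ M) → M = ⊤) → False)
    (G : Type u) [Group G] [Finite G] : Nat.card (Sylow p G) ≠ m := by
  suffices H : ∀ n (G : Type u) [Group G] [Finite G], Nat.card G = n → Nat.card (Sylow p G) ≠ m from
    H _ G rfl
  intro n
  induction n using Nat.strong_induction_on with
  | _ n ih =>
  intro G _ _ hn hm
  refine h G hm ?_ ?_
  · set K : Subgroup G := (MulAction.toPermHom G (Sylow p G)).ker with hK
    have hKN : ∀ P : Sylow p G, K ≤ Subgroup.normalizer (P : Set G) := fun P k hk =>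
      Sylow.smul_eq_iff_mem_normalizer.1 (congrFun (congrArg DFunLike.coe (MonoidHom.mem_ker.1 hk)) P)
    by_contra hne
    push Not at hne
    obtain ⟨g, hg, hg1⟩ := hne
    have hgK : g ∈ K := MonoidHom.mem_ker.2 (Equiv.ext hg)
    have hlt : Nat.card (G ⧸ K) < n := by
      rw [← hn, ← Subgroup.index_eq_card, ← K.card_mul_index]
      have h1 : 1 < Nat.card K := (Subgroup.one_lt_card_iff_ne_bot K).2 fun hb =>
        hg1 (Subgroup.mem_bot.1 (hb ▸ hgK))
      exact lt_mul_of_one_lt_left (Nat.pos_of_ne_zero Subgroup.index_ne_zero_of_finite) h1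
    exact ih _ hlt (G ⧸ K) rfl ((card_sylow_quotient K hKN).trans hm)
  · intro M hM
    by_contra hne
    have hlt : Nat.card M < n := by
      rw [← hn]
      exact lt_of_le_of_ne (Subgroup.card_le_card_group M) fun he => hne (Subgroup.eq_top_of_card_eq M he)
    exact ih _ hlt M rfl ((card_sylow_subgroup M hM).trans hm)

/-- The length of the orbit of `Q` under `P` is `[P : P ⊓ Q]`. -/
theorem card_orbit_sylow [Finite G] [Fact p.Prime] (P Q : Sylow p G) :
    Nat.card (MulAction.orbit (P : Subgroup G) Q) =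
      ((P : Subgroup G) ⊓ (Q : Subgroup G)).relIndex (P : Subgroup G) := by
  rw [Nat.card_coe_set_eq, ← MulAction.index_stabilizer, Subgroup.relIndex]
  congr 1
  ext x
  rw [MulAction.mem_stabilizer_iff, Subgroup.mem_subgroupOf]
  constructor
  · intro hx
    exact ⟨x.2, mem_sylow_of_smul_eq Q P.isPGroup' x.2 hx⟩
  · intro hx
    exact Sylow.smul_eq_iff_mem_normalizer.2 (sylow_le_normalizer Q hx.2)

/-- The conjugate Sylow subgroup `x • R` for `x ∈ P` fixes `P`. -/
theorem smul_sylow_self [Finite G] [Fact p.Prime] (P : Sylow p G) {x : G}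
    (hx : x ∈ (P : Subgroup G)) : x • P = P :=
  Sylow.smul_eq_iff_mem_normalizer.2 (sylow_le_normalizer P hx)

/-- An invariant set all of whose orbits have length `k` has cardinality divisible by `k`. -/
theorem dvd_ncard_of_orbits {H α : Type*} [Group H] [MulAction H α] [Finite α] {k : ℕ} (S : Set α)
    (hS : ∀ a ∈ S, MulAction.orbit H a ⊆ S) (hk : ∀ a ∈ S, (MulAction.orbit H a).ncard = k) :
    k ∣ S.ncard := by
  suffices H' : ∀ n (S : Set α), S.ncard = n → (∀ a ∈ S, MulAction.orbit H a ⊆ S) →
      (∀ a ∈ S, (MulAction.orbit H a).ncard = k) → k ∣ n from H' _ S rfl hS hk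
  intro n
  induction n using Nat.strong_induction_on with
  | _ n ih =>
  intro S hn hS hk
  rcases S.eq_empty_or_nonempty with rfl | ⟨a, ha⟩
  · simp only [Set.ncard_empty] at hn; subst hn; exact dvd_zero k
  set O := MulAction.orbit H a with hO
  have h1 : (S \ O).ncard + O.ncard = S.ncard := Set.ncard_sdiff_add_ncard_of_subset (hS a ha) (Set.toFinite _)
  have h2 : 0 < O.ncard := (Set.ncard_pos (Set.toFinite _)).2 ⟨a, MulAction.mem_orbit_self a⟩
  have h3 := ih _ (by omega) (S \ O) rfl (fun b hb c hc => ⟨hS b hb.1 hc, fun hcO => hb.2 (by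
      rw [hO, ← MulAction.orbit_eq_iff.2 hcO, MulAction.orbit_eq_iff.2 hc]
      exact MulAction.mem_orbit_self b)⟩)
    (fun b hb => hk b hb.1)
  rw [← hn, ← h1]
  exact dvd_add h3 (hk a ha).symm.dvd

end Cfsg.Agent.Transfer
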