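import Cfsg.Agent.Lib.Transfer.Fusion

/-!
Burnside's fusion lemma, weakly closed subgroups, and transfer into abelian Sylow subgroups.
-/
set_option autoImplicit false
set_option linter.style.haveILetI false

open scoped commutatorElement Pointwise

namespace Cfsg.Agent.Transfer

variable {G : Type*} [Group G] {p : ℕ}

theorem conj_image_eq_iff {g : G} {X Y : Set G} :
    (fun y => g * y * g⁻¹) '' X = Y ↔ ∀ x, x ∈ X ↔ g * x * g⁻¹ ∈ Y := by
  constructor
  · rintro rfl x
    refine ⟨fun hx => ⟨x, hx, rfl⟩, ?_⟩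
    rintro ⟨z, hz, hzx⟩
    have : z = x := by simpa using hzx
    rwa [← this]
  · intro h
    ext y
    constructor
    · rintro ⟨x, hx, rfl⟩; exact (h x).1 hx
    · intro hy
      exact ⟨g⁻¹ * y * g, (h _).2 (by simpa [mul_assoc] using hy), by simp [mul_assoc]⟩

/-- Burnside's lemma for subsets invariant under the Sylow subgroup. -/
theorem exists_normalizer_conj_set [Finite G] [Fact p.Prime] (P : Sylow p G) {X Y : Set G}
    (hX : (P : Subgroup G) ≤ Subgroup.normalizer X) (hY : (P : Subgroup G) ≤ Subgroup.normalizer Y)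
    {g : G} (hg : ∀ x, x ∈ X ↔ g * x * g⁻¹ ∈ Y) :
    ∃ n ∈ Subgroup.normalizer (P : Set G), ∀ x, x ∈ X ↔ n * x * n⁻¹ ∈ Y := by
  have h2 : ∀ a ∈ (P : Subgroup G), g * a * g⁻¹ ∈ Subgroup.normalizer Y := by
    intro a ha
    rw [Subgroup.mem_set_normalizer_iff]
    intro y
    have h1 := hg (g⁻¹ * y * g)
    have h2 := Subgroup.mem_set_normalizer_iff.1 (hX ha) (g⁻¹ * y * g)
    have h3 := hg (a * (g⁻¹ * y * g) * a⁻¹)
    simp only [mul_assoc, mul_inv_cancel_left, mul_inv_cancel, mul_one, mul_inv_rev, inv_inv] at h1 h2 h3 ⊢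
    rw [← h1, h2, h3]
  obtain ⟨s, hs, hn⟩ := exists_mem_mul_mem_normalizer P hY g h2
  refine ⟨_, hn, fun x => ?_⟩
  rw [hg x, Subgroup.mem_set_normalizer_iff.1 hs]
  simp [mul_assoc]

/-- Burnside's lemma for elements centralized by the Sylow subgroup. -/
theorem exists_normalizer_conj_elem [Finite G] [Fact p.Prime] (P : Sylow p G) {x g : G}
    (hx : ∀ a ∈ (P : Subgroup G), Commute a x) (hy : ∀ a ∈ (P : Subgroup G), Commute a (g * x * g⁻¹)) :
    ∃ n ∈ Subgroup.normalizer (P : Set G), n * x * n⁻¹ = g * x * g⁻¹ := by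
  have hle : ∀ z : G, (∀ a ∈ (P : Subgroup G), Commute a z) →
      (P : Subgroup G) ≤ Subgroup.centralizer {z} := fun z hz a ha => by
    rw [Subgroup.mem_centralizer_singleton_iff]
    exact (hz a ha).eq
  have h2 : ∀ a ∈ (P : Subgroup G), g * a * g⁻¹ ∈ Subgroup.centralizer {g * x * g⁻¹} := by
    intro a ha
    rw [Subgroup.mem_centralizer_singleton_iff]
    have := (hx a ha).eq
    calc g * a * g⁻¹ * (g * x * g⁻¹) = g * (a * x) * g⁻¹ := by group
      _ = g * (x * a) * g⁻¹ := by rw [this]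
      _ = _ := by group
  obtain ⟨s, hs, hn⟩ := exists_mem_mul_mem_normalizer P (hle _ hy) g h2
  refine ⟨_, hn, ?_⟩
  rw [Subgroup.mem_centralizer_singleton_iff] at hs
  calc s * g * x * (s * g)⁻¹ = s * (g * x * g⁻¹) * s⁻¹ := by group
    _ = g * x * g⁻¹ := by rw [hs]; group

/-- Conjugate elements of an abelian Sylow subgroup are conjugate in its normalizer. -/
theorem exists_normalizer_conj_of_abelian [Finite G] [Fact p.Prime] (P : Sylow p G)
    (hP : IsMulCommutative P) {x g : G} (hx : x ∈ (P : Subgroup G))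
    (hy : g * x * g⁻¹ ∈ (P : Subgroup G)) :
    ∃ n ∈ Subgroup.normalizer (P : Set G), n * x * n⁻¹ = g * x * g⁻¹ := by
  have hc : ∀ z ∈ (P : Subgroup G), ∀ a ∈ (P : Subgroup G), Commute a z := fun z hz a ha =>
    congrArg Subtype.val (hP.is_comm.comm ⟨a, ha⟩ ⟨z, hz⟩)
  exact exists_normalizer_conj_elem P (hc x hx) (hc _ hy)

/-- A weakly closed central subgroup of `P`: its normalizer controls fusion of elements. -/
theorem exists_normalizer_conj_of_weaklyClosed [Finite G] [Fact p.Prime] (P : Sylow p G)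
    {Z : Subgroup G} (hZ : Z ≤ Subgroup.centralizer (P : Set G)) (hW : IsWeaklyClosed Z P) {x g : G}
    (hx : x ∈ (P : Subgroup G)) (hy : g * x * g⁻¹ ∈ (P : Subgroup G)) :
    ∃ n ∈ Subgroup.normalizer (Z : Set G), n * x * n⁻¹ = g * x * g⁻¹ := by
  set y := g * x * g⁻¹ with hy'
  set C := Subgroup.centralizer ({y} : Set G) with hC
  have hZC : Z ≤ C := fun z hz => by
    rw [Subgroup.mem_centralizer_singleton_iff]
    exact (hZ hz y hy).symm
  set Z' := Z.map (MulAut.conj g).toMonoidHom with hZ'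
  have hZC' : Z' ≤ C := by
    rintro _ ⟨z, hz, rfl⟩
    rw [Subgroup.mem_centralizer_singleton_iff]
    have h := (hZ hz x hx).symm
    calc (MulAut.conj g).toMonoidHom z * y = g * (z * x) * g⁻¹ := by
          rw [hy', MulEquiv.coe_toMonoidHom, MulAut.conj_apply]; group
      _ = g * (x * z) * g⁻¹ := by rw [h]
      _ = _ := by rw [hy', MulEquiv.coe_toMonoidHom, MulAut.conj_apply]; group
  have hZp : IsPGroup p Z := P.isPGroup'.to_le hW.1
  obtain ⟨S₁, hS₁⟩ := (hZp.comap_subtype (K := C)).exists_le_sylow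
  obtain ⟨S₂, hS₂⟩ := ((hZp.map (MulAut.conj g).toMonoidHom).comap_subtype (K := C)).exists_le_sylow
  obtain ⟨c, hc⟩ := MulAction.exists_smul_eq C S₂ S₁
  obtain ⟨R, hR⟩ := (S₁.isPGroup'.map C.subtype).exists_le_sylow
  obtain ⟨r, hr⟩ := MulAction.exists_smul_eq G R P
  have hRP : ∀ a ∈ (R : Subgroup G), r * a * r⁻¹ ∈ (P : Subgroup G) := fun a ha => by
    rw [← hr, Sylow.coe_subgroup_smul]
    exact Subgroup.smul_mem_pointwise_smul a (MulAut.conj r) _ ha
  have hfix : ∀ k : G, (∀ z ∈ Z, k * z * k⁻¹ ∈ (P : Subgroup G)) →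
      Z.map (MulAut.conj k).toMonoidHom = Z := by
    intro k hk
    refine hW.2 k ?_
    rintro _ ⟨z, hz, rfl⟩
    exact hk z hz
  have h1 : Z.map (MulAut.conj r).toMonoidHom = Z := by
    refine hfix r fun z hz => hRP z (hR ⟨⟨z, hZC hz⟩, hS₁ hz, rfl⟩)
  have h2 : Z.map (MulAut.conj (r * ((c : G) * g))).toMonoidHom = Z := by
    refine hfix _ fun z hz => ?_
    have hz' : g * z * g⁻¹ ∈ Z' := ⟨z, hz, rfl⟩
    have hmem : c * (⟨g * z * g⁻¹, hZC' hz'⟩ : C) * c⁻¹ ∈ (S₁ : Subgroup C) := by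
      rw [← hc, Sylow.coe_subgroup_smul]
      exact Subgroup.smul_mem_pointwise_smul _ (MulAut.conj c) _ (hS₂ hz')
    have := hRP _ (hR ⟨_, hmem, rfl⟩)
    simpa [mul_assoc] using this
  have hmemN : ∀ k : G, Z.map (MulAut.conj k).toMonoidHom = Z →
      k ∈ Subgroup.normalizer (Z : Set G) := by
    intro k hk
    rw [Subgroup.mem_normalizer_iff]
    intro z
    constructor
    · intro hz
      have : (MulAut.conj k).toMonoidHom z ∈ Z.map (MulAut.conj k).toMonoidHom := ⟨z, hz, rfl⟩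
      rwa [hk] at this
    · intro hz
      rw [← hk] at hz
      obtain ⟨w, hw, hwe⟩ := hz
      have : w = z := (MulAut.conj k).injective hwe
      rwa [← this]
  refine ⟨(c : G) * g, ?_, ?_⟩
  · have := Subgroup.mul_mem _ (Subgroup.inv_mem _ (hmemN r h1)) (hmemN _ h2)
    simpa [mul_assoc] using this
  · have hcy : (c : G) * y = y * c := Subgroup.mem_centralizer_singleton_iff.1 c.2
    calc (c : G) * g * x * ((c : G) * g)⁻¹ = c * y * (c : G)⁻¹ := by rw [hy']; group
      _ = y := by rw [hcy]; group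

/-- For an abelian Sylow subgroup `T`, the groups `T ∩ G'`, `T ∩ O^p(G)`, `[T, N_G(T)]` coincide. -/
theorem abelian_sylow_inf_commutator [Finite G] [hp : Fact p.Prime] (T : Sylow p G)
    (hT : IsMulCommutative T) :
    commutator G ⊓ (T : Subgroup G) ≤ ⁅(T : Subgroup G), Subgroup.normalizer (T : Set G)⁆ ∧
      ⁅(T : Subgroup G), Subgroup.normalizer (T : Set G)⁆ ≤ (T : Subgroup G) ⊓ pResidual p G := by
  constructor
  · refine commutator_inf_sylow_le T fun x hx u hu => ?_
    obtain ⟨n, hn, he⟩ := exists_normalizer_conj_of_abelian T hT hx hu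
    rw [← he]
    have : x⁻¹ * (n * x * n⁻¹) = ⁅x⁻¹, n⁆ := by rw [commutatorElement_def]; group
    rw [this]
    exact Subgroup.commutator_mem_commutator ((T : Subgroup G).inv_mem hx) hn
  · rw [Subgroup.commutator_le]
    intro t ht n hn
    refine ⟨?_, ?_⟩
    · have := Subgroup.mem_set_normalizer_iff.1 hn t⁻¹
      have h2 := this.1 ((T : Subgroup G).inv_mem ht)
      rw [commutatorElement_def, mul_assoc, mul_assoc, ← mul_assoc n]
      exact (T : Subgroup G).mul_mem ht h2
    · have hn' : n ∈ (T : Subgroup G) ⊔ pResidual p G := by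
        rw [sylow_sup_pResidual]; exact Subgroup.mem_top n
      obtain ⟨a, ha, o, ho, rfl⟩ := Subgroup.mem_sup_of_normal_right.1 hn'
      have hc : a * t = t * a := congrArg Subtype.val (hT.is_comm.comm ⟨a, ha⟩ ⟨t, ht⟩)
      have he : ⁅t, a * o⁆ = a * ((t * o * t⁻¹) * o⁻¹) * a⁻¹ := by
        calc ⁅t, a * o⁆ = t * a * o * t⁻¹ * (o⁻¹ * a⁻¹) := by rw [commutatorElement_def]; group
          _ = a * t * o * t⁻¹ * (o⁻¹ * a⁻¹) := by rw [hc]
          _ = _ := by group
      rw [he]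
      have hN : (pResidual p G).Normal := inferInstance
      exact hN.conj_mem _ ((pResidual p G).mul_mem (hN.conj_mem _ ho t) (inv_mem ho)) a

end Cfsg.Agent.Transfer
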