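import Mathlib
import Cfsg.Prelude.Def_OddOrderLocal
import Cfsg.Agent.Lib.Transfer.Transitivity
import Cfsg.Agent.Lib.Grp.Signalizer
import Cfsg.Agent.Lib.Grp.SignalizerTransitive

/-!
Consequences of the transitivity hypothesis in a minimal simple group of odd order.
-/

set_option autoImplicit false
set_option linter.unusedSectionVars false
set_option linter.style.haveILetI false

namespace Cfsg.Agent.Transfer.TransHyp

open Subgroup Cfsg.Agent.Grp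
open scoped Pointwise commutatorElement

universe u

variable {G : Type u} [Group G] [Finite G] {π : Set ℕ}

theorem piCore_primes {q : ℕ} (hq : q.Prime) (h : q ∣ Nat.card (Cfsg.piCore π G)) : q ∈ π :=
  (Grp.sSup_mem_of_closed {N : Subgroup G | N.Normal ∧ ∀ p : ℕ, p.Prime → p ∣ Nat.card N → p ∈ π}
    ⟨⊥, inferInstance, fun r hr h => by
      rw [Subgroup.card_bot] at h; exact absurd h hr.not_dvd_one⟩
    fun _ ⟨ha, ha'⟩ _ ⟨hb, hb'⟩ => ⟨inferInstance, fun r hr h => by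
      haveI := hb
      rcases hr.dvd_mul.1 (h.trans (Grp.card_sup_dvd_mul
        (by rw [Subgroup.normalizer_eq_top]; exact le_top))) with h1 | h1
      · exact ha' r hr h1
      · exact hb' r hr h1⟩).2 q hq h

theorem piCoreOf_primes {X : Subgroup G} {q : ℕ} (hq : q.Prime)
    (h : q ∣ Nat.card (Cfsg.piCoreOf π X)) : q ∈ π := by
  rw [Cfsg.piCoreOf, Subgroup.card_map_of_injective (Subgroup.subtype_injective X)] at h
  exact piCore_primes hq h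

theorem piCoreOf_le (X : Subgroup G) : Cfsg.piCoreOf π X ≤ X := Subgroup.map_subtype_le _

theorem le_piCoreOf {L X : Subgroup G} (hL : L ≤ X) (hX : X ≤ normalizer (L : Set G))
    (h : ∀ q : ℕ, q.Prime → q ∣ Nat.card L → q ∈ π) : L ≤ Cfsg.piCoreOf π X := by
  intro l hl
  have hmem : L.subgroupOf X ∈ {N : Subgroup X | N.Normal ∧ ∀ p : ℕ, p.Prime → p ∣ Nat.card N → p ∈ π} := by
    refine ⟨(normal_subgroupOf_iff_le_normalizer hL).2 hX, fun q hq hd => h q hq ?_⟩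
    rwa [Nat.card_congr (Subgroup.subgroupOfEquivOfLe hL).toEquiv] at hd
  have hle : L.subgroupOf X ≤ Cfsg.piCore π X := le_sSup hmem
  refine ⟨⟨l, hL hl⟩, hle hl, rfl⟩

theorem le_normalizer_piCoreOf (X : Subgroup G) : X ≤ normalizer (Cfsg.piCoreOf π X : Set G) := by
  haveI := Cfsg.piCore_normal π X
  intro x hx
  refine Subgroup.mem_normalizer_iff.2 fun g => ⟨fun hg => ?_, fun hg => ?_⟩
  · obtain ⟨y, hy, rfl⟩ := hg
    exact ⟨⟨x, hx⟩ * y * ⟨x, hx⟩⁻¹, Normal.conj_mem inferInstance _ hy _, rfl⟩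
  · obtain ⟨y, hy, e⟩ := hg
    refine ⟨⟨x, hx⟩⁻¹ * y * ⟨x, hx⟩, by simpa using Normal.conj_mem inferInstance _ hy (⟨x, hx⟩ : X)⁻¹, ?_⟩
    simp only [Subgroup.coe_subtype] at e
    simp [e, mul_assoc]

theorem normalizer_le_piCoreOf (X : Subgroup G) :
    normalizer (X : Set G) ≤ normalizer (Cfsg.piCoreOf π X : Set G) := by
  have key : ∀ x ∈ normalizer (X : Set G), MulAut.conj x • Cfsg.piCoreOf π X ≤ Cfsg.piCoreOf π X := by
    intro x hx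
    have hXx := Grp.mem_normalizer_iff_smul.mp hx
    refine le_piCoreOf ?_ (fun y hy => ?_) (fun q hq hd => piCoreOf_primes (π := π) (X := X) hq ?_)
    · conv_rhs => rw [← hXx]
      exact Subgroup.pointwise_smul_le_pointwise_smul_iff.mpr (piCoreOf_le X)
    · rw [Grp.mem_normalizer_iff_smul, Grp.conj_smul_conj_smul]
      have hy' : x⁻¹ * y * x ∈ X := Grp.mem_conj_normalizer' hx hy
      have := Grp.mem_normalizer_iff_smul.mp (le_normalizer_piCoreOf (π := π) X hy')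
      conv_rhs => rw [← this, Grp.conj_smul_conj_smul]
      congr 2; group
    · rwa [← Grp.map_conj_eq_smul, Subgroup.card_map_of_injective (MulAut.conj x).injective] at hd
  intro x hx
  rw [Grp.mem_normalizer_iff_smul]
  refine le_antisymm (key x hx) ?_
  have := Subgroup.pointwise_smul_le_pointwise_smul_iff (a := MulAut.conj x) |>.mpr (key x⁻¹ (inv_mem hx))
  rwa [Grp.conj_smul_conj_smul, mul_inv_cancel, map_one, one_smul] at this

/-- The state of the induction along a subnormal series. -/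
def Good (A : Subgroup G) (q : ℕ) (B : Subgroup G) : Prop :=
  A ≤ B ∧ Cfsg.maxInvSubgroups ⊤ B ({q} : Set ℕ) ⊆ Cfsg.maxInvSubgroups ⊤ A ({q} : Set ℕ) ∧
    ∀ Q₁ ∈ Cfsg.maxInvSubgroups ⊤ B ({q} : Set ℕ), ∀ Q₂ ∈ Cfsg.maxInvSubgroups ⊤ B ({q} : Set ℕ),
      ∃ k ∈ Cfsg.piCoreOf (Cfsg.primesNotDvd (Nat.card A)) (centralizer (A : Set G)) ⊓ centralizer (B : Set G), MulAut.conj k • Q₁ = Q₂

variable (hG : Cfsg.IsMinSimpleOddOrder G)
include hG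

theorem center_eq_bot : center G = ⊥ := by
  haveI := hG.2.1
  refine (Normal.eq_bot_or_eq_top (H := center G) inferInstance).resolve_right fun h => hG.2.2.1 ⟨⟨fun a b => ?_⟩⟩
  exact Subgroup.mem_center_iff.mp (h ▸ mem_top b) a

theorem normalizer_ne_top {K : Subgroup G} (h1 : K ≠ ⊥) (h2 : K ≠ ⊤) : normalizer (K : Set G) ≠ ⊤ := by
  intro h
  haveI := hG.2.1
  haveI : K.Normal := normalizer_eq_top_iff.mp h
  exact (Normal.eq_bot_or_eq_top (H := K) inferInstance).elim h1 h2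

theorem centralizer_ne_top {b : G} (hb : b ≠ 1) : centralizer ({b} : Set G) ≠ ⊤ := by
  intro h
  have : b ∈ center G := Subgroup.mem_center_iff.mpr fun g =>
    mem_centralizer_singleton_iff.mp (h ▸ mem_top g)
  rw [center_eq_bot hG, mem_bot] at this
  exact hb this

variable {A : Subgroup G} (hA : Cfsg.TransitivityHypothesis A)
include hA

local notation "πA" => Cfsg.primesNotDvd (Nat.card A)
local notation "KA" => Cfsg.piCoreOf (Cfsg.primesNotDvd (Nat.card A)) (centralizer (A : Set G))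

omit hG hA in
theorem coprime_of_pi {Y : Subgroup G} (hY : ∀ r : ℕ, r.Prime → r ∣ Nat.card Y → r ∈ πA) {B : Subgroup G}
    (hB : ∀ r : ℕ, r.Prime → r ∣ Nat.card B → r ∣ Nat.card A) : (Nat.card B).Coprime (Nat.card Y) :=
  Nat.coprime_of_dvd fun r hr hrB hrY => (hY r hr hrY).2 (hB r hr hrB)

theorem le_core {X Y : Subgroup G} (hX : X ≠ ⊤) (hAX : A ≤ X) (hYX : Y ≤ X)
    (hY : ∀ r : ℕ, r.Prime → r ∣ Nat.card Y → r ∈ πA) (hAY : A ≤ normalizer (Y : Set G)) :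
    Y ≤ Cfsg.piCoreOf πA X := by
  rw [← hA.2.2 X hX hAX]
  exact le_sSup ⟨hYX, hY, hAY⟩

theorem le_K {Y : Subgroup G} (hY : ∀ r : ℕ, r.Prime → r ∣ Nat.card Y → r ∈ πA)
    (hYC : Y ≤ centralizer (A : Set G)) : Y ≤ KA := by
  set N := normalizer (A : Set G) with hN
  have hCN : centralizer (A : Set G) ≤ N := centralizer_le_normalizer _
  have h1 : Y ≤ Cfsg.piCoreOf πA N := le_core hG hA (normalizer_ne_top hG hA.1 hA.2.1) le_normalizer
    (hYC.trans hCN) hY (fun a ha => centralizer_le_normalizer _ (Subgroup.mem_centralizer_iff.mpr fun y hy =>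
      (Subgroup.mem_centralizer_iff.mp (hYC hy) a ha).symm))
  refine h1.trans (le_piCoreOf ?_ (hCN.trans (le_normalizer_piCoreOf N)) fun r hr hd => piCoreOf_primes hr hd)
  intro o ho
  have hinf : A ⊓ Cfsg.piCoreOf πA N = ⊥ := Cfsg.Agent.Grp.inf_eq_bot_of_coprime
    (coprime_of_pi (fun r hr hd => piCoreOf_primes hr hd) fun r _ h => h)
  refine Subgroup.mem_centralizer_iff.mpr fun a ha => ?_
  have h2 : a * o * a⁻¹ * o⁻¹ ∈ A ⊓ Cfsg.piCoreOf πA N := by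
    refine ⟨?_, ?_⟩
    · rw [show a * o * a⁻¹ * o⁻¹ = a * (o * a⁻¹ * o⁻¹) by group]
      exact A.mul_mem ha (Grp.mem_conj_normalizer (piCoreOf_le (π := πA) N ho) (A.inv_mem ha))
    · exact (Cfsg.piCoreOf πA N).mul_mem (Grp.mem_conj_normalizer (le_normalizer_piCoreOf N (le_normalizer ha)) ho) ((Cfsg.piCoreOf πA N).inv_mem ho)
  rw [hinf, mem_bot, mul_inv_eq_one, mul_inv_eq_iff_eq_mul] at h2
  exact h2

variable {q : ℕ} [hq : Fact q.Prime] (hqA : ¬ q ∣ Nat.card A)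
include hqA

omit hG hA in
theorem pi_of_q {Y : Subgroup G} (hY : IsPGroup q Y) : ∀ r : ℕ, r.Prime → r ∣ Nat.card Y → r ∈ πA := by
  intro r hr hrY
  obtain ⟨m, hm⟩ := IsPGroup.iff_card.mp hY
  rw [hm] at hrY
  rw [(Nat.prime_dvd_prime_iff_eq hr hq.out).mp (hr.dvd_of_dvd_pow hrY)]
  exact ⟨hq.out, hqA⟩

theorem q_ne_top {Y : Subgroup G} (hY : IsPGroup q Y) : Y ≠ ⊤ := by
  intro h
  refine hA.1 (Subgroup.card_eq_one.mp (Nat.eq_one_iff_not_exists_prime_dvd.mpr fun r hr hrA => ?_))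
  have := pi_of_q hqA (A := A) hY r hr (h ▸ hrA.trans (by rw [Subgroup.card_top]; exact card_subgroup_dvd_card A))
  exact this.2 hrA

theorem exists_sylow {X U : Subgroup G} (hX : X ≠ ⊤) (hAX : A ≤ X) (hUX : U ≤ X) (hU : IsPGroup q U)
    (hAU : A ≤ normalizer (U : Set G)) :
    ∃ S, IsSylowIn q S (Cfsg.piCoreOf πA X) ∧ A ≤ normalizer (S : Set G) ∧ U ≤ S :=
  exists_invariant_sylow_ge A _ (hAX.trans (le_normalizer_piCoreOf X))
    (coprime_of_pi (fun r hr hd => piCoreOf_primes hr hd) fun r _ h => h)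
    (Or.inl (hG.2.2.2 A hA.2.1)) (le_core hG hA hX hAX hUX (pi_of_q hqA hU) hAU) hU hAU

/-- Two subgroups meeting a proper subgroup over `A` can be moved towards each other. -/
theorem step {X U₁ U₂ : Subgroup G} (hX : X ≠ ⊤) (hAX : A ≤ X) (hU₁X : U₁ ≤ X) (hU₂X : U₂ ≤ X)
    (hU₁ : IsPGroup q U₁) (hU₂ : IsPGroup q U₂) (hA₁ : A ≤ normalizer (U₁ : Set G))
    (hA₂ : A ≤ normalizer (U₂ : Set G)) :
    ∃ R₁ R₂ S₂, R₁ ∈ Cfsg.maxInvSubgroups ⊤ A ({q} : Set ℕ) ∧ R₂ ∈ Cfsg.maxInvSubgroups ⊤ A ({q} : Set ℕ) ∧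
      U₁ ≤ R₁ ∧ U₂ ≤ R₂ ∧ U₂ ≤ S₂ ∧ S₂ ≤ R₂ ∧ ∃ c ∈ KA, S₂ ≤ MulAut.conj c • R₁ := by
  set L := Cfsg.piCoreOf πA X
  obtain ⟨S₁, hS₁, hSA₁, hU₁S⟩ := exists_sylow hG hA hqA hX hAX hU₁X hU₁ hA₁
  obtain ⟨S₂, hS₂, hSA₂, hU₂S⟩ := exists_sylow hG hA hqA hX hAX hU₂X hU₂ hA₂
  obtain ⟨R₁, hR₁, hSR₁⟩ := Transitivity.exists_max S₁ (Transitivity.mem_inv_iff.mpr ⟨hS₁.2.1, hSA₁⟩)
  obtain ⟨R₂, hR₂, hSR₂⟩ := Transitivity.exists_max S₂ (Transitivity.mem_inv_iff.mpr ⟨hS₂.2.1, hSA₂⟩)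
  obtain ⟨c, hc, hcS⟩ := invariant_sylow_conj A L (hAX.trans (le_normalizer_piCoreOf X))
    (coprime_of_pi (fun r hr hd => piCoreOf_primes hr hd) fun r _ h => h)
    (Or.inl (hG.2.2.2 A hA.2.1)) hS₁ hS₂ hSA₁ hSA₂
  refine ⟨R₁, R₂, S₂, hR₁, hR₂, hU₁S.trans hSR₁, hU₂S.trans hSR₂, hU₂S, hSR₂, c, ?_, ?_⟩
  · exact le_K hG hA (Y := L ⊓ centralizer (A : Set G))
      (fun r hr hd => piCoreOf_primes (π := πA) (X := X) hr (hd.trans (card_dvd_of_le inf_le_left)))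
      inf_le_right hc
  · rw [← hcS]; exact Subgroup.pointwise_smul_le_pointwise_smul_iff.mpr hSR₁

omit hG hA hqA in
theorem K_le_centralizer {k : G} (hk : k ∈ KA) : k ∈ centralizer (A : Set G) := piCoreOf_le _ hk

/-- Maximal invariant subgroups meeting nontrivially are conjugate. -/
theorem conj_of_inf : ∀ {Q₁ Q₂ : Subgroup G}, Q₁ ∈ Cfsg.maxInvSubgroups ⊤ A ({q} : Set ℕ) →
    Q₂ ∈ Cfsg.maxInvSubgroups ⊤ A ({q} : Set ℕ) → Q₁ ⊓ Q₂ ≠ ⊥ → ∃ k ∈ KA, MulAut.conj k • Q₁ = Q₂ := by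
  suffices H : ∀ n, ∀ {Q₁ Q₂ : Subgroup G}, Q₁ ∈ Cfsg.maxInvSubgroups ⊤ A ({q} : Set ℕ) →
      Q₂ ∈ Cfsg.maxInvSubgroups ⊤ A ({q} : Set ℕ) → Q₁ ⊓ Q₂ ≠ ⊥ →
      Nat.card G - Nat.card ↥(Q₁ ⊓ Q₂) = n → ∃ k ∈ KA, MulAut.conj k • Q₁ = Q₂ from
    fun {_ _} h1 h2 h3 => H _ h1 h2 h3 rfl
  intro n
  induction n using Nat.strong_induction_on with
  | _ n ih =>
  intro Q₁ Q₂ h₁ h₂ hD hn
  have m₁ := Transitivity.mem_inv_iff.mp h₁.1
  have m₂ := Transitivity.mem_inv_iff.mp h₂.1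
  by_cases hD₁ : Q₁ ⊓ Q₂ = Q₁
  · exact ⟨1, one_mem _, by rw [map_one, one_smul]; exact (h₁.2 Q₂ h₂.1 (inf_eq_left.mp hD₁)).symm⟩
  by_cases hD₂ : Q₁ ⊓ Q₂ = Q₂
  · exact ⟨1, one_mem _, by rw [map_one, one_smul]; exact h₂.2 Q₁ h₁.1 (inf_eq_right.mp hD₂)⟩
  set D := Q₁ ⊓ Q₂ with hDdef
  set X := normalizer (D : Set G) with hXdef
  have hXne : X ≠ ⊤ := normalizer_ne_top hG hD (q_ne_top hG hA hqA (m₁.1.to_le inf_le_left))
  have hAX : A ≤ X := Grp.le_normalizer_inf' m₁.2 m₂.2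
  have hlt₁ : D < Q₁ ⊓ X := Grp.lt_inf_normalizer m₁.1.isNilpotent (lt_of_le_of_ne inf_le_left hD₁)
  have hlt₂ : D < Q₂ ⊓ X := Grp.lt_inf_normalizer m₂.1.isNilpotent (lt_of_le_of_ne inf_le_right hD₂)
  obtain ⟨R₁, R₂, S₂, hR₁, hR₂, hU₁, hU₂, hU₂S, hSR₂, c, hc, hcS⟩ := step hG hA hqA hXne hAX
    (inf_le_right : Q₁ ⊓ X ≤ X) (inf_le_right : Q₂ ⊓ X ≤ X) (m₁.1.to_le inf_le_left) (m₂.1.to_le inf_le_left)
    (Grp.le_normalizer_inf' m₁.2 (hAX.trans le_normalizer)) (Grp.le_normalizer_inf' m₂.2 (hAX.trans le_normalizer))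
  set R₃ := MulAut.conj c • R₁
  have hR₃ : R₃ ∈ Cfsg.maxInvSubgroups ⊤ A ({q} : Set ℕ) :=
    Transitivity.conj_mem_max hR₁ (K_le_centralizer hc)
  have hstep : ∀ {Y Z : Subgroup G}, Y ∈ Cfsg.maxInvSubgroups ⊤ A ({q} : Set ℕ) →
      Z ∈ Cfsg.maxInvSubgroups ⊤ A ({q} : Set ℕ) → D < Y ⊓ Z → ∃ k ∈ KA, MulAut.conj k • Y = Z := by
    intro Y Z hY hZ hlt
    refine ih _ ?_ hY hZ (fun e => by rw [e] at hlt; exact not_lt_bot hlt) rfl
    have h1 : Nat.card D < Nat.card ↥(Y ⊓ Z) :=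
      not_le.mp fun h => hlt.ne (Subgroup.eq_of_le_of_card_ge hlt.le h)
    have := Subgroup.card_le_card_group (Y ⊓ Z)
    rw [← hn]; omega
  obtain ⟨c₁, hc₁, e₁⟩ := hstep h₁ hR₁ (lt_of_lt_of_le hlt₁ (le_inf inf_le_left hU₁))
  obtain ⟨c₂, hc₂, e₂⟩ := hstep hR₂ h₂ (lt_of_lt_of_le hlt₂ (le_inf hU₂ inf_le_left))
  obtain ⟨c₃, hc₃, e₃⟩ := hstep hR₃ hR₂ (lt_of_lt_of_le hlt₂ (hU₂S.trans (le_inf hcS hSR₂)))
  refine ⟨c₂ * c₃ * c * c₁, mul_mem (mul_mem (mul_mem hc₂ hc₃) hc) hc₁, ?_⟩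
  rw [← Grp.conj_smul_conj_smul, ← Grp.conj_smul_conj_smul, ← Grp.conj_smul_conj_smul, e₁, e₃, e₂]

/-- Two maximal invariant subgroups meeting a proper subgroup over `A` are conjugate. -/
theorem conj_of_meet {Q₁ Q₂ : Subgroup G} (h₁ : Q₁ ∈ Cfsg.maxInvSubgroups ⊤ A ({q} : Set ℕ))
    (h₂ : Q₂ ∈ Cfsg.maxInvSubgroups ⊤ A ({q} : Set ℕ)) {H : Subgroup G} (hH : H ≠ ⊤) (hAH : A ≤ H)
    (hH₁ : H ⊓ Q₁ ≠ ⊥) (hH₂ : H ⊓ Q₂ ≠ ⊥) : ∃ k ∈ KA, MulAut.conj k • Q₁ = Q₂ := by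
  have m₁ := Transitivity.mem_inv_iff.mp h₁.1
  have m₂ := Transitivity.mem_inv_iff.mp h₂.1
  obtain ⟨R₁, R₂, S₂, hR₁, hR₂, hU₁, hU₂, hU₂S, hSR₂, c, hc, hcS⟩ := step hG hA hqA hH hAH
    (inf_le_left : H ⊓ Q₁ ≤ H) (inf_le_left : H ⊓ Q₂ ≤ H) (m₁.1.to_le inf_le_right) (m₂.1.to_le inf_le_right)
    (Grp.le_normalizer_inf' (hAH.trans le_normalizer) m₁.2) (Grp.le_normalizer_inf' (hAH.trans le_normalizer) m₂.2)
  obtain ⟨c₁, hc₁, e₁⟩ := conj_of_inf hG hA hqA h₁ hR₁ (ne_bot_of_le_ne_bot hH₁ (le_inf inf_le_right hU₁))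
  obtain ⟨c₂, hc₂, e₂⟩ := conj_of_inf hG hA hqA hR₂ h₂ (ne_bot_of_le_ne_bot hH₂ (le_inf hU₂ inf_le_right))
  obtain ⟨c₃, hc₃, e₃⟩ := conj_of_inf hG hA hqA (Transitivity.conj_mem_max hR₁ (K_le_centralizer hc)) hR₂
    (ne_bot_of_le_ne_bot hH₂ (hU₂S.trans (le_inf hcS hSR₂)))
  refine ⟨c₂ * c₃ * c * c₁, mul_mem (mul_mem (mul_mem hc₂ hc₃) hc) hc₁, ?_⟩
  rw [← Grp.conj_smul_conj_smul, ← Grp.conj_smul_conj_smul, ← Grp.conj_smul_conj_smul, e₁, e₃, e₂]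

omit hG hA in
/-- A noncyclic central elementary subgroup has a hyperplane with fixed points. -/
theorem exists_hyperplane {p : ℕ} [Fact p.Prime] {B Q : Subgroup G} (hB : Cfsg.IsElementaryAbelian p B) (hB1 : B ≠ ⊥)
    (hBA : B ≤ A) (hQ : IsPGroup q Q) (hBQ : B ≤ normalizer (Q : Set G)) (hQ1 : Q ≠ ⊥) :
    ∃ D ≤ B, D.relIndex B = p ∧ Q ⊓ centralizer (D : Set G) ≠ ⊥ := by
  by_contra hc
  push Not at hc
  refine hQ1 (eq_bot_iff.mpr (Grp.le_of_hyperplanes hB hB1 Q (fun hd => ?_) hBQ fun D hD hi => (hc D hD hi).le))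
  obtain ⟨x, hx⟩ := Subgroup.ne_bot_iff_exists_ne_one.mp hB1
  have hxp : orderOf x = p := orderOf_eq_prime (Subtype.ext (hB.2 x x.2)) hx
  have hpA : p ∣ Nat.card A := (hxp ▸ orderOf_dvd_natCard x).trans (card_dvd_of_le hBA)
  exact ((pi_of_q hqA hQ) p Fact.out hd).2 hpA

/-- The key step upwards: a nontrivial maximal `C`-invariant subgroup is maximal for `A`. -/
theorem max_of_max {C : Subgroup G} (hAC : A ≤ C) (hCπ : ∀ r : ℕ, r.Prime → r ∣ Nat.card C → r ∣ Nat.card A)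
    (hC : C ≠ ⊤) {Q : Subgroup G} (hQ : Q ∈ Cfsg.maxInvSubgroups ⊤ C ({q} : Set ℕ)) (hQ1 : Q ≠ ⊥) :
    Q ∈ Cfsg.maxInvSubgroups ⊤ A ({q} : Set ℕ) := by
  have mQ := Transitivity.mem_inv_iff.mp hQ.1
  obtain ⟨Q', hQ', hle⟩ := Transitivity.exists_max Q (Transitivity.mem_inv_iff.mpr ⟨mQ.1, hAC.trans mQ.2⟩)
  rcases eq_or_lt_of_le hle with e | hlt
  · exact e ▸ hQ'
  exfalso
  have m' := Transitivity.mem_inv_iff.mp hQ'.1
  set X := normalizer (Q : Set G) with hXdef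
  have hX : X ≠ ⊤ := normalizer_ne_top hG hQ1 (q_ne_top hG hA hqA mQ.1)
  have hAX : A ≤ X := hAC.trans mQ.2
  have hgrow := Grp.lt_inf_normalizer m'.1.isNilpotent hlt
  obtain ⟨S', hS', -, hUS'⟩ := exists_sylow hG hA hqA hX hAX (inf_le_right : Q' ⊓ X ≤ X)
    (m'.1.to_le inf_le_left) (Grp.le_normalizer_inf' m'.2 (hAX.trans le_normalizer))
  obtain ⟨S, hS, hSC, hQS⟩ := exists_invariant_sylow_ge C (Cfsg.piCoreOf πA X)
    (mQ.2.trans (le_normalizer_piCoreOf X))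
    (coprime_of_pi (fun r hr hd => piCoreOf_primes hr hd) hCπ) (Or.inl (hG.2.2.2 C hC))
    (le_core hG hA hX hAX le_normalizer (pi_of_q hqA mQ.1) hAX) mQ.1 mQ.2
  have hSQ : S = Q := hQ.2 S (Transitivity.mem_inv_iff.mpr ⟨hS.2.1, hSC⟩) hQS
  subst hSQ
  have h1 : Nat.card ↥(Q' ⊓ X) ≤ Nat.card S := by
    obtain ⟨c, -, e⟩ := invariant_sylow_conj ⊥ (Cfsg.piCoreOf πA X) bot_le (by simp) (Or.inl inferInstance)
      hS' hS bot_le bot_le
    rw [← e, ← Grp.map_conj_eq_smul, Subgroup.card_map_of_injective (MulAut.conj c).injective]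
    exact Subgroup.card_le_of_le hUS'
  exact hgrow.ne (Subgroup.eq_of_le_of_card_ge hgrow.le h1)

omit hqA in
theorem K_inf_centralizer {B : Subgroup G} (hAB : A ≤ B) :
    KA ⊓ centralizer (B : Set G) = Cfsg.piCoreOf πA (centralizer (B : Set G)) := by
  refine le_antisymm (le_piCoreOf inf_le_right (fun c hc => ?_) fun r hr hd =>
    piCoreOf_primes hr (hd.trans (card_dvd_of_le inf_le_left))) (le_inf (le_K hG hA
      (fun r hr hd => piCoreOf_primes hr hd) ((piCoreOf_le _).trans (centralizer_le hAB))) (piCoreOf_le _))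
  exact Grp.le_normalizer_inf' (A := centralizer (B : Set G))
    ((centralizer_le hAB).trans (le_normalizer_piCoreOf (centralizer (A : Set G)))) le_normalizer hc

theorem good_step {B C : Subgroup G} (hB : Good A q B) (hBC : B ≤ C) (hCB : C ≤ normalizer (B : Set G))
    (hCπ : ∀ r : ℕ, r.Prime → r ∣ Nat.card C → r ∣ Nat.card A) (hC : C ≠ ⊤) : Good A q C := by
  obtain ⟨hAB, hsub, htr⟩ := hB
  letI := conjActSubgroup G
  set KB := KA ⊓ centralizer (B : Set G) with hKB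
  set Ω := Cfsg.maxInvSubgroups ⊤ B ({q} : Set ℕ) with hΩ
  have hCK : C ≤ normalizer (KB : Set G) := by
    rw [hKB, K_inf_centralizer hG hA hAB]
    refine le_trans (fun c hc => ?_) (normalizer_le_piCoreOf _)
    refine Subgroup.mem_normalizer_iff.mpr fun g => ?_
    have hcB := Subgroup.mem_normalizer_iff.mp (hCB hc)
    have hconj : ∀ {x : G} (_ : x ∈ normalizer (B : Set G)) {g : G} (_ : g ∈ centralizer (B : Set G)),
        x * g * x⁻¹ ∈ centralizer (B : Set G) := fun {x} hx {g} hg => Subgroup.mem_centralizer_iff.mpr fun b hb => by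
      have := Subgroup.mem_centralizer_iff.mp hg _ (Grp.mem_conj_normalizer' hx hb)
      calc b * (x * g * x⁻¹) = x * ((x⁻¹ * b * x) * g) * x⁻¹ := by group
        _ = x * (g * (x⁻¹ * b * x)) * x⁻¹ := by rw [this]
        _ = _ := by group
    refine ⟨hconj (hCB hc), fun hg => ?_⟩
    have := hconj (inv_mem (hCB hc)) hg
    simpa [mul_assoc] using this
  have hcop : (Nat.card C).Coprime (Nat.card KB) :=
    coprime_of_pi (fun r hr hd => piCoreOf_primes (π := πA) hr (hd.trans (card_dvd_of_le inf_le_left))) hCπ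
  have hsolv : Group.IsSolvable C ∨ Group.IsSolvable KB := Or.inl (hG.2.2.2 C hC)
  have hne : Ω.Nonempty := by
    obtain ⟨Q, hQ, -⟩ := Transitivity.exists_max (E := B) (q := q) ⊥ (Transitivity.mem_inv_iff.mpr
      ⟨IsPGroup.of_bot, by rw [Subgroup.normalizer_eq_top]; exact le_top⟩)
    exact ⟨Q, hQ⟩
  have hCΩ : ∀ c ∈ normalizer (B : Set G), ∀ Q ∈ Ω, MulAut.conj c • Q ∈ Ω := by
    have hinv : ∀ c ∈ normalizer (B : Set G), ∀ Q ∈ Cfsg.invSubgroups ⊤ B ({q} : Set ℕ),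
        MulAut.conj c • Q ∈ Cfsg.invSubgroups ⊤ B ({q} : Set ℕ) := by
      intro c hc Q hQ
      rw [Transitivity.mem_inv_iff] at hQ ⊢
      refine ⟨by rw [← Grp.map_conj_eq_smul]; exact hQ.1.map _, fun b hb => ?_⟩
      have := Grp.mem_normalizer_iff_smul.mp (hQ.2 (Grp.mem_conj_normalizer' hc hb))
      rw [Grp.mem_normalizer_iff_smul, Grp.conj_smul_conj_smul]
      conv_rhs => rw [← this, Grp.conj_smul_conj_smul]
      congr 2; group
    refine fun c hc Q hQ => ⟨hinv c hc Q hQ.1, fun R hR hle => ?_⟩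
    have hle' : Q ≤ MulAut.conj c⁻¹ • R := by
      have := Subgroup.pointwise_smul_le_pointwise_smul_iff (a := MulAut.conj c⁻¹) |>.mpr hle
      rwa [Grp.conj_smul_conj_smul, inv_mul_cancel, map_one, one_smul] at this
    rw [← hQ.2 _ (hinv c⁻¹ (inv_mem hc) R hR) hle', Grp.conj_smul_conj_smul, mul_inv_cancel, map_one, one_smul]
  obtain ⟨Q₀, hQ₀, hfix⟩ := exists_fixed_point C KB Ω hCK hcop hsolv hne
    (fun c hc Q hQ => hCΩ c (hCB hc) Q hQ)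
    (fun k hk Q hQ => hCΩ k (centralizer_le_normalizer _ hk.2) Q hQ) htr
  have hQ₀C : C ≤ normalizer (Q₀ : Set G) := fun c hc => Grp.mem_normalizer_iff_smul.mpr (hfix c hc)
  have hfull : Cfsg.maxInvSubgroups ⊤ C ({q} : Set ℕ) ⊆ Cfsg.maxInvSubgroups ⊤ A ({q} : Set ℕ) := by
    intro Q hQ
    by_cases hQ1 : Q = ⊥
    · have h0 : Q₀ = Q := hQ.2 Q₀ (Transitivity.mem_inv_iff.mpr
        ⟨(Transitivity.mem_inv_iff.mp hQ₀.1).1, hQ₀C⟩) (hQ1 ▸ bot_le)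
      exact h0 ▸ hsub hQ₀
    · exact max_of_max hG hA hqA (hAB.trans hBC) hCπ hC hQ hQ1
  refine ⟨hAB.trans hBC, hfull, fun Q₁ h₁ Q₂ h₂ => ?_⟩
  have hmem : ∀ Q ∈ Cfsg.maxInvSubgroups ⊤ C ({q} : Set ℕ), Q ∈ Ω ∧ C ≤ normalizer (Q : Set G) := by
    intro Q hQ
    have m := Transitivity.mem_inv_iff.mp hQ.1
    exact ⟨⟨Transitivity.mem_inv_iff.mpr ⟨m.1, hBC.trans m.2⟩, fun R hR hle => (hfull hQ).2 R
      (Transitivity.mem_inv_iff.mpr ⟨(Transitivity.mem_inv_iff.mp hR).1, hAB.trans (Transitivity.mem_inv_iff.mp hR).2⟩) hle⟩, m.2⟩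
  obtain ⟨hm₁, hn₁⟩ := hmem Q₁ h₁
  obtain ⟨hm₂, hn₂⟩ := hmem Q₂ h₂
  obtain ⟨k, hk, e⟩ := exists_centralizer_smul C KB Ω hCK hcop hsolv htr hm₁ hm₂
    (fun c hc => Grp.mem_normalizer_iff_smul.mp (hn₁ hc)) (fun c hc => Grp.mem_normalizer_iff_smul.mp (hn₂ hc))
  exact ⟨k, ⟨hk.1.1, hk.2⟩, e⟩

theorem good_of_subnormal (htr : ∀ Q₁ ∈ Cfsg.maxInvSubgroups ⊤ A ({q} : Set ℕ),
      ∀ Q₂ ∈ Cfsg.maxInvSubgroups ⊤ A ({q} : Set ℕ), ∃ k ∈ KA, MulAut.conj k • Q₁ = Q₂)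
    {P : Subgroup G} (hP : P ≠ ⊤) (hPπ : ∀ r : ℕ, r.Prime → r ∣ Nat.card P → r ∣ Nat.card A) (hAP : A ≤ P)
    (hsn : (A.subgroupOf P).IsSubnormal) : Good A q P := by
  have key : ∀ H : Subgroup P, H.IsSubnormal → Good A q (H.map P.subtype) → Good A q P := by
    intro H hH
    induction hH with
    | top => intro h; rwa [← MonoidHom.range_eq_map, Subgroup.range_subtype] at h
    | step H K hle _ hN ih =>
      intro h
      refine ih (good_step hG hA hqA h (map_mono hle) ?_ (fun r hr hd => hPπ r hr (hd.trans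
        (card_dvd_of_le (map_subtype_le _)))) fun e => hP (top_le_iff.mp (e ▸ map_subtype_le _)))
      exact (map_mono ((normal_subgroupOf_iff_le_normalizer hle).mp hN)).trans (le_normalizer_map _)
  refine key _ hsn ?_
  rw [map_subgroupOf_eq_of_le hAP]
  refine ⟨le_rfl, fun _ h => h, fun Q₁ h₁ Q₂ h₂ => ?_⟩
  obtain ⟨k, hk, e⟩ := htr Q₁ h₁ Q₂ h₂
  exact ⟨k, ⟨hk, piCoreOf_le _ hk⟩, e⟩

end Cfsg.Agent.Transfer.TransHyp
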