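import Cfsg.Agent.Lib.Grp.Cores
import Cfsg.Agent.Lib.Grp.PSolvable
import Cfsg.Agent.Lib.Grp.PComponents

/-!
Groups of `p`-length at most one: the Sylow subgroup is normal modulo the `p'`-core.
-/

set_option autoImplicit false
set_option linter.style.haveILetI false

namespace Cfsg.Agent.Transfer.PLengthOne

open Cfsg.Agent.Grp

variable {G : Type*} [Group G] [Finite G] {p : ℕ} [hp : Fact p.Prime]

theorem index_pCore [hN : (Cfsg.pPrimeCore p G).Normal] (h : Cfsg.PLengthLE p 1 G) :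
    ¬ p ∣ (Cfsg.pCore p (G ⧸ Cfsg.pPrimeCore p G)).index := by
  set U1 := (Cfsg.upperPSeries p G 1).1 with hU1'
  set U2 := (Cfsg.upperPSeries p G 2).1 with hU2'
  have hU1n : U1.Normal := (Cfsg.upperPSeries p G 1).2
  have hU2n : U2.Normal := (Cfsg.upperPSeries p G 2).2
  have hU1 : U1 = Cfsg.pPrimeCore p G := by
    have hb : (Cfsg.upperPSeries p G 0).1 = ⊥ := rfl
    set f := QuotientGroup.mk' (Cfsg.upperPSeries p G 0).1
    have e : U1 = (Cfsg.pPrimeCore p (G ⧸ (Cfsg.upperPSeries p G 0).1)).comap f := by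
      show (Cfsg.upperPSeries p G (0 + 1)).1 = _
      rw [Cfsg.upperPSeries]
      simp [f]
    have hinj : Function.Injective f := by rw [← MonoidHom.ker_eq_bot_iff, QuotientGroup.ker_mk', hb]
    have hsurj : Function.Surjective f := QuotientGroup.mk'_surjective _
    have hM := pPrimeCore_isNormal (p := p) (G := G ⧸ (Cfsg.upperPSeries p G 0).1)
    rw [e]
    refine le_antisymm (le_pPrimeCore (hM.comap f) ?_) ?_
    · rw [← Subgroup.card_map_of_injective hinj (K := Subgroup.comap f _),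
        Subgroup.map_comap_eq_self_of_surjective hsurj]
      exact pPrimeCore_coprime
    · rw [← Subgroup.map_le_iff_le_comap]
      refine le_pPrimeCore (hN.map f hsurj) ?_
      rw [Subgroup.card_map_of_injective hinj]
      exact pPrimeCore_coprime
  have hU2 : U2 = (Cfsg.pCore p (G ⧸ U1)).comap (QuotientGroup.mk' U1) := by
    show (Cfsg.upperPSeries p G (1 + 1)).1 = _
    rw [Cfsg.upperPSeries]
    simp [U1]
  have h3 : (Cfsg.pPrimeCore p (G ⧸ U2)).comap (QuotientGroup.mk' U2) = ⊤ := by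
    have h' : (Cfsg.upperPSeries p G (2 + 1)).1 = ⊤ := h
    rw [Cfsg.upperPSeries] at h'
    simpa [show Even 2 from even_two] using h'
  have htop : Cfsg.pPrimeCore p (G ⧸ U2) = ⊤ := by
    rw [← Subgroup.map_comap_eq_self_of_surjective (QuotientGroup.mk'_surjective U2)
      (Cfsg.pPrimeCore p (G ⧸ U2)), h3]
    exact Subgroup.map_top_of_surjective _ (QuotientGroup.mk'_surjective U2)
  have hidx : ¬ p ∣ U2.index := by
    have h4 := pPrimeCore_not_dvd (p := p) (G := G ⧸ U2)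
    rwa [htop, Subgroup.card_top, ← Subgroup.index_eq_card] at h4
  rw [hU2, Subgroup.index_comap_of_surjective _ (QuotientGroup.mk'_surjective U1)] at hidx
  clear_value U1
  subst hU1
  exact hidx

theorem map_sylow [hN : (Cfsg.pPrimeCore p G).Normal] (h : Cfsg.PLengthLE p 1 G) (P : Sylow p G) :
    (P : Subgroup G).map (QuotientGroup.mk' (Cfsg.pPrimeCore p G)) =
      Cfsg.pCore p (G ⧸ Cfsg.pPrimeCore p G) := by
  set f := QuotientGroup.mk' (Cfsg.pPrimeCore p G)
  let R : Sylow p (G ⧸ Cfsg.pPrimeCore p G) :=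
    IsPGroup.toSylow (pCore_isPGroup (p := p) (G := G ⧸ Cfsg.pPrimeCore p G)) (index_pCore h)
  exact R.3 (P.2.map f) (pCore_le_sylow (P.mapSurjective (QuotientGroup.mk'_surjective _)))

theorem isPSolvable_quotient [hN : (Cfsg.pPrimeCore p G).Normal] (h : Cfsg.PLengthLE p 1 G) :
    Cfsg.IsPSolvable p (G ⧸ Cfsg.pPrimeCore p G) := by
  set R := Cfsg.pCore p (G ⧸ Cfsg.pPrimeCore p G)
  have hR : R.Normal := pCore_isNormal
  obtain ⟨m, hm⟩ := IsPGroup.iff_card.1 (pCore_isPGroup (p := p) (G := G ⧸ Cfsg.pPrimeCore p G))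
  refine ⟨2, ![⊥, R, ⊤], rfl, rfl, ?_, ?_, ?_⟩
  · refine Fin.monotone_iff_le_succ.2 ?_
    rw [Fin.forall_fin_two]
    exact ⟨bot_le, le_top⟩
  · intro i
    fin_cases i
    · exact Subgroup.normal_bot
    · exact hR
    · exact Subgroup.normal_top
  · rw [Fin.forall_fin_two]
    refine ⟨Or.inl ⟨m, ?_⟩, Or.inr ?_⟩
    · show (⊥ : Subgroup (G ⧸ Cfsg.pPrimeCore p G)).relIndex R = p ^ m
      rw [Subgroup.relIndex_bot_left, hm]
    · show (R.relIndex ⊤).Coprime p
      rw [Subgroup.relIndex_top_right]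
      exact (hp.out.coprime_iff_not_dvd.2 (index_pCore h)).symm

theorem centralizer_pCore_le [hN : (Cfsg.pPrimeCore p G).Normal] (h : Cfsg.PLengthLE p 1 G) :
    Subgroup.centralizer (Cfsg.pCore p (G ⧸ Cfsg.pPrimeCore p G) : Set (G ⧸ Cfsg.pPrimeCore p G)) ≤
      Cfsg.pCore p (G ⧸ Cfsg.pPrimeCore p G) :=
  centralizer_pCore_le_of_pSolvable (isPSolvable_quotient h) pPrimeCore_quotient_bot

theorem sylow_inf_pPrimeCore (P : Sylow p G) : (P : Subgroup G) ⊓ Cfsg.pPrimeCore p G = ⊥ := by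
  obtain ⟨n, hn⟩ := IsPGroup.iff_card.1 P.2
  refine Subgroup.inf_eq_bot_of_coprime ?_
  rw [hn]
  exact (pPrimeCore_coprime (p := p) (G := G)).symm.pow_left n

theorem eq_of_map_eq (P : Sylow p G) [hN : (Cfsg.pPrimeCore p G).Normal] {x y : G}
    (hx : x ∈ (P : Subgroup G)) (hy : y ∈ (P : Subgroup G))
    (h : QuotientGroup.mk' (Cfsg.pPrimeCore p G) x = QuotientGroup.mk' (Cfsg.pPrimeCore p G) y) : x = y := by
  have h1 : x⁻¹ * y ∈ (P : Subgroup G) ⊓ Cfsg.pPrimeCore p G :=
    ⟨(P : Subgroup G).mul_mem ((P : Subgroup G).inv_mem hx) hy, QuotientGroup.eq.1 h⟩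
  rw [sylow_inf_pPrimeCore, Subgroup.mem_bot, inv_mul_eq_one] at h1
  exact h1

theorem sup_normalizer_eq_top [hN : (Cfsg.pPrimeCore p G).Normal] (h : Cfsg.PLengthLE p 1 G) (P : Sylow p G) :
    Cfsg.pPrimeCore p G ⊔ Subgroup.normalizer ((P : Subgroup G) : Set G) = ⊤ := by
  set M := (Cfsg.pCore p (G ⧸ Cfsg.pPrimeCore p G)).comap (QuotientGroup.mk' (Cfsg.pPrimeCore p G)) with hM
  haveI : M.Normal := (pCore_isNormal).comap _
  have hPM : (P : Subgroup G) ≤ M := Subgroup.map_le_iff_le_comap.1 (map_sylow h P).le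
  have hMle : M ≤ Cfsg.pPrimeCore p G ⊔ (P : Subgroup G) := by
    rw [hM, ← map_sylow h P, Subgroup.comap_map_eq, QuotientGroup.ker_mk', sup_comm]
  refine top_le_iff.1 ((Sylow.normalizer_sup_eq_top' P hPM).ge.trans (sup_le le_sup_right ?_))
  exact hMle.trans (sup_le_sup_left Subgroup.le_normalizer _)

/-- Thompson's `A × B` lemma for an automorphism of order prime to `p`. -/
theorem aut_eq_one_of_fixed_self_centralizing {P : Type*} [Group P] [Finite P] (hP : IsPGroup p P)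
    {H : Subgroup P} (hC : Subgroup.centralizer (H : Set P) ≤ H) {a : MulAut P} (ha : (orderOf a).Coprime p)
    (h : ∀ x ∈ H, a x = x) : a = 1 := by
  let M : Subgroup P := MonoidHom.eqLocus a.toMonoidHom (MonoidHom.id P)
  have hHM : H ≤ M := h
  by_contra hne
  have hMt : M < ⊤ := lt_top_iff_ne_top.2 fun e => hne (MulEquiv.ext fun x =>
    show x ∈ M from e ▸ Subgroup.mem_top x)
  haveI := hP.isNilpotent
  obtain ⟨x, hxN, hxM⟩ := SetLike.exists_of_lt (Group.normalizerCondition_of_isNilpotent M hMt)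
  refine hxM ?_
  have h1 : x⁻¹ * a x ∈ H := by
    refine hC (Subgroup.mem_centralizer_iff.2 fun y hy => ?_)
    have h2 : a (x * y * x⁻¹) = x * y * x⁻¹ := (Subgroup.mem_normalizer_iff.1 hxN y).1 (hHM hy)
    rw [map_mul, map_mul, map_inv, h y hy] at h2
    calc y * (x⁻¹ * a x) = x⁻¹ * (x * y * x⁻¹) * a x := by group
      _ = x⁻¹ * (a x * y * (a x)⁻¹) * a x := by rw [h2]
      _ = x⁻¹ * a x * y := by group
  set d := x⁻¹ * a x with hd
  have hax : a x = x * d := by rw [hd, mul_inv_cancel_left]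
  have hpow : ∀ m : ℕ, (a ^ m) x = x * d ^ m := fun m => by
    induction m with
    | zero => simp
    | succ m ih => rw [pow_succ', MulAut.mul_apply, ih, map_mul, map_pow, h d h1, hax, pow_succ', mul_assoc]
  have h2 := hpow (orderOf a)
  rw [pow_orderOf_eq_one, MulAut.one_apply] at h2
  have h3 : orderOf d ∣ orderOf a :=
    orderOf_dvd_of_pow_eq_one (mul_left_cancel (h2.symm.trans (mul_one x).symm))
  obtain ⟨k, hk⟩ := IsPGroup.iff_orderOf.1 hP d
  have h5 := orderOf_eq_one_iff.1 (Nat.eq_one_of_dvd_coprimes (ha.pow_right k) h3 hk.dvd)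
  show a x = x
  rw [hax, h5, mul_one]

end Cfsg.Agent.Transfer.PLengthOne
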