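import Mathlib
import Cfsg.Prelude.Def_PLocal
import Cfsg.Prelude.Def_OddOrderLocal
import Cfsg.Agent.Lib.Transfer.NormalSteps
import Cfsg.Agent.Lib.Transfer.Regular
import Cfsg.Agent.Lib.Grp.ExponentClosed
import Cfsg.Agent.Lib.Grp.RankThreeFour
import Cfsg.Agent.Lib.Grp.GaschutzYen
import Cfsg.Agent.Lib.Grp.Frattini
import Cfsg.Agent.S0130

/-!
`p`-groups of rank at most two for `p > 3`: the elements of order dividing `p` form a subgroup, and
Huppert's metacyclicity criterion.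
-/

set_option autoImplicit false
set_option linter.style.haveILetI false
set_option linter.unusedSectionVars false
set_option maxHeartbeats 1000000

namespace Cfsg.Agent.Transfer.RankTwo

open Subgroup
open scoped commutatorElement

universe u

variable {p : ℕ} [hp : Fact p.Prime]

/-- Every subgroup of exponent `p` has order at most `p²`. -/
def OmegaLE (p : ℕ) (R : Type*) [Group R] : Prop :=
  ∀ K : Subgroup R, (∀ x ∈ K, x ^ p = 1) → Nat.card K ≤ p ^ 2

theorem rankLE_subgroup {R : Type*} [Group R] (h : Cfsg.PRankLE p 2 R) (H : Subgroup R) :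
    Cfsg.PRankLE p 2 H := by
  intro A hA hAe
  rw [← Subgroup.card_map_of_injective H.subtype_injective]
  haveI := hA
  refine h _ inferInstance ?_
  rintro _ ⟨a, ha, rfl⟩
  rw [← map_pow, hAe a ha, map_one]

theorem omegaLE_subgroup {R : Type*} [Group R] (h : OmegaLE p R) (H : Subgroup R) :
    OmegaLE p H := by
  intro K hK
  rw [← Subgroup.card_map_of_injective H.subtype_injective]
  refine h _ ?_
  rintro _ ⟨a, ha, rfl⟩
  rw [← map_pow, hK a ha, map_one]

theorem OmegaLE.rankLE {R : Type*} [Group R] (h : OmegaLE p R) : Cfsg.PRankLE p 2 R :=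
  fun A _ hA => h A hA

/-- A normal subgroup contains normal subgroups of every smaller order. -/
theorem exists_normal_card {R : Type*} [Group R] [Finite R] (hR : IsPGroup p R) (N : Subgroup R)
    [hN : N.Normal] : ∀ k : ℕ, p ^ k ≤ Nat.card N →
      ∃ L : Subgroup R, L.Normal ∧ L ≤ N ∧ Nat.card L = p ^ k := by
  intro k
  induction k with
  | zero => exact fun _ => ⟨⊥, inferInstance, bot_le, by simp⟩
  | succ k ih =>
    intro hk
    have hlt : p ^ k < p ^ (k + 1) := Nat.pow_lt_pow_right hp.out.one_lt (Nat.lt_succ_self k)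
    obtain ⟨L, hLn, hLN, hLc⟩ := ih (hlt.le.trans hk)
    haveI := hLn
    obtain ⟨L', hL'n, -, hL'N, hL'c, -⟩ := NormalSteps.exists_normal_step hR (lt_of_le_of_ne hLN fun e => by
      rw [← e, hLc] at hk; omega)
    exact ⟨L', hL'n, hL'N, by rw [hL'c, hLc, pow_succ']⟩

/-- A maximal normal abelian subgroup of exponent `p` contains all elements of order `p` centralizing it. -/
theorem exists_normal_omega_max {R : Type*} [Group R] [Finite R] (hp2 : p ≠ 2) (hR : IsPGroup p R) :
    ∃ A : Subgroup R, A.Normal ∧ IsMulCommutative A ∧ (∀ a ∈ A, a ^ p = 1) ∧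
      ∀ x ∈ Subgroup.centralizer (A : Set R), x ^ p = 1 → x ∈ A := by
  classical
  haveI : Nonempty {A : Subgroup R // A.Normal ∧ IsMulCommutative A ∧ ∀ a ∈ A, a ^ p = 1} :=
    ⟨⟨⊥, inferInstance, ⟨⟨fun a b => Subsingleton.elim _ _⟩⟩, fun a ha => by rw [Subgroup.mem_bot.mp ha, one_pow]⟩⟩
  obtain ⟨⟨A, hAn, hAab, hAe⟩, hmax⟩ := Finite.exists_max
    (fun A : {A : Subgroup R // A.Normal ∧ IsMulCommutative A ∧ ∀ a ∈ A, a ^ p = 1} => Nat.card A.1)
  haveI := hAn
  refine ⟨A, hAn, hAab, hAe, fun x hx hxp => S0130.result hR 1 (by simpa using hp2) A hAab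
    (by simpa using hAe) (fun B hBn hBc hBe hAB => ?_) x hx (by simpa using hxp)⟩
  exact (Subgroup.eq_of_le_of_card_ge hAB (hmax ⟨B, hBn, hBc, by simpa using hBe⟩)).symm

/-- A group of exponent `p` and rank at most two has order at most `p³`. -/
theorem card_le_cube {R : Type*} [Group R] [Finite R] (hR : IsPGroup p R) (hrk : Cfsg.PRankLE p 2 R)
    (he : ∀ x : R, x ^ p = 1) : Nat.card R ≤ p ^ 3 := by
  classical
  haveI : Nonempty {A : Subgroup R // A.Normal ∧ IsMulCommutative A} :=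
    ⟨⟨⊥, inferInstance, ⟨⟨fun a b => Subsingleton.elim _ _⟩⟩⟩⟩
  obtain ⟨⟨A, hAn, hAab⟩, hmax⟩ := Finite.exists_max
    (fun A : {A : Subgroup R // A.Normal ∧ IsMulCommutative A} => Nat.card A.1)
  haveI := hAn
  have hC := NormalSteps.centralizer_eq_of_max hR hAab fun B hBn hBc hAB =>
    (Subgroup.eq_of_le_of_card_ge hAB (hmax ⟨B, hBn, hBc⟩)).symm
  have hA := hrk A hAab fun a _ => he a
  have hi := Grp.RankThree.index_centralizer_le hR hAab hA
  rw [hC] at hi
  rw [← Subgroup.card_mul_index A, pow_succ p 2]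
  exact Nat.mul_le_mul hA hi

/-- Groups of order at most `p⁴`, `p > 3`, are regular. -/
theorem isRegular_of_card_le {R : Type*} [Group R] [Finite R] (hp5 : 3 < p) (hR : IsPGroup p R)
    (hc : Nat.card R ≤ p ^ 4) : Cfsg.IsRegularPGroup p R := by
  refine Grp.isRegularPGroup_of_class_lt hR ?_
  have h5 : 5 ≤ p := by
    by_contra h
    exact absurd (show p = 4 by omega ▸ hp.out) (by decide)
  rw [eq_bot_iff]
  refine le_trans (Subgroup.lowerCentralSeries_antitone _ (show 4 ≤ p - 1 by omega)) ?_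
  rw [le_bot_iff]
  by_contra hne
  have h := Grp.pow_le_card_lowerCentralSeries hR 4 0 (by simpa using hne)
  rw [Subgroup.lowerCentralSeries_zero, Subgroup.card_top] at h
  have hlt : p ^ 4 < p ^ (4 + 1) := Nat.pow_lt_pow_right hp.out.one_lt (Nat.lt_succ_self 4)
  omega

/-- For `p > 3` and rank at most two, the elements of order dividing `p` form a subgroup. -/
theorem pow_mul_eq_one_aux (hp5 : 3 < p) : ∀ (n : ℕ) (R : Type u) [Group R] [Finite R],
    Nat.card R = n → IsPGroup p R → Cfsg.PRankLE p 2 R →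
      ∀ x y : R, x ^ p = 1 → y ^ p = 1 → (x * y) ^ p = 1 := by
  intro n
  induction n using Nat.strong_induction_on with
  | _ n ih =>
  intro R _ _ hn hR hrk x y hx hy
  haveI := hR.isNilpotent
  have hsub : ∀ S : Subgroup R, S ≠ ⊤ → ∀ a ∈ S, ∀ b ∈ S, a ^ p = 1 → b ^ p = 1 → (a * b) ^ p = 1 := by
    intro S hS a ha b hb hap hbp
    have hlt : Nat.card S < n := hn ▸ lt_of_le_of_ne (Subgroup.card_le_card_group S)
      fun e => hS (Subgroup.eq_top_of_card_eq S e)
    exact congrArg Subtype.val (ih _ hlt S rfl (hR.to_subgroup S) (rankLE_subgroup hrk S) ⟨a, ha⟩ ⟨b, hb⟩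
      (Subtype.ext hap) (Subtype.ext hbp))
  by_cases hS : Subgroup.closure ({x, y} : Set R) = ⊤
  swap
  · exact hsub _ hS x (Subgroup.subset_closure (Set.mem_insert _ _)) y
      (Subgroup.subset_closure (Set.mem_insert_of_mem _ rfl)) hx hy
  by_cases hxt : Subgroup.zpowers x = ⊤
  · obtain ⟨i, hi⟩ := Subgroup.mem_zpowers_iff.mp (hxt.ge (Subgroup.mem_top y))
    rw [← hi] at hy ⊢
    rw [((Commute.refl x).zpow_right i).mul_pow, hx, hy, one_mul]
  obtain ⟨M, hM, hxM⟩ := (eq_top_or_exists_le_coatom (Subgroup.zpowers x)).resolve_left hxt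
  haveI : M.Normal := Grp.coatom_normal_of_nilpotent hM
  let K : Subgroup R :=
    { carrier := {g | g ∈ M ∧ g ^ p = 1}
      one_mem' := ⟨one_mem _, one_pow _⟩
      mul_mem' := fun {a b} ha hb => ⟨mul_mem ha.1 hb.1, hsub M hM.1 a ha.1 b hb.1 ha.2 hb.2⟩
      inv_mem' := fun {a} ha => ⟨inv_mem ha.1, by rw [inv_pow, ha.2, inv_one]⟩ }
  haveI : K.Normal := ⟨fun a ha g => ⟨Subgroup.Normal.conj_mem inferInstance a ha.1 g,
    by rw [conj_pow, ha.2, mul_one, mul_inv_cancel]⟩⟩
  have hK : Nat.card K ≤ p ^ 3 := card_le_cube (hR.to_subgroup K) (rankLE_subgroup hrk K)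
    fun g => Subtype.ext g.2.2
  have htop : Subgroup.zpowers y ⊔ K = ⊤ := by
    rw [eq_top_iff, ← hS, Subgroup.closure_le, Set.insert_subset_iff, Set.singleton_subset_iff]
    exact ⟨Subgroup.mem_sup_right ⟨hxM (Subgroup.mem_zpowers x), hx⟩,
      Subgroup.mem_sup_left (Subgroup.mem_zpowers y)⟩
  have hc : Nat.card R ≤ p ^ 4 := by
    have h := Grp.card_sup_mul_card_inf_normal (H := Subgroup.zpowers y) (N := K)
    rw [htop, Subgroup.card_top, Nat.card_zpowers] at h
    have h1 : orderOf y ≤ p := Nat.le_of_dvd hp.out.pos (orderOf_dvd_of_pow_eq_one hy)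
    calc Nat.card R ≤ Nat.card R * Nat.card ↥(Subgroup.zpowers y ⊓ K) := Nat.le_mul_of_pos_right _ Nat.card_pos
      _ = orderOf y * Nat.card K := h
      _ ≤ p * p ^ 3 := Nat.mul_le_mul h1 hK
      _ = p ^ 4 := by ring
  simpa using Regular.pow_mul_eq_one (isRegular_of_card_le hp5 hR hc) (k := 1) (a := x) (b := y)
    (by simpa using hx) (by simpa using hy)

theorem pow_mul_eq_one {R : Type u} [Group R] [Finite R] (hp5 : 3 < p) (hR : IsPGroup p R)
    (hrk : Cfsg.PRankLE p 2 R) {x y : R} (hx : x ^ p = 1) (hy : y ^ p = 1) : (x * y) ^ p = 1 :=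
  pow_mul_eq_one_aux hp5 _ R rfl hR hrk x y hx hy

theorem pow_eq_one_of_mem_closure {R : Type u} [Group R] [Finite R] (hp5 : 3 < p) (hR : IsPGroup p R)
    (hrk : Cfsg.PRankLE p 2 R) {s : Set R} (hs : ∀ x ∈ s, x ^ p = 1) {g : R}
    (hg : g ∈ Subgroup.closure s) : g ^ p = 1 :=
  Subgroup.closure_induction (p := fun x _ => x ^ p = 1) hs (one_pow p)
    (fun _ _ _ _ ha hb => pow_mul_eq_one hp5 hR hrk ha hb)
    (fun a _ ha => by rw [inv_pow, ha, inv_one]) hg

theorem omegaLE_of_card {R : Type*} [Group R] [Finite R]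
    (h : Nat.card ↥(Cfsg.omegaOne p (⊤ : Subgroup R)) ≤ p ^ 2) : OmegaLE p R := fun _ hK =>
  le_trans (Subgroup.card_le_of_le (K := Cfsg.omegaOne p (⊤ : Subgroup R)) fun x hx => Subgroup.subset_closure ⟨Subgroup.mem_top x, hK x hx⟩) h

theorem card_omega_le {R : Type u} [Group R] [Finite R] (hp5 : 3 < p) (hR : IsPGroup p R)
    (h : OmegaLE p R) : Nat.card ↥(Cfsg.omegaOne p (⊤ : Subgroup R)) ≤ p ^ 2 :=
  h _ fun _ hx => pow_eq_one_of_mem_closure hp5 hR h.rankLE (fun _ hy => hy.2) hx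

theorem omegaLE_quotient_prime {R : Type u} [Group R] [Finite R] (hp5 : 3 < p) (hR : IsPGroup p R)
    (h : OmegaLE p R) (T : Subgroup R) [T.Normal] (hT : Nat.card T = p) : OmegaLE p (R ⧸ T) := by
  intro K hK
  by_contra hlt
  obtain ⟨j, hj⟩ := IsPGroup.iff_card.mp ((hR.to_quotient T).to_subgroup K)
  have hj3 : 3 ≤ j := by
    by_contra h'
    exact hlt (hj ▸ Nat.pow_le_pow_right hp.out.pos (by omega))
  obtain ⟨L, hL⟩ := Sylow.exists_subgroup_card_pow_prime p (G := K) (n := 3) (hj ▸ pow_dvd_pow p hj3)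
  set L' := L.map K.subtype with hL'
  have hLc : Nat.card L' = p ^ 3 := by rw [hL', Subgroup.card_map_of_injective K.subtype_injective, hL]
  set H := L'.comap (QuotientGroup.mk' T) with hH
  have hHc : Nat.card H = p ^ 4 := by
    have h1 := Subgroup.card_mul_index H
    rw [hH, Subgroup.index_comap_of_surjective _ (QuotientGroup.mk'_surjective T)] at h1
    have h2 := Subgroup.card_mul_index L'
    have h3 := Subgroup.card_mul_index T
    rw [hT, Subgroup.index, ← h2, hLc] at h3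
    refine Nat.eq_of_mul_eq_mul_right (m := L'.index) (Nat.pos_of_ne_zero Subgroup.index_ne_zero_of_finite) ?_
    rw [← hH] at h1
    rw [h1, ← h3]; ring
  have hreg := isRegular_of_card_le hp5 (hR.to_subgroup H) hHc.le
  have hTp : ∀ g : H, (g : R) ^ p ∈ T := fun g => by
    rw [← QuotientGroup.eq_one_iff]
    obtain ⟨k, -, hk⟩ := (g.2 : QuotientGroup.mk' T (g : R) ∈ L.map K.subtype)
    show QuotientGroup.mk' T ((g : R) ^ p) = 1
    rw [map_pow, ← show (k : R ⧸ T) = QuotientGroup.mk' T (g : R) from hk]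
    exact hK k k.2
  set O := Regular.omegaSub hreg 1 with hO
  have hOc : Nat.card O ≤ p ^ 2 := omegaLE_subgroup h H O fun x hx => by
    have hx' : x ^ p ^ 1 = 1 := hx
    simpa using hx'
  haveI : O.Normal := ⟨fun y hy g => by
    show (g * y * g⁻¹) ^ p ^ 1 = 1
    rw [conj_pow, show y ^ p ^ 1 = 1 from hy, mul_one, mul_inv_cancel]⟩
  let f : H ⧸ O → T := Quotient.lift (fun g => ⟨(g : R) ^ p, hTp g⟩) fun a b hab => by
    have hab' : a⁻¹ * b ∈ O := QuotientGroup.leftRel_apply.mp hab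
    have h2 : a * b⁻¹ ∈ O := by
      have := O.inv_mem ((inferInstance : O.Normal).conj_mem _ hab' a)
      simpa [mul_assoc] using this
    have h3 := (Regular.pow_eq_iff hreg a b 1).mpr h2
    exact Subtype.ext (by simpa using congrArg Subtype.val h3)
  have hf : Function.Injective f := by
    intro u v
    refine Quotient.inductionOn₂ u v fun a b hab => ?_
    refine QuotientGroup.eq.mpr ?_
    have hab' : (a : R) ^ p = (b : R) ^ p := congrArg (fun z : T => (z : R)) hab
    have h3 : a ^ p ^ 1 = b ^ p ^ 1 := Subtype.ext (by simpa using hab')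
    have h2 : a * b⁻¹ ∈ O := (Regular.pow_eq_iff hreg a b 1).mp h3
    have := O.inv_mem ((inferInstance : O.Normal).conj_mem _ h2 a⁻¹)
    simpa [mul_assoc] using this
  have h4 := Nat.card_le_card_of_injective f hf
  rw [hT] at h4
  have h5 : p ^ 4 ≤ p * p ^ 2 := by
    rw [← hHc, Subgroup.card_eq_card_quotient_mul_card_subgroup O]
    exact Nat.mul_le_mul h4 hOc
  rw [← pow_succ'] at h5
  exact absurd ((Nat.pow_le_pow_iff_right hp.out.one_lt).mp h5) (by omega)

theorem omegaLE_quotient_aux (hp5 : 3 < p) : ∀ (n : ℕ) (R : Type u) [Group R] [Finite R],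
    Nat.card R = n → IsPGroup p R → OmegaLE p R → ∀ (T : Subgroup R) [T.Normal], OmegaLE p (R ⧸ T) := by
  intro n
  induction n using Nat.strong_induction_on with
  | _ n ih =>
  intro R _ _ hn hR h T _
  rcases eq_or_ne T ⊥ with rfl | hT
  · intro K hK
    rw [← Subgroup.card_map_of_injective (f := (QuotientGroup.quotientBot (G := R)).toMonoidHom)
      QuotientGroup.quotientBot.injective]
    refine h _ ?_
    rintro _ ⟨a, ha, rfl⟩
    rw [← map_pow, hK a ha, map_one]
  obtain ⟨Z, hZn, hZT, hZc⟩ := exists_normal_card hR T 1 (by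
    obtain ⟨j, hj⟩ := IsPGroup.iff_card.mp (hR.to_subgroup T)
    rw [hj]
    refine Nat.pow_le_pow_right hp.out.pos (Nat.one_le_iff_ne_zero.mpr fun h0 => hT ?_)
    exact Subgroup.eq_bot_of_card_eq T (by rw [hj, h0, pow_zero]))
  rw [pow_one] at hZc
  haveI := hZn
  have hlt : Nat.card (R ⧸ Z) < n := by
    rw [← hn, Subgroup.card_eq_card_quotient_mul_card_subgroup Z, hZc]
    exact lt_mul_of_one_lt_right Nat.card_pos hp.out.one_lt
  haveI : (T.map (QuotientGroup.mk' Z)).Normal :=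
    Subgroup.Normal.map inferInstance _ (QuotientGroup.mk'_surjective Z)
  have h1 := ih _ hlt (R ⧸ Z) rfl (hR.to_quotient Z) (omegaLE_quotient_prime hp5 hR h Z hZc)
    (T.map (QuotientGroup.mk' Z))
  intro K hK
  let e := QuotientGroup.quotientQuotientEquivQuotient Z T hZT
  rw [← Subgroup.card_map_of_injective (f := e.symm.toMonoidHom) e.symm.injective]
  refine h1 _ ?_
  rintro _ ⟨a, ha, rfl⟩
  rw [← map_pow, hK a ha, map_one]

theorem omegaLE_quotient {R : Type u} [Group R] [Finite R] (hp5 : 3 < p) (hR : IsPGroup p R)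
    (h : OmegaLE p R) (T : Subgroup R) [T.Normal] : OmegaLE p (R ⧸ T) :=
  omegaLE_quotient_aux hp5 _ R rfl hR h T

theorem isCyclic_quotient_of_gen {R : Type*} [Group R] (N : Subgroup R) [N.Normal] (b : R)
    (h : N ⊔ Subgroup.zpowers b = ⊤) : IsCyclic (R ⧸ N) := by
  refine ⟨⟨(b : R ⧸ N), fun q => ?_⟩⟩
  obtain ⟨r, rfl⟩ := QuotientGroup.mk_surjective q
  obtain ⟨x, hx, y, hy, rfl⟩ := Subgroup.mem_sup_of_normal_left.1 (h.ge (Subgroup.mem_top r))
  obtain ⟨i, rfl⟩ := Subgroup.mem_zpowers_iff.1 hy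
  refine ⟨i, ?_⟩
  show (b : R ⧸ N) ^ i = ((x * b ^ i : R) : R ⧸ N)
  rw [QuotientGroup.mk_mul, (QuotientGroup.eq_one_iff x).2 hx, one_mul, QuotientGroup.mk_zpow]

theorem finish {R : Type u} [Group R] [Finite R] (hR : IsPGroup p R) {U : Subgroup R} [U.Normal]
    (hUf : U ≤ frattini R) (hQc : U.index ≤ p ^ 2) {g : R}
    (hg : ∀ a b : R, ⁅a, b⁆ ∈ Subgroup.zpowers g)
    (hroot : ∀ y : R, y ^ p = g → orderOf y ≤ orderOf g) (hU : ∀ u ∈ U, ∃ y : R, y ^ p = u) : Cfsg.IsMetacyclic R := by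
  haveI hn : (Subgroup.zpowers g).Normal := ⟨fun x hx a => by
    have h1 : a * x * a⁻¹ = ⁅a, x⁆ * x := by rw [commutatorElement_def]; group
    rw [h1]; exact mul_mem (hg a x) hx⟩
  refine ⟨Subgroup.zpowers g, hn, inferInstance, ?_⟩
  have htriv : Subgroup.zpowers g ⊔ U = ⊤ → IsCyclic (R ⧸ Subgroup.zpowers g) := fun h => by
    have h' := frattini_nongenerating (eq_top_iff.2 (h.ge.trans (sup_le_sup_left hUf _)))
    refine isCyclic_quotient_of_gen _ 1 ?_
    rw [h', top_sup_eq]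
  rcases eq_or_ne g 1 with rfl | hg1
  · -- then the group is trivial
    refine isCyclic_quotient_of_gen _ 1 (eq_top_iff.2 fun r _ => ?_)
    by_contra hr
    obtain ⟨k, hk⟩ := IsPGroup.iff_orderOf.1 hR r
    have hk0 : k ≠ 0 := fun e => hr (by
      rw [e, pow_zero, orderOf_eq_one_iff] at hk
      rw [hk]; exact one_mem _)
    have hrp : (r ^ p ^ (k - 1)) ^ p = 1 := by
      rw [← pow_mul, ← pow_succ, Nat.sub_add_cancel (Nat.one_le_iff_ne_zero.2 hk0), ← hk, pow_orderOf_eq_one]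
    have h1 := hroot _ hrp
    rw [orderOf_one] at h1
    have h2 : orderOf (r ^ p ^ (k - 1)) = 1 := le_antisymm h1 (orderOf_pos _)
    rw [orderOf_eq_one_iff] at h2
    have h3 := orderOf_dvd_of_pow_eq_one h2
    rw [hk] at h3
    have := (Nat.pow_dvd_pow_iff_le_right hp.out.one_lt).1 h3
    omega
  have hgU : g ∉ U := fun hgU => by
    obtain ⟨y, hy⟩ := hU g hgU
    have hy1 : y ≠ 1 := fun e => hg1 (by rw [← hy, e, one_pow])
    obtain ⟨k, hk⟩ := IsPGroup.iff_orderOf.1 hR y
    have hk0 : k ≠ 0 := fun e => hy1 (by rw [e, pow_zero, orderOf_eq_one_iff] at hk; exact hk)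
    have h1 := hroot y hy
    rw [← hy, orderOf_pow_of_dvd hp.out.ne_zero (hk ▸ dvd_pow_self p hk0)] at h1
    exact absurd h1 (not_le.2 (Nat.div_lt_self (orderOf_pos y) hp.out.one_lt))
  by_cases htop : Subgroup.zpowers g ⊔ U = ⊤
  · exact htriv htop
  obtain ⟨b, -, hb⟩ := SetLike.exists_of_lt (lt_top_iff_ne_top.2 htop)
  set X := Subgroup.zpowers g ⊔ U with hX
  have h1 : U < X := lt_of_le_of_ne le_sup_right fun e =>
    hgU (e.symm ▸ Subgroup.mem_sup_left (Subgroup.mem_zpowers g))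
  have h2 : X < X ⊔ Subgroup.zpowers b := lt_of_le_of_ne le_sup_left fun e =>
    hb (e.symm ▸ Subgroup.mem_sup_right (Subgroup.mem_zpowers b))
  have h3 := Subgroup.index_strictAnti h1
  have h4 := Subgroup.index_strictAnti h2
  have hidx : ∀ Y : Subgroup R, ∃ k, Y.index = p ^ k := fun Y => hR.index Y
  obtain ⟨a, ha⟩ := hidx U
  obtain ⟨c, hc⟩ := hidx X
  obtain ⟨d, hd⟩ := hidx (X ⊔ Subgroup.zpowers b)
  rw [ha, hc] at h3
  rw [hc, hd] at h4
  have ha2 : a ≤ 2 := (Nat.pow_le_pow_iff_right hp.out.one_lt).1 (ha ▸ hQc)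
  have h3' := (Nat.pow_lt_pow_iff_right hp.out.one_lt).1 h3
  have h4' := (Nat.pow_lt_pow_iff_right hp.out.one_lt).1 h4
  have hd0 : d = 0 := by omega
  rw [hd0, pow_zero, Subgroup.index_eq_one] at hd
  refine isCyclic_quotient_of_gen _ b (frattini_nongenerating (eq_top_iff.2 ?_))
  rw [← hd]
  exact sup_le (sup_le (le_sup_left.trans le_sup_left) (hUf.trans le_sup_right))
    (le_sup_right.trans le_sup_left)

/-- The class two case: the commutators lie in a central subgroup of order dividing `p`. -/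
theorem isMetacyclic_of_commutator {R : Type u} [Group R] [Finite R] (hp5 : 3 < p) (hR : IsPGroup p R)
    (h : OmegaLE p R) {t : R} (ht : t ∈ Subgroup.center R) (htp : t ^ p = 1)
    (hcom : ∀ x y : R, ⁅x, y⁆ ∈ Subgroup.zpowers t) : Cfsg.IsMetacyclic R := by
  classical
  have hcen : ∀ x y : R, ∀ z : R, Commute ⁅x, y⁆ z := fun x y z =>
    (Subgroup.mem_center_iff.1 (Subgroup.zpowers_le.2 ht (hcom x y)) z).symm
  have hcp : ∀ x y : R, ⁅x, y⁆ ^ p = 1 := fun x y => by
    obtain ⟨i, hi⟩ := Subgroup.mem_zpowers_iff.1 (hcom x y)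
    rw [← hi, ← zpow_natCast (t ^ i), ← zpow_mul, mul_comm, zpow_mul, zpow_natCast, htp, one_zpow]
  -- the `p`-th powers form a subgroup
  let φ : R →* R :=
    { toFun := fun x => x ^ p
      map_one' := one_pow p
      map_mul' := fun x y => by
        have hpow := Grp.mul_pow_class_two (x := x) (y := y) (c := ⁅y, x⁆)
          (by rw [commutatorElement_def]; group) (hcen y x x) (hcen y x y) p
        obtain ⟨m, hm⟩ := hp.out.dvd_choose_self two_ne_zero (by omega : 2 < p)
        rw [hm, pow_mul, hcp y x, one_pow, one_mul] at hpow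
        exact hpow }
  set U := φ.range with hU
  haveI : U.Normal := ⟨fun x hx g => by
    obtain ⟨y, rfl⟩ := hx
    exact ⟨g * y * g⁻¹, conj_pow⟩⟩
  have hUf : U ≤ frattini R := by
    rintro _ ⟨y, rfl⟩
    exact Grp.pGroup_pow_mem_frattini hR y
  -- the quotient by them
  have hQe : ∀ q : R ⧸ U, q ^ p = 1 := fun q => by
    obtain ⟨r, rfl⟩ := QuotientGroup.mk_surjective q
    rw [← QuotientGroup.mk_pow]
    exact (QuotientGroup.eq_one_iff _).2 ⟨r, rfl⟩
  have hQc : U.index ≤ p ^ 2 := by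
    have := omegaLE_quotient hp5 hR h U ⊤ fun x _ => hQe x
    rwa [Subgroup.card_top] at this
  have hRU : ∀ x y : R, ⁅x, y⁆ ∈ U := fun x y => by
    obtain ⟨j, hj⟩ := IsPGroup.iff_card.1 (hR.to_quotient U)
    have hj2 : j ≤ 2 := (Nat.pow_le_pow_iff_right hp.out.one_lt).1 (by rw [← hj]; exact hQc)
    have hcomm : ∀ a b : R ⧸ U, a * b = b * a := by
      interval_cases j
      · haveI : Subsingleton (R ⧸ U) := (Nat.card_eq_one_iff_unique.1 (by simpa using hj)).1
        exact fun a b => Subsingleton.elim _ _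
      · haveI : IsCyclic (R ⧸ U) := isCyclic_of_prime_card (p := p) (by rwa [pow_one] at hj)
        letI := IsCyclic.commGroup (α := R ⧸ U)
        exact fun a b => mul_comm a b
      · exact fun a b => (IsPGroup.isMulCommutative_of_card_eq_prime_sq hj).is_comm.comm a b
    rw [← QuotientGroup.eq_one_iff]
    show QuotientGroup.mk' U ⁅x, y⁆ = 1
    rw [map_commutatorElement, commutatorElement_eq_one_iff_mul_comm]
    exact hcomm _ _
  by_cases hab : ∀ x y : R, ⁅x, y⁆ = 1
  swap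
  · push Not at hab
    obtain ⟨x₀, y₀, hne⟩ := hab
    -- a cyclic subgroup over the commutators, of largest order
    obtain ⟨u, hu⟩ := hRU x₀ y₀
    haveI : Nonempty {g : R // ⁅x₀, y₀⁆ ∈ Subgroup.zpowers g} :=
      ⟨⟨u, hu ▸ pow_mem (Subgroup.mem_zpowers u) p⟩⟩
    obtain ⟨⟨g, hg⟩, hmax⟩ := Finite.exists_max
      (fun g : {g : R // ⁅x₀, y₀⁆ ∈ Subgroup.zpowers g} => orderOf g.1)
    have htg : Subgroup.zpowers t ≤ Subgroup.zpowers g := by
      have ht1 : t ≠ 1 := fun e => hne (by simpa [e] using hcom x₀ y₀)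
      have hc1 : orderOf ⁅x₀, y₀⁆ = p := orderOf_eq_prime (hcp x₀ y₀) hne
      have := Subgroup.eq_of_le_of_card_ge (Subgroup.zpowers_le.2 (hcom x₀ y₀)) (by
        rw [Nat.card_zpowers, Nat.card_zpowers, hc1, orderOf_eq_prime htp ht1])
      exact this ▸ Subgroup.zpowers_le.2 hg
    refine finish hR hUf hQc (fun a b => htg (hcom a b)) (fun y hy => ?_) (fun u hu => hu)
    · 
      have hy1 : ⁅x₀, y₀⁆ ∈ Subgroup.zpowers y :=
        Subgroup.zpowers_le.2 (hy ▸ pow_mem (Subgroup.mem_zpowers y) p) hg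
      exact hmax ⟨y, hy1⟩
  · obtain ⟨g, hmax⟩ := Finite.exists_max (fun g : R => orderOf g)
    exact finish hR hUf hQc (g := g) (fun a b => by rw [hab a b]; exact one_mem _) (fun y _ => hmax y) (fun u hu => hu)

/-- Huppert: for `p > 3`, a `p`-group with `Ω₁` of order at most `p²` is metacyclic. -/
theorem isMetacyclic_aux (hp5 : 3 < p) : ∀ (n : ℕ) (R : Type u) [Group R] [Finite R],
    Nat.card R = n → IsPGroup p R → OmegaLE p R → Cfsg.IsMetacyclic R := by
  intro n
  induction n using Nat.strong_induction_on with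
  | _ n ih =>
  intro R _ _ hn hR h
  by_cases hD : commutator R = ⊥
  · refine isMetacyclic_of_commutator hp5 hR h (t := 1) (one_mem _) (one_pow p) fun x y => ?_
    have hm : ⁅x, y⁆ ∈ commutator R := by
      rw [_root_.commutator_def]; exact Subgroup.commutator_mem_commutator (Subgroup.mem_top x) (Subgroup.mem_top y)
    rw [hD, Subgroup.mem_bot] at hm
    rw [hm]; exact one_mem _
  obtain ⟨T, hTn, hTD, hTc⟩ := exists_normal_card hR (commutator R) 1 (by
    obtain ⟨j, hj⟩ := IsPGroup.iff_card.mp (hR.to_subgroup (commutator R))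
    rw [hj]
    refine Nat.pow_le_pow_right hp.out.pos (Nat.one_le_iff_ne_zero.mpr fun h0 => hD ?_)
    exact Subgroup.eq_bot_of_card_eq _ (by rw [hj, h0, pow_zero]))
  rw [pow_one] at hTc
  haveI := hTn
  have hTz : T ≤ Subgroup.center R := Grp.RankThree.central_of_card_le hR hTc.le
  haveI : IsCyclic T := isCyclic_of_prime_card (p := p) hTc
  obtain ⟨⟨t, htT⟩, htgen⟩ := IsCyclic.exists_generator (α := T)
  have hTt : T = Subgroup.zpowers t := le_antisymm (fun x hx => by
    obtain ⟨i, hi⟩ := Subgroup.mem_zpowers_iff.1 (htgen ⟨x, hx⟩)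
    exact ⟨i, by simpa using congrArg Subtype.val hi⟩) (Subgroup.zpowers_le.2 htT)
  have htp : t ^ p = 1 := by
    have h1 := T.orderOf_dvd_natCard htT
    rw [hTc] at h1
    exact orderOf_dvd_iff_pow_eq_one.1 h1
  have hlt : Nat.card (R ⧸ T) < n := by
    rw [← hn, Subgroup.card_eq_card_quotient_mul_card_subgroup T, hTc]
    exact lt_mul_of_one_lt_right Nat.card_pos hp.out.one_lt
  obtain ⟨N', hN'n, hN'c, hQc⟩ := ih _ hlt (R ⧸ T) rfl (hR.to_quotient T) (omegaLE_quotient hp5 hR h T)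
  haveI := hN'n
  set π := QuotientGroup.mk' T
  set N := N'.comap π with hN
  obtain ⟨⟨n', hn'N⟩, hn'gen⟩ := hN'c.exists_generator
  obtain ⟨a, rfl⟩ := QuotientGroup.mk'_surjective T n'
  obtain ⟨b', hb'⟩ := hQc.exists_generator
  obtain ⟨b₁, rfl⟩ := QuotientGroup.mk'_surjective N' b'
  obtain ⟨b, rfl⟩ := QuotientGroup.mk'_surjective T b₁
  have haN : a ∈ N := hn'N
  have hTN : T ≤ N := fun x hx => by
    show π x ∈ N'
    rw [show π x = 1 from (QuotientGroup.eq_one_iff x).2 hx]; exact one_mem _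
  have hNgen : ∀ x ∈ N, ∃ i : ℤ, ∃ s ∈ T, x = a ^ i * s := fun x hx => by
    obtain ⟨i, hi⟩ := Subgroup.mem_zpowers_iff.1 (hn'gen ⟨π x, hx⟩)
    refine ⟨i, (a ^ i)⁻¹ * x, (QuotientGroup.eq_one_iff _).1 ?_, by group⟩
    show π ((a ^ i)⁻¹ * x) = 1
    have hi' : π a ^ i = π x := congrArg Subtype.val hi
    rw [map_mul, map_inv, map_zpow, hi', inv_mul_cancel]
  have hTc' : ∀ s ∈ T, ∀ x : R, Commute s x := fun s hs x => (Subgroup.mem_center_iff.1 (hTz hs) x).symm
  have hNab : ∀ x ∈ N, ∀ y ∈ N, Commute x y := fun x hx y hy => by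
    obtain ⟨i, s, hs, rfl⟩ := hNgen x hx
    obtain ⟨j, s', hs', rfl⟩ := hNgen y hy
    exact (Commute.mul_right (((Commute.refl a).zpow_right j).zpow_left i) (hTc' s' hs' _).symm).mul_left
      (hTc' s hs _)
  have hgen : N ⊔ Subgroup.zpowers b = ⊤ := by
    refine eq_top_iff.2 fun r _ => ?_
    obtain ⟨i, hi⟩ := Subgroup.mem_zpowers_iff.1 (hb' (QuotientGroup.mk' N' (π r)))
    have hrN : r * (b ^ i)⁻¹ ∈ N := by
      show π (r * (b ^ i)⁻¹) ∈ N'
      rw [← QuotientGroup.eq_one_iff]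
      show QuotientGroup.mk' N' (π (r * (b ^ i)⁻¹)) = 1
      rw [map_mul, map_mul, map_inv, map_inv, map_zpow, map_zpow, hi, mul_inv_cancel]
    have := Subgroup.mul_mem _ (Subgroup.mem_sup_left (T := Subgroup.zpowers b) hrN)
      (Subgroup.mem_sup_right (zpow_mem (Subgroup.mem_zpowers b) i))
    rwa [inv_mul_cancel_right] at this
  by_cases hNc : IsCyclic N
  · exact ⟨N, inferInstance, hNc, isCyclic_quotient_of_gen N b hgen⟩
  -- otherwise the derived subgroup has order `p`
  set M := Subgroup.zpowers (a ^ p) ⊔ T with hM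
  have hMmem : ∀ (i : ℤ) (s : R), s ∈ T → (a ^ i * s) ^ p = (a ^ p) ^ i := fun i s hs => by
    have hsp : s ^ p = 1 := by
      have h1 := T.orderOf_dvd_natCard hs
      rw [hTc] at h1
      exact orderOf_dvd_iff_pow_eq_one.1 h1
    rw [(hTc' s hs _).symm.mul_pow, hsp, mul_one, ← zpow_natCast (a ^ i), ← zpow_mul, mul_comm i,
      zpow_mul, zpow_natCast]
  haveI hMn : M.Normal := by
    refine Subgroup.normalizer_eq_top_iff.1 (eq_top_iff.2 fun g _ => ?_)
    have key : ∀ g : R, ∀ x ∈ M, g * x * g⁻¹ ∈ M := by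
      intro g x hx
      have hsub : M.map (MulAut.conj g).toMonoidHom ≤ M := by
        rw [hM, Subgroup.map_sup, MonoidHom.map_zpowers]
        refine sup_le (Subgroup.zpowers_le.2 ?_) ?_
        · obtain ⟨i, s, hs, hgs⟩ := hNgen (g * a * g⁻¹) ((inferInstance : N.Normal).conj_mem a haN g)
          show g * a ^ p * g⁻¹ ∈ _
          rw [← conj_pow, hgs, hMmem i s hs]
          exact Subgroup.mem_sup_left (zpow_mem (Subgroup.mem_zpowers _) i)
        · rintro _ ⟨y, hy, rfl⟩
          exact Subgroup.mem_sup_right (hTn.conj_mem y hy g)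
      exact hsub ⟨x, hx, rfl⟩
    exact Subgroup.mem_normalizer_iff.2 fun x => ⟨key g x, fun hx => by simpa [mul_assoc] using key g⁻¹ _ hx⟩
  have hMN : M ≤ N := sup_le (Subgroup.zpowers_le.2 (pow_mem haN p)) hTN
  set c := ⁅b, a⁆ with hc
  have hcM : c ∈ M := by
    by_cases haM : a ∈ M
    · rw [hc, commutatorElement_def]
      exact mul_mem (hMn.conj_mem a haM b) (inv_mem haM)
    obtain ⟨L, -, hML, hLN, -, hcomL⟩ := NormalSteps.exists_normal_step hR
      (lt_of_le_of_ne hMN fun e => haM (e.symm ▸ haN))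
    obtain ⟨x, hxL, hxM⟩ := SetLike.exists_of_lt hML
    obtain ⟨i, s, hs, rfl⟩ := hNgen x (hLN hxL)
    have hi : ¬ (p : ℤ) ∣ i := by
      rintro ⟨k, rfl⟩
      refine hxM (mul_mem (Subgroup.mem_sup_left ?_) (Subgroup.mem_sup_right hs))
      rw [zpow_mul, zpow_natCast]
      exact zpow_mem (Subgroup.mem_zpowers _) k
    have haiL : a ^ i ∈ L := (L.mul_mem_cancel_right (hML.le (Subgroup.mem_sup_right hs))).1 hxL
    obtain ⟨u, v, huv⟩ := ((Nat.prime_iff_prime_int.1 hp.out).coprime_iff_not_dvd.2 hi)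
    have haL : a ∈ L := by
      have h1 : a = (a ^ p) ^ u * (a ^ i) ^ v := by
        rw [← zpow_natCast a p, ← zpow_mul, ← zpow_mul, ← zpow_add, mul_comm, mul_comm i, huv, zpow_one]
      rw [h1]
      exact mul_mem (zpow_mem (hML.le (Subgroup.mem_sup_left (Subgroup.mem_zpowers _))) u) (zpow_mem haiL v)
    exact hcomL b a haL
  obtain ⟨z, hz, s, hs, hcz⟩ := Subgroup.mem_sup_of_normal_right.1 hcM
  obtain ⟨k, rfl⟩ := Subgroup.mem_zpowers_iff.1 hz
  have hcN : c ∈ N := hMN hcM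
  have hbc : b * c * b⁻¹ = c ^ ((p : ℤ) * k + 1) := by
    have hcomm : Commute c a := hNab c hcN a haN
    have h1 : b * a * b⁻¹ = c * a := by rw [hc, commutatorElement_def]; group
    calc b * c * b⁻¹ = b * ((a ^ p) ^ k * s) * b⁻¹ := by rw [hcz]
      _ = (b * a * b⁻¹) ^ ((p : ℤ) * k) * s := by
          rw [conj_zpow, zpow_mul, zpow_natCast, mul_assoc _ b⁻¹ s, ← (hTc' s hs b⁻¹).eq]; group
      _ = c ^ ((p : ℤ) * k) * ((a ^ p) ^ k * s) := by
          rw [h1, hcomm.mul_zpow, zpow_mul a, zpow_natCast, mul_assoc]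
      _ = c ^ ((p : ℤ) * k + 1) := by rw [hcz, zpow_add_one]
  have hCn : (Subgroup.zpowers c).Normal := by
    refine Subgroup.normalizer_eq_top_iff.1 (eq_top_iff.2 ?_)
    rw [← hgen]
    refine sup_le (fun x hx => ?_) (Subgroup.zpowers_le.2 ?_)
    · refine Subgroup.centralizer_le_normalizer _ (Subgroup.mem_centralizer_iff.2 ?_)
      rintro _ ⟨i, rfl⟩
      exact ((hNab c hcN x hx).zpow_left i).eq
    · rw [Subgroup.mem_normalizer_iff_map_conj_eq, MonoidHom.map_zpowers]
      refine Subgroup.eq_of_le_of_card_ge (Subgroup.zpowers_le.2 ?_) ?_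
      · show b * c * b⁻¹ ∈ _
        rw [hbc]; exact zpow_mem (Subgroup.mem_zpowers c) _
      · rw [Nat.card_zpowers, Nat.card_zpowers]
        exact le_of_eq (orderOf_injective (MulAut.conj b).toMonoidHom (MulAut.conj b).injective c).symm
  haveI := hCn
  have hDc : commutator R ≤ Subgroup.zpowers c := by
    set q := QuotientGroup.mk' (Subgroup.zpowers c)
    have hba : Commute (q b) (q a) := by
      rw [commute_iff_eq, ← commutatorElement_eq_one_iff_mul_comm, ← map_commutatorElement]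
      exact (QuotientGroup.eq_one_iff _).2 (Subgroup.mem_zpowers c)
    have hNb : ∀ x ∈ N, Commute (q b) (q x) := fun x hx => by
      obtain ⟨i, s, hs, rfl⟩ := hNgen x hx
      rw [map_mul, map_zpow]
      exact (hba.zpow_right i).mul_right ((hTc' s hs b).symm.map q)
    rw [_root_.commutator_def, Subgroup.commutator_le]
    intro x _ y _
    rw [← QuotientGroup.eq_one_iff]
    show q ⁅x, y⁆ = 1
    rw [map_commutatorElement, commutatorElement_eq_one_iff_mul_comm]
    obtain ⟨x₁, hx₁, x₂, hx₂, rfl⟩ := Subgroup.mem_sup_of_normal_left.1 (hgen.ge (Subgroup.mem_top x))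
    obtain ⟨y₁, hy₁, y₂, hy₂, rfl⟩ := Subgroup.mem_sup_of_normal_left.1 (hgen.ge (Subgroup.mem_top y))
    obtain ⟨i, rfl⟩ := Subgroup.mem_zpowers_iff.1 hx₂
    obtain ⟨j, rfl⟩ := Subgroup.mem_zpowers_iff.1 hy₂
    simp only [map_mul, map_zpow]
    exact ((((hNab x₁ hx₁ y₁ hy₁).map q).mul_right (((hNb x₁ hx₁).zpow_left j).symm)).mul_left
      (((hNb y₁ hy₁).zpow_left i).mul_right (((Commute.refl (q b)).zpow_right j).zpow_left i))).eq
  -- the generator of `T` is a power of `c` with exponent prime to `p`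
  obtain ⟨j, hj⟩ := Subgroup.mem_zpowers_iff.1 (hDc (hTD htT))
  have hj' : ¬ (p : ℤ) ∣ j := by
    rintro ⟨l, rfl⟩
    refine hNc ?_
    have hta : t ∈ Subgroup.zpowers a := by
      rw [← hj, zpow_mul, zpow_natCast, ← hcz, ← zpow_natCast a p, ← zpow_mul, hMmem _ s hs, ← zpow_natCast a p,
        ← zpow_mul, ← zpow_mul]
      exact zpow_mem (Subgroup.mem_zpowers a) _
    have hNa : N = Subgroup.zpowers a := le_antisymm (fun x hx => by
      obtain ⟨i, s', hs', rfl⟩ := hNgen x hx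
      exact mul_mem (zpow_mem (Subgroup.mem_zpowers a) i) (Subgroup.zpowers_le.2 hta (hTt.le hs')))
      (Subgroup.zpowers_le.2 haN)
    rw [hNa]; infer_instance
  obtain ⟨u, v, huv⟩ := ((Nat.prime_iff_prime_int.1 hp.out).coprime_iff_not_dvd.2 hj')
  -- hence `c` lies in `T`
  have hct : c ∈ Subgroup.zpowers t := by
    obtain ⟨m, hm⟩ := IsPGroup.iff_orderOf.1 hR c
    have hd : (orderOf c : ℤ) ∣ j * p := by
      rw [orderOf_dvd_iff_zpow_eq_one, zpow_mul, hj, zpow_natCast, htp]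
    have hd' : (orderOf c : ℤ) ∣ (p : ℤ) := by
      have hcop : IsCoprime ((orderOf c : ℤ)) j := by
        rw [hm, Nat.cast_pow]
        exact IsCoprime.pow_left ⟨u, v, huv⟩
      exact hcop.dvd_of_dvd_mul_left hd
    have hcp : c ^ (p : ℤ) = 1 := orderOf_dvd_iff_zpow_eq_one.1 hd'
    have h1 : c = t ^ v := by
      calc c = c ^ (u * (p : ℤ) + v * j) := by rw [huv, zpow_one]
        _ = t ^ v := by rw [zpow_add, mul_comm u, zpow_mul, hcp, one_zpow, one_mul, mul_comm v, zpow_mul, hj]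
    rw [h1]
    exact zpow_mem (Subgroup.mem_zpowers t) v
  refine isMetacyclic_of_commutator hp5 hR h (hTz htT) htp fun x y => Subgroup.zpowers_le.2 hct (hDc ?_)
  rw [_root_.commutator_def]; exact Subgroup.commutator_mem_commutator (Subgroup.mem_top x) (Subgroup.mem_top y)

theorem isMetacyclic {R : Type u} [Group R] [Finite R] (hp5 : 3 < p) (hR : IsPGroup p R)
    (h : OmegaLE p R) : Cfsg.IsMetacyclic R :=
  isMetacyclic_aux hp5 _ R rfl hR h

end Cfsg.Agent.Transfer.RankTwo
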