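import Mathlib
import Cfsg.Agent.S1463
import Cfsg.Agent.Lib.Transfer.RankTwo
import Cfsg.Agent.Lib.Transfer.OmegaFixed
import Cfsg.Agent.Lib.Invol.Critical
import Cfsg.Agent.Lib.Fus.MetacyclicTwoAut

/-!
Solvable groups of odd order acting on `p`-groups of rank at most two have a `p`-group as derived
subgroup.
-/

set_option autoImplicit false
set_option linter.style.haveILetI false
set_option linter.unusedSectionVars false
set_option maxHeartbeats 1000000

namespace Cfsg.Agent.Transfer.OddRankTwo

open scoped commutatorElement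

variable {F : Type*} [Field F] {p : ℕ} [hp : Fact p.Prime]

local notation "M₂" => Matrix (Fin 2) (Fin 2) F

theorem eq_smul_one (X : M₂) (h : ∀ Y, Commute X Y) : X = X 0 0 • (1 : M₂) := by
  have h01 := congrFun (congrFun (h !![0, 1; 0, 0]).eq 0) 1
  have h00 := congrFun (congrFun (h !![0, 1; 0, 0]).eq 1) 1
  have h10 := congrFun (congrFun (h !![0, 0; 1, 0]).eq 0) 0
  simp [Matrix.mul_apply, Fin.sum_univ_two] at h01 h00 h10
  refine S1463.m2ext ?_ ?_ ?_ ?_ <;> simp [h01, h00, h10]

theorem pow_scalar_of_disc [CharP F p] (h2 : (2 : F) ≠ 0) (X : M₂) (hd : S1463.disc X = 0) :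
    ∀ Y, Commute (X ^ p) Y := by
  intro Y
  set n : M₂ := X - (X.trace / 2) • 1 with hn
  have hnn : n * n = 0 := by
    rw [S1463.disc] at hd
    have h4 : (4 : F) ≠ 0 := by rw [show (4 : F) = 2 * 2 by norm_num]; exact mul_ne_zero h2 h2
    refine S1463.m2ext ?_ ?_ ?_ ?_ <;>
      simp [hn, Matrix.mul_apply, Fin.sum_univ_two, Matrix.trace_fin_two] <;> field_simp <;>
      first | linear_combination hd | ring1
  have hXp : X ^ p = (X.trace / 2) ^ p • (1 : M₂) := by
    conv_lhs => rw [show X = (X.trace / 2) • (1 : M₂) + n by rw [hn]; abel]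
    rw [add_pow_char_of_commute _ ((Commute.one_left n).smul_left _), smul_pow, one_pow,
      show n ^ p = 0 from pow_eq_zero_of_le hp.out.two_le (by rw [sq]; exact hnn), add_zero]
  rw [hXp]
  exact (Commute.one_left Y).smul_left _

/-- A solvable subgroup of `GL(2, F)` of odd order prime to the characteristic is abelian. -/
theorem commute_of_coprime [CharP F p] (hp2 : p ≠ 2) (H : Subgroup (GL (Fin 2) F)) [Finite H]
    (hodd : Odd (Nat.card H)) (hs : Group.IsSolvable H) (hcop : ¬ p ∣ Nat.card H) (a b : H) : a * b = b * a := by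
  classical
  have h2 : (2 : F) ≠ 0 := by
    intro h
    have h' : ((2 : ℕ) : F) = 0 := by exact_mod_cast h
    rw [CharP.cast_eq_zero_iff F p] at h'
    exact hp2 ((Nat.prime_dvd_prime_iff_eq hp.out Nat.prime_two).1 h')
  let v : H → M₂ := fun h => ((h : GL (Fin 2) F) : M₂)
  have vmul : ∀ a b, v (a * b) = v a * v b := fun a b => rfl
  have vinj : Function.Injective v := fun a b h => Subtype.ext (Units.ext h)
  have hcomm : ∀ a b : H, Commute (v a) (v b) ↔ Commute a b := fun a b => ⟨fun h => vinj h, fun h => congrArg v h.eq⟩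
  have hsqodd : ∀ (g x : H), Commute (g ^ 2) x → Commute g x := fun g x h => by
    obtain ⟨j, hj⟩ : Odd (orderOf g) := hodd.of_dvd_nat (orderOf_dvd_natCard g)
    have h3 : g = (g ^ 2) ^ (j + 1) := by
      rw [← pow_mul, show 2 * (j + 1) = orderOf g + 1 by omega, pow_succ, pow_orderOf_eq_one, one_mul]
    rw [h3]; exact h.pow_left _
  haveI : Nonempty {B : Subgroup H // B.Normal ∧ ∀ x ∈ B, ∀ y ∈ B, Commute x y} :=
    ⟨⟨⊥, inferInstance, fun x hx y _ => by rw [Subgroup.mem_bot.1 hx]; exact Commute.one_left y⟩⟩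
  obtain ⟨⟨B, hBn, hBc⟩, hmax⟩ := Finite.exists_max
    (fun B : {B : Subgroup H // B.Normal ∧ ∀ x ∈ B, ∀ y ∈ B, Commute x y} => Nat.card B.1)
  by_cases hns : ∃ x ∈ B, ¬ ∀ X, Commute (v x) X
  · obtain ⟨x, hxB, hx⟩ := hns
    have hd : S1463.disc (v x) ≠ 0 := fun hd => by
      refine hx fun X => ?_
      have hxp : ∀ Y, Commute (v (x ^ p)) Y := fun Y => by
        rw [show v (x ^ p) = (v x) ^ p by simp [v]]; exact pow_scalar_of_disc h2 _ hd Y
      have hco : (orderOf x).Coprime p := Nat.Coprime.coprime_dvd_left (orderOf_dvd_natCard x)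
        ((hp.out.coprime_iff_not_dvd.2 hcop).symm)
      obtain ⟨m, hm⟩ := exists_pow_eq_self_of_coprime hco.symm
      rw [← hm, show v ((x ^ p) ^ m) = (v (x ^ p)) ^ m by simp [v]]
      exact (hxp X).pow_left m
    have hall : ∀ g : H, Commute g x := by
      intro g
      obtain ⟨α, β, hαβ⟩ := S1463.exists_lin (v x) (v (g * x * g⁻¹)) hx
        ((hcomm _ _).2 (hBc _ (hBn.conj_mem x hxB g) x hxB))
      have htr : (v (g * x * g⁻¹)).trace = (v x).trace := by
        rw [vmul, vmul, Matrix.trace_mul_cycle, ← vmul, inv_mul_cancel]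
        show (1 * v x).trace = _
        rw [one_mul]
      have hdet : (v (g * x * g⁻¹)).det = (v x).det := by
        rw [vmul, vmul, Matrix.det_mul, Matrix.det_mul, mul_right_comm, ← Matrix.det_mul,
          ← vmul, mul_inv_cancel]
        show Matrix.det (1 : M₂) * _ = _
        rw [Matrix.det_one, one_mul]
      have hb2 : β ^ 2 = 1 := by
        have h := S1463.disc_eq (v (g * x * g⁻¹))
        rw [htr, hdet, ← S1463.disc_eq, hαβ, show S1463.disc (α • (1 : M₂) + β • v x) = β ^ 2 * S1463.disc (v x) by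
          simp [S1463.disc]; ring] at h
        exact mul_left_eq_self₀.1 h |>.resolve_right hd
      rw [hαβ] at htr
      simp [Matrix.trace_fin_two] at htr
      rcases sq_eq_one_iff.1 hb2 with rfl | rfl
      · have hα : α = 0 := by
          have h' : 2 * α = 0 := by linear_combination htr
          exact (mul_eq_zero.1 h').resolve_left h2
        rw [hα, zero_smul, zero_add, one_smul] at hαβ
        exact mul_inv_eq_iff_eq_mul.1 (vinj hαβ)
      · refine hsqodd g x (mul_inv_eq_iff_eq_mul.1 (vinj ?_))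
        rw [show g ^ 2 * x * (g ^ 2)⁻¹ = g * (g * x * g⁻¹) * g⁻¹ by simp only [sq, mul_inv_rev, mul_assoc], vmul, vmul,
          hαβ]
        simp only [mul_add, add_mul, Matrix.mul_smul, Matrix.smul_mul, mul_one]
        rw [← vmul g g⁻¹, mul_inv_cancel, ← vmul, ← vmul, hαβ]
        show α • (1 : M₂) + (-1 : F) • (α • 1 + (-1 : F) • v x) = v x
        simp
    refine (hcomm a b).1 ?_
    obtain ⟨a₁, b₁, h1⟩ := S1463.exists_lin (v x) (v a) hx ((hcomm _ _).2 (hall a))
    rw [h1]
    exact ((Commute.one_left _).smul_left a₁).add_left (((hcomm x b).2 (hall b).symm).smul_left b₁)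
  push Not at hns
  have hBz : ∀ x ∈ B, ∀ g : H, Commute x g := fun x hx g => (hcomm x g).1 (hns x hx _)
  by_contra hab
  -- a larger abelian normal subgroup
  haveI := hBn
  have hQ : ∃ n, derivedSeries (H ⧸ B) n = ⊥ :=
    (Group.isSolvable_of_surjective (QuotientGroup.mk'_surjective B)).solvable
  set m := Nat.find hQ with hm
  rcases Nat.eq_zero_or_pos m with h0 | hpos
  · have := Nat.find_spec hQ
    rw [← hm, h0, derivedSeries_zero] at this
    refine hab (hBc a ((QuotientGroup.eq_one_iff a).1 ?_) b ((QuotientGroup.eq_one_iff b).1 ?_)).eq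
    · exact Subgroup.mem_bot.1 (this ▸ Subgroup.mem_top _)
    · exact Subgroup.mem_bot.1 (this ▸ Subgroup.mem_top _)
  set K := derivedSeries (H ⧸ B) (m - 1) with hK
  haveI : K.Normal := derivedSeries_normal _ _
  have hKne : K ≠ ⊥ := Nat.find_min hQ (by omega)
  have hKc : ⁅K, K⁆ = ⊥ := by
    have := Nat.find_spec hQ
    rw [← hm, show m = m - 1 + 1 by omega, derivedSeries_succ] at this
    exact this
  set C := K.comap (QuotientGroup.mk' B) with hC
  have hCc : ∀ x ∈ C, ∀ y ∈ C, Commute x y := by
    intro x hx y hy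
    have hcB : ⁅x, y⁆ ∈ B := by
      rw [← QuotientGroup.eq_one_iff]
      show QuotientGroup.mk' B ⁅x, y⁆ = 1
      rw [map_commutatorElement, ← Subgroup.mem_bot, ← hKc]
      exact Subgroup.commutator_mem_commutator hx hy
    have hsc := eq_smul_one _ (hns _ hcB)
    have hdet : (v ⁅x, y⁆).det = 1 := by
      show (((Matrix.GeneralLinearGroup.det (⁅(x : GL (Fin 2) F), (y : GL (Fin 2) F)⁆)) : Fˣ) : F) = 1
      rw [map_commutatorElement, commutatorElement_eq_one_iff_mul_comm.2 (mul_comm _ _), Units.val_one]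
    rw [hsc, Matrix.det_smul, Matrix.det_one, mul_one, Fintype.card_fin] at hdet
    have hcc : ⁅x, y⁆ * ⁅x, y⁆ = 1 := vinj (by
      rw [vmul, hsc, Matrix.smul_mul, one_mul, smul_smul, ← sq, hdet, one_smul]
      rfl)
    have hc1 : ⁅x, y⁆ = 1 := by
      refine orderOf_eq_one_iff.1 (Nat.eq_one_of_dvd_coprimes (Nat.coprime_two_right.2 hodd)
        (orderOf_dvd_natCard _) (orderOf_dvd_of_pow_eq_one (by rw [pow_two]; exact hcc)))
    exact commutatorElement_eq_one_iff_mul_comm.1 hc1
  haveI : C.Normal := Subgroup.Normal.comap inferInstance _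
  have hBC : B ≤ C := fun x hx => by
    show QuotientGroup.mk' B x ∈ K
    rw [show QuotientGroup.mk' B x = 1 from (QuotientGroup.eq_one_iff x).2 hx]; exact one_mem _
  have heq := Subgroup.eq_of_le_of_card_ge hBC (hmax ⟨C, inferInstance, hCc⟩)
  refine hKne ((Subgroup.eq_bot_iff_forall _).2 fun z hz => ?_)
  obtain ⟨w, rfl⟩ := QuotientGroup.mk'_surjective B z
  exact (QuotientGroup.eq_one_iff w).2 (heq.ge hz)

/-- The derived subgroup of a solvable subgroup of `GL(2, F)` of odd order is a `p`-group. -/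
theorem derived_isPGroup [CharP F p] (hp2 : p ≠ 2) (H : Subgroup (GL (Fin 2) F)) [Finite H]
    (hodd : Odd (Nat.card H)) (hs : Group.IsSolvable H) : IsPGroup p (commutator H) := by
  classical
  by_cases hdiv : p ∣ Nat.card H
  swap
  · have hbot : commutator H = ⊥ := by
      rw [commutator_def, Subgroup.commutator_eq_bot_iff_le_centralizer]
      exact fun a _ => Subgroup.mem_centralizer_iff.2 fun b _ => commute_of_coprime hp2 H hodd hs hdiv b a
    rw [hbot]; exact IsPGroup.of_bot
  obtain ⟨w, hw, hfix⟩ : ∃ w : Fin 2 → F, w ≠ 0 ∧ ∀ g : H, ∃ c : F, ((g : GL (Fin 2) F) : M₂).mulVec w = c • w := by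
    by_contra hcon
    push Not at hcon
    refine S1463.result p hp2 H hodd (fun v hv => ?_) hdiv
    obtain ⟨g, hg⟩ := hcon v hv
    refine ⟨g, g.2, fun hmem => ?_⟩
    obtain ⟨c, hc⟩ := Submodule.mem_span_singleton.1 hmem
    exact hg c hc.symm
  choose χ hχ using hfix
  have hu : ∀ c d : F, c • w = d • w → c = d := fun c d h => by
    have h' : (c - d) • w = 0 := by rw [sub_smul, h, sub_self]
    exact sub_eq_zero.1 ((smul_eq_zero.1 h').resolve_right hw)
  let ψ : H →* F :=
    { toFun := χ
      map_one' := hu _ _ (by rw [← hχ 1]; simp)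
      map_mul' := fun g h => hu _ _ (by
        rw [← hχ (g * h), show (((g * h : H) : GL (Fin 2) F) : M₂) = ((g : GL (Fin 2) F) : M₂) * ((h : GL (Fin 2) F) : M₂) from rfl, ← Matrix.mulVec_mulVec, hχ h,
          Matrix.mulVec_smul, hχ g, smul_smul, mul_comm]) }
  intro z
  refine ⟨1, ?_⟩
  have hψ : ψ.toHomUnits (z : H) = 1 := MonoidHom.mem_ker.1 (Abelianization.commutator_subset_ker ψ.toHomUnits z.2)
  have hψ1 : (((z : H) : GL (Fin 2) F) : M₂).mulVec w = w := by
    rw [hχ, show χ (z : H) = 1 from congrArg Units.val hψ, one_smul]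
  have hdet : ((((z : H) : GL (Fin 2) F)) : M₂).det = 1 := congrArg Units.val (MonoidHom.mem_ker.1
    (Abelianization.commutator_subset_ker ((Matrix.GeneralLinearGroup.det).comp H.subtype) z.2))
  set X : M₂ := (((z : H) : GL (Fin 2) F) : M₂) with hX
  have hdet0 : (X - 1).det = 0 := by
    by_contra hne
    refine hw (Matrix.eq_zero_of_mulVec_eq_zero hne ?_)
    rw [Matrix.sub_mulVec, hψ1, Matrix.one_mulVec, sub_self]
  rw [Matrix.det_fin_two] at hdet
  rw [Matrix.det_fin_two] at hdet0
  simp at hdet0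
  have hn : (X - 1) * (X - 1) = 0 := by
    have htr : X 0 0 + X 1 1 = 2 := by linear_combination hdet - hdet0
    refine S1463.m2ext ?_ ?_ ?_ ?_ <;> simp [Matrix.mul_apply, Fin.sum_univ_two]
    · linear_combination -hdet + (X 0 0) * htr
    · linear_combination (X 0 1) * htr
    · linear_combination (X 1 0) * htr
    · linear_combination -hdet + (X 1 1) * htr
  have hXp : X ^ p = 1 := by
    conv_lhs => rw [show X = 1 + (X - 1) by abel]
    rw [add_pow_char_of_commute _ (Commute.one_left _), one_pow,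
      show (X - 1) ^ p = 0 from pow_eq_zero_of_le hp.out.two_le (by rw [sq]; exact hn), add_zero]
  refine Subtype.ext (Subtype.ext (Units.ext ?_))
  simpa using hXp

/-- The rank two case of `derived_image`. -/
theorem derived_image_sq {V : Type*} [CommGroup V] [Finite V] {A : Type*} [Group A] [Finite A] (hp2 : p ≠ 2)
    (hsq : Nat.card V = p ^ 2) (he : ∀ x : V, x ^ p = 1) (hodd : Odd (Nat.card A))
    (hs : Group.IsSolvable A) (f : A →* MulAut V) (a : A) (ha : a ∈ commutator A) :
    ∃ k : ℕ, f (a ^ p ^ k) = 1 := by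
  have hz : ∀ x : Additive V, p • x = 0 := fun x =>
    Additive.toMul.injective (by simpa using he (Additive.toMul x))
  haveI : Module (ZMod p) (Additive V) := AddCommGroup.zmodModule hz
  haveI : Finite (Additive V) := Finite.of_equiv V Additive.ofMul
  haveI : Module.Finite (ZMod p) (Additive V) := Module.Finite.of_finite
  haveI : Module.Free (ZMod p) (Additive V) := Module.Free.of_divisionRing (ZMod p) (Additive V)
  have hrk : Module.finrank (ZMod p) (Additive V) = 2 := by
    have h := Module.natCard_eq_pow_finrank (K := ZMod p) (V := Additive V)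
    rw [Nat.card_congr (Additive.toMul (α := V)), hsq, Nat.card_zmod] at h
    exact (Nat.pow_right_injective hp.out.two_le h).symm
  let b := Module.finBasisOfFinrankEq (ZMod p) (Additive V) hrk
  let L : MulAut V → (Additive V →ₗ[ZMod p] Additive V) := fun α =>
    (AddMonoidHom.toZModLinearMap p (MonoidHom.toAdditive α.toMonoidHom))
  let g : MulAut V →* Matrix (Fin 2) (Fin 2) (ZMod p) :=
    { toFun := fun α => LinearMap.toMatrix b b (L α)
      map_one' := by
        rw [show L 1 = LinearMap.id from LinearMap.ext fun x => rfl, LinearMap.toMatrix_id]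
      map_mul' := fun α β => by
        rw [show L (α * β) = (L α).comp (L β) from LinearMap.ext fun x => rfl, LinearMap.toMatrix_comp b b b] }
  have hginj : ∀ α, g α = 1 → α = 1 := fun α h => by
    have h1 : L α = LinearMap.id := (LinearMap.toMatrix b b).injective (by rw [LinearMap.toMatrix_id]; exact h)
    exact MulEquiv.ext fun x => congrArg Additive.toMul (LinearMap.congr_fun h1 (Additive.ofMul x))
  let φ : A →* GL (Fin 2) (ZMod p) := g.toHomUnits.comp f
  have hA : Finite φ.range := inferInstance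
  have hodd' : Odd (Nat.card φ.range) := hodd.of_dvd_nat (Subgroup.card_range_dvd φ)
  have hs' : Group.IsSolvable φ.range := Group.isSolvable_of_surjective φ.rangeRestrict_surjective
  have hP := derived_isPGroup hp2 φ.range hodd' hs'
  have hmem : φ.rangeRestrict a ∈ commutator φ.range := by
    have h1 : (commutator A).map φ.rangeRestrict ≤ commutator φ.range := by
      rw [commutator_def, commutator_def, Subgroup.map_commutator]
      exact Subgroup.commutator_mono le_top le_top
    exact h1 ⟨a, ha, rfl⟩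
  obtain ⟨k, hk⟩ := hP ⟨_, hmem⟩
  refine ⟨k, hginj _ ?_⟩
  have h2 : φ a ^ p ^ k = 1 := congrArg (fun z => ((z : commutator φ.range) : φ.range).1) hk
  rw [← map_pow] at h2
  exact congrArg Units.val h2

theorem card_prime_or_sq {V : Type*} [Group V] [Finite V] (hV : IsPGroup p V) (hc : Nat.card V ≤ p ^ 2) :
    (∀ x y : V, x * y = y * x) ∧ (IsCyclic V ∨ Nat.card V = p ^ 2) := by
  obtain ⟨j, hj⟩ := IsPGroup.iff_card.1 hV
  have hj2 : j ≤ 2 := (Nat.pow_le_pow_iff_right hp.out.one_lt).1 (hj ▸ hc)
  interval_cases j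
  · haveI : Subsingleton V := (Nat.card_eq_one_iff_unique.1 (by simpa using hj)).1
    exact ⟨fun x y => Subsingleton.elim _ _, Or.inl inferInstance⟩
  · haveI : IsCyclic V := isCyclic_of_prime_card (p := p) (by rwa [pow_one] at hj)
    refine ⟨fun x y => ?_, Or.inl inferInstance⟩
    letI := IsCyclic.commGroup (α := V)
    exact mul_comm x y
  · exact ⟨fun x y => (IsPGroup.isMulCommutative_of_card_eq_prime_sq hj).is_comm.comm x y, Or.inr hj⟩

/-- A solvable group of odd order acting on an elementary group of order at most `p²`. -/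
theorem derived_image {V : Type*} [Group V] [Finite V] {A : Type*} [Group A] [Finite A] (hp2 : p ≠ 2)
    (hV : IsPGroup p V) (hc : Nat.card V ≤ p ^ 2) (he : ∀ x : V, x ^ p = 1) (hodd : Odd (Nat.card A))
    (hs : Group.IsSolvable A) (f : A →* MulAut V) (a : A) (ha : a ∈ commutator A) :
    ∃ k : ℕ, f (a ^ p ^ k) = 1 := by
  obtain ⟨hcomm, hcyc | hsq⟩ := card_prime_or_sq hV hc
  · refine ⟨0, ?_⟩
    rw [pow_zero, pow_one]
    have hab : ∀ α β : MulAut V, α * β = β * α := fun α β => MulEquiv.ext fun x => by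
      obtain ⟨g, hg⟩ := hcyc.exists_generator
      obtain ⟨m, hm⟩ := Subgroup.mem_zpowers_iff.1 (hg (α g))
      obtain ⟨n, hn⟩ := Subgroup.mem_zpowers_iff.1 (hg (β g))
      obtain ⟨i, rfl⟩ := Subgroup.mem_zpowers_iff.1 (hg x)
      show α (β (g ^ i)) = β (α (g ^ i))
      rw [map_zpow, map_zpow, map_zpow, map_zpow, ← hm, ← hn, map_zpow, map_zpow, ← hm, ← hn, ← zpow_mul,
        ← zpow_mul, ← zpow_mul, ← zpow_mul, ← mul_assoc, ← mul_assoc, mul_comm m n]
    have hle : commutator A ≤ f.ker := by
      rw [commutator_def, Subgroup.commutator_le]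
      intro x _ y _
      rw [MonoidHom.mem_ker, map_commutatorElement, commutatorElement_eq_one_iff_mul_comm, hab]
    exact hle ha
  · letI : CommGroup V := { (inferInstance : Group V) with mul_comm := hcomm }
    exact derived_image_sq hp2 hsq he hodd hs f a ha

/-- Automorphisms of order prime to `p` act faithfully on a subgroup of exponent `p` of a critical subgroup. -/
theorem exists_reduction {R : Type*} [Group R] [Finite R] (hp2 : p ≠ 2) (hR : IsPGroup p R) :
    ∃ (H : Subgroup R) (K : Subgroup H) (res : MulAut R →* MulAut K), (∀ x : K, x ^ p = 1) ∧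
      ∀ α : MulAut R, (orderOf α).Coprime p → res α = 1 → α = 1 := by
  classical
  obtain ⟨H, hHc, hHR, -, hCH⟩ := Invol.exists_critical hR
  haveI := hHc
  have hcen : ∀ x y z : H, Commute ⁅x, y⁆ z := fun x y z => Subtype.ext (by
    have h1 := hHR (Subgroup.commutator_mem_commutator x.2 (Subgroup.mem_top (y : R)))
    exact (Subgroup.mem_centralizer_iff.1 h1.2 z z.2).symm)
  let K : Subgroup H :=
    { carrier := {x | x ^ p = 1}
      one_mem' := one_pow p
      mul_mem' := fun {x y} hx hy => by
        show (x * y) ^ p = 1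
        have hc : ⁅y, x⁆ ^ p = 1 := by
          have h2 : y * x * y⁻¹ = ⁅y, x⁆ * x := by rw [commutatorElement_def]; group
          have h3 : (y * x * y⁻¹) ^ p = 1 := by rw [conj_pow, hx, mul_one, mul_inv_cancel]
          rwa [h2, (hcen y x x).mul_pow, hx, mul_one] at h3
        rw [Grp.mul_pow_class_two (x := x) (y := y) (c := ⁅y, x⁆) (by rw [commutatorElement_def]; group)
          (hcen y x x) (hcen y x y) p, hx, hy]
        obtain ⟨m, hm⟩ := hp.out.dvd_choose_self two_ne_zero (by have := hp.out.two_le; omega : 2 < p)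
        rw [hm, pow_mul, hc, one_pow, one_mul, one_mul]
      inv_mem' := fun {x} hx => by show x⁻¹ ^ p = 1; rw [inv_pow, show x ^ p = 1 from hx, inv_one] }
  have hHi : ∀ (α : MulAut R) x, α x ∈ H ↔ x ∈ H := fun α x => by
    conv_rhs => rw [← Subgroup.Characteristic.fixed (H := H) inferInstance α]
    rfl
  let resH : MulAut R →* MulAut H :=
    { toFun := fun α =>
        { toFun := fun x => ⟨α x, (hHi α x).2 x.2⟩
          invFun := fun x => ⟨α.symm x, (hHi α _).1 (by simp)⟩
          left_inv := fun x => Subtype.ext (α.symm_apply_apply x)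
          right_inv := fun x => Subtype.ext (α.apply_symm_apply x)
          map_mul' := fun x y => Subtype.ext (map_mul α (x : R) y) }
      map_one' := rfl
      map_mul' := fun _ _ => rfl }
  have hKi : ∀ (α : MulAut H) x, α x ∈ K ↔ x ∈ K := fun α x => by
    show α x ^ p = 1 ↔ x ^ p = 1
    rw [← map_pow, EmbeddingLike.map_eq_one_iff]
  let resK : MulAut H →* MulAut K :=
    { toFun := fun α =>
        { toFun := fun x => ⟨α x, (hKi α x).2 x.2⟩
          invFun := fun x => ⟨α.symm x, (hKi α _).1 (by simp)⟩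
          left_inv := fun x => Subtype.ext (α.symm_apply_apply x)
          right_inv := fun x => Subtype.ext (α.apply_symm_apply x)
          map_mul' := fun x y => Subtype.ext (map_mul α (x : H) y) }
      map_one' := rfl
      map_mul' := fun _ _ => rfl }
  refine ⟨H, K, resK.comp resH, fun x => Subtype.ext x.2, fun α ha h => ?_⟩
  refine Invol.aut_eq_one_of_fixed hR hCH ha fun x hx => ?_
  have h1 : resH α = 1 := aut_eq_one_of_fix_omega (a := resH α) hp2 (hR.to_subgroup H)
    (Nat.Coprime.coprime_dvd_left (orderOf_map_dvd resH α) ha)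
    (fun y hy => congrArg Subtype.val (DFunLike.congr_fun h (⟨y, hy⟩ : K)))
  exact congrArg Subtype.val (DFunLike.congr_fun h1 (⟨x, hx⟩ : H))

/-- An odd order solvable group of automorphisms of a `p`-group of rank two: a section on which the
`p'`-elements act faithfully. -/
theorem derived_isPGroup_of_faithful {A R : Type*} [Group A] [Finite A] [Group R] [Finite R] (hp2 : p ≠ 2)
    (hR : IsPGroup p R) (hrk : Cfsg.PRankLE p 2 R) (hodd : Odd (Nat.card A)) (hs : Group.IsSolvable A)
    (f : A →* MulAut R) (hf : Function.Injective f) : IsPGroup p (commutator A) := by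
  classical
  obtain ⟨H, K, res, hKe, hres⟩ := exists_reduction hp2 hR
  let fK : A →* MulAut K := res.comp f
  -- elements of order prime to `p` act faithfully on `K`
  have hfaith : ∀ a : A, (orderOf a).Coprime p → fK a = 1 → a = 1 := fun a ha h =>
    hf ((hres (f a) (Nat.Coprime.coprime_dvd_left (orderOf_map_dvd f a) ha) h).trans (map_one f).symm)
  have hKR : IsPGroup p K := (hR.to_subgroup H).to_subgroup K
  have hrkK : Cfsg.PRankLE p 2 K := RankTwo.rankLE_subgroup (RankTwo.rankLE_subgroup hrk H) K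
  -- reduce to elements acting trivially on the section
  suffices key : ∀ a ∈ commutator A, (orderOf a).Coprime p → a = 1 by
    intro z
    obtain ⟨k, m, hm, hord⟩ := Nat.exists_eq_pow_mul_and_not_dvd (orderOf_pos (z : A)).ne' p hp.out.ne_one
    refine ⟨k, Subtype.ext ?_⟩
    have h1 : orderOf ((z : A) ^ p ^ k) = m := by
      rw [orderOf_pow_of_dvd (pow_ne_zero _ hp.out.ne_zero) (hord ▸ dvd_mul_right _ _), hord,
        Nat.mul_div_cancel_left _ (pow_pos hp.out.pos k)]
    simpa using key _ (pow_mem z.2 _) (h1.symm ▸ (hp.out.coprime_iff_not_dvd.2 hm).symm)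
  intro a ha hcop
  by_cases hK2 : Nat.card K ≤ p ^ 2
  · obtain ⟨k, hk⟩ := derived_image hp2 hKR hK2 hKe hodd hs fK a ha
    have h1 : a ^ p ^ k = 1 := hfaith _ (Nat.Coprime.coprime_dvd_left (orderOf_pow_dvd _) hcop) hk
    exact orderOf_eq_one_iff.1 (Nat.eq_one_of_dvd_coprimes (hcop.pow_right k) dvd_rfl (orderOf_dvd_of_pow_eq_one h1))
  set Z := Subgroup.center K with hZ
  have hK3 : Nat.card K ≤ p ^ 3 := RankTwo.card_le_cube hKR hrkK hKe
  have hnc : ¬ ∀ x y : K, x * y = y * x := fun h => hK2 (by
    have := hrkK ⊤ ⟨⟨fun x y => Subtype.ext (h x y)⟩⟩ (fun x _ => hKe x)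
    rwa [Subgroup.card_top] at this)
  haveI : Nontrivial K := Finite.one_lt_card_iff_nontrivial.1 (lt_of_le_of_lt (pow_pos hp.out.pos 2) (not_le.1 hK2))
  haveI := hKR.center_nontrivial
  have hq2 : Nat.card (K ⧸ Z) ≤ p ^ 2 := by
    obtain ⟨j, hj⟩ := IsPGroup.iff_card.1 (hKR.to_subgroup Z)
    have hj0 : j ≠ 0 := fun h => by
      rw [h, pow_zero] at hj
      exact absurd hj (Finite.one_lt_card (α := Z)).ne'
    have h1 := Subgroup.card_eq_card_quotient_mul_card_subgroup Z
    by_contra hgt
    have h2 : p ^ 2 * p < Nat.card K := by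
      rw [h1, hj]
      calc p ^ 2 * p < Nat.card (K ⧸ Z) * p := Nat.mul_lt_mul_of_pos_right (not_le.1 hgt) hp.out.pos
        _ ≤ Nat.card (K ⧸ Z) * p ^ j := Nat.mul_le_mul_left _ (Nat.le_self_pow hj0 p)
    rw [← pow_succ] at h2
    exact absurd hK3 (not_le.2 h2)
  have hQe : ∀ x : K ⧸ Z, x ^ p = 1 := fun x => by
    obtain ⟨y, rfl⟩ := QuotientGroup.mk_surjective x
    rw [← QuotientGroup.mk_pow, hKe]; rfl
  -- the centre lies in the Frattini subgroup
  have hZfr : Z ≤ frattini K := by
    have hcZ : commutator K ≤ Z := by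
      rw [commutator_def, Subgroup.commutator_le]
      intro x _ y _
      rw [← QuotientGroup.eq_one_iff]
      show QuotientGroup.mk' Z ⁅x, y⁆ = 1
      rw [map_commutatorElement, commutatorElement_eq_one_iff_mul_comm]
      exact (card_prime_or_sq (hKR.to_quotient Z) hq2).1 _ _
    have hcne : commutator K ≠ ⊥ := fun h => hnc fun x y => by
      have hm : ⁅x, y⁆ ∈ commutator K := by
        rw [commutator_def]; exact Subgroup.commutator_mem_commutator (Subgroup.mem_top x) (Subgroup.mem_top y)
      rw [h, Subgroup.mem_bot, commutatorElement_eq_one_iff_mul_comm] at hm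
      exact hm
    have hZp : Nat.card Z ≤ p := by
      obtain ⟨j, hj⟩ := IsPGroup.iff_card.1 (hKR.to_subgroup Z)
      obtain ⟨i, hi⟩ := IsPGroup.iff_card.1 (hKR.to_quotient Z)
      obtain ⟨n, hn⟩ := IsPGroup.iff_card.1 hKR
      have h1 := Subgroup.card_eq_card_quotient_mul_card_subgroup Z
      rw [hn, hi, hj, ← pow_add] at h1
      have h1' := Nat.pow_right_injective hp.out.two_le h1
      have hi2 : 2 ≤ i := by
        by_contra hlt
        haveI : IsCyclic (K ⧸ Z) := by
          rcases (show i = 0 ∨ i = 1 by omega) with rfl | rfl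
          · haveI : Subsingleton (K ⧸ Z) := (Nat.card_eq_one_iff_unique.1 (by simpa using hi)).1
            infer_instance
          · exact isCyclic_of_prime_card (p := p) (by rwa [pow_one] at hi)
        exact hnc fun x y => commutative_of_cyclic_center_quotient (QuotientGroup.mk' Z)
          (by rw [QuotientGroup.ker_mk']) x y
      have hn3 : n ≤ 3 := (Nat.pow_le_pow_iff_right hp.out.one_lt).1 (hn ▸ hK3)
      rw [hj]
      exact le_trans (Nat.pow_le_pow_right hp.out.pos (by omega : j ≤ 1)) (pow_one p).le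
    have hce : p ≤ Nat.card (commutator K) := by
      obtain ⟨j, hj⟩ := IsPGroup.iff_card.1 (hKR.to_subgroup (commutator K))
      rcases Nat.eq_zero_or_pos j with rfl | hpos
      · exact absurd (Subgroup.eq_bot_of_card_eq _ (by simpa using hj)) hcne
      · rw [hj]; exact le_trans (pow_one p).ge (Nat.pow_le_pow_right hp.out.pos hpos)
    rw [← Subgroup.eq_of_le_of_card_ge hcZ (hZp.trans hce)]
    exact Grp.pGroup_commutator_le_frattini hKR
  have hZfix : ∀ α : MulAut K, Z.map α.toMonoidHom = Z := fun α => by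
    haveI : Z.Characteristic := inferInstance
    exact Subgroup.characteristic_iff_map_eq.1 inferInstance α
  let resQ : MulAut K →* MulAut (K ⧸ Z) :=
    { toFun := fun α => QuotientGroup.congr Z Z α (hZfix α)
      map_one' := MulEquiv.ext fun z => by
        obtain ⟨y, rfl⟩ := QuotientGroup.mk_surjective z
        rfl
      map_mul' := fun α β => MulEquiv.ext fun z => by
        obtain ⟨y, rfl⟩ := QuotientGroup.mk_surjective z
        rfl }
  obtain ⟨k, hk⟩ := derived_image hp2 (hKR.to_quotient Z) hq2 hQe hodd hs (resQ.comp fK) a ha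
  have hcop' : (orderOf (a ^ p ^ k)).Coprime p := Nat.Coprime.coprime_dvd_left (orderOf_pow_dvd _) hcop
  have h1 : a ^ p ^ k = 1 := by
    refine hfaith _ hcop' ?_
    by_contra hne
    obtain ⟨q, hq, hqd⟩ := Nat.exists_prime_and_dvd (n := orderOf (fK (a ^ p ^ k)))
      (fun h => hne (orderOf_eq_one_iff.1 h))
    haveI := Fact.mk hq
    have hqp : q ≠ p := fun e => hp.out.one_lt.ne' (Nat.eq_one_of_dvd_coprimes hcop'
      ((e ▸ hqd).trans (orderOf_map_dvd fK _)) dvd_rfl)
    obtain ⟨m, hm⟩ := hqd
    set α := fK (a ^ p ^ k) ^ m with hα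
    have hαq : α ^ q = 1 := by rw [hα, ← pow_mul, mul_comm, ← hm, pow_orderOf_eq_one]
    have hα1 : α = 1 := Fus.MetaTwo.aut_eq_one hqp hKR hαq fun x => by
      refine hZfr ((QuotientGroup.eq).1 ?_)
      have h2 : resQ α = 1 := by rw [hα, map_pow, show resQ (fK (a ^ p ^ k)) = 1 from hk, one_pow]
      exact (DFunLike.congr_fun h2 (x : K ⧸ Z)).symm
    have h3 := orderOf_dvd_of_pow_eq_one hα1
    rw [hm] at h3
    have hpos : 0 < m := by
      rcases Nat.eq_zero_or_pos m with rfl | h
      · have hpos' : 0 < orderOf (fK (a ^ p ^ k)) := orderOf_pos_iff.2 (isOfFinOrder_iff_pow_eq_one.2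
          ⟨orderOf (a ^ p ^ k), orderOf_pos _, orderOf_dvd_iff_pow_eq_one.1 (orderOf_map_dvd fK _)⟩)
        omega
      · exact h
    have := Nat.le_of_dvd hpos h3
    have h4 : m * 2 ≤ q * m := by rw [mul_comm q]; exact Nat.mul_le_mul_left m hq.two_le
    omega
  exact orderOf_eq_one_iff.1 (Nat.eq_one_of_dvd_coprimes (hcop.pow_right k) dvd_rfl (orderOf_dvd_of_pow_eq_one h1))

end Cfsg.Agent.Transfer.OddRankTwo
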