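import Mathlib
import Cfsg.Agent.Lib.Transfer.OddRankTwo
import Cfsg.Agent.Lib.Transfer.NormalComplement
import Cfsg.Agent.Lib.Transfer.Cores
import Cfsg.Agent.Lib.Grp.Solvable
import Cfsg.Agent.Lib.Grp.Frattini

/-!
Structure of solvable groups of odd order with small `p`-rank.
-/

set_option autoImplicit false
set_option linter.unusedSectionVars false
set_option maxHeartbeats 1000000

namespace Cfsg.Agent.Transfer.OddRankTwo

open scoped commutatorElement

variable {p : ℕ} [hp : Fact p.Prime]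

/-- The six conclusions about a group of odd order with small `p`-rank. -/
def Concl (p : ℕ) (G : Type*) [Group G] : Prop :=
  (∀ q : ℕ, q.Prime → q ∣ (Cfsg.pPrimeCore p G).index → q ≤ p) ∧
    ((p = 3 ∨ ∀ q : ℕ, q.Prime → q ∣ Nat.card G → p ≤ q) → Cfsg.HasNormalPComplement p G) ∧
    Cfsg.HasNormalPComplement p ↥(commutator G) ∧
    (∀ L : Subgroup ↥(commutator G), (Nat.card L).Coprime p → L ≤ Cfsg.pPrimeCore p ↥(commutator G)) ∧
    commutator G ≤ Cfsg.pPrimePCore p G ∧ ((Cfsg.pPrimePCore p G).index).Coprime p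

theorem concl_of {G : Type*} [Group G] [Finite G] (hp2 : p ≠ 2) (hodd : Odd (Nat.card G))
    (hder : IsPGroup p (commutator (G ⧸ Cfsg.pPrimeCore p G)))
    (hq : ∀ q : ℕ, q.Prime → q ∣ Nat.card (G ⧸ Cfsg.pPrimeCore p G) → q ≠ p → q ∣ (p - 1) * (p + 1)) :
    Concl p G := by
  classical
  haveI : (Cfsg.pPrimeCore p G).Normal := Grp.pPrimeCore_isNormal
  set N := Cfsg.pPrimeCore p G with hN
  set Q := G ⧸ N with hQ
  let π := QuotientGroup.mk' N
  have hoddp : ∀ q : ℕ, q.Prime → q ∣ Nat.card G → q ≠ 2 := fun q _ hd h =>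
    hodd.not_two_dvd_nat (h ▸ hd)
  have hle : ∀ q : ℕ, q.Prime → q ∣ N.index → q ≤ p ∧ q ≠ 2 := by
    intro q hqp hd
    refine ⟨?_, hoddp q hqp (hd.trans N.index_dvd_card)⟩
    by_cases hqe : q = p
    · exact hqe.le
    rcases (hqp.dvd_mul).1 (hq q hqp (by rwa [← Subgroup.index_eq_card]) hqe) with h | h
    · exact le_trans (Nat.le_of_dvd (by have := hp.out.two_le; omega) h) (Nat.sub_le _ _)
    · rcases eq_or_lt_of_le (Nat.le_of_dvd (Nat.succ_pos _) h) with h1 | h1
      · rcases hp.out.eq_two_or_odd' with h2 | ⟨k, hk⟩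
        · exact absurd h2 hp2
        · have := (hqp.eq_two_or_odd').resolve_left (hoddp q hqp (hd.trans N.index_dvd_card))
          obtain ⟨j, hj⟩ := this
          omega
      · omega
  have hmapder : ∀ z ∈ commutator G, π z ∈ commutator Q := by
    intro z hz
    have h1 : (commutator G).map π ≤ commutator Q := by
      rw [_root_.commutator_def, _root_.commutator_def, Subgroup.map_commutator]
      exact Subgroup.commutator_mono le_top le_top
    exact h1 ⟨z, hz, rfl⟩
  have hcore : commutator Q ≤ Cfsg.pCore p Q := le_pCore inferInstance hder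
  let φ : ↥(commutator G) →* commutator Q :=
    (π.comp (commutator G).subtype).codRestrict _ fun z => hmapder z z.2
  have hker : φ.ker = N.subgroupOf (commutator G) := by
    ext z
    exact Subtype.ext_iff.trans (QuotientGroup.eq_one_iff (z : G))
  refine ⟨fun q hqp hd => (hle q hqp hd).1, fun hor => ?_, ?_, fun L hL => ?_, fun z hz => hcore (hmapder z hz), ?_⟩
  · refine hasNormalPComplement_iff_exists.2 ⟨N, inferInstance, ?_, N.index.primeFactorsList.length, ?_⟩
    · exact hp.out.coprime_iff_not_dvd.1 Grp.pPrimeCore_coprime.symm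
    · refine Nat.eq_prime_pow_of_unique_prime_dvd Subgroup.index_ne_zero_of_finite fun {q} hqp hd => ?_
      obtain ⟨hqle, hq2⟩ := hle q hqp hd
      rcases hor with h3 | hmin
      · have := hqp.two_le; omega
      · exact le_antisymm hqle (hmin q hqp (hd.trans N.index_dvd_card))
  · refine hasNormalPComplement_iff_exists.2 ⟨φ.ker, inferInstance, ?_, ?_⟩
    · rw [hker]
      intro hdvd
      exact hp.out.coprime_iff_not_dvd.1 Grp.pPrimeCore_coprime.symm
        (hdvd.trans (Subgroup.card_comap_dvd_of_injective N _ (commutator G).subtype_injective))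
    · rw [Subgroup.index_ker]
      exact IsPGroup.iff_card.1 (hder.to_subgroup φ.range)
  · refine le_trans ?_ (Grp.le_pPrimeCore (N := φ.ker) inferInstance ?_)
    · intro x hx
      rw [MonoidHom.mem_ker]
      obtain ⟨k, hk⟩ := hder (φ x)
      refine orderOf_eq_one_iff.1 (Nat.eq_one_of_dvd_coprimes (hL.pow_right k) ?_ (orderOf_dvd_of_pow_eq_one hk))
      exact (orderOf_map_dvd φ x).trans (L.orderOf_dvd_natCard hx)
    · rw [hker]
      exact Nat.Coprime.coprime_dvd_left
        (Subgroup.card_comap_dvd_of_injective N _ (commutator G).subtype_injective) Grp.pPrimeCore_coprime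
  · rw [Cfsg.pPrimePCore, Subgroup.index_comap_of_surjective _ (QuotientGroup.mk'_surjective _)]
    obtain ⟨S⟩ : Nonempty (Sylow p Q) := Sylow.nonempty
    haveI : (S : Subgroup Q).Normal := ⟨fun s hs x => by
      have h : ⁅x, s⁆ ∈ commutator Q := by
        rw [_root_.commutator_def]; exact Subgroup.commutator_mem_commutator (Subgroup.mem_top x) (Subgroup.mem_top s)
      have h2 := (S : Subgroup Q).mul_mem (pCore_le_sylow S (hcore h)) hs
      rwa [show ⁅x, s⁆ * s = x * s * x⁻¹ by rw [commutatorElement_def]; group] at h2⟩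
    rw [le_antisymm (pCore_le_sylow S) (le_pCore inferInstance S.isPGroup')]
    exact (hp.out.coprime_iff_not_dvd.2 S.not_dvd_index).symm

/-- A prime order automorphism of a `p`-group of rank two has order dividing `p (p - 1) (p + 1)`. -/
theorem prime_dvd_of_aut {R : Type*} [Group R] [Finite R] (hp2 : p ≠ 2) (hR : IsPGroup p R)
    (hrk : Cfsg.PRankLE p 2 R) {q : ℕ} (hq : q.Prime) (hqp : q ≠ p) (α : MulAut R) (hα : orderOf α = q) :
    q ∣ (p - 1) * (p + 1) := by
  classical
  haveI := Fact.mk hq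
  obtain ⟨H, K, res, hKe, hres⟩ := exists_reduction hp2 hR
  have hKR : IsPGroup p K := (hR.to_subgroup H).to_subgroup K
  have hrkK : Cfsg.PRankLE p 2 K := RankTwo.rankLE_subgroup (RankTwo.rankLE_subgroup hrk H) K
  set β := res α with hβ
  have hβq : β ^ q = 1 := by rw [hβ, ← map_pow, ← hα, pow_orderOf_eq_one, map_one]
  have hβ1 : β ≠ 1 := fun h => hq.ne_one (hα.symm.trans (orderOf_eq_one_iff.2
    (hres α (by rw [hα]; exact (Nat.coprime_primes hq hp.out).2 hqp) h)))
  let C : Subgroup K :=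
    { carrier := {x | β x = x}
      one_mem' := map_one β
      mul_mem' := fun {x y} hx hy => by
        show β (x * y) = x * y
        rw [map_mul, show β x = x from hx, show β y = y from hy]
      inv_mem' := fun {x} hx => by
        show β x⁻¹ = x⁻¹
        rw [map_inv, show β x = x from hx] }
  have hCne : C ≠ ⊤ := fun h => hβ1 (MulEquiv.ext fun x => (h.ge (Subgroup.mem_top x) : x ∈ C))
  -- the fixed points of a power of `β` on an invariant subgroup
  have count : ∀ Y : Subgroup K, Y.map β.toMonoidHom = Y → Nat.card Y ≡ Nat.card ↥(C ⊓ Y) [MOD q] := by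
    intro Y hY
    let A := Subgroup.zpowers β
    have hA : IsPGroup q A := IsPGroup.of_card (n := 1) (by
      rw [Nat.card_zpowers, pow_one]; exact orderOf_eq_prime hβq hβ1)
    have hinv : ∀ a : A, ∀ x ∈ Y, (a : MulAut K) x ∈ Y := by
      intro a
      have hle : A ≤ Subgroup.closure {β} := (Subgroup.zpowers_eq_closure β).le
      obtain ⟨a, ha⟩ := a
      obtain ⟨n, rfl⟩ : ∃ n : ℕ, β ^ n = a :=
        (IsOfFinOrder.mem_zpowers_iff_mem_range_orderOf (isOfFinOrder_iff_pow_eq_one.2 ⟨q, hq.pos, hβq⟩)).1 ha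
          |> fun h => by obtain ⟨n, -, hn⟩ := Finset.mem_image.1 h; exact ⟨n, hn⟩
      show ∀ x ∈ Y, (β ^ n) x ∈ Y
      clear ha
      induction n with
      | zero => intro x hx; simpa using hx
      | succ n ih =>
        intro x hx
        show (β ^ (n + 1)) x ∈ Y
        rw [pow_succ']
        exact hY.le ⟨_, ih x hx, rfl⟩
    letI : MulAction A Y :=
      { smul := fun a x => ⟨(a : MulAut K) x, hinv a x x.2⟩
        one_smul := fun x => Subtype.ext rfl
        mul_smul := fun a b x => Subtype.ext rfl }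
    have h := hA.card_modEq_card_fixedPoints Y
    suffices he : Nat.card (MulAction.fixedPoints A Y) = Nat.card ↥(C ⊓ Y) by rwa [he] at h
    refine Nat.card_congr ⟨fun x => ⟨(x : Y), congrArg Subtype.val (x.2 ⟨β, Subgroup.mem_zpowers β⟩), (x : Y).2⟩,
      fun x => ⟨⟨x, x.2.2⟩, ?_⟩, fun x => Subtype.ext (Subtype.ext rfl), fun x => Subtype.ext rfl⟩
    rintro ⟨a, ha⟩
    have hfix : A ≤ MulAction.stabilizer (MulAut K) (x : K) := by
      rw [Subgroup.zpowers_le]; exact x.2.1
    exact Subtype.ext (hfix ha)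
  have finish : ∀ (Y : Subgroup K) (j i : ℕ), Nat.card Y = p ^ j → Nat.card ↥(C ⊓ Y) = p ^ i →
      Y.map β.toMonoidHom = Y → i ≤ j ∧ q ∣ p ^ (j - i) - 1 := by
    intro Y j i hj hi hY
    have hle : p ^ i ≤ p ^ j := by
      rw [← hj, ← hi]; exact Subgroup.card_le_of_le inf_le_right
    have hij : i ≤ j := (Nat.pow_le_pow_iff_right hp.out.one_lt).1 hle
    refine ⟨hij, ?_⟩
    have h := (Nat.modEq_iff_dvd' (show Nat.card ↥(C ⊓ Y) ≤ Nat.card Y from Subgroup.card_le_of_le inf_le_right)).1 (count Y hY).symm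
    rw [hj, hi, show p ^ j - p ^ i = p ^ i * (p ^ (j - i) - 1) by
      rw [Nat.mul_sub_one, ← pow_add, Nat.add_sub_cancel' hij]] at h
    exact ((hq.dvd_mul).1 h).resolve_left fun h' => hqp ((Nat.prime_dvd_prime_iff_eq hq hp.out).1 (hq.dvd_of_dvd_pow h'))
  have small : ∀ d : ℕ, q ∣ p ^ d - 1 → 1 ≤ d → d ≤ 2 → q ∣ (p - 1) * (p + 1) := by
    intro d hd h1 h2
    rcases (show d = 1 ∨ d = 2 by omega) with rfl | rfl
    · rw [pow_one] at hd; exact hd.mul_right _
    · have := Nat.sq_sub_sq p 1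
      rw [one_pow] at this
      rw [this, mul_comm] at hd
      exact hd
  obtain ⟨j, hj⟩ := IsPGroup.iff_card.1 hKR
  obtain ⟨i, hi⟩ := IsPGroup.iff_card.1 (hKR.to_subgroup C)
  have htop := finish ⊤ j i (by rw [Subgroup.card_top, hj]) (by rw [inf_top_eq, hi])
    (Subgroup.map_top_of_surjective _ β.surjective)
  have hlt : i < j := by
    rcases lt_or_eq_of_le htop.1 with h | h
    · exact h
    · exact absurd (Subgroup.eq_top_of_card_eq C (by rw [hi, hj, h])) hCne
  have hj3 : j ≤ 3 := (Nat.pow_le_pow_iff_right hp.out.one_lt).1 (hj ▸ RankTwo.card_le_cube hKR hrkK hKe)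
  by_cases hd : j - i ≤ 2
  · exact small _ htop.2 (by omega) hd
  -- `K` has order `p ^ 3` and `β` moves all non-trivial elements
  haveI : Nontrivial K := Finite.one_lt_card_iff_nontrivial.1 (by
    rw [hj]; exact Nat.one_lt_pow (by omega) hp.out.one_lt)
  haveI := hKR.center_nontrivial
  obtain ⟨z, hz⟩ := IsPGroup.iff_card.1 (hKR.to_subgroup (Subgroup.center K))
  have hCbot : C = ⊥ := Subgroup.eq_bot_of_card_eq C (by rw [hi, show i = 0 by omega, pow_zero])
  have hcen := finish (Subgroup.center K) z 0 hz (by rw [hCbot, bot_inf_eq, Subgroup.card_bot, pow_zero])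
    (Subgroup.characteristic_iff_map_eq.1 inferInstance β)
  have hz0 : z ≠ 0 := fun h => by
    rw [h, pow_zero] at hz
    exact absurd hz (Finite.one_lt_card (α := Subgroup.center K)).ne'
  refine small z (by simpa using hcen.2) (Nat.one_le_iff_ne_zero.2 hz0) ?_
  have := hrkK (Subgroup.center K) inferInstance fun a _ => hKe a
  exact (Nat.pow_le_pow_iff_right hp.out.one_lt).1 (hz ▸ this)

theorem prankLE_quotient {G : Type*} [Group G] [Finite G] (N : Subgroup G) [N.Normal]
    (hN : (Nat.card N).Coprime p) {k : ℕ} (h : Cfsg.PRankLE p k G) : Cfsg.PRankLE p k (G ⧸ N) := by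
  intro A hA hAe
  set U := A.comap (QuotientGroup.mk' N) with hU
  obtain ⟨S⟩ : Nonempty (Sylow p U) := Sylow.nonempty
  let ψ : (S : Subgroup U) →* A :=
    (((QuotientGroup.mk' N).comp U.subtype).comp (S : Subgroup U).subtype).codRestrict A fun s => (s : U).2
  have hAp : IsPGroup p A := fun a => ⟨1, Subtype.ext (by simpa using hAe a a.2)⟩
  have hψ : Function.Injective ψ := by
    rw [← MonoidHom.ker_eq_bot_iff, Subgroup.eq_bot_iff_forall]
    intro s hs
    have h1 : ((s : U) : G) ∈ N := (QuotientGroup.eq_one_iff _).1 (congrArg Subtype.val hs)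
    obtain ⟨m, hm⟩ := S.isPGroup' s
    refine orderOf_eq_one_iff.1 (Nat.eq_one_of_dvd_coprimes (hN.pow_right m) ?_ (orderOf_dvd_of_pow_eq_one hm))
    rw [← orderOf_injective ((U.subtype).comp (S : Subgroup U).subtype)
      (U.subtype_injective.comp (S : Subgroup U).subtype_injective) s]
    exact N.orderOf_dvd_natCard h1
  let T : Subgroup G := (S : Subgroup U).map U.subtype
  have hT : Nat.card T ≤ p ^ k := by
    refine h T ⟨⟨fun x y => ?_⟩⟩ fun x hx => ?_
    · obtain ⟨x', hx', hxe⟩ := x.2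
      obtain ⟨y', hy', hye⟩ := y.2
      have := hA.is_comm.comm (ψ ⟨x', hx'⟩) (ψ ⟨y', hy'⟩)
      rw [← map_mul, ← map_mul] at this
      refine Subtype.ext ?_
      show (x : G) * y = y * x
      rw [← hxe, ← hye]
      exact congrArg (fun w : (S : Subgroup U) => ((w : U) : G)) (hψ this)
    · obtain ⟨x', hx', rfl⟩ := hx
      have : ψ (⟨x', hx'⟩ ^ p) = 1 := by rw [map_pow]; exact Subtype.ext (hAe _ (ψ ⟨x', hx'⟩).2)
      rw [← map_one ψ] at this
      exact congrArg (fun w : (S : Subgroup U) => ((w : U) : G)) (hψ this)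
  rw [Subgroup.card_map_of_injective U.subtype_injective] at hT
  refine le_trans (le_of_eq ?_) hT
  have hidx : A = ψ.range.map A.subtype := by
    have hsur : Function.Surjective ((((QuotientGroup.mk' N).comp U.subtype)).codRestrict A fun u => u.2) :=
      fun ⟨a, ha⟩ => by
        obtain ⟨g, rfl⟩ := QuotientGroup.mk'_surjective N a
        exact ⟨⟨g, ha⟩, rfl⟩
    have h1 : ((S.mapSurjective hsur : Sylow p A) : Subgroup A) = ⊤ :=
      ((S.mapSurjective hsur).is_maximal' (hAp.of_equiv Subgroup.topEquiv.symm) le_top).symm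
    rw [show ψ.range = (⊤ : Subgroup A) from top_le_iff.1 fun a _ => by
      obtain ⟨u, hu, hua⟩ := h1.ge (Subgroup.mem_top a)
      exact ⟨⟨u, hu⟩, hua⟩, ← MonoidHom.range_eq_map, Subgroup.range_subtype]
  rw [hidx, Subgroup.card_map_of_injective A.subtype_injective]
  exact (Nat.card_congr (MonoidHom.ofInjective hψ).toEquiv).symm

theorem concl_of_faithful {G : Type*} [Group G] [Finite G] [Group.IsSolvable G] (hp2 : p ≠ 2) (hodd : Odd (Nat.card G))
    (hP : ∀ A : Subgroup (MulAut (Cfsg.pCore p (G ⧸ Cfsg.pPrimeCore p G))), Odd (Nat.card A) →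
      Group.IsSolvable A → IsPGroup p (commutator A) ∧
        ∀ q : ℕ, q.Prime → q ∣ Nat.card A → q ≠ p → q ∣ (p - 1) * (p + 1)) : Concl p G := by
  classical
  haveI : (Cfsg.pPrimeCore p G).Normal := Grp.pPrimeCore_isNormal
  set N := Cfsg.pPrimeCore p G with hN
  set Q := G ⧸ N with hQ
  haveI : (Cfsg.pCore p Q).Normal := pCore_normal' p Q
  have hcen : Subgroup.centralizer (Cfsg.pCore p Q : Set Q) ≤ Cfsg.pCore p Q :=
    Grp.centralizer_pCore_le (Grp.pPrimeCore_quotient_eq_bot)
  let f : Q →* MulAut (Cfsg.pCore p Q) := MulAut.conjNormal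
  have hker : ∀ x : Q, f x = 1 → x ∈ Cfsg.pCore p Q := fun x hx => hcen (Subgroup.mem_centralizer_iff.2 fun y hy => by
    have h : x * y * x⁻¹ = y := by
      have := congrArg (fun e : MulAut (Cfsg.pCore p Q) => ((e ⟨y, hy⟩ : Cfsg.pCore p Q) : Q)) hx
      simpa [f] using this
    exact (mul_inv_eq_iff_eq_mul.1 h).symm)
  obtain ⟨hA, hAq⟩ := hP f.range (Odd.of_dvd_nat (hodd.of_dvd_nat (Subgroup.card_quotient_dvd_card N))
    (Subgroup.card_range_dvd f)) (Group.isSolvable_of_surjective f.rangeRestrict_surjective)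
  refine concl_of hp2 hodd (fun z => ?_) fun q hq hqd hqp => ?_
  · have hm : f.rangeRestrict z ∈ commutator f.range := by
      have h1 : (commutator Q).map f.rangeRestrict ≤ commutator f.range := by
        rw [_root_.commutator_def, _root_.commutator_def, Subgroup.map_commutator]
        exact Subgroup.commutator_mono le_top le_top
      exact h1 ⟨z, z.2, rfl⟩
    obtain ⟨k, hk⟩ := hA ⟨_, hm⟩
    have h2 : f ((z : Q) ^ p ^ k) = 1 := by
      rw [map_pow]; exact congrArg (fun w => ((w : commutator f.range) : f.range).1) hk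
    obtain ⟨m, hm'⟩ := pCore_isPGroup p Q ⟨_, hker _ h2⟩
    refine ⟨k + m, Subtype.ext ?_⟩
    rw [pow_add, pow_mul]
    have h3 : ((z : Q) ^ p ^ k) ^ p ^ m = 1 := congrArg Subtype.val hm'
    rw [← SubmonoidClass.coe_pow] at h3
    simpa using h3
  · haveI := Fact.mk hq
    obtain ⟨x, hx⟩ := exists_prime_orderOf_dvd_card' q hqd
    have hne : f x ≠ 1 := fun h => by
      obtain ⟨m, hm⟩ := pCore_isPGroup p Q ⟨x, hker x h⟩
      have h1 : x ^ p ^ m = 1 := congrArg Subtype.val hm
      exact hqp ((Nat.prime_dvd_prime_iff_eq hq hp.out).1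
        (hq.dvd_of_dvd_pow (hx ▸ orderOf_dvd_of_pow_eq_one h1)))
    refine hAq q hq ?_ hqp
    have h1 : f x ^ q = 1 := by rw [← map_pow, ← hx, pow_orderOf_eq_one, map_one]
    rw [← orderOf_eq_prime h1 hne]
    exact Subgroup.orderOf_dvd_natCard _ ⟨x, rfl⟩

theorem concl_rank_two {G : Type*} [Group G] [Finite G] [Group.IsSolvable G] (hodd : Odd (Nat.card G))
    (hpG : p ∣ Nat.card G) (hr : Cfsg.PRankLE p 2 G) : Concl p G := by
  have hp2 : p ≠ 2 := fun h => hodd.not_two_dvd_nat (h ▸ hpG)
  haveI : (Cfsg.pPrimeCore p G).Normal := Grp.pPrimeCore_isNormal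
  have hrk := RankTwo.rankLE_subgroup (prankLE_quotient (Cfsg.pPrimeCore p G) Grp.pPrimeCore_coprime hr)
    (Cfsg.pCore p (G ⧸ Cfsg.pPrimeCore p G))
  refine concl_of_faithful hp2 hodd fun A hA hs => ⟨?_, fun q hq hqd hqp => ?_⟩
  · exact derived_isPGroup_of_faithful hp2 (pCore_isPGroup p _) hrk hA hs A.subtype A.subtype_injective
  · haveI := Fact.mk hq
    obtain ⟨x, hx⟩ := exists_prime_orderOf_dvd_card' q hqd
    exact prime_dvd_of_aut hp2 (pCore_isPGroup p _) hrk hq hqp (x : MulAut _)
      (by rw [← hx]; exact orderOf_injective A.subtype A.subtype_injective x)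

end Cfsg.Agent.Transfer.OddRankTwo
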