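import Mathlib
import Cfsg.Prelude.Def_PLocal
import Cfsg.Agent.Lib.Grp.Signalizer
import Cfsg.Agent.Lib.Grp.CoprimeAbelian
import Cfsg.Agent.Lib.Fus.Saturation

/-!
Offenders in a group with self-centralizing `p'`-core: exact offenders and their decomposition into
transvection subgroups.
-/

set_option autoImplicit false
set_option linter.unusedSectionVars false
set_option linter.style.haveILetI false

namespace Cfsg.Agent.Transfer.Offender

open Subgroup
open scoped commutatorElement

variable {G : Type*} [Group G] [Finite G] {p : ℕ} [hp : Fact p.Prime]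

/-- The fixed points of `A` in `V`. -/
abbrev fix (V A : Subgroup G) : Subgroup G := V ⊓ Subgroup.centralizer (A : Set G)

/-- `H` acts faithfully on the elementary abelian group `V`; `Q` is a normal `p'`-subgroup of `H`
containing its centralizer. -/
structure Setup (p : ℕ) (V H Q : Subgroup G) : Prop where
  elem : Cfsg.IsElementaryAbelian p V
  norm : H ≤ Subgroup.normalizer (V : Set G)
  faithful : H ⊓ Subgroup.centralizer (V : Set G) = ⊥
  QH : Q ≤ H
  Qnorm : H ≤ Subgroup.normalizer (Q : Set G)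
  Qcop : (Nat.card Q).Coprime p
  Qself : H ⊓ Subgroup.centralizer (Q : Set G) ≤ Q

/-- An elementary abelian subgroup `A` with `|A| |C_V(A)| = |V|`. -/
def IsExact (p : ℕ) (V A : Subgroup G) : Prop :=
  Cfsg.IsElementaryAbelian p A ∧ Nat.card A * Nat.card ↥(fix V A) = Nat.card V

theorem isExact_bot (V : Subgroup G) : IsExact p V (⊥ : Subgroup G) := by
  refine ⟨⟨⟨⟨fun a b => Subsingleton.elim _ _⟩⟩, fun a ha => by
    rw [Subgroup.mem_bot] at ha; rw [ha, one_pow]⟩, ?_⟩
  have : fix V (⊥ : Subgroup G) = V := inf_eq_left.mpr fun v _ =>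
    Subgroup.mem_centralizer_iff.mpr fun b hb => by
      rw [SetLike.mem_coe, Subgroup.mem_bot] at hb; simp [hb]
  rw [this, Subgroup.card_bot, one_mul]

theorem fix_anti {V A B : Subgroup G} (h : A ≤ B) : fix V B ≤ fix V A :=
  inf_le_inf_left V (Subgroup.centralizer_le (SetLike.coe_subset_coe.mpr h))

/-- A proper subgroup of a `p`-group has at most a `p`-th of its order. -/
theorem mul_card_le_of_lt {B C : Subgroup G} (hC : IsPGroup p C) (h : B < C) :
    p * Nat.card B ≤ Nat.card C := by
  obtain ⟨n, hn⟩ := IsPGroup.iff_card.mp hC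
  have hm := Grp.card_mul_relIndex h.le
  obtain ⟨i, hi, he⟩ := (Nat.dvd_prime_pow hp.out).mp (hn ▸ Subgroup.card_dvd_of_le h.le)
  have hlt := Fus.card_lt_of_lt h
  rw [hn, he] at hlt ⊢
  have : i < n := (Nat.pow_lt_pow_iff_right hp.out.one_lt).mp hlt
  rw [← pow_succ']
  exact Nat.pow_le_pow_right hp.out.pos this

/-- Every nontrivial elementary abelian group has a subgroup of index `p`. -/
theorem exists_relIndex_eq {A : Subgroup G} (hA : IsPGroup p A) (hA1 : A ≠ ⊥) :
    ∃ D ≤ A, D.relIndex A = p ∧ p * Nat.card D = Nat.card A := by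
  obtain ⟨n, hn⟩ := IsPGroup.iff_card.mp hA
  cases n with
  | zero => exact absurd (Subgroup.card_eq_one.mp (by simpa using hn)) hA1
  | succ n =>
    obtain ⟨D, hD⟩ := Sylow.exists_subgroup_card_pow_prime p (G := A) (n := n)
      (hn ▸ pow_dvd_pow p n.le_succ)
    have hc : Nat.card (D.map A.subtype) = p ^ n := by
      rw [Subgroup.card_map_of_injective A.subtype_injective, hD]
    refine ⟨D.map A.subtype, Subgroup.map_subtype_le D, ?_, by rw [hc, hn, pow_succ']⟩
    have h := Grp.card_mul_relIndex (Subgroup.map_subtype_le D)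
    rw [hc, hn, pow_succ] at h
    exact Nat.eq_of_mul_eq_mul_left (pow_pos hp.out.pos n) h

theorem card_eq_mul_of_relIndex {A D : Subgroup G} (hD : D ≤ A) (h : D.relIndex A = p) :
    Nat.card A = p * Nat.card D := by
  rw [← Grp.card_mul_relIndex hD, h, mul_comm]

section
variable {V H Q : Subgroup G} (s : Setup p V H Q)
include s

theorem Setup.vPGroup : IsPGroup p V := Grp.elemAb_isPGroup s.elem

theorem Setup.eq_bot_of_centralizes {A : Subgroup G} (hA : IsPGroup p A) (hAH : A ≤ H)
    (h : Q ≤ Subgroup.centralizer (A : Set G)) : A = ⊥ := by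
  have hAQ : A ≤ Q := fun a ha => s.Qself ⟨hAH ha, Subgroup.mem_centralizer_iff.mpr fun q hq =>
    ((Subgroup.mem_centralizer_iff.mp (h hq)) a ha).symm⟩
  obtain ⟨n, hn⟩ := IsPGroup.iff_card.mp hA
  exact Subgroup.card_eq_one.mp (Nat.eq_one_of_dvd_coprimes (hn ▸ (s.Qcop.pow_right n))
    (Subgroup.card_dvd_of_le hAQ) dvd_rfl)

/-- The key lemma: if the fixed points of the hyperplanes not containing `F` are those of `A`,
then `F` is trivial. -/
theorem Setup.eq_bot_of_fix {A F : Subgroup G} (hAH : A ≤ H) (hA : Cfsg.IsElementaryAbelian p A)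
    (hFA : F ≤ A)
    (h : ∀ D : Subgroup G, D ≤ A → D.relIndex A = p → ¬ F ≤ D → fix V D ≤ fix V A) : F = ⊥ := by
  rcases eq_or_ne A ⊥ with hA1 | hA1
  · exact le_bot_iff.mp (hA1 ▸ hFA)
  have hAp := Grp.elemAb_isPGroup hA
  refine s.eq_bot_of_centralizes (hAp.to_le hFA) (hFA.trans hAH) ?_
  refine Grp.le_of_hyperplanes hA hA1 Q (hp.out.coprime_iff_not_dvd.mp s.Qcop.symm)
    (hAH.trans s.Qnorm) fun D hDA hDi => ?_
  by_cases hFD : F ≤ D
  · exact inf_le_right.trans (Subgroup.centralizer_le (SetLike.coe_subset_coe.mpr hFD))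
  refine le_trans ?_ (Subgroup.centralizer_le (SetLike.coe_subset_coe.mpr hFA))
  set X := Q ⊓ Subgroup.centralizer (D : Set G) with hX
  set W := fix V D with hW
  have hAX : A ≤ Subgroup.normalizer (X : Set G) := Grp.le_normalizer_inf' (hAH.trans s.Qnorm)
    (Grp.le_normalizer_centralizer_of_commute fun a ha d hd => Grp.elemAb_comm hA a ha d (hDA hd))
  set R := ⁅X, A⁆ with hR
  have hRX : R ≤ X := Grp.commutator_le_left_of_le_normalizer hAX
  have hXW : X ≤ Subgroup.normalizer (W : Set G) := Grp.le_normalizer_inf'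
    ((inf_le_left.trans s.QH).trans s.norm) (Grp.le_normalizer_centralizer_of_commute fun x hx d hd =>
      ((Subgroup.mem_centralizer_iff.mp hx.2) d hd).symm)
  have hWA : ⁅W, A⁆ = ⊥ := Subgroup.commutator_eq_bot_iff_le_centralizer.mpr
    ((h D hDA hDi hFD).trans inf_le_right)
  have hWR : W ≤ Subgroup.centralizer (R : Set G) := by
    have h1 : ⁅⁅W, X⁆, A⁆ = ⊥ := le_bot_iff.mp <|
      (Subgroup.commutator_mono (Grp.commutator_le_left_of_le_normalizer hXW) le_rfl).trans hWA.le
    have h2 : ⁅⁅A, W⁆, X⁆ = ⊥ := by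
      rw [Subgroup.commutator_comm A W, hWA, Subgroup.commutator_bot_left]
    have h3 := Subgroup.commutator_commutator_eq_bot_of_rotate h2 h1
    rw [Subgroup.commutator_eq_bot_iff_le_centralizer] at h3
    exact Subgroup.le_centralizer_iff.mp h3
  have hRH : R ≤ H := hRX.trans (inf_le_left.trans s.QH)
  have hRV : R ≤ Subgroup.centralizer (V : Set G) := by
    refine Grp.thompson_PQ D R (hAp.to_le hDA)
      (s.Qcop.coprime_dvd_left (Subgroup.card_dvd_of_le (hRX.trans inf_le_left)))
      (Subgroup.le_centralizer_iff.mp (hRX.trans inf_le_right)) V s.vPGroup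
      ((hDA.trans hAH).trans s.norm) (hRH.trans s.norm) hWR
  have hR1 : R = ⊥ := le_bot_iff.mp (s.faithful ▸ le_inf hRH hRV)
  exact Subgroup.commutator_eq_bot_iff_le_centralizer.mp hR1

/-- Some hyperplane has strictly more fixed points. -/
theorem Setup.exists_hyperplane {A F : Subgroup G} (hAH : A ≤ H)
    (hA : Cfsg.IsElementaryAbelian p A) (hFA : F ≤ A) (hF : F ≠ ⊥) :
    ∃ D ≤ A, D.relIndex A = p ∧ ¬ F ≤ D ∧ fix V A < fix V D := by
  by_contra hne
  push Not at hne
  refine hF (s.eq_bot_of_fix hAH hA hFA fun D hDA hDi hFD => ?_)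
  by_contra hlt
  exact hne D hDA hDi hFD (lt_of_le_not_ge (fix_anti hDA) hlt)

/-- `|A| |C_V(A)| ≤ |V|`. -/
theorem Setup.card_mul_fix_le : ∀ (n : ℕ) (A : Subgroup G), Nat.card A = n → A ≤ H →
    Cfsg.IsElementaryAbelian p A → Nat.card A * Nat.card ↥(fix V A) ≤ Nat.card V := by
  intro n
  induction n using Nat.strong_induction_on with
  | _ n ih =>
  intro A hn hAH hA
  rcases eq_or_ne A ⊥ with rfl | hA1
  · exact (isExact_bot (p := p) V).2.le
  obtain ⟨D, hDA, hDi, -, hlt⟩ := s.exists_hyperplane hAH hA le_rfl hA1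
  have hAD := card_eq_mul_of_relIndex hDA hDi
  have h1 := ih (Nat.card D) (hn ▸ by
    rw [hAD]; exact lt_mul_of_one_lt_left Nat.card_pos hp.out.one_lt) D rfl (hDA.trans hAH)
    (Grp.elemAb_mono hA hDA)
  have h2 := mul_card_le_of_lt (s.vPGroup.to_le inf_le_left) hlt
  calc Nat.card A * Nat.card ↥(fix V A) = Nat.card D * (p * Nat.card ↥(fix V A)) := by rw [hAD]; ring
    _ ≤ Nat.card D * Nat.card ↥(fix V D) := Nat.mul_le_mul_left _ h2
    _ ≤ Nat.card V := h1

/-- A best offender inside `H` is exact. -/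
theorem Setup.isExact_of_best {A : Subgroup G} (hAH : A ≤ H)
    (hA : Cfsg.IsBestOffenderOn p V A) : IsExact p V A := by
  have hz : ∀ x ∈ A, x ∈ Subgroup.centralizer (V : Set G) → x = 1 := fun x hx hc => by
    have : x ∈ H ⊓ Subgroup.centralizer (V : Set G) := ⟨hAH hx, hc⟩
    rwa [s.faithful, Subgroup.mem_bot] at this
  have hel : Cfsg.IsElementaryAbelian p A := by
    refine ⟨⟨⟨fun a b => Subtype.ext ?_⟩⟩, fun a ha => hz _ (pow_mem ha p) (hA.2.2 a ha)⟩
    exact commutatorElement_eq_one_iff_mul_comm.mp (hz _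
      (Subgroup.commutator_le_self A (Subgroup.commutator_mem_commutator a.2 b.2))
      (hA.2.1 (Subgroup.commutator_mem_commutator a.2 b.2)))
  refine ⟨hel, le_antisymm (s.card_mul_fix_le _ A rfl hAH hel) ?_⟩
  exact (isExact_bot (p := p) V).2.symm.le.trans (hA.1 ⊥ bot_le)

/-- An exact subgroup inside `H` is a best offender. -/
theorem Setup.best_of_isExact {A : Subgroup G} (hAH : A ≤ H) (hA : IsExact p V A) :
    Cfsg.IsBestOffenderOn p V A := by
  refine ⟨fun B hB => (s.card_mul_fix_le _ B rfl (hB.trans hAH) (Grp.elemAb_mono hA.1 hB)).trans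
    hA.2.ge, ?_, fun a ha => ?_⟩
  · refine Subgroup.commutator_le.mpr fun a ha b hb => ?_
    rw [commutatorElement_eq_one_iff_mul_comm.mpr (Grp.elemAb_comm hA.1 a ha b hb)]
    exact one_mem _
  · rw [hA.1.2 a ha]
    exact one_mem _

/-- A hyperplane of an exact subgroup with more fixed points is exact. -/
theorem Setup.isExact_hyperplane {A D : Subgroup G} (hAH : A ≤ H) (hA : IsExact p V A) (hDA : D ≤ A)
    (hDi : D.relIndex A = p) (hlt : fix V A < fix V D) :
    IsExact p V D ∧ p * Nat.card ↥(fix V A) = Nat.card ↥(fix V D) := by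
  have hel := Grp.elemAb_mono hA.1 hDA
  have h1 := s.card_mul_fix_le _ D rfl (hDA.trans hAH) hel
  have h2 := mul_card_le_of_lt (s.vPGroup.to_le inf_le_left) hlt
  have h3 : Nat.card D * (p * Nat.card ↥(fix V A)) = Nat.card V := by
    rw [← hA.2, card_eq_mul_of_relIndex hDA hDi]; ring
  have h4 : Nat.card D * Nat.card ↥(fix V D) = Nat.card V :=
    le_antisymm h1 (h3.symm.le.trans (Nat.mul_le_mul_left _ h2))
  exact ⟨⟨hel, h4⟩, Nat.eq_of_mul_eq_mul_left Nat.card_pos (h3.trans h4.symm)⟩

/-- An exact subgroup is a direct product of exact subgroups of order `p`. -/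
theorem Setup.exists_decomposition : ∀ (n : ℕ) (A : Subgroup G), Nat.card A = n → A ≤ H →
    IsExact p V A → ∃ (k : ℕ) (B : Fin k → Subgroup G),
      (∀ i, B i ≤ A ∧ IsExact p V (B i) ∧ Nat.card (B i) = p) ∧ iSupIndep B ∧ ⨆ i, B i = A := by
  intro n
  induction n using Nat.strong_induction_on with
  | _ n ih =>
  intro A hn hAH hA
  rcases eq_or_ne A ⊥ with rfl | hA1
  · exact ⟨0, Fin.elim0, fun i => i.elim0, fun i => i.elim0, by simp⟩
  have hsmall : ∀ D : Subgroup G, D ≤ A → D.relIndex A = p → Nat.card D < n := fun D h1 h2 => by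
    rw [← hn, card_eq_mul_of_relIndex h1 h2]
    exact lt_mul_of_one_lt_left Nat.card_pos hp.out.one_lt
  obtain ⟨D, hDA, hDi, -, hlt⟩ := s.exists_hyperplane hAH hA.1 le_rfl hA1
  have hD := (s.isExact_hyperplane hAH hA hDA hDi hlt).1
  -- an exact subgroup of order `p` outside `D`
  obtain ⟨T, hTA, hT, hTp, hTD⟩ :
      ∃ T ≤ A, IsExact p V T ∧ Nat.card T = p ∧ ¬ T ≤ D := by
    rcases eq_or_ne D ⊥ with hD0 | hD0
    · refine ⟨A, le_rfl, hA, ?_, fun h => hA1 (le_bot_iff.mp (hD0 ▸ h))⟩
      rw [card_eq_mul_of_relIndex hDA hDi, hD0, Subgroup.card_bot, mul_one]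
    obtain ⟨D', hD'A, hD'i, hne, hlt'⟩ := s.exists_hyperplane hAH hA.1 hDA hD0
    have hD' := (s.isExact_hyperplane hAH hA hD'A hD'i hlt').1
    obtain ⟨k, B, hB, -, hBs⟩ := ih _ (hsmall D' hD'A hD'i) D' rfl (hD'A.trans hAH) hD'
    by_contra hcon
    push Not at hcon
    have hle : D' ≤ D := hBs ▸ iSup_le fun i => by
      exact hcon (B i) ((hB i).1.trans hD'A) (hB i).2.1 (hB i).2.2
    exact hne (Subgroup.eq_of_le_of_card_ge hle (by
      have h1 := card_eq_mul_of_relIndex hDA hDi
      have h2 := card_eq_mul_of_relIndex hD'A hD'i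
      exact (Nat.eq_of_mul_eq_mul_left hp.out.pos (h1.symm.trans h2)).le)).ge
  obtain ⟨k, B, hB, hind, hBs⟩ := ih _ (hsmall D hDA hDi) D rfl (hDA.trans hAH) hD
  have hTDb : T ⊓ D = ⊥ := by
    rcases (Nat.dvd_prime hp.out).mp (hTp ▸ Subgroup.card_dvd_of_le (inf_le_left : T ⊓ D ≤ T)) with h | h
    · exact Subgroup.card_eq_one.mp h
    · exact absurd ((Subgroup.eq_of_le_of_card_ge inf_le_left (hTp.trans h.symm).le).ge.trans inf_le_right) hTD
  have hTn : T ≤ Subgroup.normalizer (D : Set G) := Grp.invariant_iff.mp fun b hb x hx => by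
    rwa [Grp.elemAb_comm hA.1 b (hTA hb) x (hDA hx), mul_inv_cancel_right]
  have htop : T ⊔ D = A := Subgroup.eq_of_le_of_card_ge (sup_le hTA hDA) (by
    have h := Grp.card_sup_mul_card_inf hTn
    rw [hTDb, Subgroup.card_bot, mul_one, hTp] at h
    rw [h, ← card_eq_mul_of_relIndex hDA hDi])
  refine ⟨k + 1, Fin.cons T B, Fin.cases ⟨hTA, hT, hTp⟩ fun i =>
    ⟨((hB i).1).trans hDA, (hB i).2⟩, ?_, ?_⟩
  · have hcard : ∀ (m : ℕ) (C : Fin m → Subgroup G), (∀ i, C i ≤ A) → (∀ i, Nat.card (C i) = p) →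
        Nat.card ↥(⨆ i, C i) = p ^ m → iSupIndep C := by
      intro m C hCA hCp hCc
      have hbound : ∀ (s : Finset (Fin m)), Nat.card ↥(s.sup C) ≤ p ^ s.card := by
        intro s
        induction s using Finset.induction with
        | empty => simp
        | insert a s ha ih =>
          rw [Finset.sup_insert, Finset.card_insert_of_notMem ha, pow_succ']
          have hn' : C a ≤ Subgroup.normalizer ((s.sup C : Subgroup G) : Set G) :=
            Grp.invariant_iff.mp fun b hb x hx => by
              rwa [Grp.elemAb_comm hA.1 b (hCA a hb) x (Finset.sup_le (fun i _ => hCA i) hx),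
                mul_inv_cancel_right]
          refine le_trans (Nat.le_of_dvd (Nat.mul_pos Nat.card_pos Nat.card_pos)
            (Grp.card_sup_dvd_mul hn')) ?_
          rw [hCp]
          exact Nat.mul_le_mul_left p ih
      intro i
      rw [disjoint_iff]
      by_contra hne
      have hCi : C i ≤ ⨆ (j) (_ : j ≠ i), C j := by
        rcases (Nat.dvd_prime hp.out).mp (hCp i ▸ Subgroup.card_dvd_of_le
          (inf_le_left : C i ⊓ _ ≤ C i)) with h | h
        · exact absurd (Subgroup.card_eq_one.mp h) hne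
        · exact (Subgroup.eq_of_le_of_card_ge inf_le_left ((hCp i).trans h.symm).le).ge.trans
            inf_le_right
      classical
      have hall : (⨆ j, C j) ≤ (Finset.univ.erase i).sup C := by
        refine iSup_le fun j => ?_
        rcases eq_or_ne j i with rfl | hji
        · exact hCi.trans (iSup₂_le fun j hj => Finset.le_sup (f := C) (Finset.mem_erase.mpr ⟨hj, Finset.mem_univ j⟩))
        · exact Finset.le_sup (f := C) (Finset.mem_erase.mpr ⟨hji, Finset.mem_univ j⟩)
      have h := (Subgroup.card_le_of_le hall).trans (hbound _)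
      rw [hCc, Finset.card_erase_of_mem (Finset.mem_univ i), Finset.card_univ, Fintype.card_fin] at h
      exact absurd h (not_le.mpr (Nat.pow_lt_pow_right hp.out.one_lt (by have := i.isLt; omega)))
    have hsup : ⨆ i, (Fin.cons T B : Fin (k + 1) → Subgroup G) i = A := by
      refine le_antisymm (iSup_le (Fin.cases hTA fun i => ((hB i).1).trans hDA)) ?_
      rw [← htop, ← hBs]
      exact sup_le (le_iSup (Fin.cons T B : Fin (k + 1) → Subgroup G) 0)
        (iSup_le fun i => le_iSup_of_le i.succ le_rfl)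
    refine hcard _ _ (Fin.cases hTA fun i => ((hB i).1).trans hDA)
      (Fin.cases hTp fun i => (hB i).2.2) ?_
    rw [hsup]
    -- the order of `A`
    have hDc : Nat.card D = p ^ k := by
      rw [← hBs]
      have hf : ∀ (s : Finset (Fin k)), Nat.card ↥(s.sup B) = p ^ s.card := by
        intro s
        induction s using Finset.induction with
        | empty => simp
        | insert a s ha ih =>
          rw [Finset.sup_insert, Finset.card_insert_of_notMem ha, pow_succ']
          have hn' : B a ≤ Subgroup.normalizer ((s.sup B : Subgroup G) : Set G) :=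
            Grp.invariant_iff.mp fun b hb x hx => by
              rwa [Grp.elemAb_comm hA.1 b (hDA ((hB a).1 hb)) x
                (hDA (Finset.sup_le (fun i _ => (hB i).1) hx)), mul_inv_cancel_right]
          have hb : B a ⊓ s.sup B = ⊥ := le_bot_iff.mp <| le_trans
            (inf_le_inf_left _ (Finset.sup_le fun j hj =>
              le_iSup₂_of_le j (by rintro rfl; exact ha hj) le_rfl)) (hind a).le_bot
          have h := Grp.card_sup_mul_card_inf hn'
          rw [hb, Subgroup.card_bot, mul_one, (hB a).2.2, ih] at h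
          exact h
      have := hf Finset.univ
      rwa [Finset.card_univ, Fintype.card_fin, Finset.sup_univ_eq_iSup] at this
    rw [card_eq_mul_of_relIndex hDA hDi, hDc, pow_succ']
  · refine le_antisymm (iSup_le (Fin.cases hTA fun i => ((hB i).1).trans hDA)) ?_
    rw [← htop, ← hBs]
    exact sup_le (le_iSup (Fin.cons T B : Fin (k + 1) → Subgroup G) 0)
      (iSup_le fun i => le_iSup_of_le i.succ le_rfl)

/-- An exact subgroup of order `p` moves a subgroup of index `p`. -/
theorem Setup.relIndex_fix {A : Subgroup G} (hA : IsExact p V A) (hAp : Nat.card A = p) :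
    (fix V A).relIndex V = p := by
  have h := Grp.card_mul_relIndex (inf_le_left : fix V A ≤ V)
  have h2 := hA.2
  rw [hAp, mul_comm, ← h] at h2
  exact (Nat.eq_of_mul_eq_mul_left Nat.card_pos h2).symm

/-- A best offender that does not centralize `V` and is minimal such has order `p`. -/
theorem Setup.card_eq_of_minimal {A : Subgroup G} (hAH : A ≤ H) (hA : Cfsg.IsBestOffenderOn p V A)
    (hAV : ⁅V, A⁆ ≠ ⊥)
    (hmin : ∀ B : Subgroup G, B ≤ A → Cfsg.IsBestOffenderOn p V B → ⁅V, B⁆ ≠ ⊥ → B = A) :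
    IsExact p V A ∧ Nat.card A = p := by
  have hex := s.isExact_of_best hAH hA
  refine ⟨hex, ?_⟩
  obtain ⟨k, B, hB, -, hBs⟩ := s.exists_decomposition _ A rfl hAH hex
  cases k with
  | zero =>
    exfalso
    refine hAV ?_
    rw [← hBs, iSup_of_empty, Subgroup.commutator_bot_right]
  | succ k =>
    have hne : ⁅V, B 0⁆ ≠ ⊥ := fun h => by
      have h1 : B 0 ≤ Subgroup.centralizer (V : Set G) := by
        rw [Subgroup.commutator_comm] at h
        exact Subgroup.commutator_eq_bot_iff_le_centralizer.mp h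
      have h2 : B 0 = ⊥ := le_bot_iff.mp (s.faithful ▸ le_inf ((hB 0).1.trans hAH) h1)
      have h3 := (hB 0).2.2
      rw [h2, Subgroup.card_bot] at h3
      exact hp.out.one_lt.ne h3
    rw [← hmin (B 0) (hB 0).1 (s.best_of_isExact ((hB 0).1.trans hAH) (hB 0).2.1) hne]
    exact (hB 0).2.2

end

end Cfsg.Agent.Transfer.Offender
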