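import Mathlib
import Cfsg.Agent.Lib.Transfer.OffenderCore
import Cfsg.Agent.Lib.Grp.SL2Section

/-!
Transvection subgroups and their conjugates under the `p'`-core: planes with `SL(2, p)`.
-/

set_option autoImplicit false
set_option linter.unusedSectionVars false
set_option linter.style.haveILetI false
set_option linter.flexible false
set_option maxHeartbeats 1000000

namespace Cfsg.Agent.Transfer.Offender

open Subgroup
open scoped commutatorElement

variable {G : Type*} [Group G] [Finite G] {p : ℕ} [hp : Fact p.Prime]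

theorem skew_two : ∀ r₁ r₂ : ZMod 2, r₁ ≠ 0 → r₂ ≠ 0 → r₁ + r₂ = 0 := by decide

theorem skew_three : ∀ r₁ r₂ : ZMod 3, r₁ ≠ 0 → r₂ ≠ 0 → r₁ + r₂ ≠ 0 →
    (Grp.SL2.up r₁ * Grp.SL2.low (-r₂)) ^ 6 = 1 ∧ (Grp.SL2.up r₁ * Grp.SL2.low (-r₂)) ^ 2 ≠ 1 := by
  decide

theorem square_three : ∀ r₁ r₂ : ZMod 3, r₁ ≠ 0 → r₂ ≠ 0 → r₁ + r₂ = 0 →
    (Grp.SL2.up r₁ * Grp.SL2.low (-r₂)) ^ 2 ≠ 1 ∧
    (∀ M ∈ [Grp.SL2.up r₁, Grp.SL2.low r₂],
      (Grp.SL2.up r₁ * Grp.SL2.low (-r₂)) ^ 2 * M = M * (Grp.SL2.up r₁ * Grp.SL2.low (-r₂)) ^ 2) ∧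
    Grp.SL2.up r₁ * (Grp.SL2.up r₁ * Grp.SL2.low (-r₂)) * Grp.SL2.up (-r₁) *
        (Grp.SL2.up r₁ * Grp.SL2.low (-r₂)) ≠
      (Grp.SL2.up r₁ * Grp.SL2.low (-r₂)) *
        (Grp.SL2.up r₁ * (Grp.SL2.up r₁ * Grp.SL2.low (-r₂)) * Grp.SL2.up (-r₁)) := by
  decide

/-- A transvection `a` on `V` with centre `u`. -/
structure IsTrans (p : ℕ) (V : Subgroup G) (a u : G) : Prop where
  pow : a ^ p = 1
  norm : a ∈ Subgroup.normalizer (V : Set G)
  mem : u ∈ V
  ne : u ≠ 1
  fixed : a * u * a⁻¹ = u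
  shift : ∀ v ∈ V, ∃ k : ℕ, a * v * a⁻¹ = u ^ k * v
  moved : ∃ v ∈ V, a * v * a⁻¹ = u * v

theorem elem_comm {V : Subgroup G} (hV : Cfsg.IsElementaryAbelian p V) {x y : G} (hx : x ∈ V)
    (hy : y ∈ V) : x * y = y * x := Grp.elemAb_comm hV x hx y hy

theorem pow_eq_pow_of_mod {x : G} (hx : x ^ p = 1) {m n : ℕ} (h : (m : ZMod p) = n) :
    x ^ m = x ^ n :=
  pow_eq_pow_iff_modEq.mpr (((ZMod.natCast_eq_natCast_iff _ _ _).mp h).of_dvd
    (orderOf_dvd_of_pow_eq_one hx))

/-- Coprime action: fixing `W` and moving `v` inside `W v` means fixing `v`. -/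
theorem fix_of_step {V W : Subgroup G} (hV : Cfsg.IsElementaryAbelian p V) {d : G}
    (hd : (orderOf d).Coprime p) (hWV : W ≤ V) (hfix : ∀ w ∈ W, d * w * d⁻¹ = w) {v : G}
    (hv : v ∈ V) (hstep : d * v * d⁻¹ * v⁻¹ ∈ W) : d * v * d⁻¹ = v := by
  set w := d * v * d⁻¹ * v⁻¹ with hw
  have hn : ∀ n : ℕ, d ^ n * v * (d ^ n)⁻¹ = w ^ n * v := by
    intro n
    induction n with
    | zero => simp
    | succ n ih =>
      calc d ^ (n + 1) * v * (d ^ (n + 1))⁻¹ = d * (d ^ n * v * (d ^ n)⁻¹) * d⁻¹ := by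
            rw [pow_succ']; group
        _ = (d * w ^ n * d⁻¹) * (d * v * d⁻¹) := by rw [ih]; group
        _ = w ^ n * (w * v) := by
            rw [hfix _ (pow_mem hstep n), show w * v = d * v * d⁻¹ by rw [hw]; group]
        _ = w ^ (n + 1) * v := by rw [← mul_assoc, pow_succ]
  have h1 : w ^ orderOf d = 1 := by
    have := hn (orderOf d)
    rw [pow_orderOf_eq_one, inv_one, mul_one, one_mul] at this
    exact mul_right_cancel (b := v) (by rw [one_mul]; exact this.symm)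
  have h2 : orderOf w = 1 := Nat.eq_one_of_dvd_coprimes hd (orderOf_dvd_of_pow_eq_one h1)
    (orderOf_dvd_of_pow_eq_one (hV.2 w (hWV hstep)))
  rw [orderOf_eq_one_iff, hw, mul_inv_eq_one] at h2
  exact h2

section
variable {V : Subgroup G} (hV : Cfsg.IsElementaryAbelian p V)
include hV

theorem IsTrans.pow_mem_zpowers {a u : G} (h : IsTrans p V a u) {y : G}
    (hy : y ∈ Subgroup.zpowers a) : ∀ v ∈ V, ∃ k : ℕ, y * v * y⁻¹ = u ^ k * v := by
  obtain ⟨n, rfl⟩ := (mem_powers_iff_mem_zpowers (x := a)).mpr hy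
  dsimp only
  intro v hv
  induction n with
  | zero => exact ⟨0, by simp⟩
  | succ n ih =>
    obtain ⟨k, hk⟩ := ih (by exact ⟨n, by simp⟩)
    obtain ⟨l, hl⟩ := h.shift v hv
    refine ⟨k + l, ?_⟩
    calc a ^ (n + 1) * v * (a ^ (n + 1))⁻¹ = a * (a ^ n * v * (a ^ n)⁻¹) * a⁻¹ := by
          rw [pow_succ']; group
      _ = (a * u * a⁻¹) ^ k * (a * v * a⁻¹) := by rw [hk, conj_pow]; group
      _ = u ^ (k + l) * v := by rw [h.fixed, hl, pow_add]; group

theorem IsTrans.conj {a u : G} (h : IsTrans p V a u) {g : G}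
    (hg : g ∈ Subgroup.normalizer (V : Set G)) : IsTrans p V (g * a * g⁻¹) (g * u * g⁻¹) := by
  have hc : ∀ v ∈ V, g⁻¹ * v * g ∈ V := fun v hv => by
    simpa using Grp.mem_conj_normalizer (inv_mem hg) hv
  refine ⟨by rw [conj_pow, h.pow]; group, mul_mem (mul_mem hg h.norm) (inv_mem hg),
    Grp.mem_conj_normalizer hg h.mem, fun e => h.ne (conj_eq_one_iff.mp e), ?_, fun v hv => ?_, ?_⟩
  · calc g * a * g⁻¹ * (g * u * g⁻¹) * (g * a * g⁻¹)⁻¹ = g * (a * u * a⁻¹) * g⁻¹ := by group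
      _ = g * u * g⁻¹ := by rw [h.fixed]
  · obtain ⟨k, hk⟩ := h.shift _ (hc v hv)
    refine ⟨k, ?_⟩
    calc g * a * g⁻¹ * v * (g * a * g⁻¹)⁻¹ = g * (a * (g⁻¹ * v * g) * a⁻¹) * g⁻¹ := by group
      _ = (g * u * g⁻¹) ^ k * v := by rw [hk, conj_pow]; group
  · obtain ⟨v, hv, he⟩ := h.moved
    refine ⟨g * v * g⁻¹, Grp.mem_conj_normalizer hg hv, ?_⟩
    calc g * a * g⁻¹ * (g * v * g⁻¹) * (g * a * g⁻¹)⁻¹ = g * (a * v * a⁻¹) * g⁻¹ := by group
      _ = g * u * g⁻¹ * (g * v * g⁻¹) := by rw [he]; group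

/-- The commutator of a transvection with `V` is the line of its centre. -/
theorem IsTrans.commutator_eq {a u : G} (h : IsTrans p V a u) :
    ⁅V, Subgroup.zpowers a⁆ = Subgroup.zpowers u := by
  refine le_antisymm (Subgroup.commutator_le.mpr fun v hv y hy => ?_) (Subgroup.zpowers_le.mpr ?_)
  · obtain ⟨k, hk⟩ := h.pow_mem_zpowers hV hy v⁻¹ (inv_mem hv)
    have hc : v * u ^ k = u ^ k * v := elem_comm hV hv (pow_mem h.mem k)
    have : ⁅v, y⁆ = u ^ k := by
      rw [commutatorElement_def, mul_assoc v y, mul_assoc v, hk, ← mul_assoc, hc, mul_inv_cancel_right]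
    rw [this]
    exact pow_mem (Subgroup.mem_zpowers u) k
  · obtain ⟨v, hv, he⟩ := h.moved
    have : ⁅a, v⁆ = u := by rw [commutatorElement_def, he, mul_inv_cancel_right]
    rw [← this, ← commutatorElement_inv]
    exact inv_mem (Subgroup.commutator_mem_commutator hv (Subgroup.mem_zpowers a))

theorem IsTrans.card_line {a u : G} (h : IsTrans p V a u) : Nat.card (Subgroup.zpowers u) = p := by
  rw [Nat.card_zpowers, orderOf_eq_prime (hV.2 u h.mem) h.ne]

/-- An exact subgroup of order `p` is generated by a transvection. -/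
theorem exists_isTrans {A : Subgroup G} (hAn : A ≤ Subgroup.normalizer (V : Set G))
    (hA : IsExact p V A) (hAp : Nat.card A = p) :
    ∃ a u : G, A = Subgroup.zpowers a ∧ IsTrans p V a u := by
  have hA1 : A ≠ ⊥ := fun e => hp.out.one_lt.ne (by rw [← hAp, e, Subgroup.card_bot])
  obtain ⟨a, ha, ha1⟩ := (Subgroup.bot_or_exists_ne_one A).resolve_left hA1
  have hap : a ^ p = 1 := hA.1.2 a ha
  have hAz : A = Subgroup.zpowers a := (Subgroup.eq_of_le_of_card_ge (Subgroup.zpowers_le.mpr ha)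
    (by rw [hAp, Nat.card_zpowers, orderOf_eq_prime hap ha1])).symm
  have haV : ∀ v ∈ V, a * v * a⁻¹ ∈ V := fun v hv => Grp.mem_conj_normalizer (hAn ha) hv
  let δ : ↥V →* G :=
    { toFun := fun v => a * v * a⁻¹ * (v : G)⁻¹
      map_one' := by simp
      map_mul' := fun v w => by
        have h1 : a * (w : G) * a⁻¹ * (w : G)⁻¹ ∈ V := mul_mem (haV _ w.2) (inv_mem w.2)
        have h2 := elem_comm hV (inv_mem v.2) h1
        simp only [Subgroup.coe_mul]
        calc a * ((v : G) * w) * a⁻¹ * ((v : G) * w)⁻¹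
            = a * v * a⁻¹ * ((a * w * a⁻¹ * (w : G)⁻¹) * (v : G)⁻¹) := by group
          _ = a * v * a⁻¹ * (v : G)⁻¹ * (a * w * a⁻¹ * (w : G)⁻¹) := by rw [← h2]; group }
  have hδ : ∀ v : V, δ v = a * v * a⁻¹ * (v : G)⁻¹ := fun _ => rfl
  have hker : δ.ker = (fix V A).subgroupOf V := by
    ext v
    rw [MonoidHom.mem_ker, hδ, mul_inv_eq_one, Subgroup.mem_subgroupOf, mul_inv_eq_iff_eq_mul]
    refine ⟨fun h => ⟨v.2, ?_⟩, fun h => Subgroup.mem_centralizer_iff.mp h.2 a ha⟩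
    rw [hAz, ← Grp.centralizer_singleton_eq_zpowers]
    exact Subgroup.mem_centralizer_singleton_iff.mpr h.symm
  have hcard : Nat.card δ.range = p := by
    rw [← Subgroup.index_ker δ, hker]
    have h := Grp.card_mul_relIndex (inf_le_left : fix V A ≤ V)
    have h2 := hA.2
    rw [hAp, mul_comm, ← h] at h2
    exact (Nat.eq_of_mul_eq_mul_left Nat.card_pos h2).symm
  obtain ⟨u, hu, hu1⟩ := (Subgroup.bot_or_exists_ne_one δ.range).resolve_left (fun e =>
    hp.out.one_lt.ne (by rw [← hcard, e, Subgroup.card_bot]))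
  obtain ⟨v₀, rfl⟩ := hu
  have huV : δ v₀ ∈ V := mul_mem (haV _ v₀.2) (inv_mem v₀.2)
  have hup : δ v₀ ^ p = 1 := hV.2 _ huV
  have hline : δ.range = Subgroup.zpowers (δ v₀) := (Subgroup.eq_of_le_of_card_ge
    (Subgroup.zpowers_le.mpr (show δ v₀ ∈ δ.range from ⟨v₀, rfl⟩)) (by
      rw [hcard, Nat.card_zpowers, orderOf_eq_prime hup hu1])).symm
  have hshift : ∀ v ∈ V, ∃ k : ℕ, a * v * a⁻¹ = δ v₀ ^ k * v := fun v hv => by
    obtain ⟨k, hk⟩ := (mem_powers_iff_mem_zpowers (x := δ v₀)).mpr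
      (hline.le ⟨⟨v, hv⟩, rfl⟩)
    exact ⟨k, by rw [show δ v₀ ^ k = a * v * a⁻¹ * v⁻¹ from hk]; group⟩
  refine ⟨a, δ v₀, hAz, hap, hAn ha, huV, hu1, ?_, hshift, v₀, v₀.2, by rw [hδ]; group⟩
  -- the line is fixed
  obtain ⟨m, hm⟩ := hshift _ huV
  set u := δ v₀
  have hiter : ∀ n : ℕ, a ^ n * u * (a ^ n)⁻¹ = u ^ ((m + 1) ^ n) := by
    intro n
    induction n with
    | zero => simp
    | succ n ih =>
      calc a ^ (n + 1) * u * (a ^ (n + 1))⁻¹ = a * (a ^ n * u * (a ^ n)⁻¹) * a⁻¹ := by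
            rw [pow_succ']; group
        _ = (a * u * a⁻¹) ^ ((m + 1) ^ n) := by rw [ih, conj_pow]
        _ = u ^ ((m + 1) ^ (n + 1)) := by
            rw [hm, ← pow_succ, ← pow_mul, pow_succ' (m + 1)]
  have h1 := hiter p
  rw [hap, one_mul, inv_one, mul_one] at h1
  have h2 : ((m + 1 : ℕ) : ZMod p) ^ p = 1 := by
    have h3 : u ^ 1 = u ^ ((m + 1) ^ p) := by rw [pow_one]; exact h1
    have := (pow_eq_pow_iff_modEq.mp h3)
    rw [orderOf_eq_prime hup hu1] at this
    exact_mod_cast ((ZMod.natCast_eq_natCast_iff _ _ _).mpr this).symm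
  rw [ZMod.pow_card] at h2
  calc a * u * a⁻¹ = u ^ (m + 1) := by rw [hm, pow_succ]
    _ = u ^ 1 := pow_eq_pow_of_mod hup (by rw [h2, Nat.cast_one])
    _ = u := pow_one u

end

section
variable {V H Q : Subgroup G} (s : Setup p V H Q)
include s

theorem Setup.coprime_order {d : G} (hd : d ∈ Q) : (orderOf d).Coprime p :=
  s.Qcop.coprime_dvd_left (Q.orderOf_dvd_natCard hd)

theorem Setup.eq_one_of_fix {d : G} (hd : d ∈ H) (h : ∀ v ∈ V, d * v * d⁻¹ = v) : d = 1 := by
  have : d ∈ H ⊓ Subgroup.centralizer (V : Set G) :=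
    ⟨hd, Subgroup.mem_centralizer_iff.mpr fun v hv => (mul_inv_eq_iff_eq_mul.mp (h v hv)).symm⟩
  rwa [s.faithful, Subgroup.mem_bot] at this

theorem Setup.comm_mem_core {a x : G} (ha : a ∈ H) (hx : x ∈ Q) :
    a * (x * a * x⁻¹)⁻¹ ∈ Q := by
  rw [show a * (x * a * x⁻¹)⁻¹ = (a * x * a⁻¹) * x⁻¹ by group]
  exact mul_mem (Grp.mem_conj_normalizer (s.Qnorm ha) hx) (inv_mem hx)

/-- A non-centralizing element of the core moves the centre off the hyperplane. -/
theorem Setup.not_fixed {a u x : G} (ha : a ∈ H) (h : IsTrans p V a u) (hx : x ∈ Q)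
    (hxa : x * a ≠ a * x) : a * (x * u * x⁻¹) * a⁻¹ ≠ x * u * x⁻¹ := by
  intro hfix
  set b := x * a * x⁻¹ with hb
  set u' := x * u * x⁻¹ with hu'
  have hbt : IsTrans p V b u' := h.conj s.elem (s.norm (s.QH hx))
  set d := a * b⁻¹ with hd
  have hdQ : d ∈ Q := s.comm_mem_core ha hx
  have hdc := s.coprime_order hdQ
  have hbi : ∀ v ∈ V, ∃ k : ℕ, b⁻¹ * v * b⁻¹⁻¹ = u' ^ k * v :=
    hbt.pow_mem_zpowers s.elem (inv_mem (Subgroup.mem_zpowers b))
  have hbu' : b⁻¹ * u' * b⁻¹⁻¹ = u' := by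
    conv_lhs => rw [← hbt.fixed]
    group
  have hdu' : d * u' * d⁻¹ = u' := by
    calc d * u' * d⁻¹ = a * (b⁻¹ * u' * b⁻¹⁻¹) * a⁻¹ := by rw [hd]; group
      _ = u' := by rw [hbu', hfix]
  have hdu : d * u * d⁻¹ = u := by
    refine fix_of_step s.elem hdc (Subgroup.zpowers_le.mpr hbt.mem) ?_ h.mem ?_
    · rintro _ ⟨k, rfl⟩
      show d * u' ^ k * d⁻¹ = u' ^ k
      rw [← conj_zpow, hdu']
    · obtain ⟨j, hj⟩ := hbi u h.mem
      have : d * u * d⁻¹ * u⁻¹ = u' ^ j := by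
        calc d * u * d⁻¹ * u⁻¹ = a * (b⁻¹ * u * b⁻¹⁻¹) * a⁻¹ * u⁻¹ := by rw [hd]; group
          _ = (a * u' * a⁻¹) ^ j * (a * u * a⁻¹) * u⁻¹ := by rw [hj, conj_pow (a := a) (b := u')]; group
          _ = u' ^ j := by rw [hfix, h.fixed, mul_inv_cancel_right]
      rw [this]
      exact pow_mem (Subgroup.mem_zpowers u') j
  have hU : ∀ w ∈ Subgroup.zpowers u ⊔ Subgroup.zpowers u', d * w * d⁻¹ = w := by
    intro w hw
    have hle : Subgroup.zpowers u ⊔ Subgroup.zpowers u' ≤ Subgroup.centralizer {d} :=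
      sup_le (Subgroup.zpowers_le.mpr (Subgroup.mem_centralizer_singleton_iff.mpr
        (mul_inv_eq_iff_eq_mul.mp hdu).symm)) (Subgroup.zpowers_le.mpr
        (Subgroup.mem_centralizer_singleton_iff.mpr (mul_inv_eq_iff_eq_mul.mp hdu').symm))
    exact mul_inv_eq_iff_eq_mul.mpr (Subgroup.mem_centralizer_singleton_iff.mp (hle hw)).symm
  have hd1 : d = 1 := s.eq_one_of_fix (s.QH hdQ) fun v hv => by
    refine fix_of_step s.elem hdc (sup_le (Subgroup.zpowers_le.mpr h.mem)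
      (Subgroup.zpowers_le.mpr hbt.mem)) hU hv ?_
    obtain ⟨j, hj⟩ := hbi v hv
    obtain ⟨k, hk⟩ := h.shift v hv
    have : d * v * d⁻¹ * v⁻¹ = u' ^ j * u ^ k := by
      calc d * v * d⁻¹ * v⁻¹ = a * (b⁻¹ * v * b⁻¹⁻¹) * a⁻¹ * v⁻¹ := by rw [hd]; group
        _ = (a * u' * a⁻¹) ^ j * (a * v * a⁻¹) * v⁻¹ := by rw [hj, conj_pow (a := a) (b := u')]; group
        _ = u' ^ j * u ^ k := by rw [hfix, hk]; group
    rw [this]
    exact mul_mem (pow_mem (Subgroup.mem_sup_right (Subgroup.mem_zpowers u')) j)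
      (pow_mem (Subgroup.mem_sup_left (Subgroup.mem_zpowers u)) k)
  rw [hd, mul_inv_eq_one, hb] at hd1
  exact hxa (by conv_rhs => rw [hd1, inv_mul_cancel_right])

/-- The plane of a transvection `a` and its conjugate `b` under `x`. -/
theorem Setup.exists_plane {a u x : G} (ha : a ∈ H) (h : IsTrans p V a u) (hx : x ∈ Q)
    (hxa : x * a ≠ a * x) :
    (p = 2 ∨ p = 3) ∧ ∃ (E U W : Subgroup G),
      E = Subgroup.closure {a, x * a * x⁻¹} ∧ U = Subgroup.zpowers u ⊔ Subgroup.zpowers (x * u * x⁻¹) ∧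
      W = fix V E ∧ U ≤ V ∧ Nat.card U = p ^ 2 ∧ U ⊓ W = ⊥ ∧ U ⊔ W = V ∧
      ⁅V, E⁆ = U ∧ E ⊓ Subgroup.centralizer (U : Set G) = ⊥ ∧
      Nonempty (E ≃* Matrix.SpecialLinearGroup (Fin 2) (ZMod p)) ∧
      (∀ g ∈ H, g ^ p = 1 → g ∈ Subgroup.normalizer (U : Set G) →
        g ∈ Subgroup.centralizer (W : Set G) → g ∈ E) ∧
      (∀ k l : ℕ, a * (x * u * x⁻¹) * a⁻¹ = u ^ k * (x * u * x⁻¹) →
        (x * a * x⁻¹) * u * (x * a * x⁻¹)⁻¹ = (x * u * x⁻¹) ^ l * u →
        (k : ZMod p) + l = 0) ∧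
      (p = 3 → (a * (x * a * x⁻¹)⁻¹) ^ 2 ≠ 1 ∧
        (∀ g ∈ E, Commute ((a * (x * a * x⁻¹)⁻¹) ^ 2) g) ∧
        ¬ Commute (a * (a * (x * a * x⁻¹)⁻¹) * a⁻¹) (a * (x * a * x⁻¹)⁻¹)) := by
  set b := x * a * x⁻¹ with hb
  set u' := x * u * x⁻¹ with hu'
  have hbt : IsTrans p V b u' := h.conj s.elem (s.norm (s.QH hx))
  have hbH : b ∈ H := mul_mem (mul_mem (s.QH hx) ha) (inv_mem (s.QH hx))
  have hne1 := s.not_fixed ha h hx hxa
  have hne2 : b * u * b⁻¹ ≠ u := by
    have h1 := s.not_fixed ha h (inv_mem hx) (fun e => hxa (by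
      calc x * a = x * (a * x⁻¹) * x := by group
        _ = x * (x⁻¹ * a) * x := by rw [e]
        _ = a * x := by group))
    intro e
    apply h1
    calc a * (x⁻¹ * u * x⁻¹⁻¹) * a⁻¹ = x⁻¹ * (b * u * b⁻¹) * x⁻¹⁻¹ := by rw [hb]; group
      _ = x⁻¹ * u * x⁻¹⁻¹ := by rw [e]
  obtain ⟨t1, ht1⟩ := h.shift u' hbt.mem
  obtain ⟨t2, ht2⟩ := hbt.shift u h.mem
  have hup : u ^ p = 1 := s.elem.2 u h.mem
  have hup' : u' ^ p = 1 := s.elem.2 u' hbt.mem
  have ht1z : (t1 : ZMod p) ≠ 0 := fun e => hne1 (by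
    rw [ht1, pow_eq_pow_of_mod hup (n := 0) (by rw [e, Nat.cast_zero]), pow_zero, one_mul])
  have ht2z : (t2 : ZMod p) ≠ 0 := fun e => hne2 (by
    rw [ht2, pow_eq_pow_of_mod hup' (n := 0) (by rw [e, Nat.cast_zero]), pow_zero, one_mul])
  -- coordinates on the plane
  let ι : Multiplicative (Fin 2 → ZMod p) →* G :=
    { toFun := fun c => u ^ (Multiplicative.toAdd c 0).val * u' ^ (Multiplicative.toAdd c 1).val
      map_one' := by simp [ZMod.val_zero]
      map_mul' := fun c d => by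
        have e1 : u ^ (Multiplicative.toAdd (c * d) 0).val =
            u ^ (Multiplicative.toAdd c 0).val * u ^ (Multiplicative.toAdd d 0).val := by
          rw [← pow_add]
          refine pow_eq_pow_of_mod hup ?_
          simp [ZMod.natCast_zmod_val]
        have e2 : u' ^ (Multiplicative.toAdd (c * d) 1).val =
            u' ^ (Multiplicative.toAdd c 1).val * u' ^ (Multiplicative.toAdd d 1).val := by
          rw [← pow_add]
          refine pow_eq_pow_of_mod hup' ?_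
          simp [ZMod.natCast_zmod_val]
        rw [e1, e2]
        exact (show Commute (u ^ (Multiplicative.toAdd d 0).val) (u' ^ (Multiplicative.toAdd c 1).val)
          from elem_comm s.elem (pow_mem h.mem _) (pow_mem hbt.mem _)).mul_mul_mul_comm _ _ }
  let crd : (Fin 2 → ZMod p) → G := fun c => ι (Multiplicative.ofAdd c)
  have hcrd : ∀ c, crd c = u ^ (c 0).val * u' ^ (c 1).val := fun c => rfl
  have hcrd_u : crd (Pi.single 0 1) = u := by
    rw [hcrd]; simp [ZMod.val_one, ZMod.val_zero]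
  have hcrd_u' : crd (Pi.single 1 1) = u' := by
    rw [hcrd]; simp [ZMod.val_one, ZMod.val_zero]
  set U := Subgroup.zpowers u ⊔ Subgroup.zpowers u' with hU
  have hιU : ι.range = U := by
    refine le_antisymm ?_ (sup_le (Subgroup.zpowers_le.mpr ⟨_, hcrd_u⟩)
      (Subgroup.zpowers_le.mpr ⟨_, hcrd_u'⟩))
    rintro _ ⟨c, rfl⟩
    exact mul_mem (pow_mem (Subgroup.mem_sup_left (Subgroup.mem_zpowers u)) _)
      (pow_mem (Subgroup.mem_sup_right (Subgroup.mem_zpowers u')) _)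
  have hUV : U ≤ V := sup_le (Subgroup.zpowers_le.mpr h.mem) (Subgroup.zpowers_le.mpr hbt.mem)
  -- the action of `a` and `b` on coordinates
  have hact : ∀ c : Fin 2 → ZMod p,
      a * crd c * a⁻¹ = crd ![c 0 + t1 * c 1, c 1] ∧ b * crd c * b⁻¹ = crd ![c 0, c 1 + t2 * c 0] := by
    intro c
    have hcu : Commute u u' := elem_comm s.elem h.mem hbt.mem
    constructor
    · rw [hcrd, hcrd]
      calc a * (u ^ (c 0).val * u' ^ (c 1).val) * a⁻¹
          = (a * u * a⁻¹) ^ (c 0).val * (a * u' * a⁻¹) ^ (c 1).val := by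
            rw [conj_pow (a := a) (b := u), conj_pow (a := a) (b := u')]; group
        _ = u ^ ((c 0).val + t1 * (c 1).val) * u' ^ (c 1).val := by
            rw [h.fixed, ht1, (hcu.pow_left t1).mul_pow, ← pow_mul, pow_add, mul_assoc]
        _ = _ := by
            congr 1
            refine pow_eq_pow_of_mod hup ?_
            simp [ZMod.natCast_zmod_val]
    · rw [hcrd, hcrd]
      calc b * (u ^ (c 0).val * u' ^ (c 1).val) * b⁻¹
          = (b * u * b⁻¹) ^ (c 0).val * (b * u' * b⁻¹) ^ (c 1).val := by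
            rw [conj_pow (a := b) (b := u), conj_pow (a := b) (b := u')]; group
        _ = u ^ (c 0).val * u' ^ ((c 1).val + t2 * (c 0).val) := by
            rw [hbt.fixed, ht2, (hcu.symm.pow_left t2).mul_pow, ← pow_mul,
              (hcu.symm.pow_pow _ _).eq, mul_assoc, ← pow_add, add_comm]
        _ = _ := by
            congr 1
            refine pow_eq_pow_of_mod hup' ?_
            simp [ZMod.natCast_zmod_val]
  have hinj : Function.Injective ι := by
    rw [injective_iff_map_eq_one]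
    intro c hc
    replace hc : crd (Multiplicative.toAdd c) = 1 := hc
    obtain ⟨h1, h2⟩ := hact (Multiplicative.toAdd c)
    rw [hc] at h1 h2
    have e1 : crd ![(Multiplicative.toAdd c) 0 + t1 * (Multiplicative.toAdd c) 1,
        (Multiplicative.toAdd c) 1] = 1 := by rw [← h1]; group
    have e2 : crd ![(Multiplicative.toAdd c) 0,
        (Multiplicative.toAdd c) 1 + t2 * (Multiplicative.toAdd c) 0] = 1 := by rw [← h2]; group
    -- subtract the original vector
    have hsub : ∀ d e : Fin 2 → ZMod p, crd d = 1 → crd e = 1 → crd (d - e) = 1 := fun d e hd he => by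
      show ι (Multiplicative.ofAdd d / Multiplicative.ofAdd e) = 1
      rw [map_div, show ι (Multiplicative.ofAdd d) = 1 from hd,
        show ι (Multiplicative.ofAdd e) = 1 from he, div_one]
    have f1 := hsub _ _ e1 hc
    have f2 := hsub _ _ e2 hc
    rw [hcrd] at f1 f2
    simp [ZMod.val_zero] at f1 f2
    have g1 : (Multiplicative.toAdd c) 1 = 0 := by
      have hd := orderOf_dvd_of_pow_eq_one f1
      rw [orderOf_eq_prime hup h.ne] at hd
      have := (ZMod.natCast_eq_zero_iff _ _).mpr hd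
      rw [ZMod.natCast_zmod_val] at this
      exact (mul_eq_zero.mp this).resolve_left ht1z
    have g0 : (Multiplicative.toAdd c) 0 = 0 := by
      have hd := orderOf_dvd_of_pow_eq_one f2
      rw [orderOf_eq_prime hup' hbt.ne] at hd
      have := (ZMod.natCast_eq_zero_iff _ _).mpr hd
      rw [ZMod.natCast_zmod_val] at this
      exact (mul_eq_zero.mp this).resolve_left ht2z
    exact Multiplicative.toAdd.injective (funext fun i => by fin_cases i <;> assumption)
  have hcinj : Function.Injective crd := hinj.comp Multiplicative.ofAdd.injective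
  have hUc : Nat.card U = p ^ 2 := by
    rw [← hιU, ← Nat.card_congr (MonoidHom.ofInjective hinj).toEquiv]
    simp
  set E := Subgroup.closure {a, b} with hE
  have haE : a ∈ E := Subgroup.subset_closure (Set.mem_insert _ _)
  have hbE : b ∈ E := Subgroup.subset_closure (Set.mem_insert_of_mem _ rfl)
  have hEH : E ≤ H := (Subgroup.closure_le H).mpr (by
    rintro y (rfl | rfl)
    · exact ha
    · exact hbH)
  set W := fix V E with hW
  have hEW : ∀ w ∈ V, a * w * a⁻¹ = w → b * w * b⁻¹ = w → w ∈ W := fun w hw h1 h2 => by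
    refine ⟨hw, ?_⟩
    rw [hE, Subgroup.centralizer_closure]
    refine Subgroup.mem_centralizer_iff.mpr ?_
    rintro y (rfl | rfl)
    · exact mul_inv_eq_iff_eq_mul.mp h1
    · exact mul_inv_eq_iff_eq_mul.mp h2
  have hUW : U ⊓ W = ⊥ := by
    refine (Subgroup.eq_bot_iff_forall _).mpr fun y hy => ?_
    obtain ⟨hyU, hyW⟩ := hy
    rw [← hιU] at hyU
    obtain ⟨c, rfl⟩ := hyU
    obtain ⟨h1, h2⟩ := hact (Multiplicative.toAdd c)
    have h1' : a * ι c * a⁻¹ = ι c :=
      mul_inv_eq_iff_eq_mul.mpr (Subgroup.mem_centralizer_iff.mp hyW.2 a haE)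
    have h2' : b * ι c * b⁻¹ = ι c :=
      mul_inv_eq_iff_eq_mul.mpr (Subgroup.mem_centralizer_iff.mp hyW.2 b hbE)
    have e1 : Multiplicative.toAdd c 0 = Multiplicative.toAdd c 0 + t1 * Multiplicative.toAdd c 1 :=
      congrFun (hcinj (h1'.symm.trans h1)) 0
    have e2 : Multiplicative.toAdd c 1 = Multiplicative.toAdd c 1 + t2 * Multiplicative.toAdd c 0 :=
      congrFun (hcinj (h2'.symm.trans h2)) 1
    simp [ht1z, ht2z] at e1 e2
    have hc0 : c = 1 := Multiplicative.toAdd.injective (funext fun i => by fin_cases i <;> assumption)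
    rw [hc0, map_one]
  have hdec : ∀ v ∈ V, ∃ c : Fin 2 → ZMod p, (crd c)⁻¹ * v ∈ W := by
    intro v hv
    obtain ⟨i, hi⟩ := h.shift v hv
    obtain ⟨j, hj⟩ := hbt.shift v hv
    set c : Fin 2 → ZMod p := ![(j : ZMod p) * (t2 : ZMod p)⁻¹, (i : ZMod p) * (t1 : ZMod p)⁻¹] with hc
    have hmem : crd c ∈ V := hUV (hιU ▸ ⟨_, rfl⟩)
    refine ⟨c, hEW _ (mul_mem (inv_mem hmem) hv) ?_ ?_⟩
    · have h1 := (hact c).1
      have e : crd ![c 0 + t1 * c 1, c 1] = u ^ i * crd c := by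
        rw [hcrd, hcrd, ← mul_assoc, ← pow_add]
        simp only [Matrix.cons_val_zero, Matrix.cons_val_one]
        congr 1
        refine pow_eq_pow_of_mod hup ?_
        simp [hc, ZMod.natCast_zmod_val]
        field_simp
        ring
      calc a * ((crd c)⁻¹ * v) * a⁻¹ = (a * crd c * a⁻¹)⁻¹ * (a * v * a⁻¹) := by group
        _ = _ := by rw [h1, e, hi]; group
    · have h1 := (hact c).2
      have hcu : Commute (u' ^ j) (u ^ (c 0).val) := elem_comm s.elem (pow_mem hbt.mem _) (pow_mem h.mem _)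
      have e : crd ![c 0, c 1 + t2 * c 0] = u' ^ j * crd c := by
        rw [hcrd, hcrd, ← mul_assoc, hcu.eq, mul_assoc, ← pow_add]
        simp only [Matrix.cons_val_zero, Matrix.cons_val_one]
        congr 1
        refine pow_eq_pow_of_mod hup' ?_
        simp [hc, ZMod.natCast_zmod_val]
        field_simp
        ring
      calc b * ((crd c)⁻¹ * v) * b⁻¹ = (b * crd c * b⁻¹)⁻¹ * (b * v * b⁻¹) := by group
        _ = _ := by rw [h1, e, hj]; group
  have hUWV : U ⊔ W = V := by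
    refine le_antisymm (sup_le hUV inf_le_left) fun v hv => ?_
    obtain ⟨c, hc⟩ := hdec v hv
    rw [show v = crd c * ((crd c)⁻¹ * v) by group]
    exact Subgroup.mul_mem_sup (hιU ▸ ⟨_, rfl⟩) hc
  have hVE : ⁅V, E⁆ = U := by
    refine le_antisymm ?_ (sup_le ?_ ?_)
    · -- the generators move `V` inside `U`
      have hcl : ∀ g ∈ E, ∀ v ∈ V, g * v * g⁻¹ * v⁻¹ ∈ U := by
        intro g hg
        induction hg using Subgroup.closure_induction with
        | mem y hy =>
          intro v hv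
          rcases hy with rfl | rfl
          · obtain ⟨k, hk⟩ := h.shift v hv
            rw [hk, mul_inv_cancel_right]
            exact pow_mem (Subgroup.mem_sup_left (Subgroup.mem_zpowers u)) k
          · obtain ⟨k, hk⟩ := hbt.shift v hv
            rw [hk, mul_inv_cancel_right]
            exact pow_mem (Subgroup.mem_sup_right (Subgroup.mem_zpowers u')) k
        | one => intro v _; simp
        | mul g k hg hk ihg ihk =>
          intro v hv
          have h1 : k * v * k⁻¹ ∈ V := Grp.mem_conj_normalizer (s.norm (hEH hk)) hv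
          rw [show g * k * v * (g * k)⁻¹ * v⁻¹ =
            (g * (k * v * k⁻¹) * g⁻¹ * (k * v * k⁻¹)⁻¹) * (k * v * k⁻¹ * v⁻¹) by group]
          exact mul_mem (ihg _ h1) (ihk v hv)
        | inv g hg ihg =>
          intro v hv
          have h1 : g⁻¹ * v * g⁻¹⁻¹ ∈ V := Grp.mem_conj_normalizer (s.norm (inv_mem (hEH hg))) hv
          rw [show g⁻¹ * v * g⁻¹⁻¹ * v⁻¹ =
            (g * (g⁻¹ * v * g⁻¹⁻¹) * g⁻¹ * (g⁻¹ * v * g⁻¹⁻¹)⁻¹)⁻¹ by group]
          exact inv_mem (ihg _ h1)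
      rw [Subgroup.commutator_comm]
      exact Subgroup.commutator_le.mpr fun g hg v hv => hcl g hg v hv
    · rw [← h.commutator_eq s.elem]
      exact Subgroup.commutator_mono le_rfl (Subgroup.zpowers_le.mpr haE)
    · rw [← hbt.commutator_eq s.elem]
      exact Subgroup.commutator_mono le_rfl (Subgroup.zpowers_le.mpr hbE)
  -- the matrices
  set L := H ⊓ Subgroup.normalizer (U : Set G) ⊓ Subgroup.centralizer (W : Set G) with hL
  have hLU : ∀ g : L, ∀ c, ∃ d, crd d = (g : G) * crd c * (g : G)⁻¹ := fun g c => by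
    have h1 := Grp.mem_conj_normalizer g.2.1.2 (show crd c ∈ U from hιU ▸ ⟨_, rfl⟩)
    rw [← hιU] at h1
    obtain ⟨d, hd⟩ := h1
    exact ⟨Multiplicative.toAdd d, hd⟩
  choose T hT using hLU
  have hTadd : ∀ g : L, ∀ c d, T g (c + d) = T g c + T g d := fun g c d => by
    apply hcinj
    rw [hT]
    show (g : G) * ι (Multiplicative.ofAdd c * Multiplicative.ofAdd d) * (g : G)⁻¹ =
      ι (Multiplicative.ofAdd (T g c) * Multiplicative.ofAdd (T g d))
    rw [map_mul, map_mul, show ι (Multiplicative.ofAdd (T g c)) = _ from hT g c,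
      show ι (Multiplicative.ofAdd (T g d)) = _ from hT g d]
    show (g : G) * (crd c * crd d) * (g : G)⁻¹ = _
    group
  have hsmul : ∀ g : L, ∀ (r : ZMod p) c, T g (r • c) = r • T g c := fun g r c =>
    ((AddMonoidHom.mk' (T g) (hTadd g)).toZModLinearMap p).map_smul r c
  let M : L → Matrix (Fin 2) (Fin 2) (ZMod p) := fun g => Matrix.of fun i j => T g (Pi.single j 1) i
  have hMv : ∀ g c, (M g).mulVec c = T g c := fun g c => by
    have hc : c = c 0 • Pi.single 0 1 + c 1 • Pi.single 1 1 := by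
      funext i; fin_cases i <;> simp
    conv_rhs => rw [hc, hTadd, hsmul, hsmul]
    funext i
    simp [M, Matrix.mulVec, dotProduct, Fin.sum_univ_two, mul_comm]
  have hMext : ∀ A B : Matrix (Fin 2) (Fin 2) (ZMod p), (∀ c, A.mulVec c = B.mulVec c) → A = B :=
    fun A B h => Matrix.ext_iff.mp (by intro i j; simpa using congrFun (h (Pi.single j 1)) i)
  let Mh : L →* Matrix (Fin 2) (Fin 2) (ZMod p) :=
    { toFun := M
      map_one' := hMext _ _ fun c => hcinj (by
        rw [hMv, hT, Matrix.one_mulVec]; simp)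
      map_mul' := fun g k => hMext _ _ fun c => hcinj (by
        rw [hMv, hT, ← Matrix.mulVec_mulVec, hMv, hMv, hT, hT]
        simp [mul_assoc]) }
  have hMinj : ∀ g : L, Mh g = 1 → g = 1 := by
    intro g hg
    refine Subtype.ext (s.eq_one_of_fix g.2.1.1 fun v hv => ?_)
    obtain ⟨c, hc⟩ := hdec v hv
    have h1 : T g c = c := by
      rw [← hMv g c, show M g = 1 from hg, Matrix.one_mulVec]
    have h2 : (g : G) * ((crd c)⁻¹ * v) * (g : G)⁻¹ = (crd c)⁻¹ * v :=
      mul_inv_eq_iff_eq_mul.mpr (Subgroup.mem_centralizer_iff.mp g.2.2 _ hc).symm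
    calc (g : G) * v * (g : G)⁻¹
        = ((g : G) * crd c * (g : G)⁻¹) * ((g : G) * ((crd c)⁻¹ * v) * (g : G)⁻¹) := by group
      _ = v := by rw [h2, ← hT g c, h1, mul_inv_cancel_left]
  have hdet : ∀ g : L, (g : G) ^ p = 1 → (Mh g).det = 1 := by
    intro g hg
    have h1 : (Mh g).det ^ p = 1 := by
      rw [← Matrix.det_pow, ← map_pow, show g ^ p = 1 from Subtype.ext hg, map_one, Matrix.det_one]
    rwa [ZMod.pow_card] at h1
  have haL : a ∈ L := by
    refine ⟨⟨ha, Subgroup.mem_normalizer_iff.mpr ?_⟩, Subgroup.mem_centralizer_iff.mpr fun w hw =>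
      (Subgroup.mem_centralizer_iff.mp hw.2 a haE).symm⟩
    have hn : Subgroup.zpowers a ≤ Subgroup.normalizer (U : Set G) := Grp.invariant_iff.mp
      fun y hy z hz => by
        obtain ⟨k, hk⟩ := h.pow_mem_zpowers s.elem hy z (hUV hz)
        rw [hk]
        exact mul_mem (pow_mem (Subgroup.mem_sup_left (Subgroup.mem_zpowers u)) k) hz
    exact Subgroup.mem_normalizer_iff.mp (hn (Subgroup.mem_zpowers a))
  have hbL : b ∈ L := by
    refine ⟨⟨hbH, Subgroup.mem_normalizer_iff.mpr ?_⟩, Subgroup.mem_centralizer_iff.mpr fun w hw =>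
      (Subgroup.mem_centralizer_iff.mp hw.2 b hbE).symm⟩
    have hn : Subgroup.zpowers b ≤ Subgroup.normalizer (U : Set G) := Grp.invariant_iff.mp
      fun y hy z hz => by
        obtain ⟨k, hk⟩ := hbt.pow_mem_zpowers s.elem hy z (hUV hz)
        rw [hk]
        exact mul_mem (pow_mem (Subgroup.mem_sup_right (Subgroup.mem_zpowers u')) k) hz
    exact Subgroup.mem_normalizer_iff.mp (hn (Subgroup.mem_zpowers b))
  have hMa : Mh ⟨a, haL⟩ = !![1, (t1 : ZMod p); 0, 1] := hMext _ _ fun c => hcinj (by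
    show crd ((M ⟨a, haL⟩).mulVec c) = _
    rw [hMv, hT, (hact c).1]
    congr 1
    funext i; fin_cases i <;> simp [Matrix.mulVec, dotProduct, Fin.sum_univ_two])
  have hMb : Mh ⟨b, hbL⟩ = !![1, 0; (t2 : ZMod p), 1] := hMext _ _ fun c => hcinj (by
    show crd ((M ⟨b, hbL⟩).mulVec c) = _
    rw [hMv, hT, (hact c).2]
    congr 1
    funext i; fin_cases i <;> simp [Matrix.mulVec, dotProduct, Fin.sum_univ_two, add_comm])
  have hEL : E ≤ L := (Subgroup.closure_le L).mpr (by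
    rintro y (rfl | rfl)
    · exact haL
    · exact hbL)
  have hEdet : ∀ g : E, (Mh (Subgroup.inclusion hEL g)).det = 1 := by
    rintro ⟨g, hg⟩
    induction hg using Subgroup.closure_induction with
    | mem y hy =>
      refine hdet _ ?_
      rcases hy with rfl | rfl
      · exact h.pow
      · exact hbt.pow
    | one =>
      rw [show Subgroup.inclusion hEL ⟨1, _⟩ = 1 from rfl, map_one, Matrix.det_one]
    | mul g k hg hk ihg ihk =>
      rw [show Subgroup.inclusion hEL ⟨g * k, _⟩ =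
        Subgroup.inclusion hEL ⟨g, hg⟩ * Subgroup.inclusion hEL ⟨k, hk⟩ from rfl, map_mul,
        Matrix.det_mul, ihg, ihk, one_mul]
    | inv g hg ihg =>
      have h1 : Mh (Subgroup.inclusion hEL ⟨g⁻¹, inv_mem hg⟩) * Mh (Subgroup.inclusion hEL ⟨g, hg⟩) = 1 := by
        rw [← map_mul]
        convert map_one Mh using 2
        exact Subtype.ext (inv_mul_cancel g)
      have h2 := congrArg Matrix.det h1
      rwa [Matrix.det_mul, ihg, mul_one, Matrix.det_one] at h2
  let ψ : E →* Matrix.SpecialLinearGroup (Fin 2) (ZMod p) :=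
    { toFun := fun g => ⟨Mh (Subgroup.inclusion hEL g), hEdet g⟩
      map_one' := Subtype.ext (by simp)
      map_mul' := fun g k => Subtype.ext (by
        show Mh (Subgroup.inclusion hEL (g * k)) =
          Mh (Subgroup.inclusion hEL g) * Mh (Subgroup.inclusion hEL k)
        rw [map_mul, map_mul]) }
  have hψinj : Function.Injective ψ := by
    rw [injective_iff_map_eq_one]
    intro g hg
    have h1 := hMinj _ (show Mh (Subgroup.inclusion hEL g) = 1 from congrArg Subtype.val hg)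
    exact Subtype.ext (congrArg Subtype.val h1 :)
  have hψa : ψ ⟨a, haE⟩ = Grp.SL2.up (t1 : ZMod p) := Subtype.ext hMa
  have hψb : ψ ⟨b, hbE⟩ = Grp.SL2.low (t2 : ZMod p) := Subtype.ext hMb
  have hψsurj : Function.Surjective ψ := by
    rw [← MonoidHom.range_eq_top, eq_top_iff, ← Classical.SL_closure_transvections, Subgroup.closure_le]
    have hup' : ∀ c : ZMod p, Grp.SL2.up c ∈ ψ.range := fun c => by
      refine ⟨⟨a, haE⟩ ^ (c * (t1 : ZMod p)⁻¹).val, ?_⟩
      rw [map_pow, hψa, Grp.SL2.up_pow, ZMod.natCast_zmod_val, inv_mul_cancel_right₀ ht1z]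
    have hlow' : ∀ c : ZMod p, Grp.SL2.low c ∈ ψ.range := fun c => by
      refine ⟨⟨b, hbE⟩ ^ (c * (t2 : ZMod p)⁻¹).val, ?_⟩
      rw [map_pow, hψb, Grp.SL2.low_pow, ZMod.natCast_zmod_val, inv_mul_cancel_right₀ ht2z]
    rintro _ ⟨⟨i, j, hij, c⟩, rfl⟩
    fin_cases i <;> fin_cases j
    · exact absurd rfl hij
    · refine (congrArg (fun z => z ∈ ψ.range) (Subtype.ext ?_ : _ = Grp.SL2.up c)).mpr (hup' c)
      ext r s; fin_cases r <;> fin_cases s <;>
        simp [Grp.SL2.up, Matrix.TransvectionStruct.toSpecialLinearGroup,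
          Matrix.SpecialLinearGroup.transvection_coe, Matrix.transvection]
    · refine (congrArg (fun z => z ∈ ψ.range) (Subtype.ext ?_ : _ = Grp.SL2.low c)).mpr (hlow' c)
      ext r s; fin_cases r <;> fin_cases s <;>
        simp [Grp.SL2.low, Matrix.TransvectionStruct.toSpecialLinearGroup,
          Matrix.SpecialLinearGroup.transvection_coe, Matrix.transvection]
    · exact absurd rfl hij
  have hd : a * b⁻¹ ∈ Q := s.comm_mem_core ha hx
  have hp23 : p = 2 ∨ p = 3 := by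
    by_contra hne
    push Not at hne
    obtain ⟨hp2, hp3⟩ := hne
    haveI hQn : (Q.subgroupOf E).Normal :=
      Subgroup.normal_subgroupOf_of_le_normalizer (hEH.trans s.Qnorm)
    set J := (Q.subgroupOf E).map ψ
    haveI hJn : J.Normal := hQn.map ψ hψsurj
    have hgen : ∀ g : E, ∃ i : ℕ, (g : G) * (a ^ i)⁻¹ ∈ Q := by
      rintro ⟨g, hg⟩
      have hle : E ≤ Q ⊔ Subgroup.zpowers a := (Subgroup.closure_le _).mpr (by
        rintro y (hy | hy) <;> rw [SetLike.mem_coe, hy]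
        · exact Subgroup.mem_sup_right (Subgroup.mem_zpowers a)
        · rw [show b = (a * b⁻¹)⁻¹ * a by group]
          exact Subgroup.mul_mem_sup (inv_mem hd) (Subgroup.mem_zpowers a))
      have hg' : g ∈ Q ⊔ Subgroup.zpowers a := hle hg
      rw [← SetLike.mem_coe, Subgroup.coe_mul_of_right_le_normalizer_left Q (Subgroup.zpowers a)
        ((Subgroup.zpowers_le.mpr ha).trans s.Qnorm)] at hg'
      obtain ⟨q, hq, y, hy, rfl⟩ := hg'
      obtain ⟨i, rfl⟩ := (mem_powers_iff_mem_zpowers (x := a)).mpr hy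
      exact ⟨i, by simpa using hq⟩
    have hcomm : ∀ g k : E, ⁅ψ g, ψ k⁆ ∈ J := fun g k => by
      obtain ⟨i, hi⟩ := hgen g
      obtain ⟨j, hj⟩ := hgen k
      let q := QuotientGroup.mk' (Q.subgroupOf E)
      have e : ∀ (g : E) (i : ℕ), (g : G) * (a ^ i)⁻¹ ∈ Q → q g = q ⟨a, haE⟩ ^ i := fun g i hi => by
        have h1 : q (g * ((⟨a, haE⟩ : E) ^ i)⁻¹) = 1 := (QuotientGroup.eq_one_iff _).mpr hi
        rw [map_mul, map_inv, map_pow] at h1
        exact mul_inv_eq_one.mp h1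
      rw [← map_commutatorElement]
      refine Subgroup.mem_map_of_mem ψ ((QuotientGroup.eq_one_iff _).mp ?_)
      show q ⁅g, k⁆ = 1
      rw [map_commutatorElement, e g i hi, e k j hj, commutatorElement_eq_one_iff_mul_comm]
      exact (Commute.pow_pow_self _ i j).eq
    have htop : J = ⊤ := Grp.Quad.eq_top_of_commutator hp2 hp3 J fun c => by
      obtain ⟨g, hg⟩ := hψsurj (Grp.Quad.diagTwo hp2)
      obtain ⟨k, hk⟩ := hψsurj (Grp.SL2.up c)
      rw [← hg, ← hk]
      exact hcomm g k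
    obtain ⟨g, hgQ, hg⟩ := htop.ge (Subgroup.mem_top (Grp.SL2.up (1 : ZMod p)))
    have h1 : (orderOf g).Coprime p := by
      rw [← Subgroup.orderOf_coe]; exact s.coprime_order hgQ
    rw [← orderOf_injective ψ hψinj g, hg] at h1
    have h2 : orderOf (Grp.SL2.up (1 : ZMod p)) = p := by
      refine orderOf_eq_prime (by rw [Grp.SL2.up_pow]; exact Subtype.ext (by
        ext r s; fin_cases r <;> fin_cases s <;> simp [Grp.SL2.up])) fun e => ?_
      simpa [Grp.SL2.up] using congrFun (congrFun (congrArg Subtype.val e) 0) 1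
    rw [h2, Nat.coprime_self] at h1
    exact hp.out.one_lt.ne h1.symm
  have hskew : (t1 : ZMod p) + t2 = 0 := by
    rcases hp23 with rfl | rfl
    · exact skew_two _ _ ht1z ht2z
    · set D : E := ⟨a, haE⟩ * ⟨b, hbE⟩⁻¹
      have hDQ : (D : G) ∈ Q := hd
      have hco : (orderOf D).Coprime 3 := by
        rw [← Subgroup.orderOf_coe]; exact s.coprime_order hDQ
      have hDψ : ψ D = Grp.SL2.up (t1 : ZMod 3) * Grp.SL2.low (-(t2 : ZMod 3)) := by
        rw [map_mul, map_inv, hψa, hψb]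
        congr 1
        exact inv_eq_of_mul_eq_one_right (by rw [Grp.SL2.low_mul, add_neg_cancel, Grp.SL2.low_zero])
      by_contra hne
      have h23 : ψ D ^ 6 = 1 ∧ ψ D ^ 2 ≠ 1 := by
        rw [hDψ]
        exact skew_three _ _ ht1z ht2z hne
      have h6 : orderOf D ∣ 2 * 3 := orderOf_dvd_of_pow_eq_one (hψinj (by rw [map_pow, h23.1, map_one]))
      exact h23.2 (by rw [← map_pow, orderOf_dvd_iff_pow_eq_one.mp (hco.dvd_of_dvd_mul_right h6), map_one])
  have hthree : p = 3 → (a * b⁻¹) ^ 2 ≠ 1 ∧ (∀ g ∈ E, Commute ((a * b⁻¹) ^ 2) g) ∧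
      ¬ Commute (a * (a * b⁻¹) * a⁻¹) (a * b⁻¹) := by
    rintro rfl
    set D : E := ⟨a, haE⟩ * ⟨b, hbE⟩⁻¹
    have hDψ : ψ D = Grp.SL2.up (t1 : ZMod 3) * Grp.SL2.low (-(t2 : ZMod 3)) := by
      rw [map_mul, map_inv, hψa, hψb]
      congr 1
      exact inv_eq_of_mul_eq_one_right (by rw [Grp.SL2.low_mul, add_neg_cancel, Grp.SL2.low_zero])
    have hinv : ψ ⟨a, haE⟩⁻¹ = Grp.SL2.up (-(t1 : ZMod 3)) := by
      rw [map_inv, hψa]
      exact inv_eq_of_mul_eq_one_right (by
        rw [Grp.SL2.up_mul, add_neg_cancel]; exact Subtype.ext (by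
          ext r s; fin_cases r <;> fin_cases s <;> simp [Grp.SL2.up]))
    obtain ⟨h1, h2, h3⟩ := square_three _ _ ht1z ht2z hskew
    refine ⟨fun e => h1 ?_, fun g hg => ?_, fun e => h3 ?_⟩
    · rw [← hDψ, ← map_pow, show D ^ 2 = 1 from Subtype.ext e, map_one]
    · have hle : E ≤ Subgroup.centralizer {((D : G)) ^ 2} := (Subgroup.closure_le _).mpr (by
        have key : ∀ M : E, ψ M ∈ [Grp.SL2.up (t1 : ZMod 3), Grp.SL2.low (t2 : ZMod 3)] →
            (M : G) ∈ Subgroup.centralizer {((D : G)) ^ 2} := fun M hM => by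
          have h4 : D ^ 2 * M = M * D ^ 2 := hψinj (by
            rw [map_mul, map_mul, map_pow, hDψ]; exact h2 _ hM)
          exact Subgroup.mem_centralizer_singleton_iff.mpr (congrArg Subtype.val h4).symm
        rintro y (hy | hy) <;> rw [SetLike.mem_coe, hy]
        · exact key ⟨a, haE⟩ (by rw [hψa]; exact List.mem_cons_self)
        · exact key ⟨b, hbE⟩ (by rw [hψb]; exact List.mem_cons_of_mem _ List.mem_cons_self))
      exact (Subgroup.mem_centralizer_singleton_iff.mp (hle hg)).symm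
    · have h4 : (⟨a, haE⟩ * D * ⟨a, haE⟩⁻¹) * D = D * (⟨a, haE⟩ * D * ⟨a, haE⟩⁻¹) :=
        Subtype.ext e.eq
      have h5 := congrArg ψ h4
      simp only [map_mul] at h5
      rw [hψa, hDψ, hinv] at h5
      exact h5
  refine ⟨hp23, E, U, W, rfl, rfl, rfl, hUV, hUc, hUW, hUWV, hVE, ?_,
    ⟨MulEquiv.ofBijective ψ ⟨hψinj, hψsurj⟩⟩, ?_, ?_, hthree⟩
  · refine (Subgroup.eq_bot_iff_forall _).mpr fun g hg => ?_
    refine congrArg Subtype.val (hMinj ⟨g, hEL hg.1⟩ (hMext _ _ fun c => hcinj ?_) :)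
    show crd ((M ⟨g, hEL hg.1⟩).mulVec c) = crd ((1 : Matrix (Fin 2) (Fin 2) (ZMod p)).mulVec c)
    rw [hMv, hT, Matrix.one_mulVec]
    exact mul_inv_eq_iff_eq_mul.mpr
      (Subgroup.mem_centralizer_iff.mp hg.2 (crd c) (hιU ▸ ⟨_, rfl⟩)).symm
  · intro g hgH hgp hgU hgW
    obtain ⟨e, he⟩ := hψsurj ⟨Mh ⟨g, ⟨hgH, hgU⟩, hgW⟩, hdet _ hgp⟩
    have h1 : Mh ((⟨g, ⟨hgH, hgU⟩, hgW⟩ : L) * (Subgroup.inclusion hEL e)⁻¹) = 1 := by
      rw [map_mul, show Mh ⟨g, ⟨hgH, hgU⟩, hgW⟩ = Mh (Subgroup.inclusion hEL e) from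
        (congrArg Subtype.val he).symm, ← map_mul, mul_inv_cancel, map_one]
    have h2 := congrArg Subtype.val (mul_inv_eq_one.mp (hMinj _ h1))
    have h3 : g = (e : G) := h2
    rw [h3]
    exact e.2
  · intro k l hk hl
    have ek : (k : ZMod p) = t1 := by
      have h1 := mul_right_cancel (hk.symm.trans ht1)
      have h2 := pow_eq_pow_iff_modEq.mp h1
      rw [orderOf_eq_prime hup h.ne] at h2
      exact (ZMod.natCast_eq_natCast_iff _ _ _).mpr h2
    have el : (l : ZMod p) = t2 := by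
      have h1 := mul_right_cancel (hl.symm.trans ht2)
      have h2 := pow_eq_pow_iff_modEq.mp h1
      rw [orderOf_eq_prime hup' hbt.ne] at h2
      exact (ZMod.natCast_eq_natCast_iff _ _ _).mpr h2
    rw [ek, el]
    exact hskew

end

end Cfsg.Agent.Transfer.Offender
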