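import Mathlib
import Cfsg.Agent.Lib.Transfer.OffenderPlane
import Cfsg.Agent.Lib.Grp.Cores

/-!
Structure of a group generated by best offenders: commuting copies of `SL(2, p)` on planes.
-/

set_option autoImplicit false
set_option linter.unusedSectionVars false
set_option linter.style.haveILetI false
set_option linter.flexible false
set_option maxHeartbeats 1000000

namespace Cfsg.Agent.Transfer.Offender

open Subgroup
open scoped commutatorElement

variable {G : Type*} [Group G] [Finite G] {p : ℕ} [hp : Fact p.Prime]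

/-- A component: a copy `E` of `SL(2, p)` inside `H`, normalized by `Q`, acting naturally on the
plane `U` and trivially on the complement `W`. -/
structure Comp (p : ℕ) (V H Q E U W : Subgroup G) : Prop where
  EH : E ≤ H
  QE : Q ≤ Subgroup.normalizer (E : Set G)
  W_eq : W = fix V E
  UV : U ≤ V
  card_U : Nat.card U = p ^ 2
  inf_eq : U ⊓ W = ⊥
  sup_eq : U ⊔ W = V
  comm : ⁅V, E⁆ = U
  faith : E ⊓ Subgroup.centralizer (U : Set G) = ⊥
  iso : Nonempty (E ≃* Matrix.SpecialLinearGroup (Fin 2) (ZMod p))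
  full : ∀ g ∈ H, g ^ p = 1 → g ∈ Subgroup.normalizer (U : Set G) →
    g ∈ Subgroup.centralizer (W : Set G) → g ∈ E
  line : ∀ L : Subgroup G, L ≤ U → Q ≤ Subgroup.normalizer (L : Set G) → L = ⊥ ∨ L = U
  core_fix : V ⊓ Subgroup.centralizer ((E ⊓ Q : Subgroup G) : Set G) ≤ W
  gen : ∀ F : Subgroup G, Q ≤ Subgroup.normalizer (F : Set G) → ∀ A : Subgroup G, A ≤ E → A ≠ ⊥ →
    A ≤ F → Nat.card A = p → E = ⁅Q, A⁆ ⊔ A → E ≤ F

theorem sq_eq_one_three : ∀ r : ZMod 3, r ≠ 0 → r * r = 1 := by decide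

theorem normalizer_le_normalizer_centralizer' (E : Subgroup G) :
    Subgroup.normalizer (E : Set G) ≤
      Subgroup.normalizer ((Subgroup.centralizer (E : Set G) : Subgroup G) : Set G) :=
  Grp.invariant_iff.mp fun g hg c hc => Subgroup.mem_centralizer_iff.mpr fun e he => by
    have h1 := Subgroup.mem_centralizer_iff.mp hc _ (Grp.mem_conj_normalizer (inv_mem hg) he)
    calc e * (g * c * g⁻¹) = g * ((g⁻¹ * e * g⁻¹⁻¹) * c) * g⁻¹ := by group
      _ = g * c * g⁻¹ * e := by rw [h1]; group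

theorem setup_of {V H : Subgroup G} (hV : Cfsg.IsElementaryAbelian p V)
    (hHV : H ≤ Subgroup.normalizer (V : Set G)) (hf : H ⊓ Subgroup.centralizer (V : Set G) = ⊥)
    (hS1 : Subgroup.centralizer (Cfsg.pPrimeCore p ↥H : Set ↥H) ≤ Cfsg.pPrimeCore p ↥H) :
    Setup p V H ((Cfsg.pPrimeCore p ↥H).map H.subtype) := by
  refine ⟨hV, hHV, hf, Subgroup.map_subtype_le _, ?_, ?_, ?_⟩
  · refine Grp.invariant_iff.mp fun h hh x hx => ?_
    obtain ⟨y, hy, rfl⟩ := hx
    exact ⟨⟨h, hh⟩ * y * ⟨h, hh⟩⁻¹, (Grp.pPrimeCore_isNormal).conj_mem y hy ⟨h, hh⟩, rfl⟩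
  · rw [Subgroup.card_map_of_injective H.subtype_injective]
    exact Grp.pPrimeCore_coprime
  · rintro x ⟨hxH, hxc⟩
    exact ⟨⟨x, hxH⟩, hS1 (Subgroup.mem_centralizer_iff.mpr fun y hy => Subtype.ext
      (Subgroup.mem_centralizer_iff.mp hxc y ⟨y, hy, rfl⟩)), rfl⟩

section
variable {V H Q : Subgroup G} (s : Setup p V H Q)
include s

/-- What is fixed by `a b⁻¹` is fixed by `a` and `b`. -/
theorem Setup.fixed_of_diff {a u x v : G} (ha : a ∈ H) (h : IsTrans p V a u) (hx : x ∈ Q)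
    (hxa : x * a ≠ a * x) (hv : v ∈ V)
    (hd : (a * (x * a * x⁻¹)⁻¹) * v * (a * (x * a * x⁻¹)⁻¹)⁻¹ = v) :
    a * v * a⁻¹ = v ∧ (x * a * x⁻¹) * v * (x * a * x⁻¹)⁻¹ = v := by
  have hbt : IsTrans p V (x * a * x⁻¹) (x * u * x⁻¹) := h.conj s.elem (s.norm (s.QH hx))
  have hne := s.not_fixed ha h hx hxa
  set b := x * a * x⁻¹ with hb
  set u' := x * u * x⁻¹ with hu'
  obtain ⟨j, hj⟩ := hbt.pow_mem_zpowers s.elem (inv_mem (Subgroup.mem_zpowers b)) v hv
  obtain ⟨k, hk⟩ := h.shift v hv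
  have h1 : (a * u' * a⁻¹) ^ j * (u ^ k * v) = v := by
    calc (a * u' * a⁻¹) ^ j * (u ^ k * v) = a * (b⁻¹ * v * b⁻¹⁻¹) * a⁻¹ := by
          rw [hj, conj_pow (a := a) (b := u'), ← hk]; group
      _ = (a * b⁻¹) * v * (a * b⁻¹)⁻¹ := by group
      _ = v := hd
  have h2 : (a * u' * a⁻¹) ^ j = (u ^ k)⁻¹ := by
    have := h1
    rw [← mul_assoc] at this
    exact eq_inv_of_mul_eq_one_left (mul_right_cancel (this.trans (one_mul v).symm))
  have h3 : u' ^ j = (u ^ k)⁻¹ := by
    have h4 : a⁻¹ * (a * u' * a⁻¹) ^ j * a = a⁻¹ * (u ^ k)⁻¹ * a := by rw [h2]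
    rw [conj_pow (a := a) (b := u')] at h4
    have h5 : a * (u ^ k)⁻¹ * a⁻¹ = (u ^ k)⁻¹ := by
      rw [← conj_inv, ← conj_pow (a := a) (b := u), h.fixed]
    calc u' ^ j = a⁻¹ * (a * u' ^ j * a⁻¹) * a := by group
      _ = a⁻¹ * (u ^ k)⁻¹ * a := h4
      _ = a⁻¹ * (a * (u ^ k)⁻¹ * a⁻¹) * a := by rw [h5]
      _ = (u ^ k)⁻¹ := by group
  have hj1 : u' ^ j = 1 := by
    by_contra hne'
    have hmem : u' ∈ Subgroup.zpowers (u' ^ j) := by
      have hsub : Subgroup.zpowers (u' ^ j) = Subgroup.zpowers u' :=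
        Subgroup.eq_of_le_of_card_ge (Subgroup.zpowers_le.mpr (pow_mem (Subgroup.mem_zpowers u') j)) (by
          rw [hbt.card_line s.elem, Nat.card_zpowers,
            orderOf_eq_prime (s.elem.2 _ (pow_mem hbt.mem j)) hne'])
      rw [hsub]
      exact Subgroup.mem_zpowers u'
    apply hne
    have hle : Subgroup.zpowers (u' ^ j) ≤ Subgroup.centralizer {a} := by
      rw [Subgroup.zpowers_le, h3, Subgroup.mem_centralizer_singleton_iff]
      refine ((Commute.inv_left ?_).eq)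
      refine (Commute.pow_left ?_ k)
      exact (mul_inv_eq_iff_eq_mul.mp h.fixed).symm
    exact mul_inv_eq_iff_eq_mul.mpr (Subgroup.mem_centralizer_singleton_iff.mp (hle hmem)).symm
  have hk1 : u ^ k = 1 := by
    rw [hj1] at h3
    exact inv_eq_one.mp h3.symm
  refine ⟨by rw [hk, hk1, one_mul], ?_⟩
  have h4 : b⁻¹ * v * b⁻¹⁻¹ = v := by rw [hj, hj1, one_mul]
  calc b * v * b⁻¹ = b * (b⁻¹ * v * b⁻¹⁻¹) * b⁻¹ := by rw [h4]
    _ = v := by group

/-- Conjugates of a transvection under the core lie in one plane group. -/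
theorem Setup.conj_mem {a u x y : G} (ha : a ∈ H) (h : IsTrans p V a u) (hx : x ∈ Q) (hy : y ∈ Q)
    (hxa : x * a ≠ a * x) : y * a * y⁻¹ ∈ Subgroup.closure {a, x * a * x⁻¹} := by
  by_cases hya : y * a = a * y
  · rw [hya, mul_inv_cancel_right]
    exact Subgroup.subset_closure (Set.mem_insert _ _)
  by_cases hza : (x⁻¹ * y) * a = a * (x⁻¹ * y)
  · have : y * a * y⁻¹ = x * a * x⁻¹ := by
      calc y * a * y⁻¹ = x * ((x⁻¹ * y) * a) * (x⁻¹ * y)⁻¹ * x⁻¹ := by group
        _ = x * a * x⁻¹ := by rw [hza]; group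
    rw [this]
    exact Subgroup.subset_closure (Set.mem_insert_of_mem _ rfl)
  obtain ⟨-, E, U, W, hE, hU, hW, hUV, -, hUW, hUWV, -, -, -, hfull, hs12, -⟩ :=
    s.exists_plane ha h hx hxa
  obtain ⟨-, -, -, -, -, -, -, -, -, -, -, -, -, -, -, hs13, -⟩ := s.exists_plane ha h hy hya
  obtain ⟨-, -, -, -, -, -, -, -, -, -, -, -, -, -, -, hs23, -⟩ :=
    s.exists_plane ha h (mul_mem (inv_mem hx) hy) hza
  have hyV := s.norm (s.QH hy)
  have hxV := s.norm (s.QH hx)
  have hb : IsTrans p V (x * a * x⁻¹) (x * u * x⁻¹) := h.conj s.elem hxV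
  have hc : IsTrans p V (y * a * y⁻¹) (y * u * y⁻¹) := h.conj s.elem hyV
  set b := x * a * x⁻¹ with hbdef
  set c := y * a * y⁻¹ with hcdef
  set u' := x * u * x⁻¹ with hu'
  set u'' := y * u * y⁻¹ with hu''
  obtain ⟨k12, e12⟩ := h.shift u' hb.mem
  obtain ⟨k21, e21⟩ := hb.shift u h.mem
  obtain ⟨k13, e13⟩ := h.shift u'' hc.mem
  obtain ⟨k31, e31⟩ := hc.shift u h.mem
  obtain ⟨k23, e23⟩ := hb.shift u'' hc.mem
  obtain ⟨k32, e32⟩ := hc.shift u' hb.mem
  have s12 := hs12 k12 k21 e12 e21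
  have s13 := hs13 k13 k31 e13 e31
  have s23 : (k23 : ZMod p) + k32 = 0 := by
    refine hs23 k23 k32 ?_ ?_
    · calc a * ((x⁻¹ * y) * u * (x⁻¹ * y)⁻¹) * a⁻¹ = x⁻¹ * (b * u'' * b⁻¹) * x := by
            rw [hbdef, hu'']; group
        _ = x⁻¹ * (u' ^ k23 * u'') * x := by rw [e23]
        _ = u ^ k23 * ((x⁻¹ * y) * u * (x⁻¹ * y)⁻¹) := by
            rw [hu', hu'', conj_pow]; group
    · calc (x⁻¹ * y * a * (x⁻¹ * y)⁻¹) * u * (x⁻¹ * y * a * (x⁻¹ * y)⁻¹)⁻¹
            = x⁻¹ * (c * u' * c⁻¹) * x := by rw [hcdef, hu']; group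
        _ = x⁻¹ * (u'' ^ k32 * u') * x := by rw [e32]
        _ = ((x⁻¹ * y) * u * (x⁻¹ * y)⁻¹) ^ k32 * u := by
            rw [hu', hu'', conj_pow, conj_pow]; group
  have hup : u ^ p = 1 := s.elem.2 u h.mem
  have hup' : u' ^ p = 1 := s.elem.2 u' hb.mem
  have hup'' : u'' ^ p = 1 := s.elem.2 u'' hc.mem
  set z := u ^ k23 * (u' ^ k31 * u'' ^ k12) with hz
  have hcomm : ∀ {g g' : G}, g ∈ V → g' ∈ V → Commute g g' := fun hg hg' => elem_comm s.elem hg hg'
  have hza' : a * z * a⁻¹ = z := by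
    have hexp : u ^ (k12 * k31 + k13 * k12) = u ^ 0 := pow_eq_pow_of_mod hup (by
      push_cast; linear_combination (k12 : ZMod p) * s13)
    calc a * z * a⁻¹ = (a * u * a⁻¹) ^ k23 * ((a * u' * a⁻¹) ^ k31 * (a * u'' * a⁻¹) ^ k12) := by
          rw [hz, conj_pow (a := a) (b := u), conj_pow (a := a) (b := u'),
            conj_pow (a := a) (b := u'')]; group
      _ = u ^ k23 * ((u ^ (k12 * k31) * u' ^ k31) * (u ^ (k13 * k12) * u'' ^ k12)) := by
          rw [h.fixed, e12, e13, (hcomm (pow_mem h.mem _) hb.mem).mul_pow,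
            (hcomm (pow_mem h.mem _) hc.mem).mul_pow, ← pow_mul, ← pow_mul]
      _ = u ^ k23 * (u ^ (k12 * k31 + k13 * k12) * (u' ^ k31 * u'' ^ k12)) := by
          rw [(hcomm (pow_mem hb.mem k31) (pow_mem h.mem (k13 * k12))).mul_mul_mul_comm, ← pow_add]
      _ = z := by rw [hexp, pow_zero, one_mul]
  have hzb : b * z * b⁻¹ = z := by
    have hexp : u' ^ (k21 * k23 + k23 * k12) = u' ^ 0 := pow_eq_pow_of_mod hup' (by
      push_cast; linear_combination (k23 : ZMod p) * s12)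
    calc b * z * b⁻¹ = (b * u * b⁻¹) ^ k23 * ((b * u' * b⁻¹) ^ k31 * (b * u'' * b⁻¹) ^ k12) := by
          rw [hz, conj_pow (a := b) (b := u), conj_pow (a := b) (b := u'),
            conj_pow (a := b) (b := u'')]; group
      _ = (u' ^ (k21 * k23) * u ^ k23) * (u' ^ k31 * (u' ^ (k23 * k12) * u'' ^ k12)) := by
          rw [hb.fixed, e21, e23, (hcomm (pow_mem hb.mem _) h.mem).mul_pow,
            (hcomm (pow_mem hb.mem _) hc.mem).mul_pow, ← pow_mul, ← pow_mul]
      _ = u' ^ (k21 * k23 + k23 * k12) * (u ^ k23 * (u' ^ k31 * u'' ^ k12)) := by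
          rw [← mul_assoc (u' ^ k31), (hcomm (pow_mem hb.mem k31) (pow_mem hb.mem (k23 * k12))).eq,
            mul_assoc (u' ^ (k23 * k12)),
            (hcomm (pow_mem hb.mem (k21 * k23)) (pow_mem h.mem k23)).eq, mul_assoc,
            ← mul_assoc (u' ^ (k21 * k23)), ← pow_add, ← mul_assoc, ← mul_assoc,
            (hcomm (pow_mem h.mem k23) (pow_mem hb.mem (k21 * k23 + k23 * k12))).eq, mul_assoc,
            mul_assoc]
      _ = z := by rw [hexp, pow_zero, one_mul]
  have hzc : c * z * c⁻¹ = z := by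
    have hexp : u'' ^ (k31 * k23 + k32 * k31) = u'' ^ 0 := pow_eq_pow_of_mod hup'' (by
      push_cast; linear_combination (k31 : ZMod p) * s23)
    calc c * z * c⁻¹ = (c * u * c⁻¹) ^ k23 * ((c * u' * c⁻¹) ^ k31 * (c * u'' * c⁻¹) ^ k12) := by
          rw [hz, conj_pow (a := c) (b := u), conj_pow (a := c) (b := u'),
            conj_pow (a := c) (b := u'')]; group
      _ = (u'' ^ (k31 * k23) * u ^ k23) * ((u'' ^ (k32 * k31) * u' ^ k31) * u'' ^ k12) := by
          rw [hc.fixed, e31, e32, (hcomm (pow_mem hc.mem _) h.mem).mul_pow,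
            (hcomm (pow_mem hc.mem _) hb.mem).mul_pow, ← pow_mul, ← pow_mul]
      _ = u'' ^ (k31 * k23 + k32 * k31) * (u ^ k23 * (u' ^ k31 * u'' ^ k12)) := by
          rw [mul_assoc (u'' ^ (k32 * k31)),
            (hcomm (pow_mem hc.mem (k31 * k23)) (pow_mem h.mem k23)).eq, mul_assoc,
            ← mul_assoc (u'' ^ (k31 * k23)), ← pow_add, ← mul_assoc,
            (hcomm (pow_mem h.mem k23) (pow_mem hc.mem (k31 * k23 + k32 * k31))).eq, mul_assoc]
      _ = z := by rw [hexp, pow_zero, one_mul]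
  -- the three transvections and their core part
  have hbH : b ∈ H := mul_mem (mul_mem (s.QH hx) ha) (inv_mem (s.QH hx))
  have hcH : c ∈ H := mul_mem (mul_mem (s.QH hy) ha) (inv_mem (s.QH hy))
  set T := Subgroup.closure {a, b, c} with hT
  have haT : a ∈ T := Subgroup.subset_closure (Set.mem_insert _ _)
  have hbT : b ∈ T := Subgroup.subset_closure (Set.mem_insert_of_mem _ (Set.mem_insert _ _))
  have hcT : c ∈ T := Subgroup.subset_closure (Set.mem_insert_of_mem _ (Set.mem_insert_of_mem _ rfl))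
  have hTH : T ≤ H := (Subgroup.closure_le H).mpr (by
    rintro g (hg | hg | hg) <;> rw [SetLike.mem_coe, hg] <;> assumption)
  set R := T ⊓ Q with hR
  have hRH : R ≤ H := inf_le_left.trans hTH
  have hd1 : a * b⁻¹ ∈ R := ⟨T.mul_mem haT (T.inv_mem hbT), s.comm_mem_core ha hx⟩
  have hd2 : a * c⁻¹ ∈ R := ⟨T.mul_mem haT (T.inv_mem hcT), s.comm_mem_core ha hy⟩
  haveI := s.elem.1
  have hRV : R ≤ Subgroup.normalizer (V : Set G) := hRH.trans s.norm
  have hcop : (Nat.card R).Coprime (Nat.card V) := by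
    obtain ⟨n, hn⟩ := IsPGroup.iff_card.mp s.vPGroup
    rw [hn]
    exact (s.Qcop.coprime_dvd_left (Subgroup.card_dvd_of_le inf_le_right)).pow_right n
  have hfixR : ∀ w ∈ V ⊓ Subgroup.centralizer (R : Set G),
      a * w * a⁻¹ = w ∧ b * w * b⁻¹ = w ∧ c * w * c⁻¹ = w := fun w hw => by
    have h1 := s.fixed_of_diff ha h hx hxa hw.1
      (mul_inv_eq_iff_eq_mul.mpr (Subgroup.mem_centralizer_iff.mp hw.2 _ hd1))
    have h2 := s.fixed_of_diff ha h hy hya hw.1
      (mul_inv_eq_iff_eq_mul.mpr (Subgroup.mem_centralizer_iff.mp hw.2 _ hd2))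
    exact ⟨h1.1, h1.2, h2.2⟩
  set M := ⁅V, R⁆ with hM
  have hMV : M ≤ V := Grp.commutator_le_left_of_le_normalizer hRV
  have hTR : T ≤ Subgroup.normalizer (R : Set G) :=
    Grp.le_normalizer_inf' Subgroup.le_normalizer (hTH.trans s.Qnorm)
  have hTM : ∀ g ∈ T, ∀ m ∈ M, g * m * g⁻¹ ∈ M := by
    intro g hg
    have hle : M.map (MulAut.conj g).toMonoidHom ≤ M := by
      rw [hM, Subgroup.map_commutator]
      exact Subgroup.commutator_mono
        (fun _ ⟨v, hv, e⟩ => e ▸ Grp.mem_conj_normalizer (s.norm (hTH hg)) hv)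
        (fun _ ⟨r, hr, e⟩ => e ▸ Grp.mem_conj_normalizer (hTR hg) hr)
    exact fun m hm => hle ⟨m, hm, rfl⟩
  have hdecR : ∀ v ∈ V, ∃ m ∈ M, ∃ w ∈ V ⊓ Subgroup.centralizer (R : Set G), v = m * w := by
    intro v hv
    obtain ⟨m, hm, w, hw, e⟩ := Grp.exists_commutator_mul_fixed R V hRV hcop
      (Or.inr (Group.isSolvable_of_comm mul_comm')) hv
    exact ⟨m, hm, w, hw, e⟩
  have hcentre : ∀ g w : G, g ∈ T → IsTrans p V g w →
      (∀ v ∈ V ⊓ Subgroup.centralizer (R : Set G), g * v * g⁻¹ = v) → w ∈ M := by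
    intro g w hg hgt hfix
    obtain ⟨v, hv, e⟩ := hgt.moved
    obtain ⟨m, hm, w', hw', rfl⟩ := hdecR v hv
    have h1 : g * m * g⁻¹ = w * m := by
      have h2 : g * (m * w') * g⁻¹ = (g * m * g⁻¹) * w' := by
        conv_lhs => rw [show g * (m * w') * g⁻¹ = (g * m * g⁻¹) * (g * w' * g⁻¹) by group,
          hfix w' hw']
      rw [h2, ← mul_assoc] at e
      exact mul_right_cancel e
    have h3 := M.mul_mem (hTM g hg m hm) (inv_mem hm)
    rwa [h1, mul_inv_cancel_right] at h3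
  have huM := hcentre a u haT h fun v hv => (hfixR v hv).1
  have hu'M := hcentre b u' hbT hb fun v hv => (hfixR v hv).2.1
  have hu''M := hcentre c u'' hcT hc fun v hv => (hfixR v hv).2.2
  have hzM : z ∈ M := mul_mem (pow_mem huM _) (mul_mem (pow_mem hu'M _) (pow_mem hu''M _))
  have hzfix : z ∈ Subgroup.centralizer (R : Set G) := by
    have hle : T ≤ Subgroup.centralizer {z} := (Subgroup.closure_le _).mpr (by
      rintro g (hg | hg | hg) <;> rw [SetLike.mem_coe, hg, Subgroup.mem_centralizer_singleton_iff]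
      · exact mul_inv_eq_iff_eq_mul.mp hza'
      · exact mul_inv_eq_iff_eq_mul.mp hzb
      · exact mul_inv_eq_iff_eq_mul.mp hzc)
    exact Subgroup.mem_centralizer_iff.mpr fun r hr =>
      Subgroup.mem_centralizer_singleton_iff.mp (hle hr.1)
  have hz1 : z = 1 := by
    have h1 := Grp.abelian_commutator_inf_fixed R V hRV hcop
    rw [← Subgroup.mem_bot, ← h1]
    exact ⟨⟨hMV hzM, hzfix⟩, hzM⟩
  have hu''U : u'' ∈ U := by
    have h1 : u'' ^ k12 ∈ U := by
      have e : u'' ^ k12 = (u' ^ k31)⁻¹ * (u ^ k23)⁻¹ * z := by rw [hz]; group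
      rw [e, hz1, mul_one, hU]
      exact mul_mem (inv_mem (pow_mem (Subgroup.mem_sup_right (Subgroup.mem_zpowers u')) _))
        (inv_mem (pow_mem (Subgroup.mem_sup_left (Subgroup.mem_zpowers u)) _))
    have hk : (k12 : ZMod p) ≠ 0 := fun e => s.not_fixed ha h hx hxa (by
      rw [e12, pow_eq_pow_of_mod hup (n := 0) (by rw [e, Nat.cast_zero]), pow_zero, one_mul])
    have hco : (orderOf u'').Coprime k12 := by
      rw [orderOf_eq_prime hup'' hc.ne, hp.out.coprime_iff_not_dvd]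
      exact fun hd => hk ((ZMod.natCast_eq_zero_iff _ _).mpr hd)
    obtain ⟨m, hm⟩ := exists_pow_eq_self_of_coprime hco.symm
    rw [← hm]
    exact pow_mem h1 m
  rw [← hE]
  have haE : a ∈ E := hE ▸ Subgroup.subset_closure (Set.mem_insert _ _)
  have hbE : b ∈ E := hE ▸ Subgroup.subset_closure (Set.mem_insert_of_mem _ rfl)
  refine hfull c hcH hc.pow ?_ ?_
  · have hn : Subgroup.zpowers c ≤ Subgroup.normalizer (U : Set G) := Grp.invariant_iff.mp
      fun g hg v hv => by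
        obtain ⟨k, hk⟩ := hc.pow_mem_zpowers s.elem hg v (hUV hv)
        rw [hk]
        exact mul_mem (pow_mem hu''U k) hv
    exact hn (Subgroup.mem_zpowers c)
  · -- `[V, R] ≤ U`, so `W` is the fixed point group of `R`
    have hMU : M ≤ U := by
      have hcl : ∀ g ∈ T, ∀ v ∈ V, g * v * g⁻¹ * v⁻¹ ∈ U := by
        intro g hg
        induction hg using Subgroup.closure_induction with
        | mem y hy =>
          intro v hv
          rcases hy with hy | hy | hy <;> rw [hy]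
          · obtain ⟨k, hk⟩ := h.shift v hv
            rw [hk, mul_inv_cancel_right, hU]
            exact pow_mem (Subgroup.mem_sup_left (Subgroup.mem_zpowers u)) k
          · obtain ⟨k, hk⟩ := hb.shift v hv
            rw [hk, mul_inv_cancel_right, hU]
            exact pow_mem (Subgroup.mem_sup_right (Subgroup.mem_zpowers u')) k
          · obtain ⟨k, hk⟩ := hc.shift v hv
            rw [hk, mul_inv_cancel_right]
            exact pow_mem hu''U k
        | one => intro v _; simp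
        | mul g k hg hk ihg ihk =>
          intro v hv
          have h1 : k * v * k⁻¹ ∈ V := Grp.mem_conj_normalizer (s.norm (hTH hk)) hv
          rw [show g * k * v * (g * k)⁻¹ * v⁻¹ =
            (g * (k * v * k⁻¹) * g⁻¹ * (k * v * k⁻¹)⁻¹) * (k * v * k⁻¹ * v⁻¹) by group]
          exact mul_mem (ihg _ h1) (ihk v hv)
        | inv g hg ihg =>
          intro v hv
          have h1 : g⁻¹ * v * g⁻¹⁻¹ ∈ V := Grp.mem_conj_normalizer (s.norm (inv_mem (hTH hg))) hv
          rw [show g⁻¹ * v * g⁻¹⁻¹ * v⁻¹ =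
            (g * (g⁻¹ * v * g⁻¹⁻¹) * g⁻¹ * (g⁻¹ * v * g⁻¹⁻¹)⁻¹)⁻¹ by group]
          exact inv_mem (ihg _ h1)
      rw [hM, Subgroup.commutator_comm]
      exact Subgroup.commutator_le.mpr fun g hg v hv => hcl g hg.1 v hv
    refine Subgroup.mem_centralizer_iff.mpr fun w hw => ?_
    obtain ⟨m, hm, w', hw', rfl⟩ := hdecR w (hW ▸ hw : w ∈ fix V E).1
    have hw'W : w' ∈ W := by
      rw [hW]
      refine ⟨hw'.1, ?_⟩
      rw [hE, Subgroup.centralizer_closure]
      refine Subgroup.mem_centralizer_iff.mpr ?_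
      rintro g (rfl | rfl)
      · exact mul_inv_eq_iff_eq_mul.mp (hfixR w' hw').1
      · exact mul_inv_eq_iff_eq_mul.mp (hfixR w' hw').2.1
    have hm1 : m = 1 := by
      rw [← Subgroup.mem_bot, ← hUW]
      exact ⟨hMU hm, by simpa using mul_mem hw (inv_mem hw'W)⟩
    rw [hm1, one_mul]
    exact (mul_inv_eq_iff_eq_mul.mp (hfixR w' hw').2.2).symm

/-- Every exact subgroup of order `p` lies in a component. -/
theorem Setup.exists_comp {A : Subgroup G} (hAH : A ≤ H) (hA : IsExact p V A) (hAp : Nat.card A = p) :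
    (p = 2 ∨ p = 3) ∧ ∃ U W : Subgroup G, Comp p V H Q (⁅Q, A⁆ ⊔ A) U W ∧ ⁅V, A⁆ ≤ U ∧
      (p = 3 → ∃ d ∈ ⁅Q, A⁆, ∃ e ∈ ⁅Q, A⁆, ¬ Commute e d) := by
  obtain ⟨a, u, hAa, h⟩ := exists_isTrans s.elem (hAH.trans s.norm) hA hAp
  have haA : a ∈ A := hAa ▸ Subgroup.mem_zpowers a
  have ha : a ∈ H := hAH haA
  have hA1 : A ≠ ⊥ := fun e => hp.out.one_lt.ne (by rw [← hAp, e, Subgroup.card_bot])
  obtain ⟨x, hx, hxa⟩ : ∃ x ∈ Q, x * a ≠ a * x := by
    by_contra hne
    push Not at hne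
    refine hA1 (s.eq_bot_of_centralizes (Grp.elemAb_isPGroup hA.1) hAH fun q hq => ?_)
    rw [hAa, ← Grp.centralizer_singleton_eq_zpowers]
    exact Subgroup.mem_centralizer_singleton_iff.mpr (hne q hq)
  obtain ⟨h23, E, U, W, hE, hU, hW, hUV, hUc, hUW, hUWV, hVE, hfaith, hiso, hfull, -, hthree⟩ :=
    s.exists_plane ha h hx hxa
  have haE : a ∈ E := hE ▸ Subgroup.subset_closure (Set.mem_insert _ _)
  have hbE : x * a * x⁻¹ ∈ E := hE ▸ Subgroup.subset_closure (Set.mem_insert_of_mem _ rfl)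
  have hEH : E ≤ H := hE ▸ (Subgroup.closure_le H).mpr (by
    rintro g (hg | hg) <;> rw [SetLike.mem_coe, hg]
    · exact ha
    · exact mul_mem (mul_mem (s.QH hx) ha) (inv_mem (s.QH hx)))
  have hconj : ∀ q ∈ Q, q * a * q⁻¹ ∈ E := fun q hq => hE ▸ s.conj_mem ha h hx hq hxa
  have hAE : A ≤ E := hAa ▸ Subgroup.zpowers_le.mpr haE
  have hEeq : ⁅Q, A⁆ ⊔ A = E := by
    refine le_antisymm (sup_le (Subgroup.commutator_le.mpr fun q hq y hy => ?_) hAE) ?_
    · rw [hAa] at hy
      obtain ⟨n, rfl⟩ := Subgroup.mem_zpowers_iff.mp hy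
      rw [commutatorElement_def, show q * a ^ n * q⁻¹ = (q * a * q⁻¹) ^ n from conj_zpow.symm]
      exact mul_mem (zpow_mem (hconj q hq) n) (inv_mem (zpow_mem haE n))
    · rw [hE, Subgroup.closure_le]
      rintro g (hg | hg) <;> rw [SetLike.mem_coe, hg]
      · exact Subgroup.mem_sup_right haA
      · rw [show x * a * x⁻¹ = ⁅x, a⁆ * a by rw [commutatorElement_def]; group]
        exact Subgroup.mul_mem_sup (Subgroup.commutator_mem_commutator hx haA) haA
  have hQE : Q ≤ Subgroup.normalizer (E : Set G) := Grp.invariant_iff.mp fun q hq g hg => by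
    have hle : E ≤ E.comap (MulAut.conj q).toMonoidHom := by
      conv_lhs => rw [hE]
      refine (Subgroup.closure_le _).mpr ?_
      rintro g (hg | hg) <;> rw [SetLike.mem_coe, hg, Subgroup.mem_comap]
      · exact hconj q hq
      · show q * (x * a * x⁻¹) * q⁻¹ ∈ E
        rw [show q * (x * a * x⁻¹) * q⁻¹ = (q * x) * a * (q * x)⁻¹ by group]
        exact hconj _ (mul_mem hq hx)
    exact hle hg
  have hd : a * (x * a * x⁻¹)⁻¹ ∈ E ⊓ Q := ⟨E.mul_mem haE (E.inv_mem hbE), s.comm_mem_core ha hx⟩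
  have hcorefix : V ⊓ Subgroup.centralizer ((E ⊓ Q : Subgroup G) : Set G) ≤ W := by
    rintro v ⟨hv, hvc⟩
    obtain ⟨h1, h2⟩ := s.fixed_of_diff ha h hx hxa hv
      (mul_inv_eq_iff_eq_mul.mpr (Subgroup.mem_centralizer_iff.mp hvc _ hd))
    rw [hW]
    refine ⟨hv, ?_⟩
    rw [hE, Subgroup.centralizer_closure]
    refine Subgroup.mem_centralizer_iff.mpr ?_
    rintro g (rfl | rfl)
    · exact mul_inv_eq_iff_eq_mul.mp h1
    · exact mul_inv_eq_iff_eq_mul.mp h2
  refine ⟨h23, U, W, ?_, ?_, ?_⟩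
  · rw [hEeq]
    refine ⟨hEH, hQE, hW, hUV, hUc, hUW, hUWV, hVE, hfaith, hiso, hfull, fun L hLU hLQ => ?_,
      hcorefix, fun F hF B hB hB1 hBF hBp hEB => ?_⟩
    · by_contra hne
      push Not at hne
      obtain ⟨hL0, hLU'⟩ := hne
      obtain ⟨l, hl, hl1⟩ := (Subgroup.bot_or_exists_ne_one L).resolve_left hL0
      have hlp : l ^ p = 1 := s.elem.2 l (hUV (hLU hl))
      have hLl : L = Subgroup.zpowers l := by
        refine (Subgroup.eq_of_le_of_card_ge (Subgroup.zpowers_le.mpr hl) ?_).symm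
        rw [Nat.card_zpowers, orderOf_eq_prime hlp hl1]
        obtain ⟨i, hi, he⟩ := (Nat.dvd_prime_pow hp.out).mp (hUc ▸ Subgroup.card_dvd_of_le hLU)
        rw [he]
        have hi2 : i ≠ 2 := fun e => hLU' (Subgroup.eq_of_le_of_card_ge hLU (by rw [he, e, hUc]))
        calc p ^ i ≤ p ^ 1 := Nat.pow_le_pow_right hp.out.pos (by omega)
          _ = p := pow_one p
      set d := a * (x * a * x⁻¹)⁻¹ with hddef
      have hdl : ∃ k : ℕ, d * l * d⁻¹ = l ^ k := by
        have h1 := Grp.mem_conj_normalizer (hLQ hd.2) hl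
        conv at h1 => rw [hLl]
        obtain ⟨k, hk⟩ := (mem_powers_iff_mem_zpowers (x := l)).mpr h1
        exact ⟨k, hk.symm⟩
      obtain ⟨k, hk⟩ := hdl
      have hfin : ∀ e : G, e ∈ U → d * e * d⁻¹ = e → e = 1 := fun e he hde => by
        obtain ⟨h1, h2⟩ := s.fixed_of_diff ha h hx hxa (hUV he) hde
        rw [← Subgroup.mem_bot, ← hUW]
        refine ⟨he, hW ▸ ⟨hUV he, ?_⟩⟩
        rw [hE, Subgroup.centralizer_closure]
        refine Subgroup.mem_centralizer_iff.mpr ?_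
        rintro g (rfl | rfl)
        · exact mul_inv_eq_iff_eq_mul.mp h1
        · exact mul_inv_eq_iff_eq_mul.mp h2
      rcases h23 with hp' | hp'
      · subst hp'
        refine hl1 (hfin l (hLU hl) ?_)
        rcases Nat.even_or_odd k with ⟨m, rfl⟩ | ⟨m, rfl⟩
        · exfalso
          rw [← two_mul, pow_mul, hlp, one_pow] at hk
          exact hl1 (conj_eq_one_iff.mp hk)
        · rw [hk, pow_succ, pow_mul, hlp, one_pow, one_mul]
      · subst hp'
        obtain ⟨hne1, hcen, -⟩ := hthree rfl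
        have h2 : d ^ 2 * l * (d ^ 2)⁻¹ = l := by
          have hk3 : (k : ZMod 3) ≠ 0 := fun e => hl1 (conj_eq_one_iff.mp (hk.trans
            ((pow_eq_pow_of_mod hlp (n := 0) (by rw [e, Nat.cast_zero])).trans (pow_zero l))))
          calc d ^ 2 * l * (d ^ 2)⁻¹ = d * (d * l * d⁻¹) * d⁻¹ := by rw [pow_two]; group
            _ = (d * l * d⁻¹) ^ k := by rw [hk, ← conj_pow, hk]
            _ = l ^ (k * k) := by rw [hk, pow_mul]
            _ = l ^ 1 := pow_eq_pow_of_mod hlp (by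
                push_cast
                exact sq_eq_one_three _ hk3)
            _ = l := pow_one l
        -- the fixed points of `d²` in the plane
        set L' := U ⊓ Subgroup.centralizer {d ^ 2} with hL'
        have hlL : l ∈ L' := ⟨hLU hl, Subgroup.mem_centralizer_singleton_iff.mpr
          (mul_inv_eq_iff_eq_mul.mp h2).symm⟩
        have hinv : ∀ g ∈ E, ∀ e ∈ L', g * e * g⁻¹ ∈ L' := fun g hg e he => by
          have hgU : g * e * g⁻¹ * e⁻¹ ∈ U := by
            rw [← hVE, Subgroup.commutator_comm]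
            exact Subgroup.commutator_mem_commutator hg (hUV he.1)
          refine ⟨by simpa using mul_mem hgU he.1, ?_⟩
          refine Subgroup.mem_centralizer_singleton_iff.mpr ?_
          exact ((((hcen g hg).symm.mul_left
            (show Commute e (d ^ 2) from Subgroup.mem_centralizer_singleton_iff.mp he.2)).mul_left
            (hcen g hg).symm.inv_left)).eq
        have hbt : IsTrans 3 V (x * a * x⁻¹) (x * u * x⁻¹) := h.conj s.elem (s.norm (s.QH hx))
        have hline : ∀ (g w : G), g ∈ E → IsTrans 3 V g w → w ∉ L' →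
            ∀ e ∈ L', g * e * g⁻¹ = e := by
          intro g w hg hgt hw e he
          obtain ⟨j, hj⟩ := hgt.shift e (hUV he.1)
          by_contra hne
          apply hw
          have h1 : w ^ j ∈ L' := by
            have := mul_mem (hinv g hg e he) (inv_mem he)
            rwa [hj, mul_inv_cancel_right] at this
          have hco : (orderOf w).Coprime j := by
            rw [orderOf_eq_prime (s.elem.2 w hgt.mem) hgt.ne, hp.out.coprime_iff_not_dvd]
            intro hd'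
            obtain ⟨m, rfl⟩ := hd'
            apply hne
            rw [hj, pow_mul, s.elem.2 w hgt.mem, one_pow, one_mul]
          obtain ⟨m, hm⟩ := exists_pow_eq_self_of_coprime hco.symm
          rw [← hm]
          exact pow_mem h1 m
        have hu_or : u ∈ L' ∧ x * u * x⁻¹ ∈ L' := by
          have h1 : u ∈ L' ∨ x * u * x⁻¹ ∈ L' := by
            by_contra hn
            push Not at hn
            refine hl1 ?_
            rw [← Subgroup.mem_bot, ← hUW]
            refine ⟨hLU hl, hW ▸ ⟨hUV (hLU hl), ?_⟩⟩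
            rw [hE, Subgroup.centralizer_closure]
            refine Subgroup.mem_centralizer_iff.mpr ?_
            rintro g (hg | hg) <;> rw [hg]
            · exact mul_inv_eq_iff_eq_mul.mp (hline a u haE h hn.1 l hlL)
            · exact mul_inv_eq_iff_eq_mul.mp (hline _ _ hbE hbt hn.2 l hlL)
          rcases h1 with h1 | h1
          · refine ⟨h1, ?_⟩
            by_contra hn
            have h1' := s.not_fixed ha h (inv_mem hx) (fun e => hxa (by
              calc x * a = x * (a * x⁻¹) * x := by group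
                _ = x * (x⁻¹ * a) * x := by rw [e]
                _ = a * x := by group))
            apply h1'
            calc a * (x⁻¹ * u * x⁻¹⁻¹) * a⁻¹
                = x⁻¹ * ((x * a * x⁻¹) * u * (x * a * x⁻¹)⁻¹) * x⁻¹⁻¹ := by group
              _ = x⁻¹ * u * x⁻¹⁻¹ := by rw [hline _ _ hbE hbt hn u h1]
          · refine ⟨?_, h1⟩
            by_contra hn
            exact s.not_fixed ha h hx hxa (hline a u haE h hn _ h1)
        have hUL : U ≤ L' := by
          rw [hU]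
          exact sup_le (Subgroup.zpowers_le.mpr hu_or.1) (Subgroup.zpowers_le.mpr hu_or.2)
        refine hne1 ?_
        rw [← Subgroup.mem_bot, ← hfaith]
        refine ⟨pow_mem hd.1 2, Subgroup.mem_centralizer_iff.mpr fun e he => ?_⟩
        exact Subgroup.mem_centralizer_singleton_iff.mp (hUL he).2
    · rw [hEB]
      refine sup_le (Subgroup.commutator_le.mpr fun q hq y hy => ?_) hBF
      rw [commutatorElement_def]
      exact mul_mem (Grp.mem_conj_normalizer (hF hq) (hBF hy)) (inv_mem (hBF hy))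
  · rw [hAa, h.commutator_eq s.elem, Subgroup.zpowers_le, hU]
    exact Subgroup.mem_sup_left (Subgroup.mem_zpowers u)
  · intro h3
    obtain ⟨-, -, hnc⟩ := hthree h3
    have hd' : a * (x * a * x⁻¹)⁻¹ ∈ ⁅Q, A⁆ := by
      rw [show a * (x * a * x⁻¹)⁻¹ = ⁅x, a⁆⁻¹ by simp only [commutatorElement_def]; group]
      exact inv_mem (Subgroup.commutator_mem_commutator hx haA)
    exact ⟨_, hd', _, Grp.mem_conj_normalizer (Grp.right_le_normalizer_commutator A Q haA) hd', hnc⟩

/-- Two components coincide or are orthogonal. -/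
theorem Comp.le_fix {E U W E' U' W' : Subgroup G} (hc : Comp p V H Q E U W)
    (hc' : Comp p V H Q E' U' W') (hne : U ⊓ U' = ⊥) : U' ≤ W := by
  refine fun w hw => hc.core_fix ⟨hc'.UV hw, Subgroup.mem_centralizer_iff.mpr fun r hr => ?_⟩
  have h1 : ⁅r, w⁆ ∈ U := by
    rw [← hc.comm, Subgroup.commutator_comm]
    exact Subgroup.commutator_mem_commutator hr.1 (hc'.UV hw)
  have h2 : ⁅r, w⁆ ∈ U' := by
    have hn : r ∈ Subgroup.normalizer (U' : Set G) := by
      have hQU : Q ≤ Subgroup.normalizer ((⁅V, E'⁆ : Subgroup G) : Set G) :=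
        Grp.invariant_iff.mp fun q hq m hm => by
          have hle : (⁅V, E'⁆).map (MulAut.conj q).toMonoidHom ≤ ⁅V, E'⁆ := by
            rw [Subgroup.map_commutator]
            exact Subgroup.commutator_mono
              (fun _ ⟨v, hv, e⟩ => e ▸ Grp.mem_conj_normalizer (s.norm (s.QH hq)) hv)
              (fun _ ⟨g, hg, e⟩ => e ▸ Grp.mem_conj_normalizer (hc'.QE hq) hg)
          exact hle ⟨m, hm, rfl⟩
      rw [hc'.comm] at hQU
      exact hQU hr.2
    rw [commutatorElement_def]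
    exact mul_mem (Grp.mem_conj_normalizer hn hw) (inv_mem hw)
  have h3 : ⁅r, w⁆ = 1 := by rw [← Subgroup.mem_bot, ← hne]; exact ⟨h1, h2⟩
  exact commutatorElement_eq_one_iff_mul_comm.mp h3

theorem Comp.Q_le_normalizer_plane {E U W : Subgroup G} (hc : Comp p V H Q E U W) :
    Q ≤ Subgroup.normalizer (U : Set G) := by
  rw [← hc.comm]
  refine Grp.invariant_iff.mp fun q hq m hm => ?_
  have hle : (⁅V, E⁆).map (MulAut.conj q).toMonoidHom ≤ ⁅V, E⁆ := by
    rw [Subgroup.map_commutator]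
    exact Subgroup.commutator_mono
      (fun _ ⟨v, hv, e⟩ => e ▸ Grp.mem_conj_normalizer (s.norm (s.QH hq)) hv)
      (fun _ ⟨g, hg, e⟩ => e ▸ Grp.mem_conj_normalizer (hc.QE hq) hg)
  exact hle ⟨m, hm, rfl⟩

theorem Comp.normalizer_fix {E U W : Subgroup G} (hc : Comp p V H Q E U W) {g : G} (hg : g ∈ H)
    (hgE : g ∈ Subgroup.normalizer (E : Set G)) : g ∈ Subgroup.normalizer (W : Set G) := by
  have hn : Subgroup.zpowers g ≤ Subgroup.normalizer (W : Set G) := by
    rw [hc.W_eq]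
    refine Grp.le_normalizer_inf' (Subgroup.zpowers_le.mpr (s.norm hg)) ?_
    refine Subgroup.zpowers_le.mpr ?_
    exact normalizer_le_normalizer_centralizer' E hgE
  exact hn (Subgroup.mem_zpowers g)

theorem Comp.eq_or_orth {E U W E' U' W' : Subgroup G} (hc : Comp p V H Q E U W)
    (hc' : Comp p V H Q E' U' W') : (U = U' ∧ W = W') ∨ (U' ≤ W ∧ U ≤ W') := by
  rcases hc.line (U ⊓ U') inf_le_left
    (Grp.le_normalizer_inf' (hc.Q_le_normalizer_plane s) (hc'.Q_le_normalizer_plane s)) with h | h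
  · exact Or.inr ⟨hc.le_fix s hc' h, hc'.le_fix s hc (inf_comm U' U ▸ h)⟩
  have hUU : U = U' := Subgroup.eq_of_le_of_card_ge (h.ge.trans inf_le_right)
    (by rw [hc.card_U, hc'.card_U])
  subst hUU
  refine Or.inl ⟨rfl, ?_⟩
  have key : ∀ {F W₀ F' W₀' : Subgroup G}, Comp p V H Q F U W₀ → Comp p V H Q F' U W₀' →
      W₀ ≤ W₀' := by
    intro F W₀ F' W₀' hd hd' w hw
    have hwV : w ∈ V := (hd.W_eq ▸ hw : w ∈ fix V F).1
    refine hd'.core_fix ⟨hwV, Subgroup.mem_centralizer_iff.mpr fun r hr => ?_⟩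
    have h1 : ⁅r, w⁆ ∈ U := by
      rw [← hd'.comm, Subgroup.commutator_comm]
      exact Subgroup.commutator_mem_commutator hr.1 hwV
    have h2 : ⁅r, w⁆ ∈ W₀ := by
      rw [commutatorElement_def]
      exact mul_mem (Grp.mem_conj_normalizer (hd.normalizer_fix s (s.QH hr.2) (hd.QE hr.2)) hw)
        (inv_mem hw)
    have h3 : ⁅r, w⁆ = 1 := by rw [← Subgroup.mem_bot, ← hd.inf_eq]; exact ⟨h1, h2⟩
    exact commutatorElement_eq_one_iff_mul_comm.mp h3
  exact le_antisymm (key hc hc') (key hc' hc)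

/-- An exact subgroup of order `p` lies in a given component or centralizes it. -/
theorem Comp.le_or_centralizes {E U W A : Subgroup G} (hc : Comp p V H Q E U W) (hAH : A ≤ H)
    (hA : IsExact p V A) (hAp : Nat.card A = p) :
    A ≤ E ∨ (A ≤ Subgroup.centralizer (U : Set G) ∧ A ≤ Subgroup.normalizer (W : Set G) ∧
      ⁅V, A⁆ ≤ W ∧ ∀ U' W', Comp p V H Q (⁅Q, A⁆ ⊔ A) U' W' → U' ≤ W) := by
  obtain ⟨-, U₁, W₁, hc', hVA, -⟩ := s.exists_comp hAH hA hAp
  have hWV : W ≤ V := hc.W_eq.le.trans inf_le_left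
  rcases hc.eq_or_orth s hc' with ⟨rfl, rfl⟩ | ⟨h1, h2⟩
  · refine Or.inl fun g hg => hc.full g (hAH hg) (hA.1.2 g hg) ?_ ?_
    · have hn : ⁅Q, A⁆ ⊔ A ≤ Subgroup.normalizer (U : Set G) := Grp.invariant_iff.mp fun e he m hm => by
        have : ⁅e, m⁆ ∈ U := by
          rw [← hc'.comm, Subgroup.commutator_comm]
          exact Subgroup.commutator_mem_commutator he (hc.UV hm)
        rw [commutatorElement_def] at this
        simpa using mul_mem this hm
      exact hn (Subgroup.mem_sup_right hg)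
    · refine Subgroup.mem_centralizer_iff.mpr fun w hw => ?_
      exact ((Subgroup.mem_centralizer_iff.mp (hc'.W_eq ▸ hw : w ∈ fix V (⁅Q, A⁆ ⊔ A)).2) g
        (Subgroup.mem_sup_right hg)).symm
  · refine Or.inr ⟨?_, ?_, hVA.trans h1, fun U' W' hd => ?_⟩
    · refine fun g hg => Subgroup.mem_centralizer_iff.mpr fun m hm => ?_
      exact (Subgroup.mem_centralizer_iff.mp (hc'.W_eq ▸ h2 hm : m ∈ fix V (⁅Q, A⁆ ⊔ A)).2 g
        (Subgroup.mem_sup_right hg)).symm
    · refine Grp.invariant_iff.mp fun g hg w hw => ?_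
      have : ⁅g, w⁆ ∈ W := h1 (hVA (by
        rw [Subgroup.commutator_comm]; exact Subgroup.commutator_mem_commutator hg (hWV hw)))
      rw [commutatorElement_def] at this
      simpa using mul_mem this hw
    · rw [← hd.comm, hc'.comm]
      exact h1

/-- The direct decomposition attached to a component. -/
theorem Comp.decomposition {E U W : Subgroup G} (hc : Comp p V H Q E U W)
    (hgen : H = ⨆ A : {A : Subgroup G // A ≤ H ∧ Cfsg.IsBestOffenderOn p V A}, (A : Subgroup G)) :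
    H ≤ Subgroup.normalizer (E : Set G) ∧
      ⁅E, H ⊓ Subgroup.centralizer (U : Set G)⁆ = ⊥ ∧
      E ⊓ (H ⊓ Subgroup.centralizer (U : Set G)) = ⊥ ∧
      E ⊔ (H ⊓ Subgroup.centralizer (U : Set G)) = H ∧
      ⁅V, H ⊓ Subgroup.centralizer (U : Set G)⁆ ≤ W := by
  set K := H ⊓ Subgroup.centralizer (U : Set G)
  set K₀ := K ⊓ Subgroup.normalizer (W : Set G)
  have hH : H ≤ E ⊔ K₀ := by
    rw [hgen]
    refine iSup_le fun ⟨A, hAH, hA⟩ => ?_
    obtain ⟨k, B, hB, -, hBs⟩ := s.exists_decomposition _ A rfl hAH (s.isExact_of_best hAH hA)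
    show A ≤ _
    rw [← hBs]
    refine iSup_le fun i => ?_
    rcases hc.le_or_centralizes s ((hB i).1.trans hAH) (hB i).2.1 (hB i).2.2 with h | h
    · exact h.trans le_sup_left
    · exact (le_inf (le_inf ((hB i).1.trans hAH) h.1) h.2.1).trans le_sup_right
  have hEW : E ≤ Subgroup.normalizer (W : Set G) := by
    rw [hc.W_eq]
    exact Grp.le_normalizer_inf' (hc.EH.trans s.norm)
      (Subgroup.le_normalizer.trans (normalizer_le_normalizer_centralizer' E))
  have hHW : H ≤ Subgroup.normalizer (W : Set G) := hH.trans (sup_le hEW inf_le_right)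
  have hVW : ∀ g ∈ K, ∀ v ∈ V, ⁅g, v⁆ ∈ W := by
    intro g hg v hv
    have hv' : v ∈ U ⊔ W := hc.sup_eq.symm ▸ hv
    have hn : U ≤ Subgroup.normalizer (W : Set G) := Grp.invariant_iff.mp fun y hy w hw => by
      rw [elem_comm s.elem (hc.UV hy) ((hc.W_eq ▸ hw : w ∈ fix V E).1), mul_inv_cancel_right]
      exact hw
    rw [← SetLike.mem_coe, Subgroup.coe_mul_of_left_le_normalizer_right U W hn] at hv'
    obtain ⟨m, hm, w, hw, rfl⟩ := hv'
    have h1 : g * m * g⁻¹ = m :=
      mul_inv_eq_iff_eq_mul.mpr (Subgroup.mem_centralizer_iff.mp hg.2 m hm).symm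
    have h2 : g * w * g⁻¹ ∈ W := Grp.mem_conj_normalizer (hHW hg.1) hw
    have h3 : g * w * g⁻¹ * w⁻¹ ∈ W := mul_mem h2 (inv_mem hw)
    have h4 : ⁅g, m * w⁆ = m * (g * w * g⁻¹ * w⁻¹) * m⁻¹ := by
      calc ⁅g, m * w⁆ = (g * m * g⁻¹) * (g * w * g⁻¹ * w⁻¹) * m⁻¹ := by
            rw [commutatorElement_def]; group
        _ = _ := by rw [h1]
    rw [h4, elem_comm s.elem (hc.UV hm) ((hc.W_eq ▸ h3 : _ ∈ fix V E).1), mul_inv_cancel_right]
    exact h3
  have hEK : ∀ e ∈ E, ∀ g ∈ K, e * g = g * e := by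
    intro e he g hg
    have hfixU : ∀ m ∈ U, e * m * e⁻¹ ∈ U := fun m hm => by
      have : ⁅e, m⁆ ∈ U := by
        rw [← hc.comm, Subgroup.commutator_comm]
        exact Subgroup.commutator_mem_commutator he (hc.UV hm)
      rw [commutatorElement_def] at this
      simpa using mul_mem this hm
    have hfixW : ∀ f ∈ E, ∀ w ∈ W, f * w * f⁻¹ = w := fun f hf w hw =>
      mul_inv_eq_iff_eq_mul.mpr (Subgroup.mem_centralizer_iff.mp
        (hc.W_eq ▸ hw : w ∈ fix V E).2 f hf)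
    have hgU : ∀ m ∈ U, ∀ g ∈ K, g * m * g⁻¹ = m := fun m hm g hg =>
      mul_inv_eq_iff_eq_mul.mpr (Subgroup.mem_centralizer_iff.mp hg.2 m hm).symm
    refine commutatorElement_eq_one_iff_mul_comm.mp (s.eq_one_of_fix ?_ fun v hv => ?_)
    · exact mul_mem (mul_mem (mul_mem (hc.EH he) hg.1) (inv_mem (hc.EH he))) (inv_mem hg.1)
    have hv' : v ∈ U ⊔ W := hc.sup_eq.symm ▸ hv
    have hn : U ≤ Subgroup.normalizer (W : Set G) := Grp.invariant_iff.mp fun y hy w hw => by
      rw [elem_comm s.elem (hc.UV hy) ((hc.W_eq ▸ hw : w ∈ fix V E).1), mul_inv_cancel_right]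
      exact hw
    rw [← SetLike.mem_coe, Subgroup.coe_mul_of_left_le_normalizer_right U W hn] at hv'
    obtain ⟨m, hm, w, hw, rfl⟩ := hv'
    have hm' : e⁻¹ * m * e⁻¹⁻¹ ∈ U := by
      have : ⁅e⁻¹, m⁆ ∈ U := by
        rw [← hc.comm, Subgroup.commutator_comm]
        exact Subgroup.commutator_mem_commutator (inv_mem he) (hc.UV hm)
      rw [commutatorElement_def] at this
      simpa using mul_mem this hm
    have hcm : ⁅e, g⁆ * m * ⁅e, g⁆⁻¹ = m := by
      calc ⁅e, g⁆ * m * ⁅e, g⁆⁻¹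
          = e * (g * (e⁻¹ * (g⁻¹ * m * g⁻¹⁻¹) * e⁻¹⁻¹) * g⁻¹) * e⁻¹ := by
            rw [commutatorElement_def]; group
        _ = m := by rw [hgU m hm g⁻¹ (inv_mem hg), hgU _ hm' g hg]; group
    have hw' : g⁻¹ * w * g⁻¹⁻¹ ∈ W := Grp.mem_conj_normalizer (hHW (inv_mem hg.1)) hw
    have hcw : ⁅e, g⁆ * w * ⁅e, g⁆⁻¹ = w := by
      calc ⁅e, g⁆ * w * ⁅e, g⁆⁻¹
          = e * (g * (e⁻¹ * (g⁻¹ * w * g⁻¹⁻¹) * e⁻¹⁻¹) * g⁻¹) * e⁻¹ := by
            rw [commutatorElement_def]; group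
        _ = e * w * e⁻¹ := by rw [hfixW _ (inv_mem he) _ hw']; group
        _ = w := hfixW e he w hw
    calc ⁅e, g⁆ * (m * w) * ⁅e, g⁆⁻¹ = (⁅e, g⁆ * m * ⁅e, g⁆⁻¹) * (⁅e, g⁆ * w * ⁅e, g⁆⁻¹) := by group
      _ = m * w := by rw [hcm, hcw]
  refine ⟨?_, ?_, ?_, le_antisymm (sup_le hc.EH inf_le_left)
    (hH.trans (sup_le_sup_left inf_le_left E)), ?_⟩
  · refine hH.trans (sup_le Subgroup.le_normalizer (Grp.invariant_iff.mp fun g hg e he => ?_))
    rw [← hEK e he g hg.1, mul_inv_cancel_right]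
    exact he
  · rw [Subgroup.commutator_eq_bot_iff_le_centralizer]
    exact fun e he => Subgroup.mem_centralizer_iff.mpr fun g hg => (hEK e he g hg).symm
  · exact le_bot_iff.mp ((inf_le_inf_left E inf_le_right).trans hc.faith.le)
  · rw [Subgroup.commutator_comm]
    exact Subgroup.commutator_le.mpr fun g hg v hv => hVW g hg v hv

end

end Cfsg.Agent.Transfer.Offender
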