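import Mathlib
import Cfsg.Agent.Lib.Transfer.OffenderStructure

/-!
The factors `[Q, A] A` of a group generated by best offenders, and the splitting of the module.
-/

set_option autoImplicit false
set_option linter.unusedSectionVars false
set_option linter.style.haveILetI false

namespace Cfsg.Agent.Transfer.Offender

open Subgroup
open scoped commutatorElement

variable {G : Type*} [Group G] [Finite G] {p : ℕ} [hp : Fact p.Prime]

/-- A factor: the group `[Q, A] A` of an exact subgroup `A` of order `p`. -/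
def IsFactor (p : ℕ) (V H Q E : Subgroup G) : Prop :=
  ∃ A : Subgroup G, A ≤ H ∧ IsExact p V A ∧ Nat.card A = p ∧ E = ⁅Q, A⁆ ⊔ A

/-- The description of the factors by minimal best offenders. -/
def IsMinFactor (p : ℕ) (V H Q E : Subgroup G) : Prop :=
  ∃ A : Subgroup G, A ≤ H ∧ Cfsg.IsBestOffenderOn p V A ∧ ⁅V, A⁆ ≠ ⊥ ∧
    (∀ B : Subgroup G, B ≤ A → Cfsg.IsBestOffenderOn p V B → ⁅V, B⁆ ≠ ⊥ → B = A) ∧
    E = ⁅Q, A⁆ ⊔ A

section
variable {V H Q : Subgroup G} (s : Setup p V H Q)
include s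

theorem Setup.commutator_ne_bot {A : Subgroup G} (hAH : A ≤ H) (hA : A ≠ ⊥) : ⁅V, A⁆ ≠ ⊥ := by
  intro h
  rw [Subgroup.commutator_comm] at h
  exact hA (le_bot_iff.mp (s.faithful ▸ le_inf hAH
    (Subgroup.commutator_eq_bot_iff_le_centralizer.mp h)))

theorem Setup.isMinFactor_iff {E : Subgroup G} :
    IsMinFactor p V H Q E ↔ IsFactor p V H Q E := by
  constructor
  · rintro ⟨A, hAH, hA, hAV, hmin, rfl⟩
    obtain ⟨hex, hc⟩ := s.card_eq_of_minimal hAH hA hAV hmin
    exact ⟨A, hAH, hex, hc, rfl⟩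
  · rintro ⟨A, hAH, hA, hc, rfl⟩
    have hA1 : A ≠ ⊥ := fun e => hp.out.one_lt.ne (by rw [← hc, e, Subgroup.card_bot])
    refine ⟨A, hAH, s.best_of_isExact hAH hA, s.commutator_ne_bot hAH hA1, fun B hB _ hB1 => ?_, rfl⟩
    rcases (Nat.dvd_prime hp.out).mp (hc ▸ Subgroup.card_dvd_of_le hB) with h | h
    · exact absurd (by rw [Subgroup.card_eq_one.mp h, Subgroup.commutator_bot_right]) hB1
    · exact Subgroup.eq_of_le_of_card_ge hB (hc.trans h.symm).le

theorem IsFactor.exists_comp {E : Subgroup G} (h : IsFactor p V H Q E) :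
    (p = 2 ∨ p = 3) ∧ Comp p V H Q E ⁅V, E⁆ (fix V E) := by
  obtain ⟨A, hAH, hA, hc, rfl⟩ := h
  obtain ⟨h23, U, W, hcomp, -, -⟩ := s.exists_comp hAH hA hc
  refine ⟨h23, ?_⟩
  rw [hcomp.comm, ← hcomp.W_eq]
  exact hcomp

/-- Distinct factors centralize each other's planes. -/
theorem IsFactor.orth {E F : Subgroup G} (hE : IsFactor p V H Q E) (hF : IsFactor p V H Q F)
    (hne : F ≠ E) : ⁅V, F⁆ ≤ fix V E ∧ F ≤ Subgroup.centralizer ((⁅V, E⁆ : Subgroup G) : Set G) := by
  obtain ⟨-, hc⟩ := hE.exists_comp s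
  obtain ⟨-, hd⟩ := hF.exists_comp s
  rcases hc.eq_or_orth s hd with ⟨hU, hW⟩ | ⟨h1, h2⟩
  · exfalso
    obtain ⟨A, hAH, hA, hAp, rfl⟩ := hF
    apply hne
    have hAE : A ≤ E := fun g hg => hc.full g (hAH hg) (hA.1.2 g hg) (by
      have hn : ⁅Q, A⁆ ⊔ A ≤ Subgroup.normalizer ((⁅V, E⁆ : Subgroup G) : Set G) := by
        rw [hU]; exact Grp.right_le_normalizer_commutator _ _
      exact hn (Subgroup.mem_sup_right hg)) (Subgroup.mem_centralizer_iff.mpr fun w hw => by
        exact (Subgroup.mem_centralizer_iff.mp (hW ▸ hw : w ∈ fix V (⁅Q, A⁆ ⊔ A)).2 g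
          (Subgroup.mem_sup_right hg)).symm)
    have hle : ⁅Q, A⁆ ⊔ A ≤ E := sup_le (Subgroup.commutator_le.mpr fun q hq y hy => by
      rw [commutatorElement_def]
      exact mul_mem (Grp.mem_conj_normalizer (hc.QE hq) (hAE hy)) (inv_mem (hAE hy))) hAE
    obtain ⟨e₁⟩ := hc.iso
    obtain ⟨e₂⟩ := hd.iso
    exact Subgroup.eq_of_le_of_card_ge hle (Nat.card_congr (e₁.trans e₂.symm).toEquiv).le
  · exact ⟨h1, Subgroup.le_centralizer_iff.mp (h2.trans inf_le_right)⟩

theorem Setup.iSup_factor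
    (hgen : H = ⨆ A : {A : Subgroup G // A ≤ H ∧ Cfsg.IsBestOffenderOn p V A}, (A : Subgroup G)) :
    (⨆ E : {E : Subgroup G // IsFactor p V H Q E}, (E : Subgroup G)) = H := by
  refine le_antisymm (iSup_le fun E => (E.2.exists_comp s).2.EH) ?_
  conv_lhs => rw [hgen]
  refine iSup_le fun ⟨A, hAH, hA⟩ => ?_
  obtain ⟨k, B, hB, -, hBs⟩ := s.exists_decomposition _ A rfl hAH (s.isExact_of_best hAH hA)
  show A ≤ _
  rw [← hBs]
  exact iSup_le fun i => le_sup_right.trans (le_iSup
    (fun E : {E : Subgroup G // IsFactor p V H Q E} => (E : Subgroup G))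
    ⟨⁅Q, B i⁆ ⊔ B i, B i, (hB i).1.trans hAH, (hB i).2.1, (hB i).2.2, rfl⟩)

theorem Setup.iSupIndep_factor :
    iSupIndep (fun E : {E : Subgroup G // IsFactor p V H Q E} => (E : Subgroup G)) := by
  intro E
  rw [disjoint_iff]
  refine le_bot_iff.mp ((inf_le_inf_left _ (iSup₂_le fun F hF => ?_)).trans
    (E.2.exists_comp s).2.faith.le)
  exact (E.2.orth s F.2 fun e => hF (Subtype.ext e)).2

/-- The fixed points of `H` meet the span of the planes trivially. -/
theorem Setup.fix_inf_planes (t : Finset {E : Subgroup G // IsFactor p V H Q E}) :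
    fix V (t.sup fun E => (E : Subgroup G)) ⊓ t.sup (fun E => ⁅V, (E : Subgroup G)⁆) = ⊥ := by
  classical
  induction t using Finset.induction with
  | empty => simp
  | insert E t hE ih =>
    refine (Subgroup.eq_bot_iff_forall _).mpr fun z hz => ?_
    obtain ⟨hz1, hz2⟩ := hz
    rw [Finset.sup_insert] at hz1 hz2
    have hc := (E.2.exists_comp s).2
    have hle : t.sup (fun E => ⁅V, (E : Subgroup G)⁆) ≤ fix V E := Finset.sup_le fun F hF =>
      (E.2.orth s F.2 fun e => hE (Subtype.ext e ▸ hF)).1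
    have hn : ⁅V, (E : Subgroup G)⁆ ≤ Subgroup.normalizer
        ((t.sup fun E => ⁅V, (E : Subgroup G)⁆ : Subgroup G) : Set G) :=
      Grp.invariant_iff.mp fun y hy w hw => by
        rw [elem_comm s.elem (hc.UV hy) (hle hw).1, mul_inv_cancel_right]
        exact hw
    replace hz2 : z ∈ ((⁅V, (E : Subgroup G)⁆ ⊔ t.sup fun E => ⁅V, (E : Subgroup G)⁆ : Subgroup G) :
        Set G) := hz2
    rw [Subgroup.coe_mul_of_left_le_normalizer_right _ _ hn] at hz2
    obtain ⟨u, hu, m, hm, rfl⟩ := hz2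
    replace hz1 : u * m ∈ fix V ((E : Subgroup G) ⊔ t.sup fun E => (E : Subgroup G)) := hz1
    show u * m = 1
    have hzW : u * m ∈ fix V E := fix_anti le_sup_left hz1
    have hu1 : u = 1 := by
      rw [← Subgroup.mem_bot, ← hc.inf_eq]
      exact ⟨hu, by simpa using mul_mem hzW (inv_mem (hle hm))⟩
    subst hu1
    rw [one_mul] at hz1 ⊢
    rw [← Subgroup.mem_bot, ← ih]
    exact ⟨fix_anti le_sup_right hz1, hm⟩

/-- The planes and the common fixed points span `V`. -/
theorem Setup.le_fix_sup_planes (t : Finset {E : Subgroup G // IsFactor p V H Q E}) :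
    V ≤ fix V (t.sup fun E => (E : Subgroup G)) ⊔ t.sup (fun E => ⁅V, (E : Subgroup G)⁆) := by
  classical
  induction t using Finset.induction with
  | empty =>
    intro v hv
    refine Subgroup.mem_sup_left ⟨hv, Subgroup.mem_centralizer_iff.mpr fun b hb => ?_⟩
    simp only [Finset.sup_empty, SetLike.mem_coe, Subgroup.mem_bot] at hb
    simp [hb]
  | insert E t hE ih =>
    refine ih.trans (sup_le ?_ ?_)
    · intro v hv
      have hc := (E.2.exists_comp s).2
      have hv' : v ∈ ⁅V, (E : Subgroup G)⁆ ⊔ fix V E := hc.sup_eq.symm ▸ hv.1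
      have hn : ⁅V, (E : Subgroup G)⁆ ≤ Subgroup.normalizer ((fix V E : Subgroup G) : Set G) :=
        Grp.invariant_iff.mp fun y hy w hw => by
          rw [elem_comm s.elem (hc.UV hy) hw.1, mul_inv_cancel_right]
          exact hw
      rw [← SetLike.mem_coe, Subgroup.coe_mul_of_left_le_normalizer_right _ _ hn] at hv'
      obtain ⟨u, hu, w, hw, rfl⟩ := hv'
      have hut : u ∈ Subgroup.centralizer ((t.sup fun E => (E : Subgroup G) : Subgroup G) : Set G) := by
        have : t.sup (fun E => (E : Subgroup G)) ≤ Subgroup.centralizer {u} := Finset.sup_le fun F hF g hg =>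
          Subgroup.mem_centralizer_singleton_iff.mpr
            ((Subgroup.mem_centralizer_iff.mp ((E.2.orth s F.2 fun e => hE (Subtype.ext e ▸ hF)).2 hg))
              u hu).symm
        exact Subgroup.mem_centralizer_iff.mpr fun g hg =>
          Subgroup.mem_centralizer_singleton_iff.mp (this hg)
      rw [Finset.sup_insert, Finset.sup_insert]
      show u * w ∈ _
      replace hv : u * w ∈ fix V (t.sup fun E => (E : Subgroup G)) := hv
      rw [elem_comm s.elem (hc.UV hu) hw.1]
      refine Subgroup.mul_mem_sup ⟨hw.1, ?_⟩ (Subgroup.mem_sup_left hu)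
      have hwt : w ∈ Subgroup.centralizer ((t.sup fun E => (E : Subgroup G) : Subgroup G) : Set G) := by
        simpa using mul_mem (inv_mem hut) hv.2
      refine Subgroup.mem_centralizer_iff.mpr fun g hg => ?_
      have : (E : Subgroup G) ⊔ t.sup (fun E => (E : Subgroup G)) ≤ Subgroup.centralizer {w} :=
        sup_le (fun g hg => Subgroup.mem_centralizer_singleton_iff.mpr
          (Subgroup.mem_centralizer_iff.mp hw.2 g hg)) (fun g hg =>
          Subgroup.mem_centralizer_singleton_iff.mpr (Subgroup.mem_centralizer_iff.mp hwt g hg))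
      exact Subgroup.mem_centralizer_singleton_iff.mp (this hg)
    · rw [Finset.sup_insert, Finset.sup_insert]
      exact le_sup_right.trans le_sup_right

end

end Cfsg.Agent.Transfer.Offender
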