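import Mathlib
import Cfsg.Prelude.Def_PLocal
import Cfsg.Agent.Lib.Grp.Basic

/-! Basic facts on the elementary abelian Thompson subgroup. -/

set_option autoImplicit false

open scoped commutatorElement

namespace Cfsg.Agent.Transfer.Thompson

open Cfsg

variable {G : Type*} [Group G] {p : ℕ}

theorem comm_of {A : Subgroup G} (hA : IsElementaryAbelian p A) {a b : G} (ha : a ∈ A)
    (hb : b ∈ A) : a * b = b * a :=
  haveI := hA.1
  setLike_mul_comm ha hb

theorem isElementaryAbelian_of {A : Subgroup G} (h : ∀ a ∈ A, ∀ b ∈ A, a * b = b * a)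
    (h' : ∀ a ∈ A, a ^ p = 1) : IsElementaryAbelian p A :=
  ⟨⟨⟨fun x y => Subtype.ext (h x.1 x.2 y.1 y.2)⟩⟩, h'⟩

theorem isElementaryAbelian_map {H : Type*} [Group H] (f : G →* H) {A : Subgroup G}
    (hA : IsElementaryAbelian p A) : IsElementaryAbelian p (A.map f) := by
  refine isElementaryAbelian_of ?_ ?_
  · rintro _ ⟨a, ha, rfl⟩ _ ⟨b, hb, rfl⟩
    rw [← map_mul, ← map_mul, comm_of hA ha hb]
  · rintro _ ⟨a, ha, rfl⟩
    rw [← map_pow, hA.2 a ha, map_one]

theorem isElementaryAbelian_subgroupOf {A U : Subgroup G} (hA : IsElementaryAbelian p A) :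
    IsElementaryAbelian p (A.subgroupOf U) :=
  isElementaryAbelian_of (fun _ ha _ hb => Subtype.ext (comm_of hA ha hb))
    (fun a ha => Subtype.ext (hA.2 a.1 ha))

theorem isElementaryAbelian_bot : IsElementaryAbelian p (⊥ : Subgroup G) :=
  isElementaryAbelian_of (fun a ha b hb => by
    rw [Subgroup.mem_bot] at ha hb; simp [ha, hb]) (fun a ha => by
    rw [Subgroup.mem_bot] at ha; simp [ha])

theorem isElementaryAbelian_closure {s : Set G} (h : ∀ a ∈ s, ∀ b ∈ s, a * b = b * a)
    (h' : ∀ a ∈ s, a ^ p = 1) : IsElementaryAbelian p (Subgroup.closure s) := by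
  have hc : IsMulCommutative (Subgroup.closure s) := Subgroup.isMulCommutative_closure h
  refine ⟨hc, fun a ha => ?_⟩
  induction ha using Subgroup.closure_induction with
  | mem x hx => exact h' x hx
  | one => exact one_pow _
  | mul x y hx hy ihx ihy =>
    have hxy : Commute x y := setLike_mul_comm hx hy
    rw [hxy.mul_pow, ihx, ihy, one_mul]
  | inv x _ ih => rw [inv_pow, ih, inv_one]

theorem exists_max [Finite G] :
    ∃ A : Subgroup G, A ∈ maxElementaryAbelianSubgroups p G := by
  obtain ⟨A, hA, hmax⟩ := Set.Finite.exists_maximalFor (fun B : Subgroup G => Nat.card B)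
    {B : Subgroup G | IsElementaryAbelian p B} (Set.toFinite _) ⟨⊥, isElementaryAbelian_bot⟩
  exact ⟨A, hA, fun B hB => (le_total (Nat.card B) (Nat.card A)).elim id (hmax hB)⟩

theorem isPGroup_of {A : Subgroup G} (hA : IsElementaryAbelian p A) : IsPGroup p A :=
  fun a => ⟨1, by rw [pow_one]; exact Subtype.ext (hA.2 a.1 a.2)⟩

/-- An element of order dividing `p` centralizing a maximal one lies in it. -/
theorem mem_of_commute [Finite G] {A : Subgroup G} (hA : A ∈ maxElementaryAbelianSubgroups p G)
    {x : G} (hx : x ^ p = 1) (hc : ∀ a ∈ A, x * a = a * x) : x ∈ A := by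
  have hB : IsElementaryAbelian p (Subgroup.closure (insert x (A : Set G))) := by
    refine isElementaryAbelian_closure ?_ ?_
    · rintro a (rfl | ha) b (rfl | hb)
      · rfl
      · exact hc b hb
      · exact (hc a ha).symm
      · exact comm_of hA.1 ha hb
    · rintro a (rfl | ha)
      · exact hx
      · exact hA.1.2 a ha
  have hle : A ≤ Subgroup.closure (insert x (A : Set G)) :=
    fun a ha => Subgroup.subset_closure (Set.mem_insert_of_mem _ ha)
  rw [Subgroup.eq_of_le_of_card_ge hle (hA.2 _ hB)]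
  exact Subgroup.subset_closure (Set.mem_insert _ _)

theorem le_thompsonSubgroup {A : Subgroup G} (hA : A ∈ maxElementaryAbelianSubgroups p G) :
    A ≤ thompsonSubgroup p G :=
  le_sSup hA

theorem mem_sInf_of_centralizes [Finite G] {x : G} (hx : x ^ p = 1)
    (hc : x ∈ Subgroup.centralizer (thompsonSubgroup p G : Set G)) :
    x ∈ sInf (maxElementaryAbelianSubgroups p G) := by
  rw [Subgroup.mem_sInf]
  intro A hA
  exact mem_of_commute hA hx fun a ha => (Subgroup.mem_centralizer_iff.mp hc a
    (le_thompsonSubgroup hA ha)).symm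

theorem map_equiv_mem [Finite G] {H : Type*} [Group H] (e : G ≃* H) {A : Subgroup G}
    (hA : A ∈ maxElementaryAbelianSubgroups p G) :
    A.map e.toMonoidHom ∈ maxElementaryAbelianSubgroups p H := by
  refine ⟨isElementaryAbelian_map _ hA.1, fun B hB => ?_⟩
  have h := hA.2 _ (isElementaryAbelian_map e.symm.toMonoidHom hB)
  rw [Subgroup.card_map_of_injective e.symm.injective] at h
  rwa [Subgroup.card_map_of_injective e.injective]

theorem characteristic_thompsonSubgroup [Finite G] :
    (thompsonSubgroup p G).Characteristic := by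
  rw [Subgroup.characteristic_iff_map_le]
  intro φ
  rw [Subgroup.map_le_iff_le_comap]
  refine sSup_le fun A hA => ?_
  rw [← Subgroup.map_le_iff_le_comap]
  exact le_thompsonSubgroup (map_equiv_mem φ hA)

theorem thompsonSubgroup_ne_bot [Finite G] [hp : Fact p.Prime] (h : p ∣ Nat.card G) :
    thompsonSubgroup p G ≠ ⊥ := by
  intro hbot
  obtain ⟨x, hx⟩ := exists_prime_orderOf_dvd_card' (G := G) p h
  obtain ⟨A, hA⟩ := exists_max (p := p) (G := G)
  have hxp : x ^ p = 1 := by rw [← hx, pow_orderOf_eq_one]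
  have hA1 : A = ⊥ := le_bot_iff.mp (hbot ▸ le_thompsonSubgroup hA)
  have hxA := mem_of_commute hA hxp (fun a ha => by
    rw [hA1, Subgroup.mem_bot] at ha; simp [ha])
  rw [hA1, Subgroup.mem_bot] at hxA
  rw [hxA, orderOf_one] at hx
  exact hp.out.one_lt.ne hx

/-- Maximal members of a subgroup `U` containing a maximal member of `G`. -/
theorem max_subgroup_iff [Finite G] {U A₀ : Subgroup G}
    (hA₀ : A₀ ∈ maxElementaryAbelianSubgroups p G) (hU : A₀ ≤ U) (B : Subgroup U) :
    B ∈ maxElementaryAbelianSubgroups p U ↔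
      B.map U.subtype ∈ maxElementaryAbelianSubgroups p G := by
  have hcard : ∀ C : Subgroup U, Nat.card (C.map U.subtype) = Nat.card C :=
    fun C => Subgroup.card_map_of_injective U.subtype_injective
  constructor
  · intro hB
    refine ⟨isElementaryAbelian_map _ hB.1, fun C hC => ?_⟩
    have h1 := hB.2 (A₀.subgroupOf U) (isElementaryAbelian_subgroupOf hA₀.1)
    rw [← hcard (A₀.subgroupOf U), Subgroup.map_subgroupOf_eq_of_le hU] at h1
    rw [hcard]
    exact (hA₀.2 C hC).trans h1
  · intro hB
    refine ⟨?_, fun C hC => ?_⟩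
    · have := isElementaryAbelian_subgroupOf (U := U) hB.1
      rwa [Subgroup.subgroupOf, Subgroup.comap_map_eq_self_of_injective U.subtype_injective] at this
    · rw [← hcard B, ← hcard C]
      exact hB.2 _ (isElementaryAbelian_map _ hC)

theorem thompsonSubgroupOf_eq [Finite G] {U : Subgroup G} (hU : thompsonSubgroup p G ≤ U) :
    thompsonSubgroupOf p U = thompsonSubgroup p G := by
  obtain ⟨A₀, hA₀⟩ := exists_max (p := p) (G := G)
  have hA₀U := (le_thompsonSubgroup hA₀).trans hU
  refine le_antisymm ?_ (sSup_le fun A hA => ?_)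
  · rw [thompsonSubgroupOf, Subgroup.map_le_iff_le_comap]
    refine sSup_le fun B hB => ?_
    rw [← Subgroup.map_le_iff_le_comap]
    exact le_thompsonSubgroup ((max_subgroup_iff hA₀ hA₀U B).mp hB)
  · have hAU : A ≤ U := (le_thompsonSubgroup hA).trans hU
    rw [← Subgroup.map_subgroupOf_eq_of_le hAU, thompsonSubgroupOf]
    refine Subgroup.map_mono (le_sSup ((max_subgroup_iff hA₀ hA₀U _).mpr ?_))
    rwa [Subgroup.map_subgroupOf_eq_of_le hAU]

theorem thompsonSubgroup_eq_iSup [Finite G] [Fact p.Prime] :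
    thompsonSubgroup p G = ⨆ S : Sylow p G, thompsonSubgroupOf p (S : Subgroup G) := by
  refine le_antisymm (sSup_le fun A hA => ?_) (iSup_le fun S => ?_)
  · obtain ⟨S, hS⟩ := (isPGroup_of hA.1).exists_le_sylow
    refine le_trans ?_ (le_iSup _ S)
    rw [← Subgroup.map_subgroupOf_eq_of_le hS, thompsonSubgroupOf]
    refine Subgroup.map_mono (le_sSup ((max_subgroup_iff hA hS _).mpr ?_))
    rwa [Subgroup.map_subgroupOf_eq_of_le hS]
  · obtain ⟨A, hA⟩ := exists_max (p := p) (G := G)
    obtain ⟨T, hT⟩ := (isPGroup_of hA.1).exists_le_sylow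
    obtain ⟨g, rfl⟩ := MulAction.exists_smul_eq G T S
    have hA' := map_equiv_mem (MulAut.conj g) hA
    have hle : A.map (MulAut.conj g).toMonoidHom ≤ ((g • T : Sylow p G) : Subgroup G) := by
      intro y hy
      obtain ⟨a, ha, rfl⟩ := hy
      exact ⟨a, hT ha, rfl⟩
    rw [thompsonSubgroupOf, Subgroup.map_le_iff_le_comap]
    refine sSup_le fun B hB => ?_
    rw [← Subgroup.map_le_iff_le_comap]
    exact le_thompsonSubgroup ((max_subgroup_iff hA' hle B).mp hB)

theorem isBestOffenderOn_of_max [Finite G] {V : Subgroup G} [V.Normal]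
    (hV : IsElementaryAbelian p V) {A : Subgroup G}
    (hA : A ∈ maxElementaryAbelianSubgroups p G) : IsBestOffenderOn p V A := by
  refine ⟨fun B hB => ?_, ?_, fun a ha => ?_⟩
  · set C := V ⊓ Subgroup.centralizer (B : Set G)
    have hW : IsElementaryAbelian p (Subgroup.closure ((B : Set G) ∪ C)) := by
      refine isElementaryAbelian_closure ?_ ?_
      · rintro a (ha | ha) b (hb | hb)
        · exact comm_of hA.1 (hB ha) (hB hb)
        · exact Subgroup.mem_centralizer_iff.mp hb.2 a ha
        · exact (Subgroup.mem_centralizer_iff.mp ha.2 b hb).symm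
        · exact comm_of hV ha.1 hb.1
      · rintro a (ha | ha)
        · exact hA.1.2 a (hB ha)
        · exact hV.2 a ha.1
    rw [Subgroup.closure_union, Subgroup.closure_eq, Subgroup.closure_eq] at hW
    have hn : B ≤ Subgroup.normalizer (C : Set G) := by
      intro b hb
      rw [Subgroup.mem_normalizer_iff]
      intro c
      constructor
      · intro hc
        rw [Subgroup.mem_centralizer_iff.mp hc.2 b hb, mul_inv_cancel_right]
        exact hc
      · intro hc
        have h := Subgroup.mem_centralizer_iff.mp hc.2 b hb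
        have hbc : b * c * b⁻¹ = c := by
          calc b * c * b⁻¹ = b⁻¹ * (b * (b * c * b⁻¹)) := by group
            _ = b⁻¹ * ((b * c * b⁻¹) * b) := by rw [h]
            _ = c := by group
        rwa [hbc] at hc
    have hle : B ⊓ C ≤ V ⊓ Subgroup.centralizer (A : Set G) := fun x hx =>
      ⟨hx.2.1, Subgroup.mem_centralizer_iff.mpr fun a ha => comm_of hA.1 ha (hB hx.1)⟩
    calc Nat.card B * Nat.card C = Nat.card ↥(B ⊔ C) * Nat.card ↥(B ⊓ C) :=
          (Grp.card_sup_mul_card_inf hn).symm
      _ ≤ Nat.card A * Nat.card ↥(V ⊓ Subgroup.centralizer (A : Set G)) :=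
          Nat.mul_le_mul (hA.2 _ hW)
            (Nat.le_of_dvd Nat.card_pos (Subgroup.card_dvd_of_le hle))
  · rw [Subgroup.commutator_le]
    intro a ha b hb
    rw [commutatorElement_eq_one_iff_mul_comm.mpr (comm_of hA.1 ha hb)]
    exact one_mem _
  · rw [hA.1.2 a ha]
    exact one_mem _

end Cfsg.Agent.Transfer.Thompson
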