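import Mathlib
import Cfsg.Agent.Lib.Transfer.OffenderFactors
import Cfsg.Agent.Lib.Block.TISylow
import Cfsg.Agent.Lib.Invol.Transport
import Cfsg.Agent.Lib.Transfer.Thompson

/-!
The faithful semidirect product `V ⋊ Aut V` as a home for the action of a group on a normal
elementary abelian subgroup, and the transport of best offenders to it.
-/

set_option autoImplicit false
set_option linter.unusedSectionVars false
set_option linter.style.haveILetI false

namespace Cfsg.Agent.Transfer.Offender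

open Subgroup
open scoped commutatorElement

variable {G : Type*} [Group G] [Finite G] {p : ℕ} [hp : Fact p.Prime]
variable (V : Subgroup G) [V.Normal]

/-- `V ⋊ Aut V`. -/
abbrev Holo : Type _ := ↥V ⋊[MonoidHom.id (MulAut ↥V)] MulAut ↥V

instance : Finite (Holo V) := Finite.of_equiv _ SemidirectProduct.equivProd.symm

/-- The copy of `V` in its holomorph. -/
def holoBase : Subgroup (Holo V) := (SemidirectProduct.inl : ↥V →* Holo V).range

/-- The action of `G` inside the holomorph. -/
def holoHom : G →* Holo V := SemidirectProduct.inr.comp MulAut.conjNormal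

variable {V}

theorem holoHom_conj (g : G) (v : V) :
    holoHom V g * SemidirectProduct.inl v * (holoHom V g)⁻¹ =
      SemidirectProduct.inl (MulAut.conjNormal g v) := by
  rw [holoHom, MonoidHom.comp_apply, ← map_inv]
  exact (SemidirectProduct.inl_aut (MulAut.conjNormal (H := V) g) v).symm

theorem holoHom_commute_iff (g : G) (v : V) :
    Commute (holoHom V g) (SemidirectProduct.inl v) ↔ Commute g (v : G) := by
  constructor
  · intro h
    have h1 := holoHom_conj g v
    rw [h.eq, mul_inv_cancel_right] at h1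
    have h2 := congrArg Subtype.val (SemidirectProduct.inl_injective h1)
    rw [MulAut.conjNormal_apply] at h2
    exact (mul_inv_eq_iff_eq_mul.mp h2.symm)
  · intro h
    have h1 := holoHom_conj g v
    have h2 : MulAut.conjNormal g v = v := Subtype.ext (by
      rw [MulAut.conjNormal_apply, h.eq, mul_inv_cancel_right])
    rw [h2] at h1
    exact mul_inv_eq_iff_eq_mul.mp h1

theorem mem_holoHom_ker {g : G} :
    g ∈ (holoHom V).ker ↔ g ∈ Subgroup.centralizer (V : Set G) := by
  rw [MonoidHom.mem_ker, holoHom, MonoidHom.comp_apply, ← map_one (SemidirectProduct.inr (φ := MonoidHom.id (MulAut ↥V))),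
    SemidirectProduct.inr_injective.eq_iff, Subgroup.mem_centralizer_iff]
  constructor
  · intro h v hv
    have := congrArg Subtype.val (DFunLike.congr_fun h ⟨v, hv⟩)
    rw [MulAut.conjNormal_apply] at this
    exact (mul_inv_eq_iff_eq_mul.mp this).symm
  · intro h
    refine MulEquiv.ext fun v => Subtype.ext ?_
    rw [MulAut.conjNormal_apply, ← h v v.2, mul_inv_cancel_right]
    rfl

theorem holoHom_ker : (holoHom V).ker = Subgroup.centralizer (V : Set G) :=
  Subgroup.ext fun _ => mem_holoHom_ker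

theorem holoBase_elem (hV : Cfsg.IsElementaryAbelian p V) :
    Cfsg.IsElementaryAbelian p (holoBase V) := by
  refine ⟨⟨⟨?_⟩⟩, ?_⟩
  · rintro ⟨_, v, rfl⟩ ⟨_, w, rfl⟩
    refine Subtype.ext ?_
    show SemidirectProduct.inl v * SemidirectProduct.inl w = _
    rw [← map_mul, show v * w = w * v from Subtype.ext (elem_comm hV v.2 w.2), map_mul]
    rfl
  · rintro _ ⟨v, rfl⟩
    rw [← map_pow, show v ^ p = 1 from Subtype.ext (hV.2 v v.2), map_one]

theorem holoHom_range_le_normalizer :
    (holoHom V).range ≤ Subgroup.normalizer (holoBase V : Set (Holo V)) := by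
  refine Grp.invariant_iff.mp ?_
  rintro _ ⟨g, rfl⟩ _ ⟨v, rfl⟩
  exact ⟨_, (holoHom_conj g v).symm⟩

theorem holoHom_faithful :
    (holoHom V).range ⊓ Subgroup.centralizer (holoBase V : Set (Holo V)) = ⊥ := by
  refine (Subgroup.eq_bot_iff_forall _).mpr ?_
  rintro _ ⟨⟨g, rfl⟩, hc⟩
  refine MonoidHom.mem_ker.mp (mem_holoHom_ker.mpr (Subgroup.mem_centralizer_iff.mpr fun v hv => ?_))
  exact ((holoHom_commute_iff g ⟨v, hv⟩).mp
    (Subgroup.mem_centralizer_iff.mp hc _ ⟨⟨v, hv⟩, rfl⟩).symm).eq.symm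

theorem card_holo_fix (A : Subgroup G) :
    Nat.card ↥(fix (holoBase V) (A.map (holoHom V))) = Nat.card ↥(fix V A) := by
  have h : fix (holoBase V) (A.map (holoHom V)) =
      ((fix V A).subgroupOf V).map SemidirectProduct.inl := by
    ext y
    constructor
    · rintro ⟨⟨v, rfl⟩, hc⟩
      refine ⟨v, ⟨v.2, Subgroup.mem_centralizer_iff.mpr fun a ha => ?_⟩, rfl⟩
      exact ((holoHom_commute_iff a v).mp
        (Subgroup.mem_centralizer_iff.mp hc _ ⟨a, ha, rfl⟩)).eq
    · rintro ⟨v, hv, rfl⟩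
      refine ⟨⟨v, rfl⟩, Subgroup.mem_centralizer_iff.mpr ?_⟩
      rintro _ ⟨a, ha, rfl⟩
      exact ((holoHom_commute_iff a v).mpr (Subgroup.mem_centralizer_iff.mp hv.2 a ha)).eq
  rw [h, Subgroup.card_map_of_injective SemidirectProduct.inl_injective,
    Nat.card_congr (Subgroup.subgroupOfEquivOfLe inf_le_left).toEquiv]

theorem card_map_mul_inf_ker {G' : Type*} [Group G'] (f : G →* G') (A : Subgroup G) :
    Nat.card (A.map f) * Nat.card ↥(A ⊓ f.ker) = Nat.card A := by
  have h1 := Subgroup.card_eq_card_quotient_mul_card_subgroup (f.ker.subgroupOf A)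
  have h2 : Nat.card (A ⧸ f.ker.subgroupOf A) = Nat.card (A.map f) := by
    rw [show A.map f = (f.comp A.subtype).range from by
      rw [MonoidHom.range_comp, Subgroup.range_subtype]]
    exact Nat.card_congr (QuotientGroup.quotientKerEquivRange (f.comp A.subtype)).toEquiv
  rw [h1, h2, ← Subgroup.inf_subgroupOf_left, Nat.card_congr (Subgroup.subgroupOfEquivOfLe (inf_le_left : A ⊓ f.ker ≤ A)).toEquiv]

/-- Best offenders pass to the holomorph. -/
theorem isBestOffenderOn_holo {A : Subgroup G} (hA : Cfsg.IsBestOffenderOn p V A) :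
    Cfsg.IsBestOffenderOn p (holoBase V) (A.map (holoHom V)) := by
  refine ⟨fun B hB => ?_, ?_, ?_⟩
  · set B₀ := A ⊓ B.comap (holoHom V)
    have hmap : B₀.map (holoHom V) = B := by
      refine le_antisymm ?_ fun b hb => ?_
      · rintro _ ⟨x, hx, rfl⟩
        exact hx.2
      · obtain ⟨a, ha, rfl⟩ := hB hb
        exact ⟨a, ⟨ha, hb⟩, rfl⟩
    have h := hA.1 B₀ inf_le_left
    have hk : B₀ ⊓ (holoHom V).ker = A ⊓ (holoHom V).ker :=
      le_antisymm (inf_le_inf_right _ inf_le_left) fun x hx =>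
        ⟨⟨hx.1, show holoHom V x ∈ B by rw [MonoidHom.mem_ker.mp hx.2]; exact one_mem B⟩, hx.2⟩
    have e1 := card_map_mul_inf_ker (holoHom V) B₀
    have e2 := card_map_mul_inf_ker (holoHom V) A
    rw [hmap, hk] at e1
    rw [← e1, ← e2] at h
    rw [← hmap, card_holo_fix, hmap, card_holo_fix]
    refine Nat.le_of_mul_le_mul_left ?_ (Nat.card_pos (α := ↥(A ⊓ (holoHom V).ker)))
    calc _ = Nat.card B * Nat.card ↥(A ⊓ (holoHom V).ker) * Nat.card ↥(fix V B₀) := by ring
      _ ≤ _ := h
      _ = _ := by ring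
  · rw [← Subgroup.map_commutator]
    rintro _ ⟨x, hx, rfl⟩
    rw [MonoidHom.mem_ker.mp (mem_holoHom_ker.mpr (hA.2.1 hx))]
    exact one_mem _
  · rintro _ ⟨a, ha, rfl⟩
    rw [← map_pow, MonoidHom.mem_ker.mp (mem_holoHom_ker.mpr (hA.2.2 a ha))]
    exact one_mem _

/-- Setup in the holomorph for a `p`-solvable group with `O_p(G / C(V)) = 1`. -/
theorem holoSetup (hV : Cfsg.IsElementaryAbelian p V) (hsep : Cfsg.IsPSolvable p G)
    (hO : Cfsg.pCore p (G ⧸ Subgroup.centralizer (V : Set G)) = ⊥) :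
    Setup p (holoBase V) (holoHom V).range
      ((Cfsg.pPrimeCore p ↥(holoHom V).range).map (holoHom V).range.subtype) := by
  refine setup_of (holoBase_elem hV) holoHom_range_le_normalizer holoHom_faithful ?_
  refine Block.centralizer_pPrimeCore_le
    (Grp.isPSolvable_map hsep _ (holoHom V).rangeRestrict_surjective) ?_
  let e : G ⧸ Subgroup.centralizer (V : Set G) ≃* (holoHom V).range :=
    (QuotientGroup.quotientMulEquivOfEq holoHom_ker.symm).trans (QuotientGroup.quotientKerEquivRange _)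
  rw [← Invol.map_pCore_equiv e, hO, Subgroup.map_bot]

/-- Restriction of a setup to a normal subgroup. -/
theorem Setup.restrict {G' : Type*} [Group G'] [Finite G'] {V H Q H₁ : Subgroup G'}
    (s : Setup p V H Q) (h₁ : H₁ ≤ H) (hn : H ≤ Subgroup.normalizer (H₁ : Set G')) :
    ∃ Q₁ : Subgroup G', Setup p V H₁ Q₁ := by
  set C := H₁ ⊓ Subgroup.centralizer ((H₁ ⊓ Q : Subgroup G') : Set G') with hC
  have hn1 : H₁ ≤ Subgroup.normalizer ((H₁ ⊓ Q : Subgroup G') : Set G') :=
    Grp.le_normalizer_inf' Subgroup.le_normalizer (h₁.trans s.Qnorm)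
  have hnC : H₁ ≤ Subgroup.normalizer (C : Set G') := Grp.le_normalizer_inf' Subgroup.le_normalizer
    (hn1.trans (normalizer_le_normalizer_centralizer' _))
  -- the centralizer has no `p`-element
  have hp0 : ¬ p ∣ Nat.card C := by
    intro hd
    obtain ⟨⟨y, hy⟩, hyo⟩ := exists_prime_orderOf_dvd_card' p hd
    rw [Subgroup.orderOf_mk] at hyo
    set Y := Subgroup.zpowers y
    have hYp : IsPGroup p Y := IsPGroup.of_card (n := 1) (by rw [pow_one, Nat.card_zpowers, hyo])
    have hYH : Y ≤ H := Subgroup.zpowers_le.mpr (h₁ hy.1)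
    have hcop : (Nat.card Y).Coprime (Nat.card Q) := by
      rw [Nat.card_zpowers, hyo]; exact s.Qcop.symm
    have h2 : Y ≤ Subgroup.centralizer (Q : Set G') := by
      refine Grp.le_centralizer_of_series Y Q (H₁ ⊓ Q) (hYH.trans s.Qnorm) hcop
        (Or.inl (have := hYp.isNilpotent; inferInstance)) (le_inf ?_ ?_) ?_
      · refine Subgroup.commutator_le.mpr fun q hq z hz => ?_
        rw [commutatorElement_def]
        have hzH : z ∈ H₁ := Subgroup.zpowers_le.mpr hy.1 hz
        rw [show q * z * q⁻¹ * z⁻¹ = (q * z * q⁻¹) * z⁻¹ from rfl]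
        exact mul_mem (Grp.mem_conj_normalizer (hn (s.QH hq)) hzH) (inv_mem hzH)
      · exact Grp.commutator_le_left_of_le_normalizer (hYH.trans s.Qnorm)
      · rw [Subgroup.commutator_eq_bot_iff_le_centralizer, Subgroup.le_centralizer_iff]
        exact Subgroup.zpowers_le.mpr hy.2
    have h3 : Y = ⊥ := s.eq_bot_of_centralizes hYp hYH (Subgroup.le_centralizer_iff.mp h2)
    rw [Subgroup.zpowers_eq_bot] at h3
    rw [h3, orderOf_one] at hyo
    exact hp.out.one_lt.ne hyo
  refine ⟨(H₁ ⊓ Q) ⊔ C, s.elem, h₁.trans s.norm,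
    le_bot_iff.mp ((inf_le_inf_right _ h₁).trans s.faithful.le), sup_le inf_le_left inf_le_left,
    Grp.le_normalizer_sup' hn1 hnC, ?_, ?_⟩
  · exact Grp.card_sup_coprime_to (inf_le_left.trans hnC)
      (s.Qcop.coprime_dvd_left (Subgroup.card_dvd_of_le inf_le_right))
      ((hp.out.coprime_iff_not_dvd.mpr hp0).symm)
  · rintro x ⟨hx, hxc⟩
    exact Subgroup.mem_sup_right ⟨hx, Subgroup.centralizer_le (SetLike.coe_subset_coe.mpr le_sup_left) hxc⟩

end Cfsg.Agent.Transfer.Offender
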