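import Mathlib
import Cfsg.Agent.Lib.Transfer.OffenderFactors

/-!
A coprime operator group permuting the factors: the diagonal of an orbit.
-/

set_option autoImplicit false
set_option linter.unusedSectionVars false
set_option linter.style.haveILetI false

namespace Cfsg.Agent.Transfer.Offender

open Subgroup
open scoped commutatorElement

variable {G : Type*} [Group G] [Finite G] {p : ℕ} [hp : Fact p.Prime]

section
variable {V H Q : Subgroup G} (s : Setup p V H Q)
include s

/-- An element preserving `V`, `H` and `Q` carries factors to factors. -/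
theorem IsFactor.map_conj {E : Subgroup G} (hE : IsFactor p V H Q E) {g : G}
    (hgV : g ∈ Subgroup.normalizer (V : Set G)) (hgH : g ∈ Subgroup.normalizer (H : Set G))
    (hgQ : g ∈ Subgroup.normalizer (Q : Set G)) :
    IsFactor p V H Q (E.map (MulAut.conj g).toMonoidHom) ∧
      ⁅V, E.map (MulAut.conj g).toMonoidHom⁆ = (⁅V, E⁆).map (MulAut.conj g).toMonoidHom := by
  have hfix : ∀ X : Subgroup G, g ∈ Subgroup.normalizer (X : Set G) →
      X.map (MulAut.conj g).toMonoidHom = X := fun X hX => by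
    refine Subgroup.ext fun y => ⟨?_, fun hy => ⟨g⁻¹ * y * g, ?_, ?_⟩⟩
    · rintro ⟨x, hx, rfl⟩
      exact Grp.mem_conj_normalizer hX hx
    · simpa using Grp.mem_conj_normalizer (inv_mem hX) hy
    · show g * (g⁻¹ * y * g) * g⁻¹ = y
      group
  refine ⟨?_, by rw [Subgroup.map_commutator, hfix V hgV]⟩
  obtain ⟨A, hAH, hA, hAp, rfl⟩ := hE
  refine ⟨A.map (MulAut.conj g).toMonoidHom, ?_, ⟨⟨⟨⟨?_⟩⟩, ?_⟩, ?_⟩, ?_, ?_⟩
  · exact (Subgroup.map_mono hAH).trans (hfix H hgH).le
  · rintro ⟨_, a, ha, rfl⟩ ⟨_, b, hb, rfl⟩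
    refine Subtype.ext ?_
    show (MulAut.conj g).toMonoidHom a * (MulAut.conj g).toMonoidHom b = _ * _
    rw [← map_mul, Grp.elemAb_comm hA.1 a ha b hb, map_mul]
  · rintro _ ⟨a, ha, rfl⟩
    rw [← map_pow, hA.1.2 a ha, map_one]
  · have he : fix V (A.map (MulAut.conj g).toMonoidHom) = (fix V A).map (MulAut.conj g).toMonoidHom := by
      refine Subgroup.ext fun y => ⟨fun hy => ?_, ?_⟩
      · have h1 : y ∈ V.map (MulAut.conj g).toMonoidHom := by rw [hfix V hgV]; exact hy.1
        obtain ⟨v, hv, rfl⟩ := h1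
        refine ⟨v, ⟨hv, Subgroup.mem_centralizer_iff.mpr fun a ha => ?_⟩, rfl⟩
        apply (MulAut.conj g).injective
        rw [map_mul, map_mul]
        exact Subgroup.mem_centralizer_iff.mp hy.2 _ ⟨a, ha, rfl⟩
      · rintro ⟨v, ⟨hv, hvc⟩, rfl⟩
        refine ⟨(hfix V hgV).le ⟨v, hv, rfl⟩, Subgroup.mem_centralizer_iff.mpr ?_⟩
        rintro _ ⟨a, ha, rfl⟩
        rw [← map_mul, ← map_mul, Subgroup.mem_centralizer_iff.mp hvc a ha]
    rw [he, Subgroup.card_map_of_injective (MulAut.conj g).injective,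
      Subgroup.card_map_of_injective (MulAut.conj g).injective, hA.2]
  · rw [Subgroup.card_map_of_injective (MulAut.conj g).injective, hAp]
  · rw [Subgroup.map_sup, Subgroup.map_commutator, hfix Q hgQ]

theorem two_three_dvd (hH : ∃ E, IsFactor p V H Q E) :
    2 ∣ Nat.card H ∧ 3 ∣ Nat.card H := by
  obtain ⟨E, hE⟩ := hH
  obtain ⟨h23, hc⟩ := hE.exists_comp s
  obtain ⟨e⟩ := hc.iso
  have hd := Subgroup.card_dvd_of_le hc.EH
  rw [Nat.card_congr e.toEquiv, Nat.card_eq_fintype_card] at hd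
  rcases h23 with rfl | rfl
  · have h6 : Fintype.card (Matrix.SpecialLinearGroup (Fin 2) (ZMod 2)) = 6 := by decide
    rw [h6] at hd
    exact ⟨(show 2 ∣ 6 by norm_num).trans hd, (show 3 ∣ 6 by norm_num).trans hd⟩
  · have h24 : Fintype.card (Matrix.SpecialLinearGroup (Fin 2) (ZMod 3)) = 24 := by decide
    rw [h24] at hd
    exact ⟨(show 2 ∣ 24 by norm_num).trans hd, (show 3 ∣ 24 by norm_num).trans hd⟩

/-- A `q`-element normalizing a factor, for `q` prime to `#H`, centralizes it and its plane. -/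
theorem IsFactor.centralized {E : Subgroup G} (hE : IsFactor p V H Q E) {q : ℕ} [hq : Fact q.Prime]
    (hqH : ¬ q ∣ Nat.card H) {g : G} (hg : IsPGroup q (Subgroup.zpowers g))
    (hgV : g ∈ Subgroup.normalizer (V : Set G))
    (hgE : g ∈ Subgroup.normalizer (E : Set G)) :
    g ∈ Subgroup.centralizer ((E ⊔ ⁅V, E⁆ : Subgroup G) : Set G) := by
  obtain ⟨h23, hc⟩ := hE.exists_comp s
  obtain ⟨h2, h3⟩ := two_three_dvd s ⟨E, hE⟩
  have hq2 : q ≠ 2 := fun e => hqH (e ▸ h2)
  have hq3 : q ≠ 3 := fun e => hqH (e ▸ h3)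
  have hq5 : 5 ≤ q := by
    have := hq.out.two_le
    rcases Nat.lt_or_ge q 5 with h | h
    · exfalso; interval_cases q <;> first | omega | exact absurd hq.out (by norm_num)
    · exact h
  set Z := Subgroup.zpowers g with hZ
  set U := ⁅V, E⁆ with hU
  have hZU : Z ≤ Subgroup.normalizer (U : Set G) := by
    refine Subgroup.zpowers_le.mpr ?_
    have hmap : ∀ x ∈ Subgroup.zpowers g, ∀ u ∈ U, x * u * x⁻¹ ∈ U := fun x hx u hu => by
      have hxV := (Subgroup.zpowers_le.mpr hgV) hx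
      have hxE := (Subgroup.zpowers_le.mpr hgE) hx
      have hle : U.map (MulAut.conj x).toMonoidHom ≤ U := by
        rw [hU, Subgroup.map_commutator]
        exact Subgroup.commutator_mono
          (fun _ ⟨v, hv, e⟩ => e ▸ Grp.mem_conj_normalizer hxV hv)
          (fun _ ⟨v, hv, e⟩ => e ▸ Grp.mem_conj_normalizer hxE hv)
      exact hle ⟨u, hu, rfl⟩
    exact Grp.invariant_iff.mp hmap (Subgroup.mem_zpowers g)
  let _ : MulAction Z U :=
    { smul := fun z u => ⟨(z : G) * u * (z : G)⁻¹, Grp.mem_conj_normalizer (hZU z.2) u.2⟩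
      one_smul := fun u => Subtype.ext (show ((1 : Z) : G) * u * _ = u by simp)
      mul_smul := fun x y u => Subtype.ext (show ((x * y : Z) : G) * u * _ = _ by
        simp [HSMul.hSMul, SMul.smul, mul_assoc]) }
  have hm := hg.card_modEq_card_fixedPoints U
  let F : Subgroup U :=
    { carrier := MulAction.fixedPoints Z U
      one_mem' := fun z => Subtype.ext (show (z : G) * ((1 : U) : G) * (z : G)⁻¹ = 1 by simp)
      mul_mem' := fun {a b} ha hb z => Subtype.ext (by
        have h1 : (z : G) * a * (z : G)⁻¹ = a := congrArg Subtype.val (ha z)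
        have h2 : (z : G) * b * (z : G)⁻¹ = b := congrArg Subtype.val (hb z)
        show (z : G) * (a * b : U) * (z : G)⁻¹ = (a * b : U)
        rw [Subgroup.coe_mul]
        calc (z : G) * ((a : G) * b) * (z : G)⁻¹
            = ((z : G) * a * (z : G)⁻¹) * ((z : G) * b * (z : G)⁻¹) := by group
          _ = _ := by rw [h1, h2])
      inv_mem' := fun {a} ha z => Subtype.ext (by
        have h1 : (z : G) * a * (z : G)⁻¹ = a := congrArg Subtype.val (ha z)
        show (z : G) * (a⁻¹ : U) * (z : G)⁻¹ = (a⁻¹ : U)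
        rw [Subgroup.coe_inv]
        conv_rhs => rw [← h1]
        group) }
  have hFc : Nat.card F = Nat.card U := by
    obtain ⟨i, hi, he⟩ := (Nat.dvd_prime_pow hp.out).mp (hc.card_U ▸ Subgroup.card_subgroup_dvd_card F)
    have hm' : p ^ 2 ≡ p ^ i [MOD q] := by rw [← hc.card_U, ← he]; exact hm
    rcases eq_or_lt_of_le hi with rfl | hlt
    · rw [he, hc.card_U]
    exfalso
    have hd : q ∣ p ^ 2 - p ^ i := (Nat.modEq_iff_dvd' (Nat.pow_le_pow_right hp.out.pos hi)).mp hm'.symm
    rcases h23 with rfl | rfl <;> interval_cases i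
    · have := Nat.le_of_dvd (by norm_num) hd; norm_num at this; omega
    · have := Nat.le_of_dvd (by norm_num) hd; norm_num at this; omega
    · have h8 : q ∣ 2 ^ 3 := by norm_num at hd ⊢; exact hd
      exact hq2 ((Nat.prime_dvd_prime_iff_eq hq.out Nat.prime_two).mp (hq.out.dvd_of_dvd_pow h8))
    · have h6 : q ∣ 2 * 3 := by norm_num at hd ⊢; exact hd
      rcases (hq.out.dvd_mul).mp h6 with h | h
      · exact hq2 ((Nat.prime_dvd_prime_iff_eq hq.out Nat.prime_two).mp h)
      · exact hq3 ((Nat.prime_dvd_prime_iff_eq hq.out Nat.prime_three).mp h)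
  have hFtop : F = ⊤ := Subgroup.eq_top_of_card_eq F hFc
  have hgU : ∀ u ∈ U, g * u * g⁻¹ = u := fun u hu => by
    have h1 : (⟨u, hu⟩ : U) ∈ F := hFtop ▸ Subgroup.mem_top _
    exact congrArg Subtype.val (h1 ⟨g, Subgroup.mem_zpowers g⟩)
  refine Subgroup.le_centralizer_iff.mp (sup_le ?_ ?_) (Subgroup.mem_zpowers g)
  · intro e he
    have he' : g * e * g⁻¹ * e⁻¹ ∈ E ⊓ Subgroup.centralizer (U : Set G) := by
      refine ⟨E.mul_mem (Grp.mem_conj_normalizer hgE he) (E.inv_mem he),
        Subgroup.mem_centralizer_iff.mpr fun u hu => ?_⟩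
      have hen : ∀ e' ∈ E, ∀ w ∈ U, e' * w * e'⁻¹ ∈ U := fun e' he' w hw => by
        have : ⁅e', w⁆ ∈ U := by
          rw [hU, Subgroup.commutator_comm]
          exact Subgroup.commutator_mem_commutator he' (hc.UV hw)
        rw [commutatorElement_def] at this
        simpa using mul_mem this hw
      have h1 := hen e⁻¹ (inv_mem he) u hu
      have h1' : g⁻¹ * (e⁻¹ * u * e⁻¹⁻¹) * g = e⁻¹ * u * e⁻¹⁻¹ := by
        conv_lhs => rw [← hgU _ h1]
        group
      have h2 : g * e * g⁻¹ * e⁻¹ * u * (g * e * g⁻¹ * e⁻¹)⁻¹ = u := by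
        calc g * e * g⁻¹ * e⁻¹ * u * (g * e * g⁻¹ * e⁻¹)⁻¹
            = g * (e * (g⁻¹ * (e⁻¹ * u * e⁻¹⁻¹) * g) * e⁻¹) * g⁻¹ := by group
          _ = g * u * g⁻¹ := by rw [h1']; group
          _ = u := hgU u hu
      exact (mul_inv_eq_iff_eq_mul.mp h2).symm
    rw [hc.faith, Subgroup.mem_bot, mul_inv_eq_one, mul_inv_eq_iff_eq_mul] at he'
    refine Subgroup.mem_centralizer_iff.mpr fun z hz => ?_
    obtain ⟨n, rfl⟩ := Subgroup.mem_zpowers_iff.mp hz
    exact ((show Commute g e from he').zpow_left n).eq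
  · intro u hu
    refine Subgroup.mem_centralizer_iff.mpr fun z hz => ?_
    obtain ⟨n, rfl⟩ := Subgroup.mem_zpowers_iff.mp hz
    exact ((show Commute g u from mul_inv_eq_iff_eq_mul.mp (hgU u hu)).zpow_left n).eq

/-- The span of two distinct factors with their planes commute. -/
theorem IsFactor.le_centralizer
    (hgen : H = ⨆ A : {A : Subgroup G // A ≤ H ∧ Cfsg.IsBestOffenderOn p V A}, (A : Subgroup G))
    {E F : Subgroup G} (hE : IsFactor p V H Q E) (hF : IsFactor p V H Q F) (hne : F ≠ E) :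
    F ⊔ ⁅V, F⁆ ≤ Subgroup.centralizer ((E ⊔ ⁅V, E⁆ : Subgroup G) : Set G) := by
  obtain ⟨hFW, hFU⟩ := hE.orth s hF hne
  obtain ⟨-, hEU⟩ := hF.orth s hE hne.symm
  have hc := (hE.exists_comp s).2
  have h1 := (hc.decomposition s hgen).2.1
  rw [Subgroup.commutator_eq_bot_iff_le_centralizer] at h1
  have hFE : E ≤ Subgroup.centralizer (F : Set G) :=
    h1.trans (Subgroup.centralizer_le (SetLike.coe_subset_coe.mpr (le_inf (hF.exists_comp s).2.EH hFU)))
  refine sup_le (Subgroup.le_centralizer_iff.mp (sup_le hFE ?_)) (Subgroup.le_centralizer_iff.mp (sup_le ?_ ?_))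
  · exact Subgroup.le_centralizer_iff.mp hFU
  · exact hEU
  · exact fun u hu => Subgroup.mem_centralizer_iff.mpr fun w hw =>
      elem_comm s.elem (hFW hw).1 (hc.UV hu)

/-- A subgroup containing all conjugates in `E` of a subgroup of order `p` contains `E`. -/
theorem IsFactor.le_of_conj {E : Subgroup G} (hE : IsFactor p V H Q E) {P M : Subgroup G}
    (hPE : P ≤ E) (hPp : Nat.card P = p) (h : ∀ e ∈ E, ∀ a ∈ P, e * a * e⁻¹ ∈ M) : E ≤ M := by
  obtain ⟨A, hAH, hA, hAp, rfl⟩ := hE
  obtain ⟨h23, U, W, hc, -, -⟩ := s.exists_comp hAH hA hAp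
  set E := ⁅Q, A⁆ ⊔ A with hEdef
  have hAE : A ≤ E := le_sup_right
  have hEp : (Nat.card E).factorization p = 1 := by
    obtain ⟨e⟩ := hc.iso
    rw [Nat.card_congr e.toEquiv, Nat.card_eq_fintype_card]
    rcases h23 with rfl | rfl
    · rw [show Fintype.card (Matrix.SpecialLinearGroup (Fin 2) (ZMod 2)) = 2 ^ 1 * 3 by decide,
        Nat.factorization_mul (by norm_num) (by norm_num), Finsupp.add_apply,
        Nat.prime_two.factorization_pow, Finsupp.single_eq_same,
        Nat.factorization_eq_zero_of_not_dvd (by norm_num)]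
    · rw [show Fintype.card (Matrix.SpecialLinearGroup (Fin 2) (ZMod 3)) = 3 ^ 1 * 8 by decide,
        Nat.factorization_mul (by norm_num) (by norm_num), Finsupp.add_apply,
        Nat.prime_three.factorization_pow, Finsupp.single_eq_same,
        Nat.factorization_eq_zero_of_not_dvd (by norm_num)]
  have hall : ∀ B : Subgroup G, B ≤ E → Nat.card B = p → B ≤ M := by
    intro B hB hBp
    have hsyl : ∀ X : Subgroup G, X ≤ E → Nat.card X = p →
        Nat.card (X.subgroupOf E) = p ^ (Nat.card E).factorization p := fun X hX hXp => by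
      rw [Nat.card_congr (Subgroup.subgroupOfEquivOfLe hX).toEquiv, hXp, hEp, pow_one]
    let S₁ : Sylow p E := Sylow.ofCard _ (hsyl P hPE hPp)
    let S₂ : Sylow p E := Sylow.ofCard _ (hsyl B hB hBp)
    obtain ⟨e, he⟩ := MulAction.exists_smul_eq E S₁ S₂
    intro b hb
    have hb' : (⟨b, hB hb⟩ : E) ∈ ((e • S₁ : Sylow p E) : Subgroup E) := by rw [he]; exact hb
    obtain ⟨a, ha, hab⟩ := hb'
    have h2 : (e : G) * a * (e : G)⁻¹ = b := congrArg Subtype.val hab
    rw [← h2]
    exact h e e.2 a ha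
  refine sup_le (Subgroup.commutator_le.mpr fun x hx a ha => ?_) (hall A hAE hAp)
  rw [commutatorElement_def]
  refine mul_mem (hall (A.map (MulAut.conj x).toMonoidHom) ?_ ?_ ⟨a, ha, rfl⟩)
    (inv_mem (hall A hAE hAp ha))
  · rintro _ ⟨b, hb, rfl⟩
    exact Grp.mem_conj_normalizer (hc.QE hx) (hAE hb)
  · rw [Subgroup.card_map_of_injective (MulAut.conj x).injective, hAp]

/-- The diagonal of the orbit of a factor under a coprime operator group. -/
theorem IsFactor.exists_diag
    (hgen : H = ⨆ A : {A : Subgroup G // A ≤ H ∧ Cfsg.IsBestOffenderOn p V A}, (A : Subgroup G))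
    {E : Subgroup G} (hE : IsFactor p V H Q E) {Y : Type*} [Group Y] [Finite Y] {q : ℕ}
    [Fact q.Prime] (hY : IsPGroup q Y) (hqH : ¬ q ∣ Nat.card H) (t : Y →* G)
    (htV : ∀ y, t y ∈ Subgroup.normalizer (V : Set G))
    (htH : ∀ y, t y ∈ Subgroup.normalizer (H : Set G))
    (htQ : ∀ y, t y ∈ Subgroup.normalizer (Q : Set G)) :
    ∃ δ : ↥(E ⊔ ⁅V, E⁆) →* G, (∀ g y, t y * δ g * (t y)⁻¹ = δ g) ∧
      (∀ g : ↥(E ⊔ ⁅V, E⁆), (g : G) ∈ E → δ g ∈ H) ∧
      (∀ g : ↥(E ⊔ ⁅V, E⁆), (g : G) ∈ ⁅V, E⁆ → δ g ∈ V) ∧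
      (∀ (g : ↥(E ⊔ ⁅V, E⁆)) (z : G), z ∈ E ⊔ ⁅V, E⁆ →
        δ g * z * (δ g)⁻¹ = (g : G) * z * (g : G)⁻¹) := by
  classical
  set S := E ⊔ ⁅V, E⁆ with hS
  let c : Y → Subgroup G → Subgroup G := fun y X => X.map (MulAut.conj (t y)).toMonoidHom
  have hc_mul : ∀ y z X, c (y * z) X = c y (c z X) := fun y z X => by
    simp only [c, Subgroup.map_map]
    congr 1
    ext x
    simp [mul_assoc]
  have hc_one : ∀ X, c 1 X = X := fun X => by
    simp only [c, map_one]
    exact Subgroup.map_id X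
  have hfac : ∀ y, IsFactor p V H Q (c y E) ∧ ⁅V, c y E⁆ = c y ⁅V, E⁆ := fun y =>
    hE.map_conj s (htV y) (htH y) (htQ y)
  let I := {F : Subgroup G // ∃ y : Y, c y E = F}
  haveI : Fintype I := Fintype.ofFinite I
  let φ : I → (S →* G) := fun F =>
    ((MulAut.conj (t F.2.choose)).toMonoidHom).comp S.subtype
  have hzp : ∀ y, IsPGroup q (Subgroup.zpowers (t y)) := fun y => by
    rintro ⟨z, hz⟩
    obtain ⟨n, rfl⟩ := Subgroup.mem_zpowers_iff.mp hz
    obtain ⟨k, hk⟩ := hY (y ^ n)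
    exact ⟨k, Subtype.ext (by
      show (t y ^ n) ^ q ^ k = 1
      rw [← map_zpow, ← map_pow, hk, map_one])⟩
  have hmove : ∀ (y z : Y), c y E = c z E → ∀ g : S, t y * g * (t y)⁻¹ = t z * g * (t z)⁻¹ := by
    intro y z h g
    have h1 : c (z⁻¹ * y) E = E := by rw [hc_mul, h, ← hc_mul, inv_mul_cancel, hc_one]
    have hn : t (z⁻¹ * y) ∈ Subgroup.normalizer (E : Set G) := by
      have : Subgroup.zpowers (t (z⁻¹ * y)) ≤ Subgroup.normalizer (E : Set G) := by
        rw [Subgroup.zpowers_le, Subgroup.mem_normalizer_iff]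
        intro x
        constructor
        · intro hx; exact h1.le ⟨x, hx, rfl⟩
        · intro hx
          obtain ⟨x', hx', e⟩ := h1.ge hx
          have : x' = x := mul_left_cancel (mul_right_cancel e)
          rwa [← this]
      exact this (Subgroup.mem_zpowers _)
    have h2 := Subgroup.mem_centralizer_iff.mp (hE.centralized s hqH (hzp _) (htV _) hn) g g.2
    calc t y * g * (t y)⁻¹ = t z * (t (z⁻¹ * y) * g * (t (z⁻¹ * y))⁻¹) * (t z)⁻¹ := by
          rw [map_mul, map_inv]; group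
      _ = _ := by rw [← h2, mul_inv_cancel_right]
  have hmem : ∀ (F : I) (g : S), φ F g ∈ (F : Subgroup G) ⊔ ⁅V, (F : Subgroup G)⁆ := fun F g => by
    have h1 : φ F g ∈ c F.2.choose E ⊔ c F.2.choose ⁅V, E⁆ := by
      simp only [c, ← Subgroup.map_sup]
      exact ⟨g, g.2, rfl⟩
    rwa [← (hfac F.2.choose).2, F.2.choose_spec] at h1
  have hIfac : ∀ F : I, IsFactor p V H Q F := fun F => by
    have := (hfac F.2.choose).1
    rwa [F.2.choose_spec] at this
  have hcomm : Pairwise fun F F' : I => ∀ x y, Commute (φ F x) (φ F' y) := fun F F' hne x y =>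
    (Subgroup.mem_centralizer_iff.mp ((hIfac F').le_centralizer s hgen (hIfac F)
      (fun e => hne (Subtype.ext e)) (hmem F x)) _ (hmem F' y)).symm
  let Φ := MonoidHom.noncommPiCoprod φ hcomm
  let F₀ : I := ⟨E, 1, hc_one E⟩
  have hφ₀ : ∀ g : S, φ F₀ g = g := fun g => by
    have h := hmove F₀.2.choose 1 (F₀.2.choose_spec.trans (hc_one E).symm) g
    rw [map_one, one_mul, inv_one, mul_one] at h
    exact h
  refine ⟨Φ.comp (Pi.monoidHom fun _ => MonoidHom.id S), fun g y => ?_, fun g hg => ?_, fun g hg => ?_,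
    fun g z hz => ?_⟩
  · let π : I ≃ I :=
      { toFun := fun F => ⟨c y F, y * F.2.choose, by rw [hc_mul, F.2.choose_spec]⟩
        invFun := fun F => ⟨c y⁻¹ F, y⁻¹ * F.2.choose, by rw [hc_mul, F.2.choose_spec]⟩
        left_inv := fun F => Subtype.ext (by
          show c y⁻¹ (c y F) = F
          rw [← hc_mul, inv_mul_cancel, hc_one])
        right_inv := fun F => Subtype.ext (by
          show c y (c y⁻¹ F) = F
          rw [← hc_mul, mul_inv_cancel, hc_one]) }
    let P : (I → S) →* (I → S) :=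
      { toFun := fun f F => f (π.symm F), map_one' := rfl, map_mul' := fun _ _ => rfl }
    let L := MonoidHom.eqLocus ((MulAut.conj (t y)).toMonoidHom.comp Φ) (Φ.comp P)
    have hL : (fun _ : I => g) ∈ L := Subgroup.pi_mem_of_mulSingle_mem _ fun F => by
      show t y * Φ (Pi.mulSingle F g) * (t y)⁻¹ = Φ (P (Pi.mulSingle F g))
      have hP : P (Pi.mulSingle F g) = Pi.mulSingle (π F) g := by
        funext F'
        show (Pi.mulSingle F g : I → S) (π.symm F') = _
        by_cases h : F' = π F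
        · subst h; simp
        · rw [Pi.mulSingle_eq_of_ne h, Pi.mulSingle_eq_of_ne (fun e => h (by rw [← e]; simp))]
      rw [hP, MonoidHom.noncommPiCoprod_mulSingle, MonoidHom.noncommPiCoprod_mulSingle]
      show t y * (t F.2.choose * (g : G) * (t F.2.choose)⁻¹) * (t y)⁻¹ =
        t (π F).2.choose * (g : G) * (t (π F).2.choose)⁻¹
      rw [← hmove (y * F.2.choose) (π F).2.choose
        (((π F).2.choose_spec.trans (by show c y F = _; rw [hc_mul, F.2.choose_spec])).symm) g, map_mul]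
      group
    exact hL
  · exact Subgroup.pi_mem_of_mulSingle_mem (H := H.comap Φ) (fun _ => g) fun F => by
      show Φ (Pi.mulSingle F g) ∈ H
      rw [MonoidHom.noncommPiCoprod_mulSingle]
      exact Grp.mem_conj_normalizer (htH _) ((hE.exists_comp s).2.EH hg)
  · exact Subgroup.pi_mem_of_mulSingle_mem (H := V.comap Φ) (fun _ => g) fun F => by
      show Φ (Pi.mulSingle F g) ∈ V
      rw [MonoidHom.noncommPiCoprod_mulSingle]
      exact Grp.mem_conj_normalizer (htV _) ((hE.exists_comp s).2.UV hg)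
  · let K : Subgroup (I → S) :=
      { carrier := {f | ∀ z : G, z ∈ S → Φ f * z * (Φ f)⁻¹ = (f F₀ : G) * z * (f F₀ : G)⁻¹}
        one_mem' := fun z _ => by simp
        mul_mem' := fun {a b} ha hb z hz => by
          have h1 := hb z hz
          have h2 := ha _ (mul_mem (mul_mem (b F₀).2 hz) (inv_mem (b F₀).2))
          calc Φ (a * b) * z * (Φ (a * b))⁻¹ = Φ a * (Φ b * z * (Φ b)⁻¹) * (Φ a)⁻¹ := by
                rw [map_mul]; group
            _ = _ := by rw [h1, h2]; simp [mul_assoc]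
        inv_mem' := fun {a} ha z hz => by
          have h1 := ha _ (mul_mem (mul_mem (inv_mem (a F₀).2) hz) (a F₀).2)
          have h2 : Φ a * ((a F₀ : G)⁻¹ * z * (a F₀ : G)) * (Φ a)⁻¹ = z := by rw [h1]; group
          calc Φ a⁻¹ * z * (Φ a⁻¹)⁻¹ = (Φ a)⁻¹ * z * Φ a := by rw [map_inv, inv_inv]
            _ = (a F₀ : G)⁻¹ * z * (a F₀ : G) := by
                nth_rewrite 1 [← h2]; group
            _ = _ := by simp }
    have hK : (fun _ : I => g) ∈ K := Subgroup.pi_mem_of_mulSingle_mem _ fun F => by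
      intro w hw
      rw [MonoidHom.noncommPiCoprod_mulSingle]
      by_cases h : F = F₀
      · subst h
        rw [hφ₀, Pi.mulSingle_eq_same]
      · rw [Pi.mulSingle_eq_of_ne (Ne.symm h)]
        have h1 := Subgroup.mem_centralizer_iff.mp (hE.le_centralizer s hgen (hIfac F)
          (fun e => h (Subtype.ext e)) (hmem F g)) w hw
        rw [← h1]
        simp
    exact hK z hz

end

end Cfsg.Agent.Transfer.Offender
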