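import Mathlib
import Cfsg.Agent.Lib.Transfer.OffenderAction
import Cfsg.Agent.Lib.Transfer.OffenderOrbit
import Cfsg.Agent.Lib.Invol.ZJElem
import Cfsg.Agent.Lib.Fus.InvariantIff
import Cfsg.Agent.Lib.Grp.PSolvable
import Cfsg.Agent.S0600
import Cfsg.Agent.S0601
import Cfsg.Agent.S0608

/-!
Failure of the Thompson factorization in a `p`-solvable group, with and without a coprime operator
group.
-/

set_option autoImplicit false
set_option linter.unusedSectionVars false
set_option linter.style.haveILetI false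
set_option maxHeartbeats 400000

namespace Cfsg.Agent.Transfer.Offender

open Subgroup
open scoped commutatorElement

variable {G : Type*} [Group G] [Finite G] {p : ℕ} [hp : Fact p.Prime]

/-- The subgroup generated by the `Ω₁(Z(S))`. -/
abbrev zGen (p : ℕ) (G : Type*) [Group G] : Subgroup G :=
  ⨆ S : Sylow p G, Cfsg.omegaOne p ((S : Subgroup G) ⊓ Subgroup.centralizer ((S : Subgroup G) : Set G))

/-- The facts used about `zGen`. -/
theorem zGen_data (hsep : Cfsg.IsPSolvable p G) (hO : Cfsg.pPrimeCore p G = ⊥) :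
    (zGen p G).Normal ∧ Cfsg.IsElementaryAbelian p (zGen p G) ∧
      ∀ [(zGen p G).Normal], Cfsg.pCore p (G ⧸ Subgroup.centralizer (zGen p G : Set G)) = ⊥ := by
  obtain ⟨hn, hel, -⟩ := S0601.result (Grp.centralizer_pCore_le_of_pSolvable hsep hO)
  refine ⟨hn, hel, ?_⟩
  intro _
  refine S0600.result (zGen p G) hel (le_antisymm (iSup_le fun S => ?_) (iSup_le fun S => inf_le_left))
  refine le_trans (le_inf (le_iSup (fun S : Sylow p G => Cfsg.omegaOne p
    ((S : Subgroup G) ⊓ Subgroup.centralizer ((S : Subgroup G) : Set G))) S)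
    ((Subgroup.closure_le _).mpr fun x hx => hx.1.2)) ?_
  exact le_iSup (fun S : Sylow p G => zGen p G ⊓ Subgroup.centralizer ((S : Subgroup G) : Set G)) S

section
variable {V : Subgroup G} [V.Normal]

/-- The setup for the image of `J(G)` in the holomorph of `V`. -/
theorem thompsonSetup (hV : Cfsg.IsElementaryAbelian p V) (hsep : Cfsg.IsPSolvable p G)
    (hO : Cfsg.pCore p (G ⧸ Subgroup.centralizer (V : Set G)) = ⊥) :
    let H := (Cfsg.thompsonSubgroup p G).map (holoHom V)
    Setup p (holoBase V) H ((Cfsg.pPrimeCore p ↥H).map H.subtype) ∧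
      H = (⨆ A : {A : Subgroup (Holo V) // A ≤ H ∧ Cfsg.IsBestOffenderOn p (holoBase V) A},
        (A : Subgroup (Holo V))) := by
  intro H
  have s := holoSetup (p := p) hV hsep hO
  have hJn : (Cfsg.thompsonSubgroup p G).Normal := by
    haveI := Thompson.characteristic_thompsonSubgroup (p := p) (G := G)
    infer_instance
  obtain ⟨Q₁, s₁⟩ := s.restrict (H₁ := H) (by rintro _ ⟨g, -, rfl⟩; exact ⟨g, rfl⟩) (by
    refine Grp.invariant_iff.mp ?_
    rintro _ ⟨g, rfl⟩ _ ⟨j, hj, rfl⟩
    exact ⟨g * j * g⁻¹, hJn.conj_mem j hj g, by rw [map_mul, map_mul, map_inv]⟩)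
  refine ⟨setup_of s₁.elem s₁.norm s₁.faithful ?_, le_antisymm ?_ (iSup_le fun A => A.2.1)⟩
  · -- the `p'`-core contains `Q₁`
    have hQ : Q₁.subgroupOf H ≤ Cfsg.pPrimeCore p ↥H :=
      le_sSup (show Q₁.subgroupOf H ∈ {N : Subgroup H | N.Normal ∧ (Nat.card N).Coprime p} from
        ⟨Subgroup.normal_subgroupOf_of_le_normalizer s₁.Qnorm, by
          rw [Nat.card_congr (Subgroup.subgroupOfEquivOfLe s₁.QH).toEquiv]; exact s₁.Qcop⟩)
    intro x hx
    refine hQ (s₁.Qself ⟨x.2, Subgroup.mem_centralizer_iff.mpr fun y hy => ?_⟩)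
    exact congrArg Subtype.val (Subgroup.mem_centralizer_iff.mp hx ⟨y, s₁.QH hy⟩ (hQ hy))
  · show (sSup _ : Subgroup G).map _ ≤ _
    rw [Subgroup.map_le_iff_le_comap]
    refine sSup_le fun A hA => ?_
    rw [← Subgroup.map_le_iff_le_comap]
    exact le_iSup (fun A : {A : Subgroup (Holo V) // A ≤ H ∧ Cfsg.IsBestOffenderOn p (holoBase V) A} =>
      (A : Subgroup (Holo V))) ⟨A.map (holoHom V), Subgroup.map_mono (le_sSup hA),
        isBestOffenderOn_holo (Thompson.isBestOffenderOn_of_max hV hA)⟩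

/-- Failure of the factorization: a normal `SL(2, p)` in the group induced by `J(G)` on `V`. -/
theorem exists_SL2_quotient (hV : Cfsg.IsElementaryAbelian p V) (hsep : Cfsg.IsPSolvable p G)
    (hO : Cfsg.pCore p (G ⧸ Subgroup.centralizer (V : Set G)) = ⊥)
    (hJ : ¬ Cfsg.thompsonSubgroup p G ≤ Subgroup.centralizer (V : Set G)) :
    (p = 2 ∨ p = 3) ∧ ∃ E : Subgroup G, Subgroup.centralizer (V : Set G) ≤ E ∧
      E ≤ Cfsg.thompsonSubgroup p G ⊔ Subgroup.centralizer (V : Set G) ∧
      Cfsg.thompsonSubgroup p G ⊔ Subgroup.centralizer (V : Set G) ≤ Subgroup.normalizer (E : Set G) ∧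
      ∃ _ : ((Subgroup.centralizer (V : Set G)).subgroupOf E).Normal,
        Nonempty ((↥E ⧸ (Subgroup.centralizer (V : Set G)).subgroupOf E) ≃*
          Matrix.SpecialLinearGroup (Fin 2) (ZMod p)) := by
  obtain ⟨s, hgen⟩ := thompsonSetup (p := p) hV hsep hO
  set J := Cfsg.thompsonSubgroup p G
  set C := Subgroup.centralizer (V : Set G)
  set f := holoHom V with hf
  set H := J.map f with hH
  have hHne : H ≠ ⊥ := by
    intro e
    rw [Subgroup.map_eq_bot_iff, holoHom_ker] at e
    exact hJ e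
  have hfac : ∃ F, IsFactor p (holoBase V) H ((Cfsg.pPrimeCore p ↥H).map H.subtype) F := by
    by_contra hne
    rw [← s.iSup_factor hgen] at hHne
    exact hHne (le_bot_iff.mp (iSup_le fun F => absurd ⟨_, F.2⟩ hne))
  obtain ⟨F, hF⟩ := hfac
  obtain ⟨h23, hc⟩ := hF.exists_comp s
  have hFH : H ≤ Subgroup.normalizer (F : Set (Holo V)) := (hc.decomposition s hgen).1
  refine ⟨h23, F.comap f, fun x hx => ?_, fun x hx => ?_, ?_, ?_⟩
  · show f x ∈ F
    rw [MonoidHom.mem_ker.mp (mem_holoHom_ker.mpr hx)]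
    exact one_mem _
  · obtain ⟨j, hj, e⟩ := hc.EH hx
    rw [show x = j * (j⁻¹ * x) by group]
    refine Subgroup.mul_mem_sup hj ?_
    rw [← mem_holoHom_ker, MonoidHom.mem_ker, map_mul, map_inv, e, inv_mul_cancel]
  · refine Grp.invariant_iff.mp fun g hg x hx => ?_
    have hg' : f g ∈ H := by
      have hle : J ⊔ C ≤ H.comap f := sup_le (Subgroup.le_comap_map _ _) fun c hc' => by
        show f c ∈ H
        rw [MonoidHom.mem_ker.mp (mem_holoHom_ker.mpr hc')]
        exact one_mem _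
      exact hle hg
    show f (g * x * g⁻¹) ∈ F
    rw [map_mul, map_mul, map_inv]
    exact Grp.mem_conj_normalizer (hFH hg') hx
  · haveI : C.Normal := Subgroup.normal_centralizer
    refine ⟨inferInstance, ?_⟩
    obtain ⟨e⟩ := hc.iso
    let g : ↥(F.comap f) →* F := (f.comp (F.comap f).subtype).codRestrict F fun x => x.2
    have hgs : Function.Surjective g := fun y => by
      obtain ⟨j, -, hj⟩ := hc.EH y.2
      exact ⟨⟨j, show f j ∈ F from hj.symm ▸ y.2⟩, Subtype.ext hj⟩
    have hker : g.ker = C.subgroupOf (F.comap f) := by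
      ext x
      rw [MonoidHom.mem_ker, Subgroup.mem_subgroupOf, ← mem_holoHom_ker, MonoidHom.mem_ker]
      exact ⟨fun h => congrArg Subtype.val h, fun h => Subtype.ext h⟩
    exact ⟨((QuotientGroup.quotientMulEquivOfEq hker.symm).trans
      (QuotientGroup.quotientKerEquivOfSurjective g hgs)).trans e⟩

end

theorem normalizer_le_normalizer_core {G : Type*} [Group G] [Finite G] (H : Subgroup G) :
    Subgroup.normalizer (H : Set G) ≤
      Subgroup.normalizer (((Cfsg.pPrimeCore p ↥H).map H.subtype : Subgroup G) : Set G) := by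
  refine Grp.invariant_iff.mp ?_
  rintro g hg _ ⟨x, hx, rfl⟩
  set e : MulAut H := Subgroup.normalizerMonoidHom H ⟨g, hg⟩
  refine ⟨e x, ?_, rfl⟩
  have hle : (Cfsg.pPrimeCore p ↥H).map e.toMonoidHom ≤ Cfsg.pPrimeCore p ↥H :=
    le_sSup (show (Cfsg.pPrimeCore p ↥H).map e.toMonoidHom ∈
        {N : Subgroup H | N.Normal ∧ (Nat.card N).Coprime p} from
      ⟨Grp.pPrimeCore_isNormal.map _ e.surjective, by
        rw [Subgroup.card_map_of_injective (f := e.toMonoidHom) e.injective]; exact Grp.pPrimeCore_coprime⟩)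
  exact hle ⟨x, hx, rfl⟩

section coprime

variable {Y : Type*} [Group Y] [Finite Y] {q : ℕ} [hq : Fact q.Prime]

theorem pCore_bot_of_omega {V : Subgroup G} [V.Normal] (hV : V = zGen p G)
    (hsep : Cfsg.IsPSolvable p G) (hO : Cfsg.pPrimeCore p G = ⊥) :
    Cfsg.pCore p (G ⧸ Subgroup.centralizer (V : Set G)) = ⊥ := by
  subst hV
  exact (zGen_data hsep hO).2.2

theorem map_aut_fix_thompson (e : MulAut G) :
    (Cfsg.thompsonSubgroup p G).map e.toMonoidHom = Cfsg.thompsonSubgroup p G := by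
  haveI := Thompson.characteristic_thompsonSubgroup (p := p) (G := G)
  exact Subgroup.characteristic_iff_map_eq.mp inferInstance e

theorem map_aut_zGen (e : MulAut G) : (zGen p G).map e.toMonoidHom = zGen p G := by
  have key : ∀ e : MulAut G, (zGen p G).map e.toMonoidHom ≤ zGen p G := fun e => by
    rw [Subgroup.map_le_iff_le_comap]
    refine iSup_le fun S => (Subgroup.closure_le _).mpr fun x hx => ?_
    let T : Sylow p G := S.mapSurjective (f := e.toMonoidHom) e.surjective
    refine le_iSup (fun S : Sylow p G => Cfsg.omegaOne p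
      ((S : Subgroup G) ⊓ Subgroup.centralizer ((S : Subgroup G) : Set G))) T
      (Subgroup.subset_closure ⟨⟨⟨x, hx.1.1, rfl⟩, Subgroup.mem_centralizer_iff.mpr ?_⟩, ?_⟩)
    · rintro _ ⟨y, hy, rfl⟩
      rw [← map_mul, ← map_mul, Subgroup.mem_centralizer_iff.mp hx.1.2 y hy]
    · rw [← map_pow, hx.2, map_one]
  refine le_antisymm (key e) fun x hx => ⟨e.symm x, key e.symm ⟨x, hx, rfl⟩, e.apply_symm_apply x⟩

/-- Coprime operators: data in the holomorph. -/
theorem exists_operators {V : Subgroup G} [V.Normal] (hVe : V = zGen p G) (σ : Y →* MulAut G) :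
    ∃ t : Y →* Holo V, (∀ y g, t y * holoHom V g * (t y)⁻¹ = holoHom V (σ y g)) ∧
      (∀ y (v : V), ∃ h : σ y v ∈ V,
        t y * SemidirectProduct.inl v * (t y)⁻¹ = SemidirectProduct.inl ⟨σ y v, h⟩) := by
  have hinv : ∀ y, V.map (σ y).toMonoidHom = V := fun y => by
    rw [hVe]; exact map_aut_zGen (σ y)
  let τ : Y →* MulAut V :=
    { toFun := fun y => ((σ y).subgroupMap V).trans (MulEquiv.subgroupCongr (hinv y))
      map_one' := MulEquiv.ext fun v => Subtype.ext (by
        show σ 1 (v : G) = v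
        rw [map_one]; rfl)
      map_mul' := fun y z => MulEquiv.ext fun v => Subtype.ext (by
        show σ (y * z) (v : G) = σ y (σ z v)
        rw [map_mul]; rfl) }
  refine ⟨SemidirectProduct.inr.comp τ, fun y g => ?_, fun y v => ?_⟩
  · rw [MonoidHom.comp_apply, holoHom, MonoidHom.comp_apply, MonoidHom.comp_apply,
      ← map_inv (SemidirectProduct.inr (φ := MonoidHom.id (MulAut ↥V))), ← map_mul, ← map_mul]
    congr 1
    refine MulEquiv.ext fun v => Subtype.ext ?_
    show σ y (g * ((τ y)⁻¹ v : V) * g⁻¹) = σ y g * v * (σ y g)⁻¹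
    have h1 : σ y (((τ y)⁻¹ v : V) : G) = v := congrArg Subtype.val ((τ y).apply_symm_apply v)
    rw [map_mul, map_mul, map_inv, h1]
  · refine ⟨(hinv y).le ⟨v, v.2, rfl⟩, ?_⟩
    rw [MonoidHom.comp_apply, ← map_inv]
    exact (SemidirectProduct.inl_aut (φ := MonoidHom.id (MulAut ↥V)) (τ y) v).symm

/-- A coset of a normal subgroup fixed by coprime operators contains a fixed element. -/
theorem exists_fixed_lift {G' : Type*} [Group G'] (f : G →* G') (hY : IsPGroup q Y)
    (hqG : ¬ q ∣ Nat.card G) (σ : Y →* MulAut G) {g : G} (h : ∀ y, f (σ y g) = f g)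
    (hf : ∀ y x, f x = f g → f (σ y x) = f (σ y g)) :
    ∃ x : G, f x = f g ∧ ∀ y, σ y x = x := by
  let _ : MulAction Y {x : G // f x = f g} :=
    { smul := fun y x => ⟨σ y x, (hf y x x.2).trans (h y)⟩
      one_smul := fun x => Subtype.ext (show σ 1 (x : G) = x by rw [map_one]; rfl)
      mul_smul := fun y z x => Subtype.ext (show σ (y * z) (x : G) = σ y (σ z x) by rw [map_mul]; rfl) }
  have hc : Nat.card {x : G // f x = f g} = Nat.card f.ker := by
    refine Nat.card_congr
      { toFun := fun x => ⟨g⁻¹ * x, by rw [MonoidHom.mem_ker, map_mul, map_inv, x.2, inv_mul_cancel]⟩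
        invFun := fun k => ⟨g * k, by rw [map_mul, MonoidHom.mem_ker.mp k.2, mul_one]⟩
        left_inv := fun x => Subtype.ext (mul_inv_cancel_left g x)
        right_inv := fun k => Subtype.ext (inv_mul_cancel_left g k) }
  obtain ⟨x, hx⟩ := hY.nonempty_fixed_point_of_prime_not_dvd_card {x : G // f x = f g}
    (by rw [hc]; exact fun hd => hqG (hd.trans (Subgroup.card_subgroup_dvd_card _)))
  exact ⟨x, x.2, fun y => congrArg Subtype.val (hx y)⟩

/-- Under coprime operators, a group is generated by the two Thompson factors and the fixed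
points. -/
theorem eq_top_of_fixed (hsep : Cfsg.IsPSolvable p G) (hO : Cfsg.pPrimeCore p G = ⊥)
    (hY : IsPGroup q Y) (hqG : ¬ q ∣ Nat.card G) (σ : Y →* MulAut G) (S : Sylow p G) {L : Subgroup G}
    (hN : Subgroup.normalizer (Cfsg.thompsonSubgroupOf p (S : Subgroup G) : Set G) ≤ L)
    (hC : Subgroup.centralizer (Cfsg.omegaOne p
      ((S : Subgroup G) ⊓ Subgroup.centralizer ((S : Subgroup G) : Set G)) : Set G) ≤ L)
    (hfix : ∀ g : G, (∀ y, σ y g = g) → g ∈ L) : L = ⊤ := by
  obtain ⟨hVn, hV, hcore⟩ := zGen_data hsep hO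
  generalize hVe : zGen p G = V at hVn hV
  haveI := hVn
  have hOp := pCore_bot_of_omega hVe.symm hsep hO
  obtain ⟨s, hgen⟩ := thompsonSetup (p := p) hV hsep hOp
  set J := Cfsg.thompsonSubgroup p G
  set C := Subgroup.centralizer (V : Set G) with hCdef
  set f := holoHom V with hf
  set H := J.map f with hH
  set Q := (Cfsg.pPrimeCore p ↥H).map H.subtype with hQdef
  have hCL : C ≤ L := le_trans (Subgroup.centralizer_le (SetLike.coe_subset_coe.mpr
    (hVe ▸ le_iSup (fun S : Sylow p G => Cfsg.omegaOne p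
      ((S : Subgroup G) ⊓ Subgroup.centralizer ((S : Subgroup G) : Set G))) S))) hC
  have hSN : (S : Subgroup G) ≤ L := fun x hx => hN (by
    have hx' : x ∈ Subgroup.normalizer ((S : Subgroup G) : Set G) := Subgroup.le_normalizer hx
    exact Fus.mem_normalizer_of_forall (fun y hy => Invol.conj_mem_thompsonEl hx' hy) fun y hy => by
      simpa using Invol.conj_mem_thompsonEl (inv_mem hx') hy)
  haveI : C.Normal := Subgroup.normal_centralizer
  haveI hJn : J.Normal := by
    haveI := Thompson.characteristic_thompsonSubgroup (p := p) (G := G)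
    infer_instance
  -- reduce to `J(G) ≤ L`
  suffices hJL : J ≤ L by
    set D := J ⊔ C
    have hDn : D.Normal := Subgroup.sup_normal J C
    obtain ⟨-, P, hP⟩ := Fus.isSylowOf_inf_normal S D
    set T := (S : Subgroup G) ⊓ D
    have htop : Subgroup.normalizer (T : Set G) ⊔ D = ⊤ := by
      have hPT : (P : Subgroup D).map D.subtype = T := by
        rw [hP, Subgroup.subgroupOf_map_subtype, inf_eq_left.2 (inf_le_right : T ≤ D)]
      rw [← hPT]
      exact Sylow.normalizer_sup_eq_top P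
    have hTJ : Cfsg.thompsonSubgroupOf p T = Cfsg.thompsonSubgroupOf p (S : Subgroup G) := by
      have hJS : Cfsg.thompsonSubgroupOf p (S : Subgroup G) ≤ T :=
        le_inf (Invol.thompsonEl_le _) ((le_iSup (fun S : Sylow p G =>
          Cfsg.thompsonSubgroupOf p (S : Subgroup G)) S).trans
            (Thompson.thompsonSubgroup_eq_iSup.ge.trans le_sup_left))
      obtain ⟨A₀, hA₀⟩ := Thompson.exists_max (p := p) (G := (S : Subgroup G))
      have hA' : Invol.IsMaxEl p (S : Subgroup G) (A₀.map (S : Subgroup G).subtype) :=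
        Invol.isMaxEl_iff.mpr ⟨Subgroup.map_subtype_le A₀, by
          rwa [Subgroup.subgroupOf, Subgroup.comap_map_eq_self_of_injective (S : Subgroup G).subtype_injective]⟩
      refine le_antisymm (Invol.thompsonEl_le_of fun A hA => ?_) (Invol.thompsonEl_le_of fun A hA => ?_)
      · exact Invol.IsMaxEl.le_thompsonEl ⟨hA.1.trans inf_le_left, hA.2.1, fun B hB hc' =>
          (hA'.2.2 B hB hc').trans (hA.2.2 _ (hA'.le_thompsonEl.trans hJS) hA'.2.1)⟩
      · exact Invol.IsMaxEl.le_thompsonEl ⟨hA.le_thompsonEl.trans hJS, hA.2.1,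
          fun B hB hc' => hA.2.2 B (hB.trans inf_le_left) hc'⟩
    refine top_le_iff.mp (htop.ge.trans (sup_le (fun n hn => hN ?_) (sup_le hJL hCL)))
    rw [← hTJ]
    exact Fus.mem_normalizer_of_forall (fun y hy => Invol.conj_mem_thompsonEl hn hy) fun y hy => by
      simpa using Invol.conj_mem_thompsonEl (inv_mem hn) hy
  suffices hHL : H ≤ L.map f by
    intro j hj
    obtain ⟨l, hl, e⟩ := hHL ⟨j, hj, rfl⟩
    rw [show j = l * (l⁻¹ * j) by group]
    refine mul_mem hl (hCL ?_)
    rw [hCdef, ← mem_holoHom_ker, MonoidHom.mem_ker, map_mul, map_inv, e, inv_mul_cancel]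
  rw [← s.iSup_factor hgen]
  refine iSup_le fun ⟨F, hF⟩ => ?_
  show F ≤ L.map f
  obtain ⟨-, hc⟩ := hF.exists_comp s
  -- operators
  obtain ⟨t, htf, htv⟩ := exists_operators hVe.symm σ
  have htV : ∀ y, t y ∈ Subgroup.normalizer (holoBase V : Set (Holo V)) := fun y => by
    have : t.range ≤ Subgroup.normalizer (holoBase V : Set (Holo V)) := by
      refine Grp.invariant_iff.mp ?_
      rintro _ ⟨y, rfl⟩ _ ⟨v, rfl⟩
      obtain ⟨_, e⟩ := htv y v
      exact ⟨_, e.symm⟩
    exact this ⟨y, rfl⟩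
  have htH : ∀ y, t y ∈ Subgroup.normalizer (H : Set (Holo V)) := fun y => by
    have : t.range ≤ Subgroup.normalizer (H : Set (Holo V)) := by
      refine Grp.invariant_iff.mp ?_
      rintro _ ⟨y, rfl⟩ _ ⟨j, hj, rfl⟩
      exact ⟨σ y j, (map_aut_fix_thompson (σ y)).le ⟨j, hj, rfl⟩, (htf y j).symm⟩
    exact this ⟨y, rfl⟩
  have htQ : ∀ y, t y ∈ Subgroup.normalizer (Q : Set (Holo V)) := fun y => by
    exact normalizer_le_normalizer_core H (htH y)
  have hqH : ¬ q ∣ Nat.card H := fun hd =>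
    hqG (hd.trans ((Subgroup.card_dvd_of_surjective _ (f.subgroupMap_surjective J)).trans (Subgroup.card_subgroup_dvd_card _)))
  obtain ⟨δ, hδt, hδH, -, hδc⟩ := hF.exists_diag s hgen hY hqH t htV htH htQ
  -- a `p`-element of `F` in the image of `S`
  obtain ⟨P, hPF, hPS, hPp⟩ : ∃ P : Subgroup (Holo V), P ≤ F ∧ P ≤ (S : Subgroup G).map f ∧
      Nat.card P = p := by
    have h23 := hF.exists_comp s
    have hn1 : ((F.comap f)).Normal ∨ True := Or.inr trivial
    set F₀ := F.comap f ⊓ (J ⊔ C) with hF₀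
    have hJC : J ⊔ C ≤ H.comap f := sup_le (Subgroup.le_comap_map _ _) fun c hc' => by
      show f c ∈ H
      rw [MonoidHom.mem_ker.mp (mem_holoHom_ker.mpr hc')]
      exact one_mem _
    haveI hJCn : (J ⊔ C).Normal := Subgroup.sup_normal J C
    -- Sylow of `J C`, then of the normal subgroup `F₀`
    obtain ⟨-, P₁, hP₁⟩ := Fus.isSylowOf_inf_normal S (J ⊔ C)
    haveI : (F₀.subgroupOf (J ⊔ C)).Normal := by
      refine Subgroup.normal_subgroupOf_of_le_normalizer (Grp.le_normalizer_inf' ?_ Subgroup.le_normalizer)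
      refine Grp.invariant_iff.mp fun g hg x hx => ?_
      show f (g * x * g⁻¹) ∈ F
      rw [map_mul, map_mul, map_inv]
      exact Grp.mem_conj_normalizer ((hc.decomposition s hgen).1 (hJC hg)) hx
    obtain ⟨-, P₂, hP₂⟩ := Fus.isSylowOf_inf_normal P₁ (F₀.subgroupOf (J ⊔ C))
    let g : ↥(F₀.subgroupOf (J ⊔ C)) →* F :=
      (f.comp ((J ⊔ C).subtype.comp (F₀.subgroupOf (J ⊔ C)).subtype)).codRestrict F fun x => x.2.1
    have hgs : Function.Surjective g := fun z => by
      obtain ⟨j, hj, e⟩ := hc.EH z.2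
      exact ⟨⟨⟨j, Subgroup.mem_sup_left hj⟩, ⟨show f j ∈ F from e.symm ▸ z.2, Subgroup.mem_sup_left hj⟩⟩,
        Subtype.ext e⟩
    let P₃ := P₂.mapSurjective hgs
    have hcard : Nat.card (P₃ : Subgroup F) = p := by
      obtain ⟨e⟩ := hc.iso
      rw [P₃.card_eq_multiplicity, Nat.card_congr e.toEquiv, Nat.card_eq_fintype_card]
      rcases h23.1 with rfl | rfl
      · rw [show Fintype.card (Matrix.SpecialLinearGroup (Fin 2) (ZMod 2)) = 2 ^ 1 * 3 by decide,
          Nat.factorization_mul (by norm_num) (by norm_num), Finsupp.add_apply,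
          Nat.prime_two.factorization_pow, Finsupp.single_eq_same,
          Nat.factorization_eq_zero_of_not_dvd (by norm_num)]
        norm_num
      · rw [show Fintype.card (Matrix.SpecialLinearGroup (Fin 2) (ZMod 3)) = 3 ^ 1 * 8 by decide,
          Nat.factorization_mul (by norm_num) (by norm_num), Finsupp.add_apply,
          Nat.prime_three.factorization_pow, Finsupp.single_eq_same,
          Nat.factorization_eq_zero_of_not_dvd (by norm_num)]
        norm_num
    refine ⟨(P₃ : Subgroup F).map F.subtype, Subgroup.map_subtype_le _, ?_,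
      by rw [Subgroup.card_map_of_injective F.subtype_injective, hcard]⟩
    rintro _ ⟨z, ⟨x, hx, rfl⟩, rfl⟩
    refine ⟨((x : ↥(J ⊔ C)) : G), ?_, rfl⟩
    have h1 := hP₂.le hx
    rw [Subgroup.mem_subgroupOf] at h1
    have h2 : (x : ↥(J ⊔ C)) ∈ ((S : Subgroup G) ⊓ (J ⊔ C)).subgroupOf (J ⊔ C) := hP₁ ▸ h1.1
    exact h2.1
  have hLf : ∀ g : ↥(F ⊔ ⁅holoBase V, F⁆), (g : Holo V) ∈ F → δ g ∈ L.map f := by
    intro g hg
    obtain ⟨j, -, e⟩ := hδH g hg
    obtain ⟨x, hx, hxf⟩ := exists_fixed_lift f hY hqG σ (g := j) (fun y => by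
        rw [← htf y j, show f j = δ g from e, hδt g y])
      (fun y x hx => by rw [← htf y x, ← htf y j, show holoHom V x = holoHom V j from hx])
    exact ⟨x, hfix x hxf, hx.trans e⟩
  refine hF.le_of_conj s hPF hPp fun e he a ha => ?_
  have hm : e ∈ F ⊔ ⁅holoBase V, F⁆ := Subgroup.mem_sup_left he
  have ha' : a ∈ L.map f := Subgroup.map_mono hSN (hPS ha)
  have h1 := mul_mem (mul_mem (hLf ⟨e, hm⟩ he) ha') (inv_mem (hLf ⟨e, hm⟩ he))
  rwa [hδc ⟨e, hm⟩ a (Subgroup.mem_sup_left (hPF ha))] at h1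

/-- Under coprime operators, failure of the factorization gives a fixed plane with `SL(2, p)`. -/
theorem exists_fixed_plane (hsep : Cfsg.IsPSolvable p G) (hO : Cfsg.pPrimeCore p G = ⊥)
    (hY : IsPGroup q Y) (hqG : ¬ q ∣ Nat.card G) (σ : Y →* MulAut G)
    (hnf : ¬ Cfsg.IsThompsonFactorizable p G) :
    (p = 2 ∨ p = 3) ∧ ∃ W D : Subgroup G, (∀ w ∈ W, ∀ y, σ y w = w) ∧ (∀ d ∈ D, ∀ y, σ y d = d) ∧
      Cfsg.IsElementaryAbelian p W ∧ Nat.card W = p ^ 2 ∧ D ≤ Subgroup.normalizer (W : Set G) ∧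
      ∃ g : D →* Matrix.SpecialLinearGroup (Fin 2) (ZMod p), Function.Surjective g ∧
        g.ker = (Subgroup.centralizer (W : Set G)).subgroupOf D := by
  obtain ⟨hVn, hV, hcore⟩ := zGen_data hsep hO
  have hJ' : ¬ Cfsg.thompsonSubgroup p G ≤ Subgroup.centralizer (zGen p G : Set G) :=
    fun h => hnf ((S0608.result hO).mpr h)
  generalize hVe : zGen p G = V at hVn hV hJ'
  haveI := hVn
  have hOp := pCore_bot_of_omega hVe.symm hsep hO
  obtain ⟨s, hgen⟩ := thompsonSetup (p := p) hV hsep hOp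
  set J := Cfsg.thompsonSubgroup p G
  set f := holoHom V with hf
  set H := J.map f with hH
  set Q := (Cfsg.pPrimeCore p ↥H).map H.subtype with hQdef
  have hfac : ∃ F, IsFactor p (holoBase V) H Q F := by
    by_contra hne
    have hHne : H ≠ ⊥ := by
      intro e
      rw [Subgroup.map_eq_bot_iff, holoHom_ker] at e
      exact hJ' e
    rw [← s.iSup_factor hgen] at hHne
    exact hHne (le_bot_iff.mp (iSup_le fun F => absurd ⟨_, F.2⟩ hne))
  obtain ⟨F, hF⟩ := hfac
  obtain ⟨h23, hc⟩ := hF.exists_comp s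
  obtain ⟨t, htf, htv⟩ := exists_operators hVe.symm σ
  have htV : ∀ y, t y ∈ Subgroup.normalizer (holoBase V : Set (Holo V)) := fun y => by
    have : t.range ≤ Subgroup.normalizer (holoBase V : Set (Holo V)) := by
      refine Grp.invariant_iff.mp ?_
      rintro _ ⟨y, rfl⟩ _ ⟨v, rfl⟩
      obtain ⟨_, e⟩ := htv y v
      exact ⟨_, e.symm⟩
    exact this ⟨y, rfl⟩
  have htH : ∀ y, t y ∈ Subgroup.normalizer (H : Set (Holo V)) := fun y => by
    have : t.range ≤ Subgroup.normalizer (H : Set (Holo V)) := by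
      refine Grp.invariant_iff.mp ?_
      rintro _ ⟨y, rfl⟩ _ ⟨j, hj, rfl⟩
      exact ⟨σ y j, (map_aut_fix_thompson (σ y)).le ⟨j, hj, rfl⟩, (htf y j).symm⟩
    exact this ⟨y, rfl⟩
  have htQ : ∀ y, t y ∈ Subgroup.normalizer (Q : Set (Holo V)) := fun y => by
    exact normalizer_le_normalizer_core H (htH y)
  have hqH : ¬ q ∣ Nat.card H := fun hd =>
    hqG (hd.trans ((Subgroup.card_dvd_of_surjective _ (f.subgroupMap_surjective J)).trans (Subgroup.card_subgroup_dvd_card _)))
  set U := ⁅holoBase V, F⁆ with hU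
  obtain ⟨δ, hδt, hδH, hδV, hδc⟩ := hF.exists_diag s hgen hY hqH t htV htH htQ
  have hEU : ∀ u ∈ U, ∀ e ∈ F, e * u * e⁻¹ ∈ U := fun u hu e he =>
    Grp.mem_conj_normalizer (Grp.right_le_normalizer_commutator F (holoBase V) he) hu
  -- the diagonal of the plane
  let εU : U →* Holo V := δ.comp (Subgroup.inclusion le_sup_right)
  let εE : F →* Holo V := δ.comp (Subgroup.inclusion le_sup_left)
  have hUinj : Function.Injective εU := by
    rw [injective_iff_map_eq_one]
    intro u hu
    have h1 : ∀ e ∈ F, (u : Holo V) * e * (u : Holo V)⁻¹ = e := fun e he => by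
      have := hδc ⟨u, Subgroup.mem_sup_right u.2⟩ e (Subgroup.mem_sup_left he)
      rw [show δ ⟨u, Subgroup.mem_sup_right u.2⟩ = εU u from rfl, hu, one_mul, inv_one, mul_one] at this
      exact this.symm
    refine Subtype.ext ?_
    show (u : Holo V) = 1
    rw [← Subgroup.mem_bot, ← hc.inf_eq]
    exact ⟨u.2, hc.UV u.2, Subgroup.mem_centralizer_iff.mpr fun e he =>
      (mul_inv_eq_iff_eq_mul.mp (h1 e he)).symm⟩
  have hEinj : ∀ e : F, (∀ u : U, εE e * εU u * (εE e)⁻¹ = εU u) → e = 1 := by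
    intro e he
    have h1 : ∀ u : U, (e : Holo V) * u * (e : Holo V)⁻¹ = u := fun u => by
      have h3 : εU ⟨(e : Holo V) * u * (e : Holo V)⁻¹, hEU u u.2 e e.2⟩ = εU u := by
        conv_rhs => rw [← he u]
        simp only [εU, εE, MonoidHom.comp_apply, ← map_mul, ← map_inv]
        rfl
      exact congrArg Subtype.val (hUinj h3)
    refine Subtype.ext ?_
    show (e : Holo V) = 1
    rw [← Subgroup.mem_bot, ← hc.faith]
    exact ⟨e.2, Subgroup.mem_centralizer_iff.mpr fun u hu => (mul_inv_eq_iff_eq_mul.mp (h1 ⟨u, hu⟩)).symm⟩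
  have hEinj' : Function.Injective εE := (injective_iff_map_eq_one εE).mpr fun e he =>
    hEinj e fun u => by rw [he, one_mul, inv_one, mul_one]
  -- the fixed plane
  let W : Subgroup G := (εU.range.comap (SemidirectProduct.inl : ↥V →* Holo V)).map V.subtype
  have hWmem : ∀ v : V, (v : G) ∈ W ↔ SemidirectProduct.inl v ∈ εU.range := fun v =>
    ⟨fun ⟨v', hv', e⟩ => Subtype.ext e ▸ hv', fun h => ⟨v, h, rfl⟩⟩
  have hUV : ∀ u : U, ∃ v : V, SemidirectProduct.inl v = εU u := fun u => hδV _ u.2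
  have hWc : Nat.card W = p ^ 2 := by
    show Nat.card ((εU.range.comap SemidirectProduct.inl).map V.subtype) = _
    rw [Subgroup.card_map_of_injective V.subtype_injective,
      ← Subgroup.card_map_of_injective (f := (SemidirectProduct.inl : ↥V →* Holo V))
        SemidirectProduct.inl_injective,
      Subgroup.map_comap_eq, inf_eq_right.mpr (by rintro _ ⟨u, rfl⟩; exact hUV u),
      ← Nat.card_congr (MonoidHom.ofInjective hUinj).toEquiv]
    exact hc.card_U
  let D : Subgroup G :=
    { carrier := {g | (∀ y, σ y g = g) ∧ f g ∈ εE.range}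
      one_mem' := ⟨fun y => map_one _, by rw [map_one]; exact one_mem _⟩
      mul_mem' := fun {a b} ha hb => ⟨fun y => by rw [map_mul, ha.1, hb.1],
        by rw [map_mul]; exact mul_mem ha.2 hb.2⟩
      inv_mem' := fun {a} ha => ⟨fun y => by rw [map_inv, ha.1], by rw [map_inv]; exact inv_mem ha.2⟩ }
  have hDW : ∀ d ∈ D, ∀ w ∈ W, d * w * d⁻¹ ∈ W := by
    rintro d ⟨-, e, he⟩ _ ⟨v, hv, rfl⟩
    obtain ⟨u, hu⟩ := hv
    refine ⟨MulAut.conjNormal d v, ?_, rfl⟩
    show SemidirectProduct.inl (MulAut.conjNormal d v) ∈ εU.range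
    rw [← holoHom_conj, show holoHom V d = εE e from he.symm, show SemidirectProduct.inl v = εU u from hu.symm]
    refine ⟨⟨(e : Holo V) * u * (e : Holo V)⁻¹, hEU u u.2 e e.2⟩, ?_⟩
    simp only [εU, εE, MonoidHom.comp_apply, ← map_mul, ← map_inv]
    rfl
  refine ⟨h23, W, D, ?_, fun d hd => hd.1, ?_, hWc, Grp.invariant_iff.mp hDW, ?_⟩
  · rintro _ ⟨v, hv, rfl⟩ y
    obtain ⟨u, hu⟩ := hv
    obtain ⟨h, e⟩ := htv y v
    have h1 : t y * SemidirectProduct.inl v * (t y)⁻¹ = SemidirectProduct.inl v := by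
      rw [show SemidirectProduct.inl v = εU u from hu.symm]
      exact hδt _ y
    exact congrArg Subtype.val (SemidirectProduct.inl_injective (e.symm.trans h1))
  · refine ⟨⟨⟨fun a b => Subtype.ext ?_⟩⟩, fun a ha => hV.2 a (Subgroup.map_subtype_le _ ha)⟩
    exact elem_comm hV (Subgroup.map_subtype_le _ a.2) (Subgroup.map_subtype_le _ b.2)
  · obtain ⟨iso⟩ := hc.iso
    let ι := MonoidHom.ofInjective hEinj'
    let g₀ : D →* εE.range := (f.comp D.subtype).codRestrict _ fun d => d.2.2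
    let g : D →* Matrix.SpecialLinearGroup (Fin 2) (ZMod p) :=
      (iso.toMonoidHom.comp ι.symm.toMonoidHom).comp g₀
    have hg0s : Function.Surjective g₀ := by
      rintro ⟨z, e, rfl⟩
      obtain ⟨j, -, hj⟩ := hδH (Subgroup.inclusion le_sup_left e) e.2
      obtain ⟨x, hx, hxf⟩ := exists_fixed_lift f hY hqG σ (g := j) (fun y => by
          rw [← htf y j, show f j = εE e from hj]; exact hδt _ y)
        (fun y x hx => by rw [← htf y x, ← htf y j, show holoHom V x = holoHom V j from hx])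
      exact ⟨⟨x, hxf, e, hj.symm.trans hx.symm⟩, Subtype.ext (hx.trans hj)⟩
    refine ⟨g, (iso.surjective.comp ι.symm.surjective).comp hg0s, ?_⟩
    ext d
    have h0 : g d = 1 ↔ g₀ d = 1 := by
      show iso (ι.symm (g₀ d)) = 1 ↔ _
      rw [MulEquiv.map_eq_one_iff, MulEquiv.map_eq_one_iff]
    rw [MonoidHom.mem_ker, h0, Subgroup.mem_subgroupOf, Subgroup.mem_centralizer_iff]
    obtain ⟨e, he⟩ := d.2.2
    constructor
    · intro hd w hw
      obtain ⟨v, hv, rfl⟩ := hw
      have h1 : f (d : G) = 1 := congrArg Subtype.val hd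
      exact Subgroup.mem_centralizer_iff.mp (mem_holoHom_ker.mp (MonoidHom.mem_ker.mpr h1)) v v.2
    · intro hd
      refine Subtype.ext ?_
      show f (d : G) = 1
      rw [← he, hEinj e (fun u => ?_), map_one]
      obtain ⟨v, hv⟩ := hUV u
      rw [← hv, he]
      rw [holoHom_conj]
      refine congrArg SemidirectProduct.inl (Subtype.ext ?_)
      rw [MulAut.conjNormal_apply]
      exact mul_inv_eq_iff_eq_mul.mpr (hd _ ((hWmem v).mpr ⟨u, hv.symm⟩)).symm

end coprime

end Cfsg.Agent.Transfer.Offender
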