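import Cfsg.Prelude.Def_OddOrderLocal
import Cfsg.Agent.Lib.Grp.Cores
import Mathlib

/-! Elementary facts about `M_F` and type-P data. -/

set_option autoImplicit false
open scoped commutatorElement

namespace Cfsg.Agent.Transfer.TypeP

universe u
variable {G : Type u} [Group G]

theorem fittingHall_coprime (M : Type u) [Group M] [Finite M] :
    (Nat.card ↥(Cfsg.fittingHall M)).Coprime (Cfsg.fittingHall M).index := by
  classical
  set T := {N : Subgroup M | N.Normal ∧ Group.IsNilpotent N ∧ (Nat.card N).Coprime N.index}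
  have hT : T.Finite := Set.toFinite _
  show (Nat.card ↥(sSup T)).Coprime (sSup T).index
  rw [← hT.coe_toFinset, ← Finset.sup_id_eq_sSup]
  suffices h : (hT.toFinset.sup id).Normal ∧ (Nat.card ↥(hT.toFinset.sup id)).Coprime (hT.toFinset.sup id).index from h.2
  refine Finset.sup_induction (p := fun K : Subgroup M => K.Normal ∧ (Nat.card K).Coprime K.index) ⟨inferInstance, by simp⟩ ?_ fun N hN => ?_
  · rintro A ⟨hA, hA'⟩ B ⟨hB, hB'⟩
    haveI := hA
    haveI := hB
    refine ⟨inferInstance, ?_⟩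
    have hd : Nat.card ↥(A ⊔ B) ∣ Nat.card A * Nat.card B :=
      ⟨_, (Cfsg.Agent.Grp.card_sup_mul_card_inf_normal (H := A) (N := B)).symm⟩
    refine Nat.Coprime.of_dvd_left hd (Nat.Coprime.mul_left ?_ ?_)
    · exact hA'.coprime_dvd_right (Subgroup.index_dvd_of_le le_sup_left)
    · exact hB'.coprime_dvd_right (Subgroup.index_dvd_of_le le_sup_right)
  · have := hT.mem_toFinset.1 hN
    exact ⟨this.1, this.2.2⟩

theorem fittingHallOf_coprime [Finite G] (M : Subgroup G) :
    (Nat.card ↥(Cfsg.fittingHallOf M)).Coprime ((Cfsg.fittingHallOf M).relIndex M) := by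
  have h1 : (Cfsg.fittingHallOf M).subgroupOf M = Cfsg.fittingHall M :=
    Subgroup.comap_map_eq_self_of_injective M.subtype_injective _
  have h2 : Nat.card ↥(Cfsg.fittingHallOf M) = Nat.card ↥(Cfsg.fittingHall M) :=
    Subgroup.card_map_of_injective M.subtype_injective
  rw [Subgroup.relIndex, h1, h2]
  exact fittingHall_coprime M

theorem fittingHallOf_le_fittingOf [Finite G] {M W₁ U W₂ : Subgroup G} (hP : Cfsg.IsTypePWith M W₁ U W₂) :
    Cfsg.fittingHallOf M ≤ Cfsg.fittingOf M := le_sup_left.trans hP.fitting_eq.le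

/-- Elements of coprime order in a nilpotent subgroup commute. -/
theorem commute_of_coprime_orderOf [Finite G] {F : Subgroup G} (hF : Group.IsNilpotent F) {x y : G}
    (hx : x ∈ F) (hy : y ∈ F) (h : (orderOf x).Coprime (orderOf y)) : x * y = y * x := by
  obtain ⟨e⟩ := (Group.isNilpotent_of_finite_tfae.out 0 4).1 hF
  have key : e.symm ⟨x, hx⟩ * e.symm ⟨y, hy⟩ = e.symm ⟨y, hy⟩ * e.symm ⟨x, hx⟩ := by
    funext r P
    rcases r with ⟨r, hr⟩
    haveI : Fact r.Prime := ⟨Nat.prime_of_mem_primeFactors hr⟩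
    have ho : ∀ z (hz : z ∈ F), orderOf (e.symm ⟨z, hz⟩ ⟨r, hr⟩ P) ∣ orderOf z := fun z hz => by
      refine orderOf_dvd_of_pow_eq_one ?_
      have h1 := congrFun (congrFun (congrArg e.symm (show (⟨z, hz⟩ : F) ^ orderOf z = 1 from
        Subtype.ext (pow_orderOf_eq_one z))) ⟨r, hr⟩) P
      rwa [map_pow, map_one, Pi.pow_apply, Pi.pow_apply, Pi.one_apply, Pi.one_apply] at h1
    obtain ⟨a, ha⟩ := IsPGroup.iff_orderOf.1 P.isPGroup' (e.symm ⟨x, hx⟩ ⟨r, hr⟩ P)
    obtain ⟨b, hb⟩ := IsPGroup.iff_orderOf.1 P.isPGroup' (e.symm ⟨y, hy⟩ ⟨r, hr⟩ P)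
    have hcop := (h.coprime_dvd_left (ho x hx)).coprime_dvd_right (ho y hy)
    rw [ha, hb] at hcop
    simp only [Pi.mul_apply]
    rcases Nat.eq_zero_or_pos a with rfl | ha0
    · rw [pow_zero, orderOf_eq_one_iff] at ha
      rw [ha, one_mul, mul_one]
    rcases Nat.eq_zero_or_pos b with rfl | hb0
    · rw [pow_zero, orderOf_eq_one_iff] at hb
      rw [hb, one_mul, mul_one]
    exact absurd hcop (Nat.Prime.not_coprime_iff_dvd.2 ⟨r, Fact.out, dvd_pow_self r ha0.ne', dvd_pow_self r hb0.ne'⟩)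
  have := congrArg e key
  rw [map_mul, map_mul, e.apply_symm_apply, e.apply_symm_apply] at this
  exact congrArg Subtype.val this

/-- Elements of `U` in `F(M)` centralize `M_F`. -/
theorem U_inf_fitting_le [Finite G] {M W₁ U W₂ : Subgroup G} (hP : Cfsg.IsTypePWith M W₁ U W₂) :
    U ⊓ Cfsg.fittingOf M ≤ Subgroup.centralizer (Cfsg.fittingHallOf M : Set G) := by
  intro u hu
  obtain ⟨hHM, hUM, hd, hprod⟩ := hP.U_compl
  have hM' : ⁅M, M⁆ ≤ M := Subgroup.commutator_le.2 fun a ha b hb =>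
    mul_mem (mul_mem (mul_mem ha hb) (inv_mem ha)) (inv_mem hb)
  have hF : Group.IsNilpotent ↥(Cfsg.fittingOf M) := by
    haveI := Cfsg.Agent.Grp.fittingSubgroup_isNilpotent (G := M)
    exact Group.nilpotent_of_mulEquiv ((Cfsg.fittingSubgroup M).equivMapOfInjective M.subtype M.subtype_injective)
  refine Subgroup.mem_centralizer_iff.2 fun h hh =>
    commute_of_coprime_orderOf hF (fittingHallOf_le_fittingOf hP hh) hu.2 ?_
  have h1 : (Nat.card U) ∣ (Cfsg.fittingHallOf M).relIndex M := by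
    have hle : (Cfsg.fittingHallOf M) ≤ M := hHM.trans hM'
    have h2 : (Cfsg.fittingHallOf M).relIndex U ∣ (Cfsg.fittingHallOf M).relIndex M := by
      haveI : ((Cfsg.fittingHallOf M).subgroupOf M).Normal := by
        rw [show (Cfsg.fittingHallOf M).subgroupOf M = Cfsg.fittingHall M from
          Subgroup.comap_map_eq_self_of_injective M.subtype_injective _]
        infer_instance
      have := Subgroup.relIndex_dvd_index_of_normal ((Cfsg.fittingHallOf M).subgroupOf M) (U.subgroupOf M)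
      rwa [Subgroup.relIndex_subgroupOf (hUM.trans hM')] at this
    rwa [← Subgroup.inf_relIndex_right, hd, Subgroup.relIndex_bot_left] at h2
  exact ((fittingHallOf_coprime M).coprime_dvd_left (Subgroup.orderOf_dvd_natCard _ hh)).coprime_dvd_right
    ((Subgroup.orderOf_dvd_natCard _ hu.1).trans h1)

end Cfsg.Agent.Transfer.TypeP
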