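import Mathlib

/-!
Normal bases for groups acting on finite-dimensional commutative algebras without inertia,
and the resulting freeness of semilinear modules.
-/

set_option autoImplicit false

namespace Cfsg.Agent.Transfer

open Matrix

theorem exists_det_smul_ne_zero_field {L : Type*} [Field L] {Γ : Type*} [Group Γ] [Fintype Γ] [DecidableEq Γ]
    [MulSemiringAction Γ L] [FaithfulSMul Γ L] :
    ∃ θ : L, (Matrix.of fun g h : Γ => (g * h) • θ).det ≠ 0 := by
  let K := FixedPoints.subfield Γ L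
  haveI : IsGalois K L := ⟨⟩
  let e := FixedPoints.toAlgAutMulEquiv Γ L
  let b := IsGalois.normalBasis K L
  refine ⟨b 1, fun h0 => ?_⟩
  obtain ⟨c, hc, hc0⟩ := exists_vecMul_eq_zero_iff.2 h0
  let F : L →ₗ[K] L := ∑ g : Γ, c g • ((e g).toLinearMap)
  have hF : F = 0 := b.ext fun σ => by
    have h1 := congrFun hc0 (e.symm σ)
    simp only [Matrix.vecMul, dotProduct, Matrix.of_apply, Pi.zero_apply] at h1
    rw [LinearMap.zero_apply, ← h1]
    simp only [F, LinearMap.coe_sum, Finset.sum_apply, LinearMap.smul_apply, AlgEquiv.toLinearMap_apply, smul_eq_mul]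
    refine Finset.sum_congr rfl fun g _ => ?_
    congr 1
    rw [mul_smul]
    have hσ : b σ = σ (b 1) := IsGalois.normalBasis_apply σ
    rw [hσ]
    conv_lhs => rw [← e.apply_symm_apply σ]
    rfl
  have hinj : Function.Injective (fun g : Γ => ((MulSemiringAction.toRingHom Γ L g).toMonoidHom : L →* L)) :=
    fun g g' h => eq_of_smul_eq_smul fun x : L => DFunLike.congr_fun h x
  have hli := (linearIndependent_monoidHom L L).comp _ hinj
  refine hc (funext (Fintype.linearIndependent_iff.1 hli c (funext fun x => ?_)))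
  have := LinearMap.congr_fun hF x
  simp only [F, LinearMap.coe_sum, Finset.sum_apply, LinearMap.smul_apply, LinearMap.zero_apply] at this
  rw [Finset.sum_apply]
  exact this

variable {R : Type*} [CommRing R] {H : Type*} [Group H] [Fintype H] [DecidableEq H] [MulSemiringAction H R]

open scoped Classical in
/-- At one maximal ideal. -/
theorem exists_local_det (m : Ideal R) [m.IsMaximal]
    (hin : ∀ h : H, (∀ x : R, h • x - x ∈ m) → h = 1) :
    ∃ θ : R, ∀ c : H → R,
      (∀ h : H, (∀ x ∈ m, h⁻¹ • x ∈ m) →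
        ∑ g ∈ Finset.univ.filter (fun g : H => ∀ x ∈ m, g⁻¹ • x ∈ m), c g * (g * h) • θ ∈ m) →
      ∀ g : H, (∀ x ∈ m, g⁻¹ • x ∈ m) → c g ∈ m := by
  classical
  let S : Submonoid H :=
    { carrier := {g | ∀ x ∈ m, g • x ∈ m}
      one_mem' := fun x hx => by rwa [one_smul]
      mul_mem' := fun {a b} ha hb x hx => by rw [mul_smul]; exact ha _ (hb x hx) }
  have hinv : ∀ g ∈ S, g⁻¹ ∈ S := fun g hg => by
    obtain ⟨k, hk⟩ : g⁻¹ ∈ Submonoid.powers g := by
      rw [(isOfFinOrder_of_finite g).mem_powers_iff_mem_zpowers]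
      exact inv_mem (Subgroup.mem_zpowers g)
    exact hk ▸ pow_mem hg k
  let Γ : Subgroup H := { S with inv_mem' := fun {g} hg => hinv g hg }
  letI : Field (R ⧸ m) := Ideal.Quotient.field m
  let act (g : Γ) : R ⧸ m →+* R ⧸ m :=
    Ideal.quotientMap m (MulSemiringAction.toRingHom H R (g : H)) fun x hx => g.2 x hx
  letI : MulSemiringAction Γ (R ⧸ m) :=
    { smul := fun g x => act g x
      one_smul := fun x => by
        obtain ⟨x, rfl⟩ := Ideal.Quotient.mk_surjective x
        show Ideal.Quotient.mk m ((1 : H) • x) = _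
        rw [one_smul]
      mul_smul := fun g g' x => by
        obtain ⟨x, rfl⟩ := Ideal.Quotient.mk_surjective x
        show Ideal.Quotient.mk m (((g : H) * g') • x) = Ideal.Quotient.mk m ((g : H) • (g' : H) • x)
        rw [mul_smul]
      smul_zero := fun g => map_zero (act g)
      smul_add := fun g => map_add (act g)
      smul_one := fun g => map_one (act g)
      smul_mul := fun g => map_mul (act g) }
  haveI : FaithfulSMul Γ (R ⧸ m) := ⟨fun {g g'} h => by
    have : (g'⁻¹ * g : Γ) = 1 := Subtype.ext (hin _ fun x => by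
      have h1 := h (Ideal.Quotient.mk m x)
      have h2 := congrArg (g'⁻¹ • ·) h1
      simp only [← mul_smul, inv_mul_cancel, one_smul] at h2
      exact Ideal.Quotient.eq.1 h2)
    exact (inv_mul_eq_one.1 this).symm⟩
  obtain ⟨θ', hθ'⟩ := exists_det_smul_ne_zero_field (L := R ⧸ m) (Γ := Γ)
  obtain ⟨θ, rfl⟩ := Ideal.Quotient.mk_surjective θ'
  refine ⟨θ, fun c hc g hg => ?_⟩
  have hmem : ∀ g : H, g ∈ Γ ↔ ∀ x ∈ m, g⁻¹ • x ∈ m := fun g => by
    rw [← Γ.inv_mem_iff]; rfl
  by_contra hcg
  refine hθ' (exists_vecMul_eq_zero_iff.1 ⟨fun k : Γ => Ideal.Quotient.mk m (c k), fun h0 => hcg ?_, ?_⟩)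
  · exact Ideal.Quotient.eq_zero_iff_mem.1 (congrFun h0 ⟨g, (hmem g).2 hg⟩)
  · funext h
    have h1 := Ideal.Quotient.eq_zero_iff_mem.2 (hc h ((hmem h).1 h.2))
    rw [map_sum, Finset.sum_subtype (p := fun g => g ∈ Γ) _ (fun g => by simp [hmem])
      (fun k => Ideal.Quotient.mk m (c k * (k * (h : H)) • θ))] at h1
    exact (Finset.sum_congr rfl fun k _ => (map_mul (Ideal.Quotient.mk m) _ _).symm).trans h1

/-- A normal basis element of a semilocal ring with a group action without inertia. -/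
theorem exists_isUnit_det_smul [Finite (MaximalSpectrum R)]
    (hin : ∀ (m : Ideal R), m.IsMaximal → ∀ h : H, (∀ x : R, h • x - x ∈ m) → h = 1) :
    ∃ θ : R, IsUnit (Matrix.of fun g h : H => (g * h) • θ).det := by
  classical
  let act (g : H) (M : MaximalSpectrum R) : MaximalSpectrum R :=
    ⟨M.asIdeal.comap (MulSemiringAction.toRingHom H R g⁻¹),
      haveI := M.isMaximal; Ideal.comap_isMaximal_of_surjective _ (MulAction.surjective (g⁻¹))⟩
  have hact : ∀ g M (x : R), x ∈ (act g M).asIdeal ↔ g⁻¹ • x ∈ M.asIdeal := fun g M x => Iff.rfl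
  have hle : ∀ M N : MaximalSpectrum R, (∀ x ∈ M.asIdeal, x ∈ N.asIdeal) → M = N := fun M N h =>
    MaximalSpectrum.ext (M.isMaximal.eq_of_le N.isMaximal.ne_top h)
  letI : MulAction H (MaximalSpectrum R) :=
    { smul := act
      one_smul := fun M => MaximalSpectrum.ext (Ideal.ext fun x => by
        show (1 : H)⁻¹ • x ∈ M.asIdeal ↔ _
        rw [inv_one, one_smul])
      mul_smul := fun g g' M => MaximalSpectrum.ext (Ideal.ext fun x => by
        show (g * g')⁻¹ • x ∈ M.asIdeal ↔ g'⁻¹ • g⁻¹ • x ∈ M.asIdeal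
        rw [_root_.mul_inv_rev, mul_smul]) }
  let rep : MaximalSpectrum R → MaximalSpectrum R := fun M =>
    (Quotient.mk (MulAction.orbitRel H (MaximalSpectrum R)) M).out
  choose θl hθl using fun M : MaximalSpectrum R =>
    haveI := M.isMaximal; exists_local_det M.asIdeal (hin _ M.isMaximal)
  obtain ⟨θ, hθ⟩ := Ideal.exists_forall_sub_mem_ideal (I := fun M : MaximalSpectrum R => M.asIdeal)
    (fun M N hne => Ideal.isCoprime_iff_sup_eq.2 (M.isMaximal.coprime_of_ne N.isMaximal (fun h => hne (MaximalSpectrum.ext h))))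
    (fun M => if rep M = M then θl M else 0)
  refine ⟨θ, not_not.1 fun hu => ?_⟩
  obtain ⟨I, hI, hdet⟩ := exists_max_ideal_of_mem_nonunits hu
  let M : MaximalSpectrum R := ⟨I, hI⟩
  haveI := hI
  letI : Field (R ⧸ I) := Ideal.Quotient.field I
  have hz : ((Matrix.of fun g h : H => (g * h) • θ).map (Ideal.Quotient.mk I)).det = 0 := by
    rw [← RingHom.mapMatrix_apply, ← RingHom.map_det]
    exact Ideal.Quotient.eq_zero_iff_mem.2 hdet
  obtain ⟨cbar, hc, hc0⟩ := exists_vecMul_eq_zero_iff.2 hz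
  choose c hc' using fun g => Ideal.Quotient.mk_surjective (I := I) (cbar g)
  refine hc (funext fun g₁ => ?_)
  rw [← hc', Pi.zero_apply, Ideal.Quotient.eq_zero_iff_mem]
  -- move to the representative
  let m := rep M
  have hrm : rep m = m := by simp only [m, rep, Quotient.out_eq]
  obtain ⟨y, hy⟩ : m ∈ MulAction.orbit H M :=
    MulAction.orbitRel_apply.1 (Quotient.mk_out (s := MulAction.orbitRel H (MaximalSpectrum R)) M)
  have hmM : ∀ x : R, x ∈ m.asIdeal ↔ y⁻¹ • x ∈ I := fun x => by rw [← hy]; rfl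
  have key := hθl m (fun k => y • c (y⁻¹ * k * y * g₁)) (fun h₀ hh₀ => ?_) 1 (fun x hx => by rwa [inv_one, one_smul])
  · rw [hmM, inv_smul_smul, mul_one, inv_mul_cancel, one_mul] at key
    exact key
  have h1 := congrFun hc0 (g₁⁻¹ * y⁻¹ * h₀)
  simp only [Matrix.vecMul, dotProduct, Matrix.map_apply, Matrix.of_apply, Pi.zero_apply, ← hc', ← map_mul, ← map_sum] at h1
  rw [Ideal.Quotient.eq_zero_iff_mem] at h1
  have h2 : y • ∑ g : H, c g * (g * (g₁⁻¹ * y⁻¹ * h₀)) • θ ∈ m.asIdeal := by rw [hmM, inv_smul_smul]; exact h1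
  rw [Finset.smul_sum, ← Equiv.sum_comp ((MulAut.conj y⁻¹).toEquiv.trans (Equiv.mulRight g₁))] at h2
  rw [← Finset.sum_filter_add_sum_filter_not _ (fun k : H => ∀ x ∈ m.asIdeal, k⁻¹ • x ∈ m.asIdeal),
    Submodule.add_mem_iff_left] at h2
  · have h3 : ∀ k ∈ Finset.univ.filter (fun k : H => ∀ x ∈ m.asIdeal, k⁻¹ • x ∈ m.asIdeal),
        (y • c (y⁻¹ * k * y * g₁)) * (k * h₀) • θ - (y • c (y⁻¹ * k * y * g₁)) * (k * h₀) • θl m ∈ m.asIdeal := by
      intro k hk
      rw [← mul_sub, ← smul_sub]
      refine Ideal.mul_mem_left _ _ ?_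
      have hd : θ - θl m ∈ m.asIdeal := by simpa only [if_pos hrm] using hθ m
      have he : (k * h₀) • m = m := (hle m ((k * h₀) • m) fun x hx => by
        show (k * h₀)⁻¹ • x ∈ m.asIdeal
        rw [_root_.mul_inv_rev, mul_smul]
        exact hh₀ _ ((Finset.mem_filter.1 hk).2 x hx)).symm
      rw [← congrArg MaximalSpectrum.asIdeal he]
      show (k * h₀)⁻¹ • (k * h₀) • _ ∈ m.asIdeal
      rwa [inv_smul_smul]
    have h4 := Submodule.sum_mem _ h3
    rw [Finset.sum_sub_distrib] at h4
    refine (Submodule.sub_mem_iff_right _ ?_).1 h4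
    convert h2 using 1
    refine Finset.sum_congr rfl fun k _ => ?_
    simp only [Equiv.trans_apply, MulEquiv.toEquiv_eq_coe, EquivLike.coe_coe, MulAut.conj_apply, inv_inv,
      Equiv.coe_mulRight, smul_mul', ← mul_smul]
    congr 2
    group
  · refine Submodule.sum_mem _ fun k hk => ?_
    have hne : (k * h₀) • m ≠ m := by
      intro he
      apply (Finset.mem_filter.1 hk).2
      intro x hx
      have e1 : h₀ • m = m := (hle m (h₀ • m) fun x hx => hh₀ x hx).symm
      rw [mul_smul, e1] at he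
      show x ∈ (k • m).asIdeal
      rw [he]; exact hx
    have hne' : (k * h₀)⁻¹ • m ≠ m := fun he => hne (by rw [inv_smul_eq_iff] at he; exact he.symm)
    have hd : θ ∈ ((k * h₀)⁻¹ • m).asIdeal := by
      have h5 := hθ ((k * h₀)⁻¹ • m)
      have hr : rep ((k * h₀)⁻¹ • m) = m := by
        refine Eq.trans (congrArg Quotient.out (Quotient.sound ?_)) hrm
        exact MulAction.mem_orbit m _
      rwa [if_neg (by rw [hr]; exact Ne.symm hne'), sub_zero] at h5
    have h6 : (k * h₀) • θ ∈ m.asIdeal := by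
      have := (hact (k * h₀)⁻¹ m θ).1 hd
      rwa [inv_inv] at this
    simp only [Equiv.trans_apply, MulEquiv.toEquiv_eq_coe, EquivLike.coe_coe, MulAut.conj_apply, inv_inv,
      Equiv.coe_mulRight, smul_mul', ← mul_smul]
    refine Ideal.mul_mem_left _ _ ?_
    rw [show y * (y⁻¹ * k * y * g₁ * (g₁⁻¹ * y⁻¹ * h₀)) = k * h₀ by group]
    exact h6

/-- Semilinear modules over such rings are free over the group. -/
theorem exists_unique_decomposition {V : Type*} [AddCommGroup V] [Module R V] [DistribMulAction H V]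
    (hsemi : ∀ (h : H) (r : R) (v : V), h • (r • v) = (h • r) • (h • v))
    {θ : R} (hθ : IsUnit (Matrix.of fun g h : H => (g * h) • θ).det) (v : V) :
    ∃! u : H → V, (∀ g h : H, g • u h = u h) ∧ ∑ h : H, (h • θ) • u h = v := by
  set A : Matrix H H R := Matrix.of fun g h => (g * h) • θ
  have hAB := Matrix.mul_nonsing_inv A hθ
  have hBA := Matrix.nonsing_inv_mul A hθ
  set B := A⁻¹
  have uniq : ∀ (w u : H → V), (∀ g, ∑ h, A g h • u h = w g) → ∀ h, u h = ∑ g, B h g • w g := by
    intro w u hu h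
    simp only [← hu, Finset.smul_sum, smul_smul]
    rw [Finset.sum_comm]
    simp only [← Finset.sum_smul]
    have : ∀ j, ∑ g, B h g * A g j = (1 : Matrix H H R) h j := fun j => by rw [← hBA, Matrix.mul_apply]
    simp only [this, Matrix.one_apply, ite_smul, one_smul, zero_smul, Finset.sum_ite_eq, Finset.mem_univ, if_true]
  have sol : ∀ g, ∑ h, A g h • (∑ g', B h g' • g' • v) = g • v := by
    intro g
    simp only [Finset.smul_sum, smul_smul]
    rw [Finset.sum_comm]
    simp only [← Finset.sum_smul]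
    have : ∀ j, ∑ h, A g h * B h j = (1 : Matrix H H R) g j := fun j => by rw [← hAB, Matrix.mul_apply]
    simp only [this, Matrix.one_apply, ite_smul, one_smul, zero_smul, Finset.sum_ite_eq, Finset.mem_univ, if_true]
  have fixd : ∀ k h : H, k • (∑ g' : H, B h g' • g' • v) = ∑ g' : H, B h g' • g' • v := by
    intro k h
    refine uniq (fun g : H => g • v) (fun h : H => k • ∑ g' : H, B h g' • g' • v) (fun g => ?_) h
    have e := congrArg (k • ·) (sol (k⁻¹ * g))
    simp only [Finset.smul_sum (r := k) (s := Finset.univ) (f := fun h => A (k⁻¹ * g) h • (∑ g', B h g' • g' • v))] at e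
    rw [smul_smul, mul_inv_cancel_left] at e
    rw [← e]
    refine Finset.sum_congr rfl fun h _ => ?_
    rw [hsemi]
    congr 1
    simp only [A, Matrix.of_apply, smul_smul]
    congr 1; group
  refine ⟨fun h : H => ∑ g' : H, B h g' • g' • v, ⟨fun g h => fixd g h, ?_⟩, fun u hu => funext fun h => uniq (fun g : H => g • v) u (fun g => ?_) h⟩
  · simpa [A] using sol 1
  · rw [← hu.2, Finset.smul_sum]
    refine Finset.sum_congr rfl fun h _ => ?_
    rw [hsemi, hu.1, ← mul_smul]
    rfl

end Cfsg.Agent.Transfer
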