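import Mathlib
import Cfsg.Agent.Lib.Transfer.FreeAction

/-!
A solvable group of invertible order acting without fixed points, normalised by a
fixed-point-free group `H`, makes a module free over `H`.
-/

set_option autoImplicit false
set_option maxHeartbeats 1000000

namespace Cfsg.Agent.Transfer

open scoped commutatorElement

variable {k A : Type*} [Field k] [Group A]

/-- `V` is free over `H`. -/
def IsFreeOver {V : Type*} [AddCommGroup V] [Module k V] (ρ : Representation k A V) (H : Subgroup A) [Fintype H] : Prop :=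
  ∃ W : Submodule k V, Function.Bijective (fun w : H → W => ∑ h : H, ρ (h : A) (w h : V))

/-- `H` acts on `N` without fixed points. -/
def ActsFPF (H N : Subgroup A) : Prop := ∀ h ∈ H, h ≠ 1 → ∀ n ∈ N, h * n = n * h → n = 1

theorem ActsFPF.exists_eq {H N : Subgroup A} [N.Normal] [Finite N] (hfpf : ActsFPF H N) {h : A} (hh : h ∈ H) (h1 : h ≠ 1)
    {z : A} (hz : z ∈ N) : ∃ n ∈ N, z = n⁻¹ * (h * n * h⁻¹) := by
  let f : N → N := fun n => ⟨(n : A)⁻¹ * (h * n * h⁻¹), mul_mem (inv_mem n.2) (‹N.Normal›.conj_mem _ n.2 h)⟩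
  have hf : Function.Injective f := fun a b e => by
    have e' : (a : A)⁻¹ * (h * a * h⁻¹) = (b : A)⁻¹ * (h * b * h⁻¹) := congrArg Subtype.val e
    have := hfpf h hh h1 ((b : A) * (a : A)⁻¹) (mul_mem b.2 (inv_mem a.2)) (by
      calc h * ((b : A) * (a : A)⁻¹) = (b : A) * ((b : A)⁻¹ * (h * b * h⁻¹)) * h * (a : A)⁻¹ := by group
        _ = (b : A) * ((a : A)⁻¹ * (h * a * h⁻¹)) * h * (a : A)⁻¹ := by rw [e']
        _ = _ := by group)
    exact Subtype.ext (mul_inv_eq_one.1 this).symm
  obtain ⟨n, hn⟩ := (Finite.injective_iff_surjective.1 hf) ⟨z, hz⟩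
  exact ⟨n, n.2, (congrArg Subtype.val hn).symm⟩

theorem isFreeOver_of_commute {V : Type*} [AddCommGroup V] [Module k V] [FiniteDimensional k V] (ρ : Representation k A V)
    (H N : Subgroup A) [N.Normal] [Fintype H] [Fintype N] (hfpf : ActsFPF H N)
    (hcomm : ∀ a ∈ N, ∀ b ∈ N, ρ a * ρ b = ρ b * ρ a) (hcard : ((Fintype.card N : ℕ) : k) ≠ 0)
    (hsum : ∀ v : V, ∑ n : N, ρ (n : A) v = 0) : IsFreeOver ρ H := by
  classical
  let S : Set (Module.End k V) := ρ '' (N : Set A)
  haveI : IsMulCommutative (Algebra.adjoin k S) := Algebra.isMulCommutative_adjoin k (by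
    rintro _ ⟨a, ha, rfl⟩ _ ⟨b, hb, rfl⟩; exact hcomm a ha b hb)
  let R := Algebra.adjoin k S
  letI : CommRing R := open scoped IsMulCommutative in inferInstance
  haveI : IsArtinianRing R := IsArtinianRing.of_finite k R
  have hinvt : ∀ h : A, ρ h * ρ h⁻¹ = 1 := fun h => by rw [← map_mul, mul_inv_cancel, map_one]
  have hinvt' : ∀ h : A, ρ h⁻¹ * ρ h = 1 := fun h => by rw [← map_mul, inv_mul_cancel, map_one]
  have hconj : ∀ (h : A) (x : Module.End k V), x ∈ R → ρ h * x * ρ h⁻¹ ∈ R := by
    intro h x hx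
    induction hx using Algebra.adjoin_induction with
    | mem x hx =>
      obtain ⟨n, hn, rfl⟩ := hx
      rw [← map_mul, ← map_mul]
      exact Algebra.subset_adjoin ⟨_, ‹N.Normal›.conj_mem n hn h, rfl⟩
    | algebraMap r =>
      rw [← Algebra.commutes, mul_assoc, hinvt, mul_one]
      exact R.algebraMap_mem r
    | add x y _ _ hx hy => rw [mul_add, add_mul]; exact add_mem hx hy
    | mul x y _ _ hx hy =>
      have : ρ h * (x * y) * ρ h⁻¹ = (ρ h * x * ρ h⁻¹) * (ρ h * y * ρ h⁻¹) := by
        calc ρ h * (x * y) * ρ h⁻¹ = ρ h * x * (ρ h⁻¹ * ρ h) * y * ρ h⁻¹ := by rw [hinvt', mul_one, ← mul_assoc (ρ h) x y]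
          _ = _ := by simp only [mul_assoc]
      rw [this]; exact mul_mem hx hy
  letI : MulSemiringAction H R :=
    { smul := fun h x => ⟨ρ (h : A) * x * ρ (h : A)⁻¹, hconj h x x.2⟩
      one_smul := fun x => Subtype.ext (by show ρ ((1 : H) : A) * _ * ρ ((1 : H) : A)⁻¹ = _; simp)
      mul_smul := fun g g' x => Subtype.ext (by
        show ρ ((g : A) * g') * _ * ρ ((g : A) * g')⁻¹ = ρ (g : A) * (ρ (g' : A) * _ * ρ (g' : A)⁻¹) * ρ (g : A)⁻¹
        rw [map_mul, _root_.mul_inv_rev, map_mul]
        simp only [mul_assoc])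
      smul_zero := fun g => Subtype.ext (by show ρ (g : A) * 0 * _ = (0 : Module.End k V); rw [mul_zero, zero_mul])
      smul_add := fun g x y => Subtype.ext (by show ρ (g : A) * ((x : Module.End k V) + y) * _ = ρ (g : A) * (x : Module.End k V) * _ + ρ (g : A) * (y : Module.End k V) * _; rw [mul_add, add_mul])
      smul_one := fun g => Subtype.ext (by show ρ (g : A) * 1 * ρ (g : A)⁻¹ = 1; rw [mul_one, hinvt])
      smul_mul := fun g x y => Subtype.ext (by
        show ρ (g : A) * ((x : Module.End k V) * y) * ρ (g : A)⁻¹ =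
          (ρ (g : A) * x * ρ (g : A)⁻¹) * (ρ (g : A) * y * ρ (g : A)⁻¹)
        calc ρ (g : A) * ((x : Module.End k V) * y) * ρ (g : A)⁻¹
            = ρ (g : A) * x * (ρ (g : A)⁻¹ * ρ (g : A)) * y * ρ (g : A)⁻¹ := by rw [hinvt', mul_one, ← mul_assoc (ρ (g : A)) (x : Module.End k V) (y : Module.End k V)]
          _ = _ := by simp only [mul_assoc]) }
  letI : DistribMulAction H V :=
    { smul := fun h v => ρ (h : A) v
      one_smul := fun v => by show ρ ((1 : H) : A) v = v; simp
      mul_smul := fun g g' v => by show ρ ((g : A) * g') v = ρ (g : A) (ρ (g' : A) v); rw [map_mul]; rfl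
      smul_zero := fun g => map_zero (ρ (g : A))
      smul_add := fun g v w => map_add (ρ (g : A)) v w }
  letI : Module R V := Module.compHom V R.val.toRingHom
  have hsemi : ∀ (h : H) (r : R) (v : V), h • (r • v) = (h • r) • (h • v) := fun h r v => by
    show ρ (h : A) ((r : Module.End k V) v) = (ρ (h : A) * (r : Module.End k V) * ρ (h : A)⁻¹) (ρ (h : A) v)
    simp only [Module.End.mul_apply]
    rw [← Module.End.mul_apply (ρ (h : A)⁻¹) (ρ (h : A)), hinvt', Module.End.one_apply]
  let el : N → R := fun n => ⟨ρ (n : A), Algebra.subset_adjoin ⟨_, n.2, rfl⟩⟩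
  have hin : ∀ (m : Ideal R), m.IsMaximal → ∀ h : H, (∀ x : R, h • x - x ∈ m) → h = 1 := by
    intro m hm h hh
    by_contra hne
    have h1 : ∀ z : N, el z - 1 ∈ m := fun z => by
      obtain ⟨n, hn, e⟩ := hfpf.exists_eq h.2 (fun e => hne (Subtype.ext e)) z.2
      have e2 : el z - 1 = el ⟨n⁻¹, inv_mem hn⟩ * (h • el ⟨n, hn⟩ - el ⟨n, hn⟩) := Subtype.ext (by
        show ρ (z : A) - 1 = ρ n⁻¹ * (ρ (h : A) * ρ n * ρ (h : A)⁻¹ - ρ n)
        rw [mul_sub, hinvt', e, map_mul, map_mul, map_mul])
      rw [e2]; exact m.mul_mem_left _ (hh _)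
    have h2 : (∑ z : N, el z) - (Fintype.card N : R) ∈ m := by
      have := Submodule.sum_mem m (fun z (_ : z ∈ Finset.univ) => h1 z)
      rwa [Finset.sum_sub_distrib, Finset.sum_const, Finset.card_univ, nsmul_one] at this
    have h3 : (∑ z : N, el z) = 0 := Subtype.ext (LinearMap.ext fun v => by
      simp only [AddSubmonoidClass.coe_finsetSum, LinearMap.coe_sum, Finset.sum_apply]
      exact hsum v)
    rw [h3, zero_sub, Ideal.neg_mem_iff, ← map_natCast (algebraMap k R)] at h2
    exact hm.ne_top (Ideal.eq_top_of_isUnit_mem _ h2 ((IsUnit.mk0 _ hcard).map _))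
  obtain ⟨θ, hθ⟩ := exists_isUnit_det_smul (R := R) (H := H) hin
  have key := exists_unique_decomposition hsemi hθ
  let fx : Submodule k V :=
    { carrier := {v | ∀ h : H, ρ (h : A) v = v}
      add_mem' := fun {a b} ha hb h => by rw [map_add, ha h, hb h]
      zero_mem' := fun h => map_zero _
      smul_mem' := fun c v hv h => by rw [map_smul, hv h] }
  refine ⟨fx.map (θ : Module.End k V), ?_, ?_⟩
  · intro w w' e
    have hw : ∀ x : H → ↥(fx.map (θ : Module.End k V)), ∃ u : H → V, (∀ g h : H, g • u h = u h) ∧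
        (∀ h, (x h : V) = θ • u h) ∧ ∑ h : H, ρ (h : A) (x h : V) = ∑ h : H, (h • θ) • u h := by
      intro x
      choose u hu hu' using fun h => Submodule.mem_map.1 (x h).2
      refine ⟨u, fun g h => hu h g, fun h => (hu' h).symm, Finset.sum_congr rfl fun h _ => ?_⟩
      rw [← hu' h]
      show h • (θ • u h) = _
      rw [hsemi, show h • u h = u h from hu h h]
    obtain ⟨u, hu1, hu2, hu3⟩ := hw w
    obtain ⟨u', hu1', hu2', hu3'⟩ := hw w'
    have := (key (∑ h : H, ρ (h : A) (w h : V))).unique ⟨hu1, hu3.symm⟩ ⟨hu1', hu3'.symm.trans e.symm⟩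
    funext h
    exact Subtype.ext (by rw [hu2, hu2', this])
  · intro v
    obtain ⟨u, ⟨hu1, hu2⟩, -⟩ := key v
    refine ⟨fun h => ⟨θ • u h, Submodule.mem_map.2 ⟨u h, fun g => hu1 g h, rfl⟩⟩, ?_⟩
    refine (Finset.sum_congr rfl fun h _ => ?_).trans hu2
    show h • (θ • u h) = _
    rw [hsemi, hu1]
    rfl

theorem isFreeOver_of_extension {V : Type*} [AddCommGroup V] [Module k V] (ρ : Representation k A V) (H : Subgroup A)
    [Fintype H] (U : Submodule k V) (hU : ∀ a, U ≤ U.comap (ρ a)) (h1 : IsFreeOver (ρ.subrepresentation U hU) H)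
    (h2 : IsFreeOver (ρ.quotient U hU) H) : IsFreeOver ρ H := by
  classical
  obtain ⟨W₁, i₁, s₁⟩ := h1
  obtain ⟨W₂, i₂, s₂⟩ := h2
  obtain ⟨s, hs⟩ := U.mkQ.exists_rightInverse_of_surjective (LinearMap.range_eq_top.2 U.mkQ_surjective)
  have hsv : ∀ x, U.mkQ (s x) = x := fun x => LinearMap.congr_fun hs x
  refine ⟨(W₁.map U.subtype) ⊔ (W₂.map s), ?_, ?_⟩
  · have dec : ∀ x : ↥((W₁.map U.subtype) ⊔ (W₂.map s)), ∃ (a : W₁) (b : W₂), (x : V) = ((a : U) : V) + s b := by
      intro x
      obtain ⟨a, ha, b, hb, e⟩ := Submodule.mem_sup.1 x.2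
      obtain ⟨a', ha', rfl⟩ := Submodule.mem_map.1 ha
      obtain ⟨b', hb', rfl⟩ := Submodule.mem_map.1 hb
      exact ⟨⟨a', ha'⟩, ⟨b', hb'⟩, e.symm⟩
    intro w w' e
    choose a b hab using fun h => dec (w h)
    choose a' b' hab' using fun h => dec (w' h)
    simp only [hab, hab', map_add, Finset.sum_add_distrib] at e
    have hmk : ∀ (h : A) (x : V ⧸ U), U.mkQ (ρ h (s x)) = ρ.quotient U hU h x := fun h x => by
      conv_rhs => rw [← hsv x]
      rfl
    have h0 : ∀ (h : A) (x : U), U.mkQ (ρ h (x : V)) = 0 := fun h x => (Submodule.Quotient.mk_eq_zero _).2 (hU h x.2)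
    have eb : b = b' := i₂ (by
      have := congrArg U.mkQ e
      simpa only [map_add, map_sum, h0, Finset.sum_const_zero, zero_add, hmk] using this)
    rw [eb, add_left_inj] at e
    have ea : a = a' := i₁ (Subtype.ext (by
      simp only [AddSubmonoidClass.coe_finsetSum]
      exact e))
    funext h
    exact Subtype.ext (by rw [hab, hab', ea, eb])
  · intro v
    obtain ⟨b, hb⟩ := s₂ (U.mkQ v)
    have hvU : v - ∑ h : H, ρ (h : A) (s (b h)) ∈ U := by
      rw [← Submodule.Quotient.mk_eq_zero, ← Submodule.mkQ_apply, map_sub, map_sum, sub_eq_zero, ← hb]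
      refine Finset.sum_congr rfl fun h _ => ?_
      conv_lhs => rw [← hsv (b h)]
      rfl
    obtain ⟨a, ha⟩ := s₁ ⟨_, hvU⟩
    refine ⟨fun h => ⟨((a h : U) : V) + s (b h), add_mem (Submodule.mem_sup_left ⟨_, (a h).2, rfl⟩)
      (Submodule.mem_sup_right ⟨_, (b h).2, rfl⟩)⟩, ?_⟩
    simp only [map_add, Finset.sum_add_distrib]
    have ha' : ∑ h : H, ρ (h : A) ((a h : U) : V) = v - ∑ h : H, ρ (h : A) (s (b h)) := by
      have := congrArg Subtype.val ha
      simp only [AddSubmonoidClass.coe_finsetSum] at this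
      exact this
    rw [ha', sub_add_cancel]

theorem isFreeOver_of_solvable (n : ℕ) :
    ∀ {V : Type*} [AddCommGroup V] [Module k V] [FiniteDimensional k V] (ρ : Representation k A V)
      (H N : Subgroup A) [N.Normal] [Fintype H] [Fintype N], Fintype.card N = n → ActsFPF H N → Group.IsSolvable N →
      ((Fintype.card N : ℕ) : k) ≠ 0 → (∀ v : V, ∑ n : N, ρ (n : A) v = 0) → IsFreeOver ρ H := by
  induction n using Nat.strong_induction_on with
  | _ n ih =>
  intro V _ _ _ ρ H N _ _ _ hn hfpf hsol hcard hsum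
  classical
  let D : Subgroup A := ⁅N, N⁆
  have hDN : D ≤ N := Subgroup.commutator_le_self N
  let U : Submodule k V :=
    { carrier := {v | ∀ d ∈ D, ρ d v = v}
      add_mem' := fun {a b} ha hb d hd => by rw [map_add, ha d hd, hb d hd]
      zero_mem' := fun d _ => map_zero _
      smul_mem' := fun c v hv d hd => by rw [map_smul, hv d hd] }
  have hU : ∀ a, U ≤ U.comap (ρ a) := fun a v hv d hd => by
    have hd' : a⁻¹ * d * a ∈ D := by
      have := (inferInstance : D.Normal).conj_mem d hd a⁻¹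
      rwa [inv_inv] at this
    show ρ d (ρ a v) = ρ a v
    rw [← Module.End.mul_apply, ← map_mul, show d * a = a * (a⁻¹ * d * a) by group, map_mul, Module.End.mul_apply, hv _ hd']
  rcases eq_or_ne N ⊥ with hbot | hbot
  · -- trivial group: V is zero
    have hz : ∀ v : V, v = 0 := fun v => by
      have := hsum v
      rw [Finset.sum_congr rfl (fun x _ => by
        rw [show (x : A) = 1 from Subgroup.mem_bot.1 (hbot ▸ x.2), map_one, Module.End.one_apply]),
        Finset.sum_const, Finset.card_univ, ← Nat.cast_smul_eq_nsmul k] at this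
      exact (smul_eq_zero.1 this).resolve_left hcard
    haveI : Subsingleton V := ⟨fun a b => by rw [hz a, hz b]⟩
    exact ⟨⊥, Function.injective_of_subsingleton _, fun v => ⟨0, Subsingleton.elim _ _⟩⟩
  have hlt : D < N := lt_of_le_of_ne hDN fun e => hbot (by
    haveI := hsol
    have hnt : Nontrivial N := (Subgroup.nontrivial_iff_ne_bot N).2 hbot
    have := Group.IsSolvable.commutator_lt_top_of_nontrivial N
    exfalso
    refine this.ne ?_
    rw [← (Subgroup.map_injective N.subtype_injective).eq_iff, Subgroup.map_subtype_commutator, ← MonoidHom.range_eq_map,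
      Subgroup.range_subtype]
    exact e)
  refine isFreeOver_of_extension ρ H U hU ?_ ?_
  · refine isFreeOver_of_commute _ H N hfpf (fun a ha b hb => LinearMap.ext fun u => Subtype.ext ?_) hcard
      (fun u => Subtype.ext ?_)
    · show ρ a (ρ b (u : V)) = ρ b (ρ a (u : V))
      have hd : (b * a)⁻¹ * (a * b) ∈ D := by
        have := Subgroup.commutator_mem_commutator (inv_mem ha) (inv_mem hb)
        rw [_root_.commutatorElement_def, inv_inv, inv_inv] at this
        convert this using 1; group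
      rw [← Module.End.mul_apply, ← map_mul, show a * b = (b * a) * ((b * a)⁻¹ * (a * b)) by group, map_mul,
        Module.End.mul_apply, u.2 _ hd, map_mul, Module.End.mul_apply]
    · simp only [AddSubmonoidClass.coe_finsetSum, ZeroMemClass.coe_zero]
      exact hsum (u : V)
  · haveI : Finite D := Finite.of_injective _ (Subgroup.inclusion_injective hDN)
    haveI : Fintype D := Fintype.ofFinite D
    have hcd : Fintype.card D < n := by
      rw [← hn, ← Nat.card_eq_fintype_card, ← Nat.card_eq_fintype_card]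
      exact lt_of_le_of_ne (Subgroup.card_le_of_le hDN) fun e => hlt.ne (Subgroup.eq_of_le_of_card_ge hDN e.ge)
    haveI : Group.IsSolvable N := hsol
    refine ih _ hcd (ρ.quotient U hU) H D rfl (fun h hh h1 d hd => hfpf h hh h1 d (hDN hd))
      (solvable_of_solvable_injective (Subgroup.inclusion_injective hDN)) (fun e => hcard ?_) (fun x => ?_)
    · have hdvd : Fintype.card D ∣ Fintype.card N := by
        rw [← Nat.card_eq_fintype_card, ← Nat.card_eq_fintype_card]; exact Subgroup.card_dvd_of_le hDN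
      obtain ⟨c, hc⟩ := hdvd
      rw [hc, Nat.cast_mul, e, zero_mul]
    · obtain ⟨v, rfl⟩ := U.mkQ_surjective x
      have : ∑ d : D, ρ (d : A) v ∈ U := fun d hd => by
        rw [map_sum]
        refine Fintype.sum_equiv (Equiv.mulLeft (⟨d, hd⟩ : D)) _ _ fun x => ?_
        show ρ d (ρ (x : A) v) = ρ (d * x) v
        rw [map_mul]; rfl
      rw [← (Submodule.Quotient.mk_eq_zero U).2 this, ← Submodule.mkQ_apply, map_sum]
      rfl

end Cfsg.Agent.Transfer
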