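import Mathlib
import Cfsg.Agent.Lib.Transfer.FrobeniusFree
import Cfsg.Agent.Lib.Grp.Solvable

/-!
A solvable group normalised by a fixed-point-free group of prime order `p`, acting without fixed
points on a module of dimension `p`, acts as an abelian group.
-/

set_option autoImplicit false
set_option maxHeartbeats 1000000

namespace Cfsg.Agent.Transfer

open Module
open scoped commutatorElement

variable {L V A : Type*} [Field L] [AddCommGroup V] [Module L V] [Group A]

/-- Common eigenvectors of commuting operators exist. -/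
theorem exists_common_eigen [IsAlgClosed L] [FiniteDimensional L V] [Nontrivial V]
    (ρ : Representation L A V) (B : Subgroup A)
    (hcomm : ∀ a ∈ B, ∀ b ∈ B, ρ a * ρ b = ρ b * ρ a) :
    ∃ (χ : B → L) (v : V), v ≠ 0 ∧ ∀ b : B, ρ (b : A) v = χ b • v := by
  obtain ⟨U, ⟨hU0, hUinv⟩, hUmin⟩ := (IsWellFounded.wf (r := ((· < ·) : Submodule L V → _ → _))).has_min
    {U : Submodule L V | U ≠ ⊥ ∧ ∀ b ∈ B, U ≤ U.comap (ρ b)} ⟨⊤, top_ne_bot, fun b _ => le_top.trans (by simp)⟩
  have hsc : ∀ b : B, ∃ c : L, ∀ u ∈ U, ρ (b : A) u = c • u := by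
    intro b
    haveI : Nontrivial U := Submodule.nontrivial_iff_ne_bot.2 hU0
    obtain ⟨c, hc⟩ := Module.End.exists_eigenvalue ((ρ (b : A)).restrict (p := U) (q := U) fun x hx => hUinv b b.2 hx)
    obtain ⟨u, hu⟩ := hc.exists_hasEigenvector
    refine ⟨c, ?_⟩
    let U' : Submodule L V := U ⊓ LinearMap.ker (ρ (b : A) - c • 1)
    have hU'le : U' ≤ U := inf_le_left
    have hU' : U' = U := by
      by_contra hne
      refine hUmin U' ⟨fun e => ?_, fun a ha x hx => ?_⟩ (lt_of_le_of_ne hU'le hne)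
      · have hmem : (u : V) ∈ U' := ⟨u.2, by
          rw [SetLike.mem_coe, LinearMap.mem_ker, LinearMap.sub_apply, LinearMap.smul_apply, Module.End.one_apply, sub_eq_zero]
          exact congrArg Subtype.val hu.apply_eq_smul⟩
        rw [e, Submodule.mem_bot] at hmem
        exact hu.2 (Subtype.ext hmem)
      · refine ⟨hUinv a ha hx.1, ?_⟩
        have h2 := hx.2
        rw [SetLike.mem_coe, LinearMap.mem_ker, LinearMap.sub_apply, LinearMap.smul_apply, Module.End.one_apply, sub_eq_zero] at h2 ⊢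
        rw [← Module.End.mul_apply, hcomm _ b.2 _ ha, Module.End.mul_apply, h2, map_smul]
    intro x hx
    rw [← hU'] at hx
    have h2 := hx.2
    rwa [SetLike.mem_coe, LinearMap.mem_ker, LinearMap.sub_apply, LinearMap.smul_apply, Module.End.one_apply, sub_eq_zero] at h2
  choose χ hχ using hsc
  obtain ⟨v, hv, hv0⟩ := Submodule.exists_mem_ne_zero_of_ne_bot hU0
  exact ⟨χ, v, hv0, fun b => hχ b v hv⟩

/-- Weight spaces of distinct weights are independent. -/
theorem weight_sum_zero {ι J : Type*} (f : J → Module.End L V) (χ : ι → J → L) (hχ : Function.Injective χ)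
    (s : Finset ι) : ∀ x : ι → V, (∀ i ∈ s, ∀ j, f j (x i) = χ i j • x i) → (∑ i ∈ s, x i) = 0 →
      ∀ i ∈ s, x i = 0 := by
  classical
  induction s using Finset.induction_on with
  | empty => intro x _ _ i hi; simp at hi
  | insert a s ha ih =>
    intro x hx hsum
    have hall : ∀ i ∈ s, x i = 0 := by
      intro i hi
      obtain ⟨j, hj⟩ : ∃ j, χ i j ≠ χ a j := by
        by_contra h
        push Not at h
        exact ha ((hχ (funext h)) ▸ hi)
      have h0 : ∀ l ∈ s, (χ l j - χ a j) • x l = 0 := by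
        refine ih (fun l => (χ l j - χ a j) • x l) (fun l hl k => ?_) ?_
        · rw [map_smul, hx l (Finset.mem_insert_of_mem hl), smul_comm]
        · have h1 := congrArg (f j) hsum
          rw [map_sum, map_zero, Finset.sum_congr rfl fun l hl => hx l hl j, Finset.sum_insert ha] at h1
          rw [Finset.sum_insert ha] at hsum
          have h2 : χ a j • (x a + ∑ l ∈ s, x l) = 0 := by rw [hsum, smul_zero]
          rw [smul_add, Finset.smul_sum] at h2
          simp only [sub_smul, Finset.sum_sub_distrib]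
          have h3 := h1.trans h2.symm
          rw [add_right_inj] at h3
          exact sub_eq_zero.2 h3
      exact (smul_eq_zero.1 (h0 i hi)).resolve_left (sub_ne_zero.2 hj)
    intro i hi
    rcases Finset.mem_insert.1 hi with rfl | hi
    · rw [Finset.sum_insert ha, Finset.sum_eq_zero hall, add_zero] at hsum
      exact hsum
    · exact hall i hi

theorem finrank_dvd_of_isFreeOver [FiniteDimensional L V] {ρ : Representation L A V} {H : Subgroup A} [Fintype H]
    (h : IsFreeOver ρ H) : Fintype.card H ∣ finrank L V := by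
  obtain ⟨W, hW⟩ := h
  let Φ : (H → W) →ₗ[L] V :=
    { toFun := fun w => ∑ h : H, ρ (h : A) (w h : V)
      map_add' := fun a b => by simp [Finset.sum_add_distrib]
      map_smul' := fun c a => by simp [Finset.smul_sum] }
  have := (LinearEquiv.ofBijective Φ hW).finrank_eq
  rw [Module.finrank_pi_fintype] at this
  rw [← this, Finset.sum_const, Finset.card_univ, smul_eq_mul]
  exact dvd_mul_right _ _

/-- A solvable group `K` of order prime to `p`, normalised by a fixed-point-free group of order `p` and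
acting without fixed points in dimension `p`, has abelian image. -/
theorem commute_of_prime_dim [IsAlgClosed L] [FiniteDimensional L V] [Finite A] (ρ : Representation L A V)
    (K R : Subgroup A) [K.Normal] [Fintype K] [Fintype R] {p : ℕ} (hp : p.Prime) (hR : Fintype.card R = p)
    (hdim : finrank L V = p) (hfpf : ActsFPF R K) (hsol : Group.IsSolvable K)
    (hcard : ((Fintype.card K : ℕ) : L) ≠ 0) (hcop : ¬ p ∣ Fintype.card K)
    (hsum : ∀ v : V, ∑ n : K, ρ (n : A) v = 0) :
    ∀ a ∈ K, ∀ b ∈ K, ρ a * ρ b = ρ b * ρ a := by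
  classical
  haveI : Nontrivial V := Module.nontrivial_of_finrank_pos (R := L) (by rw [hdim]; exact hp.pos)
  have hKcop : p.Coprime (Fintype.card K) := hp.coprime_iff_not_dvd.2 hcop
  have hirr : ∀ U : Submodule L V, (∀ a, U ≤ U.comap (ρ a)) → U ≠ ⊥ → U = ⊤ := by
    intro U hU hU0
    have hfree : IsFreeOver (ρ.subrepresentation U hU) R :=
      isFreeOver_of_solvable _ _ R K rfl hfpf hsol hcard fun u => Subtype.ext (by
        simp only [AddSubmonoidClass.coe_finsetSum, ZeroMemClass.coe_zero]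
        exact hsum (u : V))
    have h1 := finrank_dvd_of_isFreeOver hfree
    rw [hR] at h1
    refine Submodule.eq_top_of_finrank_eq ?_
    have h2 := Submodule.finrank_le U
    have h3 : finrank L U ≠ 0 := fun e => hU0 (Submodule.finrank_eq_zero.1 e)
    rw [hdim] at h2 ⊢
    exact le_antisymm h2 (Nat.le_of_dvd (Nat.pos_of_ne_zero h3) h1)
  suffices h : ∀ (n : ℕ) (N : Subgroup A), Nat.card N = n → N.Normal → N ≤ K →
      ∀ a ∈ N, ∀ b ∈ N, ρ a * ρ b = ρ b * ρ a from h _ K rfl inferInstance le_rfl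
  intro n
  induction n using Nat.strong_induction_on with
  | _ n ih =>
  intro N hn hN hNK
  rcases eq_or_ne N ⊥ with rfl | hbot
  · intro a ha b hb
    rw [Subgroup.mem_bot.1 ha, Subgroup.mem_bot.1 hb]
  haveI := hN
  haveI := hsol
  have hlt := Grp.commutator_lt_self_of_solvable
    (solvable_of_solvable_injective (Subgroup.inclusion_injective hNK)) hbot
  obtain ⟨B, hB⟩ : ∃ B : Subgroup A, B = ⁅N, N⁆ := ⟨_, rfl⟩
  haveI hBn : B.Normal := hB ▸ inferInstance
  rw [← hB] at hlt
  have hBK : B ≤ K := hlt.le.trans hNK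
  have hcommB := ih (Nat.card B) (by
    rw [← hn]
    exact lt_of_le_of_ne (Subgroup.card_le_of_le hlt.le) fun e => hlt.ne (Subgroup.eq_of_le_of_card_ge hlt.le e.ge))
    B rfl hBn hBK
  by_cases hscal : ∀ b ∈ B, ∃ c : L, ρ b = c • 1
  · intro a ha c hc
    obtain ⟨ζ, hζ⟩ := hscal ⁅a, c⁆ (hB ▸ Subgroup.commutator_mem_commutator ha hc)
    have hdet : ζ ^ p = 1 := by
      have h1 := congrArg LinearMap.det hζ
      rw [LinearMap.det_smul, hdim, map_one, mul_one] at h1
      rw [← h1, _root_.commutatorElement_def, map_mul, map_mul, map_mul, map_mul, map_mul, map_mul]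
      have e : ∀ g : A, LinearMap.det (ρ g) * LinearMap.det (ρ g⁻¹) = 1 := fun g => by
        rw [← map_mul, ← map_mul, mul_inv_cancel, map_one, map_one]
      calc LinearMap.det (ρ a) * LinearMap.det (ρ c) * LinearMap.det (ρ a⁻¹) * LinearMap.det (ρ c⁻¹)
          = (LinearMap.det (ρ a) * LinearMap.det (ρ a⁻¹)) * (LinearMap.det (ρ c) * LinearMap.det (ρ c⁻¹)) := by ring
        _ = 1 := by rw [e, e, one_mul]
    have hord : ζ ^ Fintype.card K = 1 := by
      have hm : ⁅a, c⁆ ∈ K := hBK (hB ▸ Subgroup.commutator_mem_commutator ha hc)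
      have h1 : ρ (⁅a, c⁆ ^ Fintype.card K) = 1 := by
        have h0 : ((⟨_, hm⟩ : K) ^ Fintype.card K : K) = 1 := pow_card_eq_one
        rw [show ⁅a, c⁆ ^ Fintype.card K = 1 from congrArg Subtype.val h0, map_one]
      rw [map_pow, hζ, smul_pow, one_pow] at h1
      obtain ⟨v, hv⟩ := exists_ne (0 : V)
      have h2 := LinearMap.congr_fun h1 v
      rw [LinearMap.smul_apply, Module.End.one_apply] at h2
      by_contra hne
      exact hv ((smul_eq_zero.1 (show (ζ ^ Fintype.card K - 1) • v = 0 by rw [sub_smul, h2, one_smul, sub_self])).resolve_left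
        (sub_ne_zero.2 hne))
    have hζ1 : ζ = 1 := by
      have := pow_gcd_eq_one.2 ⟨hdet, hord⟩
      rwa [hKcop, pow_one] at this
    rw [← map_mul, show a * c = ⁅a, c⁆ * (c * a) by simp [_root_.commutatorElement_def, mul_assoc], map_mul, hζ, hζ1,
      one_smul, one_mul, map_mul]
  -- some element of `B` is not scalar
  push Not at hscal
  obtain ⟨χ₀, v₀, hv₀, hv₀'⟩ := exists_common_eigen ρ B hcommB
  let W : (B → L) → Submodule L V := fun χ =>
    { carrier := {v | ∀ b : B, ρ (b : A) v = χ b • v}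
      add_mem' := fun {x y} hx hy b => by rw [map_add, hx b, hy b, smul_add]
      zero_mem' := fun b => by rw [map_zero, smul_zero]
      smul_mem' := fun c x hx b => by rw [map_smul, hx b, smul_comm] }
  letI : MulAction A (B → L) :=
    { smul := fun a χ b => χ ⟨a⁻¹ * b * a, by simpa using hBn.conj_mem _ b.2 a⁻¹⟩
      one_smul := fun χ => funext fun b => congrArg χ (Subtype.ext (by simp))
      mul_smul := fun a c χ => funext fun b => congrArg χ (Subtype.ext (show (a * c)⁻¹ * b * (a * c) = c⁻¹ * (a⁻¹ * b * a) * c by group)) }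
  have hmap : ∀ (a : A) (χ : B → L) (x : V), x ∈ W χ → ρ a x ∈ W (a • χ) := fun a χ x hx b => by
    show ρ (b : A) (ρ a x) = χ _ • ρ a x
    rw [← map_smul, ← hx, ← Module.End.mul_apply, ← Module.End.mul_apply, ← map_mul, ← map_mul]
    congr 2
    group
  have hinv : ∀ (a : A) (x : V), ρ a (ρ a⁻¹ x) = x := fun a x => by
    rw [← Module.End.mul_apply, ← map_mul, mul_inv_cancel, map_one, Module.End.one_apply]
  let Ω := MulAction.orbit A χ₀
  haveI : Finite Ω := (Set.finite_range fun a : A => a • χ₀).to_subtype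
  haveI : Fintype Ω := Fintype.ofFinite Ω
  have hΩ : ∀ ω : Ω, ∃ a : A, a • χ₀ = (ω : B → L) := fun ω => ω.2
  choose g hg using hΩ
  let Φ : (Ω → W χ₀) →ₗ[L] V :=
    { toFun := fun f => ∑ ω : Ω, ρ (g ω) (f ω : V)
      map_add' := fun a b => by simp [Finset.sum_add_distrib]
      map_smul' := fun c a => by simp [Finset.smul_sum] }
  have hΦi : Function.Injective Φ := by
    rw [← LinearMap.ker_eq_bot, LinearMap.ker_eq_bot']
    intro f hf
    funext ω
    have h0 := weight_sum_zero (fun b : B => ρ (b : A)) (fun ω : Ω => (ω : B → L)) Subtype.val_injective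
      Finset.univ (fun ω => ρ (g ω) (f ω : V))
      (fun i _ => by have := hmap (g i) χ₀ _ (f i).2; rw [hg] at this; exact this) hf ω (Finset.mem_univ ω)
    refine Subtype.ext ?_
    have h1 := congrArg (ρ (g ω)⁻¹) h0
    rw [← Module.End.mul_apply, ← map_mul, inv_mul_cancel, map_one, Module.End.one_apply, map_zero] at h1
    exact h1
  have hspan : (⨆ ω : Ω, W (ω : B → L)) = ⊤ := by
    refine hirr _ (fun a => iSup_le fun ω x hx => ?_) fun e => hv₀ ?_
    · exact Submodule.mem_iSup_of_mem (p := fun ω : Ω => W (ω : B → L)) ⟨a • (ω : B → L), by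
        obtain ⟨c, hc⟩ := ω.2
        exact ⟨a * c, by
          show (a * c) • χ₀ = a • (ω : B → L)
          rw [mul_smul]; exact congrArg (a • ·) hc⟩⟩ (hmap a _ x hx)
    · have : v₀ ∈ ⨆ ω : Ω, W (ω : B → L) :=
        Submodule.mem_iSup_of_mem (p := fun ω : Ω => W (ω : B → L)) ⟨χ₀, MulAction.mem_orbit_self χ₀⟩ hv₀'
      rwa [e, Submodule.mem_bot] at this
  have hWle : ∀ ω : Ω, ∀ x ∈ W (ω : B → L), ∃ y ∈ W χ₀, x = ρ (g ω) y := fun ω x hx =>
    ⟨ρ (g ω)⁻¹ x, by have := hmap (g ω)⁻¹ _ x hx; rwa [← hg ω, inv_smul_smul] at this, (hinv _ _).symm⟩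
  have hΦs : Function.Surjective Φ := by
    rw [← LinearMap.range_eq_top, eq_top_iff, ← hspan]
    refine iSup_le fun ω x hx => ?_
    obtain ⟨y, hy, rfl⟩ := hWle ω x hx
    refine ⟨Pi.single ω ⟨y, hy⟩, ?_⟩
    show ∑ ω' : Ω, ρ (g ω') ((Pi.single ω (⟨y, hy⟩ : W χ₀) : Ω → W χ₀) ω' : V) = _
    rw [Finset.sum_eq_single ω (fun i _ hi => by simp [Pi.single_eq_of_ne hi]) (by simp)]
    simp
  have hde : Fintype.card Ω * finrank L (W χ₀) = p := by
    rw [← hdim, ← (LinearEquiv.ofBijective Φ ⟨hΦi, hΦs⟩).finrank_eq, Module.finrank_pi_fintype,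
      Finset.sum_const, Finset.card_univ, smul_eq_mul]
  have hΩp : Fintype.card Ω = p ∧ finrank L (W χ₀) = 1 := by
    rcases hp.eq_one_or_self_of_dvd _ (Dvd.intro _ hde) with h1 | h1
    · exfalso
      obtain ⟨b, hb, hnb⟩ := hscal
      haveI : Subsingleton Ω := Fintype.card_le_one_iff_subsingleton.1 h1.le
      refine hnb (χ₀ ⟨b, hb⟩) (LinearMap.ext fun x => ?_)
      have hx : x ∈ W χ₀ := by
        have hle : (⨆ ω : Ω, W (ω : B → L)) ≤ W χ₀ := iSup_le fun ω => by
          rw [Subsingleton.elim ω ⟨χ₀, MulAction.mem_orbit_self χ₀⟩]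
        exact hle (hspan ▸ Submodule.mem_top)
      exact hx ⟨b, hb⟩
    · exact ⟨h1, by rw [h1] at hde; exact mul_left_cancel₀ hp.ne_zero (hde.trans (mul_one p).symm)⟩
  have hfix : ∀ k ∈ K, k • χ₀ = χ₀ := by
    let S := K ⊔ MulAction.stabilizer A χ₀
    have hi : (MulAction.stabilizer A χ₀).index = p := by
      rw [MulAction.index_stabilizer, ← Nat.card_coe_set_eq, Nat.card_eq_fintype_card]
      exact hΩp.1
    rcases hp.eq_one_or_self_of_dvd _ (hi ▸ Subgroup.index_dvd_of_le (le_sup_right : _ ≤ S)) with h1 | h1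
    · exfalso
      rw [Subgroup.index_eq_one] at h1
      have horb : MulAction.orbit K χ₀ = MulAction.orbit A χ₀ := by
        refine Set.Subset.antisymm ?_ ?_
        · rintro _ ⟨k, rfl⟩; exact ⟨k, rfl⟩
        · rintro _ ⟨a, rfl⟩
          have ha : a ∈ (↑(K ⊔ MulAction.stabilizer A χ₀) : Set A) := by
            rw [show K ⊔ MulAction.stabilizer A χ₀ = ⊤ from h1]; exact Subgroup.mem_top a
          rw [Subgroup.normal_mul] at ha
          obtain ⟨k, hk, s, hs, rfl⟩ := ha
          exact ⟨⟨k, hk⟩, by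
            show k • χ₀ = (k * s) • χ₀
            rw [mul_smul, show s • χ₀ = χ₀ from hs]⟩
      have h2 := MulAction.orbitProdStabilizerEquivGroup K χ₀
      have h3 := Nat.card_congr h2
      rw [Nat.card_prod, horb, Nat.card_eq_fintype_card (α := MulAction.orbit A χ₀), hΩp.1, Nat.card_eq_fintype_card (α := K)] at h3
      exact hcop (Dvd.intro _ h3)
    · intro k hk
      have hSeq : MulAction.stabilizer A χ₀ = S := by
        refine Subgroup.eq_of_le_of_card_ge le_sup_right ?_
        have e1 := Subgroup.card_mul_index S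
        have e2 := Subgroup.card_mul_index (MulAction.stabilizer A χ₀)
        rw [h1] at e1; rw [hi] at e2
        exact (Nat.eq_of_mul_eq_mul_right hp.pos (e1.trans e2.symm)).le
      have : k ∈ MulAction.stabilizer A χ₀ := by rw [hSeq]; exact Subgroup.mem_sup_left hk
      exact this
  obtain ⟨w, hw0, hw⟩ := finrank_eq_one_iff'.1 hΩp.2
  intro a ha b hb
  have hscK : ∀ k ∈ K, ∃ c : L, ∀ y ∈ W χ₀, ρ k y = c • y := fun k hk => by
    have hkw : ρ k (w : V) ∈ W χ₀ := by have := hmap k χ₀ _ w.2; rwa [hfix k hk] at this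
    obtain ⟨c, hc⟩ := hw ⟨_, hkw⟩
    refine ⟨c, fun y hy => ?_⟩
    obtain ⟨d, hd⟩ := hw ⟨y, hy⟩
    have hd' : d • (w : V) = y := congrArg Subtype.val hd
    have hc' : c • (w : V) = ρ k (w : V) := congrArg Subtype.val hc
    rw [← hd', map_smul, ← hc', smul_comm]
  have key : ∀ k ∈ K, ∀ ω : Ω, ∃ c : L, ∀ x ∈ W (ω : B → L), ρ k x = c • x := fun k hk ω => by
    have hk' : (g ω)⁻¹ * k * g ω ∈ K := by simpa using ‹K.Normal›.conj_mem _ hk (g ω)⁻¹
    obtain ⟨c, hc⟩ := hscK _ hk'
    refine ⟨c, fun x hx => ?_⟩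
    obtain ⟨y, hy, rfl⟩ := hWle ω x hx
    rw [← map_smul, ← hc y hy, ← Module.End.mul_apply, ← Module.End.mul_apply, ← map_mul, ← map_mul]
    congr 2
    group
  refine LinearMap.ext fun v => ?_
  have hv : v ∈ ⨆ ω : Ω, W (ω : B → L) := hspan ▸ Submodule.mem_top
  induction hv using Submodule.iSup_induction' with
  | mem ω x hx =>
    obtain ⟨c, hc⟩ := key a (hNK ha) ω
    obtain ⟨d, hd⟩ := key b (hNK hb) ω
    rw [Module.End.mul_apply, Module.End.mul_apply, hd x hx, hc x hx, map_smul, map_smul, hc x hx, hd x hx, smul_comm]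
  | zero => simp
  | add x y _ _ hx hy => rw [map_add, map_add, hx, hy]

end Cfsg.Agent.Transfer
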