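import Mathlib
import Cfsg.Agent.Lib.Transfer.FrobeniusFree
import Cfsg.Agent.Lib.Transfer.PrimeDim
import Cfsg.Agent.Lib.Grp.Coprime
import Cfsg.Agent.Lib.Grp.QuotientNormalizer
import Cfsg.Agent.Lib.Grp.SameOrderConj
import Cfsg.Agent.Lib.Grp.Solvable
import Cfsg.Agent.Lib.Grp.Basic

/-!
Fixed points of a Frobenius group acting coprimely on a solvable group.
-/

set_option autoImplicit false
set_option maxHeartbeats 1000000

namespace Cfsg.Agent.Transfer.FrobFix

open scoped commutatorElement Pointwise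

universe u

variable {X : Type u} [Group X]

theorem exists_representation_rho (q : ℕ) {A : Type*} [Group A] {V : Type u} [CommGroup V] [Module (ZMod q) (Additive V)]
    (φ : A →* MulAut V) : ∃ (ρ : Representation (ZMod q) A (Additive V)), ∀ a w, ρ a w = Additive.ofMul (φ a (Additive.toMul w)) := by
  let T : A → Module.End (ZMod q) (Additive V) := fun a => AddMonoidHom.toZModLinearMap q (MonoidHom.toAdditive (φ a).toMonoidHom)
  have h1 : ∀ a w, T a w = Additive.ofMul (φ a (Additive.toMul w)) := fun a w => rfl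
  refine ⟨{ toFun := T
            map_one' := LinearMap.ext fun w => by rw [h1, map_one]; exact rfl
            map_mul' := fun a b => LinearMap.ext fun w => by rw [h1, map_mul, Module.End.mul_apply, h1, h1]; exact rfl }, h1⟩

theorem exists_representation_aux (q : ℕ) {A : Type*} [Group A] {V : Type u} [CommGroup V] (hexp : ∀ x : V, x ^ q = 1)
    (φ : A →* MulAut V) : ∃ (W : Type u) (_ : AddCommGroup W) (_ : Module (ZMod q) W) (ρ : Representation (ZMod q) A W)
      (e : W ≃ V), (∀ (a : A) (w : W), e (ρ a w) = φ a (e w)) ∧ e 0 = 1 := by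
  have h0 : ∀ x : Additive V, q • x = 0 := fun x => congrArg Additive.ofMul (hexp x.toMul)
  letI : Module (ZMod q) (Additive V) := AddCommGroup.zmodModule h0
  obtain ⟨ρ, hρ⟩ := exists_representation_rho q φ
  exact ⟨Additive V, inferInstance, this, ρ, Additive.toMul, fun a w => congrArg Additive.toMul (hρ a w), rfl⟩

theorem exists_representation (q : ℕ) (V A : Subgroup X) (hab : IsMulCommutative V) (hexp : ∀ x ∈ V, x ^ q = 1)
    (hA : A ≤ Subgroup.normalizer (V : Set X)) :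
    ∃ (W : Type u) (_ : AddCommGroup W) (_ : Module (ZMod q) W) (ρ : Representation (ZMod q) A W) (e : W ≃ V),
      (∀ (a : A) (w : W), (e (ρ a w) : X) = a * e w * (a : X)⁻¹) ∧ (e 0 : X) = 1 := by
  obtain ⟨W, i1, i2, ρ, e, he, he0⟩ := @exists_representation_aux q A _ V
    { (inferInstance : Group V) with mul_comm := fun a b => mul_comm' a b }
    (fun x => Subtype.ext (hexp _ x.2)) ((Subgroup.normalizerMonoidHom V).comp (Subgroup.inclusion hA))
  exact ⟨W, i1, i2, ρ, e, fun a w => by rw [he]; rfl, congrArg Subtype.val he0⟩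

theorem not_dvd_of_fpf [Finite X] {p : ℕ} (hp : p.Prime) (K R : Subgroup X) (hR : Nat.card R = p)
    (hRK : R ≤ Subgroup.normalizer (K : Set X)) (hfpf : ∀ e ∈ R, e ≠ 1 → ∀ u ∈ K, e * u = u * e → u = 1) :
    ¬ p ∣ Nat.card K := by
  haveI := Fact.mk hp
  have hRp : IsPGroup p R := IsPGroup.of_card (n := 1) (by rw [pow_one, hR])
  letI : MulAction R K := MulAction.compHom K ((Subgroup.normalizerMonoidHom K).comp (Subgroup.inclusion hRK))
  have h := hRp.card_modEq_card_fixedPoints K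
  have h1 : MulAction.fixedPoints R K = {1} := by
    refine Set.eq_singleton_iff_unique_mem.2 ⟨fun r => ?_, fun k hk => ?_⟩
    · exact Subtype.ext (show (r : X) * 1 * (r : X)⁻¹ = 1 by group)
    · have hne : R ≠ ⊥ := fun e => hp.one_lt.ne (by rw [← hR, e, Subgroup.card_bot])
      obtain ⟨r, hr, hr1⟩ := (Subgroup.bot_or_exists_ne_one R).resolve_left hne
      refine Subtype.ext (hfpf r hr hr1 k k.2 ?_)
      have h2 : r * (k : X) * r⁻¹ = k := congrArg Subtype.val (hk ⟨r, hr⟩)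
      exact mul_inv_eq_iff_eq_mul.1 h2
  rw [h1, Nat.card_eq_fintype_card (α := ({1} : Set K)), Set.card_singleton] at h
  intro hd
  have h2 : Nat.card K ≡ 0 [MOD p] := (Nat.modEq_zero_iff_dvd).2 hd
  exact hp.one_lt.ne' (Nat.dvd_one.1 ((Nat.modEq_zero_iff_dvd).1 (h.symm.trans h2)))

theorem actsFPF_subgroupOf {U E : Subgroup X} (A : Subgroup X)
    (hfpf : ∀ e ∈ E, e ≠ 1 → ∀ u ∈ U, e * u = u * e → u = 1) : ActsFPF (E.subgroupOf A) (U.subgroupOf A) :=
  fun e he he1 u hu h => Subtype.ext (hfpf e he (fun c => he1 (Subtype.ext c)) u hu (congrArg Subtype.val h))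

theorem normal_subgroupOf_sup {U E : Subgroup X} (hEU : E ≤ Subgroup.normalizer (U : Set X)) :
    (U.subgroupOf (U ⊔ E)).Normal :=
  (Subgroup.normal_subgroupOf_iff_le_normalizer le_sup_left).2 (sup_le Subgroup.le_normalizer hEU)

theorem sum_eq_zero_of_inf_centralizer {A U V : Subgroup X} (hUA : U ≤ A) [Fintype (U.subgroupOf A)]
    {k W : Type*} [CommRing k] [AddCommGroup W] [Module k W] (ρ : Representation k A W) (e : W ≃ V)
    (he : ∀ (a : A) (w : W), (e (ρ a w) : X) = a * e w * (a : X)⁻¹) (he0 : (e 0 : X) = 1)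
    (hC : V ⊓ Subgroup.centralizer (U : Set X) = ⊥) (x : W) : ∑ n : U.subgroupOf A, ρ (n : A) x = 0 := by
  refine e.injective (Subtype.ext ?_)
  rw [he0, ← Subgroup.mem_bot, ← hC]
  refine ⟨(e _).2, fun u hu => ?_⟩
  have hfix : ρ ⟨u, hUA hu⟩ (∑ n : U.subgroupOf A, ρ (n : A) x) = ∑ n : U.subgroupOf A, ρ (n : A) x := by
    rw [map_sum]
    refine Fintype.sum_equiv (Equiv.mulLeft (⟨⟨u, hUA hu⟩, hu⟩ : U.subgroupOf A)) _ _ fun n => ?_
    rw [← Module.End.mul_apply, ← map_mul]; rfl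
  have h := he ⟨u, hUA hu⟩ (∑ n : U.subgroupOf A, ρ (n : A) x)
  rw [hfix] at h
  exact (eq_mul_inv_iff_mul_eq.1 h).symm

/-- An elementary abelian group without fixed points for the kernel is free over the complement. -/
theorem card_eq_pow [Finite X] {q : ℕ} (hq : q.Prime) (V U E : Subgroup X) (hab : IsMulCommutative V)
    (hexp : ∀ x ∈ V, x ^ q = 1) (hV : U ⊔ E ≤ Subgroup.normalizer (V : Set X))
    (hEU : E ≤ Subgroup.normalizer (U : Set X)) (hfpf : ∀ e ∈ E, e ≠ 1 → ∀ u ∈ U, e * u = u * e → u = 1)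
    (hsol : Group.IsSolvable U) (hqU : ¬ q ∣ Nat.card U) (hC : V ⊓ Subgroup.centralizer (U : Set X) = ⊥) :
    Nat.card V = Nat.card ↥(V ⊓ Subgroup.centralizer (E : Set X)) ^ Nat.card E := by
  classical
  haveI := Fact.mk hq
  obtain ⟨W, iW1, iW2, ρ, e, he, he0⟩ := exists_representation q V (U ⊔ E) hab hexp hV
  haveI : Finite W := Finite.of_equiv _ e.symm
  haveI : FiniteDimensional (ZMod q) W := Module.Finite.of_finite
  haveI := normal_subgroupOf_sup hEU
  haveI : Fintype (U.subgroupOf (U ⊔ E)) := Fintype.ofFinite _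
  haveI : Fintype (E.subgroupOf (U ⊔ E)) := Fintype.ofFinite _
  have hcU : Nat.card (U.subgroupOf (U ⊔ E)) = Nat.card U :=
    Nat.card_congr (Subgroup.subgroupOfEquivOfLe le_sup_left).toEquiv
  have hcE : Nat.card (E.subgroupOf (U ⊔ E)) = Nat.card E :=
    Nat.card_congr (Subgroup.subgroupOfEquivOfLe le_sup_right).toEquiv
  obtain ⟨W₀, hW₀⟩ := isFreeOver_of_solvable (k := ZMod q) _ ρ (E.subgroupOf (U ⊔ E)) (U.subgroupOf (U ⊔ E)) rfl
    (actsFPF_subgroupOf _ hfpf)
    (solvable_of_solvable_injective (f := (Subgroup.subgroupOfEquivOfLe (le_sup_left : U ≤ U ⊔ E)).toMonoidHom)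
      (MulEquiv.injective _))
    (by rw [Ne, ZMod.natCast_eq_zero_iff, ← Nat.card_eq_fintype_card, hcU]; exact hqU)
    (sum_eq_zero_of_inf_centralizer le_sup_left ρ e he he0 hC)
  let H := E.subgroupOf (U ⊔ E)
  have hcard : Nat.card V = Nat.card W₀ ^ Nat.card E := by
    rw [← Nat.card_congr e, ← Nat.card_congr (Equiv.ofBijective _ hW₀), Nat.card_fun, hcE]
  have hfix : ∀ (g : H) (w : H → W₀), ρ (g : ↥(U ⊔ E)) (∑ h : H, ρ (h : ↥(U ⊔ E)) (w h : W)) =
      ∑ h : H, ρ (h : ↥(U ⊔ E)) (w (g⁻¹ * h) : W) := fun g w => by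
    rw [map_sum]
    refine Fintype.sum_equiv (Equiv.mulLeft g) _ _ fun h => ?_
    rw [Equiv.coe_mulLeft, inv_mul_cancel_left, ← Module.End.mul_apply, ← map_mul]
    rfl
  rw [hcard]
  congr 1
  refine Nat.card_congr (Equiv.ofBijective (fun w₀ : W₀ => (⟨e (∑ h : H, ρ (h : ↥(U ⊔ E)) (w₀ : W)),
    (e _).2, fun x hx => ?_⟩ : ↥(V ⊓ Subgroup.centralizer (E : Set X)))) ⟨fun a b h => ?_, fun v => ?_⟩)
  · have h := he ⟨x, Subgroup.mem_sup_right hx⟩ (∑ h : H, ρ (h : ↥(U ⊔ E)) (w₀ : W))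
    rw [show ρ (⟨x, Subgroup.mem_sup_right hx⟩ : ↥(U ⊔ E)) (∑ h : H, ρ (h : ↥(U ⊔ E)) (w₀ : W)) =
      ∑ h : H, ρ (h : ↥(U ⊔ E)) (w₀ : W) from hfix ⟨⟨x, Subgroup.mem_sup_right hx⟩, hx⟩ fun _ => w₀] at h
    exact (eq_mul_inv_iff_mul_eq.1 h).symm
  · have h' := e.injective (Subtype.ext (congrArg (fun z : ↥(V ⊓ Subgroup.centralizer (E : Set X)) => (z : X)) h))
    exact congrFun (hW₀.1 (a₁ := fun _ => a) (a₂ := fun _ => b) h') 1
  · obtain ⟨v, hv, hvE⟩ := v
    obtain ⟨w, hw⟩ := hW₀.2 (e.symm ⟨v, hv⟩)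
    refine ⟨w 1, Subtype.ext ?_⟩
    have hconst : ∀ g : H, (fun h => w (g⁻¹ * h)) = w := fun g => hW₀.1 (by
      show ∑ h : H, ρ (h : ↥(U ⊔ E)) (w (g⁻¹ * h) : W) = ∑ h : H, ρ (h : ↥(U ⊔ E)) (w h : W)
      rw [← hfix, show ∑ h : H, ρ (h : ↥(U ⊔ E)) (w h : W) = e.symm ⟨v, hv⟩ from hw]
      refine e.injective (Subtype.ext ?_)
      rw [he, Equiv.apply_symm_apply]
      exact mul_inv_eq_of_eq_mul (hvE _ g.2))
    show (e (∑ h : H, ρ (h : ↥(U ⊔ E)) (w 1 : W)) : X) = v
    rw [Finset.sum_congr rfl fun (h : H) _ => (show ρ (h : ↥(U ⊔ E)) (w 1 : W) = ρ (h : ↥(U ⊔ E)) (w h : W) by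
      have := congrFun (hconst h) h
      simp only [inv_mul_cancel] at this
      rw [this]), show ∑ h : H, ρ (h : ↥(U ⊔ E)) (w h : W) = e.symm ⟨v, hv⟩ from hw, Equiv.apply_symm_apply]

/-- In dimension `p` the derived subgroup of the kernel acts trivially. -/
theorem commutator_le_centralizer_elementary [Finite X] {q : ℕ} (hq : q.Prime) (V K R : Subgroup X)
    (hab : IsMulCommutative V) (hexp : ∀ x ∈ V, x ^ q = 1) (hV : K ⊔ R ≤ Subgroup.normalizer (V : Set X))
    (hRK : R ≤ Subgroup.normalizer (K : Set X)) (hfpf : ∀ e ∈ R, e ≠ 1 → ∀ u ∈ K, e * u = u * e → u = 1)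
    (hsol : Group.IsSolvable K) (hqK : ¬ q ∣ Nat.card K) (hC : V ⊓ Subgroup.centralizer (K : Set X) = ⊥)
    (hp : (Nat.card R).Prime) (hcard : Nat.card V = q ^ Nat.card R) :
    ⁅K, K⁆ ≤ Subgroup.centralizer (V : Set X) := by
  classical
  haveI := Fact.mk hq
  obtain ⟨W, iW1, iW2, ρ, e, he, he0⟩ := exists_representation q V (K ⊔ R) hab hexp hV
  haveI : Finite W := Finite.of_equiv _ e.symm
  haveI : FiniteDimensional (ZMod q) W := Module.Finite.of_finite
  haveI := normal_subgroupOf_sup hRK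
  haveI : Fintype (K.subgroupOf (K ⊔ R)) := Fintype.ofFinite _
  haveI : Fintype (R.subgroupOf (K ⊔ R)) := Fintype.ofFinite _
  have hcK : Nat.card (K.subgroupOf (K ⊔ R)) = Nat.card K :=
    Nat.card_congr (Subgroup.subgroupOfEquivOfLe le_sup_left).toEquiv
  have hdim : Module.finrank (ZMod q) W = Nat.card R := by
    have h := Module.natCard_eq_pow_finrank (K := ZMod q) (V := W)
    rw [Nat.card_congr e, hcard, Nat.card_zmod] at h
    exact (Nat.pow_right_injective hq.two_le h).symm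
  let L := AlgebraicClosure (ZMod q)
  let φ := algebraMap (ZMod q) L
  let b := Module.finBasisOfFinrankEq (ZMod q) W hdim
  let Ψ : Module.End (ZMod q) W →+* Module.End L (Fin (Nat.card R) → L) :=
    ((Matrix.toLinAlgEquiv' (R := L) (n := Fin (Nat.card R))).toRingEquiv.toRingHom.comp φ.mapMatrix).comp
      (LinearMap.toMatrixAlgEquiv b).toRingEquiv.toRingHom
  have hΨ : Function.Injective Ψ := fun x y h => by
    simp only [Ψ, RingHom.coe_comp, Function.comp_apply] at h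
    exact (LinearMap.toMatrixAlgEquiv b).injective
      (Matrix.map_injective φ.injective ((Matrix.toLinAlgEquiv' (R := L)).injective h))
  let ρL : Representation L ↥(K ⊔ R) (Fin (Nat.card R) → L) := Ψ.toMonoidHom.comp ρ
  have hsum : ∀ v, ∑ n : K.subgroupOf (K ⊔ R), ρL (n : ↥(K ⊔ R)) v = 0 := fun v => by
    have h0 : ∑ n : K.subgroupOf (K ⊔ R), ρ (n : ↥(K ⊔ R)) = 0 := LinearMap.ext fun x => by
      rw [LinearMap.sum_apply]
      exact sum_eq_zero_of_inf_centralizer le_sup_left ρ e he he0 hC x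
    have h1 := congrArg Ψ h0
    rw [map_sum, map_zero] at h1
    have h2 := LinearMap.congr_fun h1 v
    rw [LinearMap.sum_apply] at h2
    exact h2
  have key := commute_of_prime_dim ρL (K.subgroupOf (K ⊔ R)) (R.subgroupOf (K ⊔ R)) hp
    (by rw [← Nat.card_eq_fintype_card]; exact Nat.card_congr (Subgroup.subgroupOfEquivOfLe le_sup_right).toEquiv)
    (Module.finrank_fin_fun L) (actsFPF_subgroupOf _ hfpf)
    (solvable_of_solvable_injective (f := (Subgroup.subgroupOfEquivOfLe (le_sup_left : K ≤ K ⊔ R)).toMonoidHom)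
      (MulEquiv.injective _))
    (by
      rw [← map_natCast φ, Ne, map_eq_zero_iff φ φ.injective, ZMod.natCast_eq_zero_iff,
        ← Nat.card_eq_fintype_card, hcK]
      exact hqK)
    (by rw [← Nat.card_eq_fintype_card, hcK]; exact not_dvd_of_fpf hp K R rfl hRK hfpf) hsum
  rw [Subgroup.commutator_le]
  intro a ha c hc
  let a' : ↥(K ⊔ R) := ⟨a, Subgroup.mem_sup_left ha⟩
  let c' : ↥(K ⊔ R) := ⟨c, Subgroup.mem_sup_left hc⟩
  have hac : ρ a' * ρ c' = ρ c' * ρ a' := hΨ (by rw [map_mul, map_mul]; exact key a' ha c' hc)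
  refine Subgroup.mem_centralizer_iff.2 fun v hv => ?_
  have h1 : ρ ⁅a', c'⁆ = 1 := by
    rw [_root_.commutatorElement_def, map_mul, map_mul, map_mul, hac, mul_assoc (ρ c'), ← map_mul, mul_inv_cancel, map_one, mul_one,
      ← map_mul, mul_inv_cancel, map_one]
  have h2 := he ⁅a', c'⁆ (e.symm ⟨v, hv⟩)
  rw [h1, Module.End.one_apply, Equiv.apply_symm_apply] at h2
  exact eq_mul_inv_iff_mul_eq.1 h2

end Cfsg.Agent.Transfer.FrobFix
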