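import Mathlib
import Cfsg.Agent.Lib.Transfer.FrobeniusFixed
import Cfsg.Agent.Lib.Grp.Coprime
import Cfsg.Agent.Lib.Grp.QuotientNormalizer
import Cfsg.Agent.Lib.Grp.SameOrderConj
import Cfsg.Agent.Lib.Grp.Solvable
import Cfsg.Agent.Lib.Grp.Basic

/-!
The fixed-point formula for a Frobenius group acting coprimely on a solvable group.
-/

set_option autoImplicit false
set_option maxHeartbeats 1000000

namespace Cfsg.Agent.Transfer.FrobFix

open scoped commutatorElement Pointwise

universe u

variable {X : Type u} [Group X]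

theorem centralizer_sup (A B : Subgroup X) :
    Subgroup.centralizer ((A ⊔ B : Subgroup X) : Set X) =
      Subgroup.centralizer (A : Set X) ⊓ Subgroup.centralizer (B : Set X) := by
  refine le_antisymm (le_inf (Subgroup.centralizer_le (SetLike.coe_subset_coe.2 le_sup_left)) (Subgroup.centralizer_le (SetLike.coe_subset_coe.2 le_sup_right))) ?_
  rintro x ⟨hA, hB⟩
  have h : A ⊔ B ≤ Subgroup.centralizer ({x} : Set X) := sup_le
    (fun a ha => Subgroup.mem_centralizer_singleton_iff.2 (Subgroup.mem_centralizer_iff.1 hA a ha))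
    (fun a ha => Subgroup.mem_centralizer_singleton_iff.2 (Subgroup.mem_centralizer_iff.1 hB a ha))
  exact Subgroup.mem_centralizer_iff.2 fun s hs => Subgroup.mem_centralizer_singleton_iff.1 (h hs)

theorem card_subgroupOf_of_le {A T : Subgroup X} (h : A ≤ T) : Nat.card (A.subgroupOf T) = Nat.card A :=
  Nat.card_congr (Subgroup.subgroupOfEquivOfLe h).toEquiv

theorem inf_centralizer_subgroupOf {A B T : Subgroup X} (hB : B ≤ T) :
    (A ⊓ Subgroup.centralizer (B : Set X)).subgroupOf T =
      A.subgroupOf T ⊓ Subgroup.centralizer (B.subgroupOf T : Set T) := by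
  ext x
  refine ⟨fun h => ⟨h.1, Subgroup.mem_centralizer_iff.2 fun b hb =>
    Subtype.ext (Subgroup.mem_centralizer_iff.1 h.2 _ hb)⟩, fun h => ⟨h.1, Subgroup.mem_centralizer_iff.2 fun b hb => ?_⟩⟩
  exact congrArg Subtype.val (Subgroup.mem_centralizer_iff.1 h.2 ⟨b, hB hb⟩ hb)

theorem fpf_subgroupOf {U E : Subgroup X} (T : Subgroup X)
    (hfpf : ∀ e ∈ E, e ≠ 1 → ∀ u ∈ U, e * u = u * e → u = 1) :
    ∀ e ∈ E.subgroupOf T, e ≠ 1 → ∀ u ∈ U.subgroupOf T, e * u = u * e → u = 1 :=
  fun _ he he1 _ hu h => Subtype.ext (hfpf _ he (fun c => he1 (Subtype.ext c)) _ hu (congrArg Subtype.val h))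

theorem normalizer_subgroupOf_le {A B T : Subgroup X} (h : B ≤ Subgroup.normalizer (A : Set X)) :
    B.subgroupOf T ≤ Subgroup.normalizer (A.subgroupOf T : Set T) := fun b hb =>
  Subgroup.mem_normalizer_iff.2 fun x => Subgroup.mem_normalizer_iff.1 (h hb) (x : X)

theorem isSolvable_subgroupOf {A T : Subgroup X} (h : A ≤ T) (hs : Group.IsSolvable A) :
    Group.IsSolvable (A.subgroupOf T) :=
  solvable_of_solvable_injective (f := (Subgroup.subgroupOfEquivOfLe h).toMonoidHom) (MulEquiv.injective _)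

section quotient

variable [Finite X] (V : Subgroup X) [V.Normal]

theorem card_inf_centralizer_quotient {S H : Subgroup X} (hcop : (Nat.card V).Coprime (Nat.card S))
    (hs : Group.IsSolvable V) (hVH : V ≤ H) :
    Nat.card ↥(H.map (QuotientGroup.mk' V) ⊓ Subgroup.centralizer (S.map (QuotientGroup.mk' V) : Set (X ⧸ V))) *
      Nat.card ↥(V ⊓ Subgroup.centralizer (S : Set X)) = Nat.card ↥(H ⊓ Subgroup.centralizer (S : Set X)) := by
  have e : H.map (QuotientGroup.mk' V) ⊓ Subgroup.centralizer (S.map (QuotientGroup.mk' V) : Set (X ⧸ V)) =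
      (H ⊓ Subgroup.centralizer (S : Set X)).map (QuotientGroup.mk' V) := by
    refine le_antisymm ?_ ?_
    · rintro y ⟨hyH, hyC⟩
      rw [SetLike.mem_coe, Grp.QuotNorm.centralizer_map V S hcop (Or.inl hs)] at hyC
      obtain ⟨c, hc, rfl⟩ := Subgroup.mem_map.1 hyC
      refine Subgroup.mem_map_of_mem _ ⟨?_, hc⟩
      have h1 : c ∈ (H.map (QuotientGroup.mk' V)).comap (QuotientGroup.mk' V) := hyH
      rwa [Subgroup.comap_map_eq, QuotientGroup.ker_mk', sup_of_le_left hVH] at h1
    · rw [Grp.QuotNorm.centralizer_map V S hcop (Or.inl hs)]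
      exact le_inf (Subgroup.map_mono inf_le_left) (Subgroup.map_mono inf_le_right)
  rw [e]
  conv_rhs => rw [← Grp.SameOrder.card_map_mk V (H ⊓ Subgroup.centralizer (S : Set X))]
  rw [← inf_assoc, inf_of_le_left hVH]

theorem card_map_of_coprime {A : Subgroup X} (hcop : (Nat.card V).Coprime (Nat.card A)) :
    Nat.card (A.map (QuotientGroup.mk' V)) = Nat.card A := by
  have := Grp.SameOrder.card_map_mk V A
  rwa [Grp.inf_eq_bot_of_coprime hcop, Subgroup.card_bot, mul_one] at this

theorem fpf_map {U E : Subgroup X} (hcop : (Nat.card V).Coprime (Nat.card ↥(U ⊔ E)))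
    (hfpf : ∀ e ∈ E, e ≠ 1 → ∀ u ∈ U, e * u = u * e → u = 1) :
    ∀ e ∈ E.map (QuotientGroup.mk' V), e ≠ 1 → ∀ u ∈ U.map (QuotientGroup.mk' V), e * u = u * e → u = 1 := by
  rintro _ ⟨e, he, rfl⟩ he1 _ ⟨u, hu, rfl⟩ h
  have hm : (e * u) * (u * e)⁻¹ ∈ V ⊓ (U ⊔ E) := by
    refine Subgroup.mem_inf.2 ⟨?_, ?_⟩
    · rw [← QuotientGroup.eq_one_iff]
      show QuotientGroup.mk' V ((e * u) * (u * e)⁻¹) = 1
      rw [map_mul, map_inv, map_mul, map_mul, h, mul_inv_cancel]
    · have h1 : e ∈ U ⊔ E := Subgroup.mem_sup_right he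
      have h2 : u ∈ U ⊔ E := Subgroup.mem_sup_left hu
      exact mul_mem (mul_mem h1 h2) (inv_mem (mul_mem h2 h1))
  rw [Grp.inf_eq_bot_of_coprime hcop, Subgroup.mem_bot, mul_inv_eq_one] at hm
  rw [hfpf e he (fun c => he1 (by rw [c, map_one])) u hu hm, map_one]

theorem isSolvable_map {A : Subgroup X} (hs : Group.IsSolvable A) :
    Group.IsSolvable (A.map (QuotientGroup.mk' V)) :=
  solvable_of_surjective ((QuotientGroup.mk' V).subgroupMap_surjective A)

end quotient

theorem coprime_of_le [Finite X] {A B C D : Subgroup X} (h : (Nat.card A).Coprime (Nat.card B)) (hC : C ≤ A) (hD : D ≤ B) :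
    (Nat.card C).Coprime (Nat.card D) :=
  (h.coprime_dvd_left (Subgroup.card_dvd_of_le hC)).coprime_dvd_right (Subgroup.card_dvd_of_le hD)

theorem fixed_formula_aux (n : ℕ) : ∀ (X : Type u) [Group X] [Finite X] (U E H : Subgroup X), Nat.card H = n →
    U ⊔ E ≤ Subgroup.normalizer (H : Set X) → E ≤ Subgroup.normalizer (U : Set X) →
    (∀ e ∈ E, e ≠ 1 → ∀ u ∈ U, e * u = u * e → u = 1) → Group.IsSolvable U → Group.IsSolvable H →
    (Nat.card H).Coprime (Nat.card ↥(U ⊔ E)) →
    Nat.card ↥(H ⊓ Subgroup.centralizer ((U ⊔ E : Subgroup X) : Set X)) ^ Nat.card E * Nat.card H =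
      Nat.card ↥(H ⊓ Subgroup.centralizer (E : Set X)) ^ Nat.card E *
        Nat.card ↥(H ⊓ Subgroup.centralizer (U : Set X)) := by
  induction n using Nat.strong_induction_on with
  | _ n ih =>
  suffices red : ∀ (X : Type u) [Group X] [Finite X] (U E H : Subgroup X) [H.Normal], H ⊔ (U ⊔ E) = ⊤ → Nat.card H = n →
      E ≤ Subgroup.normalizer (U : Set X) →
      (∀ e ∈ E, e ≠ 1 → ∀ u ∈ U, e * u = u * e → u = 1) → Group.IsSolvable U → Group.IsSolvable H →
      (Nat.card H).Coprime (Nat.card ↥(U ⊔ E)) →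
      Nat.card ↥(H ⊓ Subgroup.centralizer ((U ⊔ E : Subgroup X) : Set X)) ^ Nat.card E * Nat.card H =
        Nat.card ↥(H ⊓ Subgroup.centralizer (E : Set X)) ^ Nat.card E *
          Nat.card ↥(H ⊓ Subgroup.centralizer (U : Set X)) by
    intro X _ _ U E H hn hH hEU hfpf hsU hsH hcop
    let T := H ⊔ (U ⊔ E)
    have hHT : H ≤ T := le_sup_left
    have hST : U ⊔ E ≤ T := le_sup_right
    have hUT : U ≤ T := le_sup_left.trans hST
    have hET : E ≤ T := le_sup_right.trans hST
    haveI : (H.subgroupOf T).Normal :=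
      (Subgroup.normal_subgroupOf_iff_le_normalizer hHT).2 (sup_le Subgroup.le_normalizer hH)
    have := red T (U.subgroupOf T) (E.subgroupOf T) (H.subgroupOf T)
      (by rw [← Subgroup.subgroupOf_sup hUT hET, ← Subgroup.subgroupOf_sup hHT hST, Subgroup.subgroupOf_self])
      (by rw [card_subgroupOf_of_le hHT, hn]) (normalizer_subgroupOf_le hEU) (fpf_subgroupOf T hfpf)
      (isSolvable_subgroupOf hUT hsU) (isSolvable_subgroupOf hHT hsH)
      (by rw [← Subgroup.subgroupOf_sup hUT hET, card_subgroupOf_of_le hHT, card_subgroupOf_of_le hST]; exact hcop)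
    rw [← Subgroup.subgroupOf_sup hUT hET, ← inf_centralizer_subgroupOf hST, ← inf_centralizer_subgroupOf hUT,
      ← inf_centralizer_subgroupOf hET, card_subgroupOf_of_le (inf_le_left.trans hHT),
      card_subgroupOf_of_le (inf_le_left.trans hHT), card_subgroupOf_of_le (inf_le_left.trans hHT),
      card_subgroupOf_of_le hHT, card_subgroupOf_of_le hET] at this
    exact this
  intro X _ _ U E H _ htop hn hEU hfpf hsU hsH hcop
  rcases eq_or_ne H ⊥ with rfl | hH
  · simp
  obtain ⟨V, hVn, hV0, hVH, hmin⟩ := Grp.exists_minimal_normal_le hH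
  haveI := hVn
  have hsV : Group.IsSolvable V :=
    haveI := hsH
    solvable_of_solvable_injective (Subgroup.inclusion_injective hVH)
  by_cases hVeq : V = H
  · subst hVeq
    obtain ⟨hab, q, hq, hexp⟩ := Grp.minimal_normal_solvable hsV hV0 hmin
    have hC : (V ⊓ Subgroup.centralizer (U : Set X)).Normal := by
      rw [← Subgroup.normalizer_eq_top_iff, ← top_le_iff, ← htop]
      have hmem : ∀ g x, g ∈ U → x ∈ V ⊓ Subgroup.centralizer (U : Set X) → g * x * g⁻¹ = x := fun g x hg hx => by
        rw [Subgroup.mem_centralizer_iff.1 hx.2 g hg, mul_inv_cancel_right]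
      refine sup_le (fun g hg => ?_) (sup_le (fun g hg => ?_) fun g hg => ?_)
      · refine Subgroup.mem_normalizer_fintype fun x hx => ?_
        have : g * x = x * g := congrArg Subtype.val (mul_comm' (⟨g, hg⟩ : V) ⟨x, hx.1⟩)
        rw [this, mul_inv_cancel_right]
        exact hx
      · exact Subgroup.mem_normalizer_fintype fun x hx => by rw [hmem g x hg hx]; exact hx
      · refine Subgroup.mem_normalizer_fintype fun x hx => ⟨hVn.conj_mem x hx.1 g, ?_⟩
        refine Subgroup.mem_centralizer_iff.2 fun u hu => ?_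
        have hu' : g⁻¹ * u * g ∈ U := by
          have := (Subgroup.mem_normalizer_iff.1 (hEU (inv_mem hg)) u).1 hu
          rwa [inv_inv] at this
        calc u * (g * x * g⁻¹) = g * ((g⁻¹ * u * g) * x) * g⁻¹ := by group
          _ = g * (x * (g⁻¹ * u * g)) * g⁻¹ := by rw [Subgroup.mem_centralizer_iff.1 hx.2 _ hu']
          _ = _ := by group
    rcases hmin _ hC inf_le_left with hb | hb
    · have hqS : ¬ q ∣ Nat.card U := by
        obtain ⟨v, hv, hv1⟩ := (Subgroup.bot_or_exists_ne_one V).resolve_left hV0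
        have hord : orderOf v = q :=
          haveI := Fact.mk hq
          orderOf_eq_prime (hexp v hv) hv1
        have hqV : q ∣ Nat.card V := hord ▸ Subgroup.orderOf_dvd_natCard V hv
        intro hd
        exact hq.one_lt.ne' (Nat.eq_one_of_dvd_coprimes hcop hqV
          (hd.trans (Subgroup.card_dvd_of_le (le_sup_left : U ≤ U ⊔ E))))
      have h2 : V ⊓ Subgroup.centralizer ((U ⊔ E : Subgroup X) : Set X) = ⊥ := by
        rw [eq_bot_iff, centralizer_sup, ← hb, ← inf_assoc]; exact inf_le_left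
      rw [h2, hb, Subgroup.card_bot, one_pow, one_mul, mul_one]
      exact card_eq_pow hq V U E hab hexp (by rw [Subgroup.normalizer_eq_top]; exact le_top) hEU hfpf hsU hqS hb
    · rw [centralizer_sup, ← inf_assoc, hb]
  · have hlt : Nat.card V < n := by
      rw [← hn]
      exact lt_of_le_of_ne (Subgroup.card_le_of_le hVH) fun e => hVeq (Subgroup.eq_of_le_of_card_ge hVH e.ge)
    have hcS : (Nat.card V).Coprime (Nat.card ↥(U ⊔ E)) := coprime_of_le hcop hVH le_rfl
    have h1 := ih _ hlt X U E V rfl (by rw [Subgroup.normalizer_eq_top]; exact le_top) hEU hfpf hsU hsV hcS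
    let φ := QuotientGroup.mk' V
    have hmapH := Grp.SameOrder.card_map_mk V H
    rw [inf_of_le_left hVH] at hmapH
    have hlt2 : Nat.card (H.map φ) < n := by
      rw [← hn, ← hmapH]
      exact lt_mul_of_one_lt_right Nat.card_pos ((Subgroup.one_lt_card_iff_ne_bot _).2 hV0)
    have hcE : (Nat.card V).Coprime (Nat.card E) := coprime_of_le hcop hVH le_sup_right
    have hcU : (Nat.card V).Coprime (Nat.card U) := coprime_of_le hcop hVH le_sup_left
    haveI : (H.map φ).Normal := Subgroup.Normal.map inferInstance φ (QuotientGroup.mk'_surjective V)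
    have h2 := ih _ hlt2 (X ⧸ V) (U.map φ) (E.map φ) (H.map φ) rfl
      (by rw [Subgroup.normalizer_eq_top]; exact le_top)
      ((Subgroup.map_mono hEU).trans (Subgroup.le_normalizer_map _)) (fpf_map V hcS hfpf)
      (isSolvable_map V hsU) (isSolvable_map V hsH)
      (by
        rw [← Subgroup.map_sup, card_map_of_coprime V hcS]
        exact hcop.coprime_dvd_left (hmapH ▸ dvd_mul_right _ _))
    rw [← Subgroup.map_sup, card_map_of_coprime V hcE] at h2
    rw [← card_inf_centralizer_quotient V hcS hsV hVH, ← card_inf_centralizer_quotient V hcE hsV hVH,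
      ← card_inf_centralizer_quotient V hcU hsV hVH, ← hmapH, mul_pow, mul_pow]
    calc _ = (Nat.card ↥(H.map φ ⊓ Subgroup.centralizer ((U ⊔ E).map φ : Set (X ⧸ V))) ^ Nat.card E *
          Nat.card (H.map φ)) * (Nat.card ↥(V ⊓ Subgroup.centralizer ((U ⊔ E : Subgroup X) : Set X)) ^ Nat.card E *
          Nat.card V) := by ring
      _ = _ := by rw [h1, h2]; ring

/-- The fixed-point formula. -/
theorem fixed_formula [Finite X] (U E H : Subgroup X) (hH : U ⊔ E ≤ Subgroup.normalizer (H : Set X))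
    (hEU : E ≤ Subgroup.normalizer (U : Set X)) (hfpf : ∀ e ∈ E, e ≠ 1 → ∀ u ∈ U, e * u = u * e → u = 1)
    (hsU : Group.IsSolvable U) (hsH : Group.IsSolvable H) (hcop : (Nat.card H).Coprime (Nat.card ↥(U ⊔ E))) :
    Nat.card ↥(H ⊓ Subgroup.centralizer ((U ⊔ E : Subgroup X) : Set X)) ^ Nat.card E * Nat.card H =
      Nat.card ↥(H ⊓ Subgroup.centralizer (E : Set X)) ^ Nat.card E *
        Nat.card ↥(H ⊓ Subgroup.centralizer (U : Set X)) :=
  fixed_formula_aux _ X U E H rfl hH hEU hfpf hsU hsH hcop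

/-- Without fixed points of the kernel. -/
theorem card_eq_fixed_pow [Finite X] (U E H : Subgroup X) (hH : U ⊔ E ≤ Subgroup.normalizer (H : Set X))
    (hEU : E ≤ Subgroup.normalizer (U : Set X)) (hfpf : ∀ e ∈ E, e ≠ 1 → ∀ u ∈ U, e * u = u * e → u = 1)
    (hsU : Group.IsSolvable U) (hsH : Group.IsSolvable H) (hcop : (Nat.card H).Coprime (Nat.card ↥(U ⊔ E)))
    (hC : H ⊓ Subgroup.centralizer (U : Set X) = ⊥) :
    Nat.card H = Nat.card ↥(H ⊓ Subgroup.centralizer (E : Set X)) ^ Nat.card E := by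
  have h := fixed_formula U E H hH hEU hfpf hsU hsH hcop
  rwa [show H ⊓ Subgroup.centralizer ((U ⊔ E : Subgroup X) : Set X) = ⊥ by
      rw [eq_bot_iff, centralizer_sup, ← hC, ← inf_assoc]; exact inf_le_left,
    hC, Subgroup.card_bot, one_pow, one_mul, mul_one] at h

theorem commutator_le_centralizer_aux (n : ℕ) : ∀ (X : Type u) [Group X] [Finite X] (K R M : Subgroup X),
    Nat.card M = n → K ⊔ R ≤ Subgroup.normalizer (M : Set X) → R ≤ Subgroup.normalizer (K : Set X) →
    (∀ e ∈ R, e ≠ 1 → ∀ u ∈ K, e * u = u * e → u = 1) → Group.IsSolvable K → Group.IsSolvable M →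
    (Nat.card R).Prime → (Nat.card M).Coprime (Nat.card ↥(K ⊔ R)) →
    M ⊓ Subgroup.centralizer (K : Set X) = ⊥ → IsCyclic ↥(M ⊓ Subgroup.centralizer (R : Set X)) →
    ⁅K, K⁆ ≤ Subgroup.centralizer (M : Set X) := by
  induction n using Nat.strong_induction_on with
  | _ n ih =>
  suffices red : ∀ (X : Type u) [Group X] [Finite X] (K R M : Subgroup X) [M.Normal],
      Nat.card M = n → R ≤ Subgroup.normalizer (K : Set X) →
      (∀ e ∈ R, e ≠ 1 → ∀ u ∈ K, e * u = u * e → u = 1) → Group.IsSolvable K → Group.IsSolvable M →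
      (Nat.card R).Prime → (Nat.card M).Coprime (Nat.card ↥(K ⊔ R)) →
      M ⊓ Subgroup.centralizer (K : Set X) = ⊥ → IsCyclic ↥(M ⊓ Subgroup.centralizer (R : Set X)) →
      ⁅K, K⁆ ≤ Subgroup.centralizer (M : Set X) by
    intro X _ _ K R M hn hM hRK hfpf hsK hsM hp hcop hC hcyc
    let T := M ⊔ (K ⊔ R)
    have hMT : M ≤ T := le_sup_left
    have hST : K ⊔ R ≤ T := le_sup_right
    have hKT : K ≤ T := le_sup_left.trans hST
    have hRT : R ≤ T := le_sup_right.trans hST
    haveI : (M.subgroupOf T).Normal :=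
      (Subgroup.normal_subgroupOf_iff_le_normalizer hMT).2 (sup_le Subgroup.le_normalizer hM)
    haveI := hcyc
    have := red T (K.subgroupOf T) (R.subgroupOf T) (M.subgroupOf T)
      (by rw [card_subgroupOf_of_le hMT, hn]) (normalizer_subgroupOf_le hRK) (fpf_subgroupOf T hfpf)
      (isSolvable_subgroupOf hKT hsK) (isSolvable_subgroupOf hMT hsM) (by rw [card_subgroupOf_of_le hRT]; exact hp)
      (by rw [← Subgroup.subgroupOf_sup hKT hRT, card_subgroupOf_of_le hMT, card_subgroupOf_of_le hST]; exact hcop)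
      (by rw [← inf_centralizer_subgroupOf hKT, hC, Subgroup.bot_subgroupOf])
      (by
        rw [← inf_centralizer_subgroupOf hRT]
        exact (Subgroup.subgroupOfEquivOfLe (inf_le_left.trans hMT)).isCyclic.2 hcyc)
    rw [Subgroup.commutator_le] at this ⊢
    intro a ha b hb
    have h := this ⟨a, hKT ha⟩ ha ⟨b, hKT hb⟩ hb
    exact Subgroup.mem_centralizer_iff.2 fun m hm =>
      congrArg Subtype.val (Subgroup.mem_centralizer_iff.1 h ⟨m, hMT hm⟩ hm)
  intro X _ _ K R M _ hn hRK hfpf hsK hsM hp hcop hC hcyc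
  rcases eq_or_ne M ⊥ with rfl | hM
  · intro x _
    exact Subgroup.mem_centralizer_iff.2 fun m hm => by rw [Subgroup.mem_bot.1 hm, one_mul, mul_one]
  obtain ⟨V, hVn, hV0, hVM, hmin⟩ := Grp.exists_minimal_normal_le hM
  haveI := hVn
  have hsV : Group.IsSolvable V :=
    haveI := hsM
    solvable_of_solvable_injective (Subgroup.inclusion_injective hVM)
  have hcK : (Nat.card M).Coprime (Nat.card K) := coprime_of_le hcop le_rfl le_sup_left
  by_cases hVeq : V = M
  · subst hVeq
    obtain ⟨hab, q, hq, hexp⟩ := Grp.minimal_normal_solvable hsV hV0 hmin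
    haveI := Fact.mk hq
    have hqK : ¬ q ∣ Nat.card K := by
      obtain ⟨v, hv, hv1⟩ := (Subgroup.bot_or_exists_ne_one V).resolve_left hV0
      have hqV : q ∣ Nat.card V := (orderOf_eq_prime (hexp v hv) hv1) ▸ Subgroup.orderOf_dvd_natCard V hv
      intro hd
      exact hq.one_lt.ne' (Nat.eq_one_of_dvd_coprimes hcK hqV hd)
    have hcard := card_eq_fixed_pow K R V (by rw [Subgroup.normalizer_eq_top]; exact le_top) hRK hfpf hsK hsV hcop hC
    have hc : Nat.card ↥(V ⊓ Subgroup.centralizer (R : Set X)) = q := by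
      haveI := hcyc
      obtain ⟨g, hg⟩ := IsCyclic.exists_ofOrder_eq_natCard (α := ↥(V ⊓ Subgroup.centralizer (R : Set X)))
      have hd : Nat.card ↥(V ⊓ Subgroup.centralizer (R : Set X)) ∣ q := by
        rw [← hg, ← Subgroup.orderOf_coe]; exact orderOf_dvd_of_pow_eq_one (hexp _ g.2.1)
      refine (hq.eq_one_or_self_of_dvd _ hd).resolve_left fun e => ?_
      rw [e, one_pow] at hcard
      exact hV0 (Subgroup.card_eq_one.1 hcard)
    rw [hc] at hcard
    exact commutator_le_centralizer_elementary hq V K R hab hexp (by rw [Subgroup.normalizer_eq_top]; exact le_top)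
      hRK hfpf hsK hqK hC hp hcard
  · have hlt : Nat.card V < n := by
      rw [← hn]
      exact lt_of_le_of_ne (Subgroup.card_le_of_le hVM) fun e => hVeq (Subgroup.eq_of_le_of_card_ge hVM e.ge)
    have hcS : (Nat.card V).Coprime (Nat.card ↥(K ⊔ R)) := coprime_of_le hcop hVM le_rfl
    haveI := hcyc
    have h1 := ih _ hlt X K R V rfl (by rw [Subgroup.normalizer_eq_top]; exact le_top) hRK hfpf hsK hsV hp hcS
      (eq_bot_iff.2 (hC ▸ inf_le_inf_right _ hVM))
      (isCyclic_of_injective _ (Subgroup.inclusion_injective (inf_le_inf_right _ hVM)))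
    let φ := QuotientGroup.mk' V
    have hmapM := Grp.SameOrder.card_map_mk V M
    rw [inf_of_le_left hVM] at hmapM
    have hlt2 : Nat.card (M.map φ) < n := by
      rw [← hn, ← hmapM]
      exact lt_mul_of_one_lt_right Nat.card_pos ((Subgroup.one_lt_card_iff_ne_bot _).2 hV0)
    have hcVR : (Nat.card V).Coprime (Nat.card R) := coprime_of_le hcop hVM le_sup_right
    have hcVK : (Nat.card V).Coprime (Nat.card K) := coprime_of_le hcop hVM le_sup_left
    haveI : (M.map φ).Normal := Subgroup.Normal.map inferInstance φ (QuotientGroup.mk'_surjective V)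
    have hcentK : M.map φ ⊓ Subgroup.centralizer (K.map φ : Set (X ⧸ V)) = ⊥ := by
      have h := card_inf_centralizer_quotient V hcVK hsV hVM
      rw [hC, Subgroup.card_bot] at h
      exact Subgroup.card_eq_one.1 (Nat.eq_one_of_mul_eq_one_right h)
    have hcentR : IsCyclic ↥(M.map φ ⊓ Subgroup.centralizer (R.map φ : Set (X ⧸ V))) := by
      have e : M.map φ ⊓ Subgroup.centralizer (R.map φ : Set (X ⧸ V)) =
          (M ⊓ Subgroup.centralizer (R : Set X)).map φ := by
        refine le_antisymm ?_ ?_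
        · rintro y ⟨hyM, hyC⟩
          rw [SetLike.mem_coe, Grp.QuotNorm.centralizer_map V R hcVR (Or.inl hsV)] at hyC
          obtain ⟨c, hc, rfl⟩ := Subgroup.mem_map.1 hyC
          refine Subgroup.mem_map_of_mem _ ⟨?_, hc⟩
          have h1 : c ∈ (M.map φ).comap φ := hyM
          rwa [Subgroup.comap_map_eq, QuotientGroup.ker_mk', sup_of_le_left hVM] at h1
        · rw [Grp.QuotNorm.centralizer_map V R hcVR (Or.inl hsV)]
          exact le_inf (Subgroup.map_mono inf_le_left) (Subgroup.map_mono inf_le_right)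
      rw [e]
      exact isCyclic_of_surjective _ (φ.subgroupMap_surjective _)
    have h2 := ih _ hlt2 (X ⧸ V) (K.map φ) (R.map φ) (M.map φ) rfl
      (by rw [Subgroup.normalizer_eq_top]; exact le_top)
      ((Subgroup.map_mono hRK).trans (Subgroup.le_normalizer_map _)) (fpf_map V hcS hfpf)
      (isSolvable_map V hsK) (isSolvable_map V hsM) (by rw [card_map_of_coprime V hcVR]; exact hp)
      (by
        rw [← Subgroup.map_sup, card_map_of_coprime V hcS]
        exact hcop.coprime_dvd_left (hmapM ▸ dvd_mul_right _ _))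
      hcentK hcentR
    rw [← Subgroup.map_commutator, ← Subgroup.commutator_eq_bot_iff_le_centralizer, ← Subgroup.map_commutator,
      Subgroup.map_eq_bot_iff, QuotientGroup.ker_mk', Subgroup.commutator_comm] at h2
    rw [← Subgroup.commutator_eq_bot_iff_le_centralizer, Subgroup.commutator_comm] at h1
    exact Grp.le_centralizer_of_series ⁅K, K⁆ M V (by rw [Subgroup.normalizer_eq_top]; exact le_top)
      (coprime_of_le hcK.symm (Subgroup.commutator_le_self K) le_rfl) (Or.inr hsM) h2 h1

theorem commutator_le_centralizer [Finite X] (K R M : Subgroup X) (hM : K ⊔ R ≤ Subgroup.normalizer (M : Set X))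
    (hRK : R ≤ Subgroup.normalizer (K : Set X)) (hfpf : ∀ e ∈ R, e ≠ 1 → ∀ u ∈ K, e * u = u * e → u = 1)
    (hsK : Group.IsSolvable K) (hsM : Group.IsSolvable M) (hp : (Nat.card R).Prime)
    (hcop : (Nat.card M).Coprime (Nat.card ↥(K ⊔ R))) (hC : M ⊓ Subgroup.centralizer (K : Set X) = ⊥)
    (hcyc : IsCyclic ↥(M ⊓ Subgroup.centralizer (R : Set X))) :
    ⁅K, K⁆ ≤ Subgroup.centralizer (M : Set X) :=
  commutator_le_centralizer_aux _ X K R M rfl hM hRK hfpf hsK hsM hp hcop hC hcyc

end Cfsg.Agent.Transfer.FrobFix
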