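import Cfsg.Agent.Lib.Transfer.OrderType

/-! A solvable and a non-solvable finite group of the same order type, built from small factors.
With `L = GL(3,2)` the identity of root counts reads
`L³ × A₄³ × F₂₁⁴ × (D₁₄ ×₂ F₄₂)² × ((D₁₄ × D₁₄) ×₂ D₈)³ × D₈³ × (D₈ ×₂ D₈)³ =
 AΓL(1,8)³ × C₇ × (F₄₂ ×₂ D₈ ×₂ D₈)³ × (D₁₄ ×₂ D₁₄)² × (F₄₂ ×₂ D₈)³ × ((D₁₄ × D₈) ×₂ S₄)³`. -/

set_option autoImplicit false
set_option maxRecDepth 8000
set_option maxHeartbeats 1000000

namespace Cfsg.Agent.Transfer.OrderTypeExample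

open Cfsg.Agent.Transfer.OrderType
open scoped commutatorElement

abbrev C7 := Multiplicative (ZMod 7)
abbrev W := ZMod 2 × ZMod 2 × ZMod 2
abbrev V := Multiplicative W
abbrev V4 := Multiplicative (ZMod 2 × ZMod 2)

def act6 : Multiplicative (ZMod 6) →* MulAut C7 :=
  mkAct (fun g v => Multiplicative.ofAdd ((3 : ZMod 7) ^ g.toAdd.val * v.toAdd))
    (by decide +kernel) (by decide +kernel) (by decide +kernel)

def act3 : Multiplicative (ZMod 3) →* MulAut C7 :=
  mkAct (fun g v => Multiplicative.ofAdd ((2 : ZMod 7) ^ g.toAdd.val * v.toAdd))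
    (by decide +kernel) (by decide +kernel) (by decide +kernel)

abbrev F42 := SemidirectProduct C7 (Multiplicative (ZMod 6)) act6
abbrev F21 := SemidirectProduct C7 (Multiplicative (ZMod 3)) act3

def actAGL : F21 →* MulAut V :=
  mkAct (fun g v => Multiplicative.ofAdd
      ((fun w : W => (w.2.2, w.1 + w.2.2, w.2.1))^[g.left.toAdd.val]
        ((fun w : W => (w.1, w.2.2, w.2.1 + w.2.2))^[g.right.toAdd.val] v.toAdd)))
    (by decide +kernel) (by decide +kernel) (by decide +kernel)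

abbrev AGL := SemidirectProduct V F21 actAGL

def actS4 : DihedralGroup 3 →* MulAut V4 :=
  mkAct (fun g v => Multiplicative.ofAdd
      (match g with
       | DihedralGroup.r i => (fun w : ZMod 2 × ZMod 2 => (w.2, w.1 + w.2))^[i.val] v.toAdd
       | DihedralGroup.sr i =>
          Prod.swap ((fun w : ZMod 2 × ZMod 2 => (w.2, w.1 + w.2))^[i.val] v.toAdd)))
    (by decide +kernel) (by decide +kernel) (by decide +kernel)

abbrev S4 := SemidirectProduct V4 (DihedralGroup 3) actS4

/-- Reflection character of a dihedral group. -/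
def dsign {n : ℕ} : DihedralGroup n →* ℤˣ where
  toFun | .r _ => 1
        | .sr _ => -1
  map_one' := rfl
  map_mul' := by rintro (i | i) (j | j) <;> rfl

theorem isSolvable_dihedral (n : ℕ) : Group.IsSolvable (DihedralGroup n) := by
  let f : Multiplicative (ZMod n) →* DihedralGroup n :=
    MonoidHom.mk' (fun i => DihedralGroup.r i.toAdd) (fun a b => by simp)
  refine Group.isSolvable_of_ker_le_range f dsign ?_
  rintro (i | i) h
  · exact ⟨Multiplicative.ofAdd i, rfl⟩
  · exact absurd (show (-1 : ℤˣ) = 1 from h) (by decide)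

instance (n : ℕ) : Group.IsSolvable (DihedralGroup n) := isSolvable_dihedral n

/-- The second character of `D₈`. -/
def rsign : DihedralGroup 4 →* ℤˣ :=
  MonoidHom.mk' (fun g => match g with
    | DihedralGroup.r i => (-1) ^ i.val
    | DihedralGroup.sr i => (-1) ^ i.val) (by decide +kernel)

def sign42 : F42 →* ℤˣ :=
  (MonoidHom.mk' (fun g : Multiplicative (ZMod 6) => ((-1 : ℤˣ) ^ g.toAdd.val))
    (by decide +kernel)).comp SemidirectProduct.rightHom

def signS4 : S4 →* ℤˣ := dsign.comp SemidirectProduct.rightHom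

instance {N H : Type} [Group N] [Group H] [Group.IsSolvable N] [Group.IsSolvable H]
    (φ : H →* MulAut N) : Group.IsSolvable (SemidirectProduct N H φ) :=
  isSolvable_semidirectProduct φ

/-! ### The group `GL(3,2)` -/

abbrev L := MulAut V

/-- The linear map with prescribed images of the basis. -/
def lin (t : V × V × V) (v : V) : V :=
  t.1 ^ v.toAdd.1.val * t.2.1 ^ v.toAdd.2.1.val * t.2.2 ^ v.toAdd.2.2.val

def e1 : V := Multiplicative.ofAdd (1, 0, 0)
def e2 : V := Multiplicative.ofAdd (0, 1, 0)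
def e3 : V := Multiplicative.ofAdd (0, 0, 1)

theorem eq_lin (φ : L) : ⇑φ = lin (φ e1, φ e2, φ e3) := by
  funext v
  have h : ∀ w : V, w = lin (e1, e2, e3) w := by decide +kernel
  conv_lhs => rw [h v]
  simp [lin, map_mul, map_pow]

theorem lin_mul : ∀ t u v, lin t (u * v) = lin t u * lin t v := by
  intro t u v
  obtain ⟨a, b, c⟩ := t
  have h : ∀ i j : ZMod 2, ∀ a : V, a ^ (i + j).val = a ^ i.val * a ^ j.val := by decide +kernel
  change a ^ (u.toAdd.1 + v.toAdd.1).val * b ^ (u.toAdd.2.1 + v.toAdd.2.1).val *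
    c ^ (u.toAdd.2.2 + v.toAdd.2.2).val = _
  rw [h, h, h]
  simp only [lin]
  ac_rfl

theorem rootCount_L (n : ℕ) :
    rootCount L n = (Finset.univ.filter fun t : V × V × V =>
      (∀ v, v ≠ 1 → lin t v ≠ 1) ∧ (lin t)^[n] e1 = e1 ∧ (lin t)^[n] e2 = e2 ∧
        (lin t)^[n] e3 = e3).card := by
  have hit : ∀ (φ : L) (m : ℕ) (v : V), (φ ^ m) v = (⇑φ)^[m] v := by
    intro φ m
    induction m with
    | zero => intro v; rfl
    | succ m ih => intro v; rw [pow_succ, MulAut.mul_apply, ih, Function.iterate_succ_apply]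
  rw [← Nat.card_eq_finsetCard]
  refine Nat.card_congr (Equiv.ofBijective
    (fun φ => ⟨(φ.1 e1, φ.1 e2, φ.1 e3),
      Finset.mem_filter.mpr ⟨Finset.mem_univ _, ?_, ?_, ?_, ?_⟩⟩) ⟨?_, ?_⟩)
  · intro v hv h
    rw [← eq_lin, EmbeddingLike.map_eq_one_iff] at h
    exact hv h
  · rw [← eq_lin, ← hit, φ.2]; rfl
  · rw [← eq_lin, ← hit, φ.2]; rfl
  · rw [← eq_lin, ← hit, φ.2]; rfl
  · intro φ ψ h
    simp only [Subtype.mk.injEq] at h
    apply Subtype.ext
    apply DFunLike.coe_injective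
    rw [eq_lin φ.1, eq_lin ψ.1, h]
  · rintro ⟨⟨a, b, c⟩, hmem⟩
    obtain ⟨-, hgood, h1, h2, h3⟩ := Finset.mem_filter.mp hmem
    let f : V →* V := MonoidHom.mk' (lin (a, b, c)) (lin_mul _)
    have finj : Function.Injective f := by
      rw [injective_iff_map_eq_one]
      intro v hv
      by_contra hne
      exact hgood v hne hv
    let φ : L := MulEquiv.ofBijective f ⟨finj, Finite.surjective_of_injective finj⟩
    have hb : ∀ a b c : V, lin (a, b, c) e1 = a ∧ lin (a, b, c) e2 = b ∧ lin (a, b, c) e3 = c := by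
      decide +kernel
    have hφ : ⇑φ = lin (a, b, c) := rfl
    refine ⟨⟨φ, ?_⟩, ?_⟩
    · apply DFunLike.coe_injective
      rw [eq_lin (φ ^ n), eq_lin (1 : L), hit, hit, hit, hφ, h1, h2, h3]
      rfl
    · apply Subtype.ext
      change (φ e1, φ e2, φ e3) = (a, b, c)
      rw [hφ, (hb a b c).1, (hb a b c).2.1, (hb a b c).2.2]

theorem not_isSolvable_L : ¬ Group.IsSolvable L := by
  have mk : ∀ t : V × V × V, (∀ v, lin t (lin t v) = v) → ∃ φ : L, ⇑φ = lin t := fun t h =>
    ⟨{ toFun := lin t, invFun := lin t, left_inv := h, right_inv := h, map_mul' := lin_mul t }, rfl⟩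
  obtain ⟨a, ha⟩ := mk (e1 * e2, e2, e3) (by decide +kernel)
  obtain ⟨b, hb⟩ := mk (e1 * e3, e2, e3) (by decide +kernel)
  obtain ⟨c, hc⟩ := mk (e1, e2 * e1, e3) (by decide +kernel)
  obtain ⟨d, hd⟩ := mk (e1, e2 * e3, e3) (by decide +kernel)
  obtain ⟨e, he⟩ := mk (e1, e2, e3 * e1) (by decide +kernel)
  obtain ⟨f, hf⟩ := mk (e1, e2, e3 * e2) (by decide +kernel)
  have inv2 : ∀ (φ : L) (t : V × V × V), ⇑φ = lin t → (∀ v, lin t (lin t v) = v) →
      φ⁻¹ = φ := by
    intro φ t h h'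
    rw [inv_eq_iff_mul_eq_one]
    apply MulEquiv.ext
    intro v
    rw [MulAut.mul_apply, h, h']
    rfl
  have ia := inv2 a _ ha (by decide +kernel)
  have ib := inv2 b _ hb (by decide +kernel)
  have ic := inv2 c _ hc (by decide +kernel)
  have id' := inv2 d _ hd (by decide +kernel)
  have ie := inv2 e _ he (by decide +kernel)
  have if' := inv2 f _ hf (by decide +kernel)
  have key : ∀ (x y z : L) (r s t : V × V × V), ⇑x = lin r → ⇑y = lin s → ⇑z = lin t →
      x⁻¹ = x → y⁻¹ = y → (∀ v, lin r (lin s (lin r (lin s v))) = lin t v) → ⁅x, y⁆ = z := by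
    intro x y z r s t hx hy hz hx' hy' h
    rw [commutatorElement_def, hx', hy']
    apply MulEquiv.ext
    intro v
    rw [MulAut.mul_apply, MulAut.mul_apply, MulAut.mul_apply, hx, hy, hz, h]
  have k1 : ⁅b, f⁆ = a := key _ _ _ _ _ _ hb hf ha ib if' (by decide +kernel)
  have k2 : ⁅a, d⁆ = b := key _ _ _ _ _ _ ha hd hb ia id' (by decide +kernel)
  have k3 : ⁅d, e⁆ = c := key _ _ _ _ _ _ hd he hc id' ie (by decide +kernel)
  have k4 : ⁅c, b⁆ = d := key _ _ _ _ _ _ hc hb hd ic ib (by decide +kernel)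
  have k5 : ⁅f, c⁆ = e := key _ _ _ _ _ _ hf hc he if' ic (by decide +kernel)
  have k6 : ⁅e, a⁆ = f := key _ _ _ _ _ _ he ha hf ie ia (by decide +kernel)
  intro hs
  obtain ⟨n, hn⟩ := Group.isSolvable_def L |>.mp hs
  have h : ∀ m, a ∈ derivedSeries L m ∧ b ∈ derivedSeries L m ∧ c ∈ derivedSeries L m ∧
      d ∈ derivedSeries L m ∧ e ∈ derivedSeries L m ∧ f ∈ derivedSeries L m := by
    intro m
    induction m with
    | zero => simp
    | succ m ih =>
      obtain ⟨pa, pb, pc, pd, pe, pf⟩ := ih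
      simp only [derivedSeries_succ]
      exact ⟨k1 ▸ Subgroup.commutator_mem_commutator pb pf,
        k2 ▸ Subgroup.commutator_mem_commutator pa pd,
        k3 ▸ Subgroup.commutator_mem_commutator pd pe,
        k4 ▸ Subgroup.commutator_mem_commutator pc pb,
        k5 ▸ Subgroup.commutator_mem_commutator pf pc,
        k6 ▸ Subgroup.commutator_mem_commutator pe pa⟩
  have h1 := (h n).1
  rw [hn, Subgroup.mem_bot] at h1
  have h2 : lin (e1 * e2, e2, e3) e1 = e1 := by
    rw [← ha, h1]; rfl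
  exact absurd h2 (by decide +kernel)

end Cfsg.Agent.Transfer.OrderTypeExample
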