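import Mathlib
import Cfsg.Agent.Lib.Transfer.OddRankTwoStructure
import Cfsg.Agent.Lib.Transfer.Fusion
import Cfsg.Agent.S1453

/-!
Automorphisms of order prime to `p` of narrow `p`-groups of rank at least three.
-/

set_option autoImplicit false
set_option linter.style.haveILetI false
set_option linter.unusedSectionVars false
set_option maxHeartbeats 1000000

namespace Cfsg.Agent.Transfer.Narrow

open scoped commutatorElement

universe u

variable {p : ℕ} [hp : Fact p.Prime]

/-- A derived element or a `(p - 1)`-st power. -/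
def Killed (p : ℕ) {A : Type*} [Group A] (a : A) : Prop := a ∈ commutator A ∨ ∃ b : A, b ^ (p - 1) = a

theorem killed_aut {Q : Type*} [Group Q] [Finite Q] (hQ : Nat.card Q ≤ p) (hQp : IsPGroup p Q)
    {A : Type*} [Group A] (g : A →* MulAut Q) {a : A} (ha : Killed p a) : g a = 1 := by
  have hcyc : IsCyclic Q := by
    obtain ⟨j, hj⟩ := IsPGroup.iff_card.1 hQp
    have hj1 : j ≤ 1 := (Nat.pow_le_pow_iff_right hp.out.one_lt).1 (by rw [pow_one, ← hj]; exact hQ)
    rcases (show j = 0 ∨ j = 1 by omega) with rfl | rfl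
    · haveI : Subsingleton Q := (Nat.card_eq_one_iff_unique.1 (by simpa using hj)).1
      infer_instance
    · exact isCyclic_of_prime_card (p := p) (by rwa [pow_one] at hj)
  rcases ha with ha | ⟨b, rfl⟩
  · have hle : commutator A ≤ g.ker := by
      rw [_root_.commutator_def, Subgroup.commutator_le]
      intro x _ y _
      rw [MonoidHom.mem_ker, map_commutatorElement, commutatorElement_eq_one_iff_mul_comm]
      exact (IsCyclic.mulAutMulEquiv Q).injective (by rw [map_mul, map_mul, mul_comm])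
    exact hle ha
  · rw [map_pow]
    refine orderOf_dvd_iff_pow_eq_one.1 ((orderOf_dvd_natCard _).trans ?_)
    rw [IsCyclic.card_mulAut]
    obtain ⟨j, hj⟩ := IsPGroup.iff_card.1 hQp
    have hj1 : j ≤ 1 := (Nat.pow_le_pow_iff_right hp.out.one_lt).1 (by rw [pow_one, ← hj]; exact hQ)
    rcases (show j = 0 ∨ j = 1 by omega) with rfl | rfl
    · rw [hj, pow_zero, Nat.totient_one]; exact one_dvd _
    · rw [hj, pow_one, Nat.totient_prime hp.out]

/-- One step of an invariant series. -/
theorem fixed_step {R : Type*} [Group R] [Finite R] (hR : IsPGroup p R) {A : Type*} [Group A] [Finite A]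
    (f : A →* MulAut R) (N M : Subgroup R) (hMN : M ≤ N) [(M.subgroupOf N).Normal] (hN : ∀ a, ∀ x ∈ N, f a x ∈ N)
    (hM : ∀ a, ∀ x ∈ M, f a x ∈ M) (hidx : M.relIndex N ≤ p) {a : A} (hcop : (orderOf a).Coprime p)
    (ha : Killed p a) (hfix : ∀ x ∈ M, f a x = x) : ∀ x ∈ N, f a x = x := by
  let fN : A →* MulAut N :=
    { toFun := fun b =>
        { toFun := fun x => ⟨f b x, hN b x x.2⟩
          invFun := fun x => ⟨(f b).symm x, by simpa using hN b⁻¹ x x.2⟩
          left_inv := fun x => Subtype.ext ((f b).symm_apply_apply x)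
          right_inv := fun x => Subtype.ext ((f b).apply_symm_apply x)
          map_mul' := fun x y => Subtype.ext (map_mul (f b) (x : R) y) }
      map_one' := MulEquiv.ext fun x => Subtype.ext (by simp)
      map_mul' := fun b c => MulEquiv.ext fun x => Subtype.ext (by simp) }
  set M' := M.subgroupOf N
  have hM' : ∀ b, M'.map (fN b).toMonoidHom = M' := fun b => le_antisymm
    (by rintro _ ⟨w, hw, rfl⟩; exact hM b _ hw)
    fun w hw => ⟨(fN b).symm w, by
      show ((f b).symm (w : R)) ∈ M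
      simpa using hM b⁻¹ _ hw, (fN b).apply_symm_apply w⟩
  let g : A →* MulAut (N ⧸ M') :=
    { toFun := fun b => QuotientGroup.congr M' M' (fN b) (hM' b)
      map_one' := MulEquiv.ext fun w => by
        obtain ⟨r, rfl⟩ := QuotientGroup.mk_surjective w
        show QuotientGroup.mk (fN 1 r) = _
        rw [map_one]; rfl
      map_mul' := fun b c => MulEquiv.ext fun w => by
        obtain ⟨r, rfl⟩ := QuotientGroup.mk_surjective w
        show QuotientGroup.mk (fN (b * c) r) = _
        rw [map_mul]; rfl }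
  have hg := killed_aut (p := p) (Q := N ⧸ M') hidx ((hR.to_subgroup N).to_quotient M') g ha
  intro x hx
  have h0 := DFunLike.congr_fun hg (QuotientGroup.mk (s := M') (⟨x, hx⟩ : N))
  have h1 : (QuotientGroup.mk (fN a ⟨x, hx⟩) : N ⧸ M') = QuotientGroup.mk (⟨x, hx⟩ : N) := h0
  have hmem : (⟨x, hx⟩ : N)⁻¹ * fN a ⟨x, hx⟩ ∈ M' := (QuotientGroup.eq (s := M')).1 h1.symm
  have hc : x⁻¹ * f a x ∈ M := hmem
  set c := x⁻¹ * f a x with hcdef
  have hpow : ∀ n : ℕ, f (a ^ n) x = x * c ^ n := by
    intro n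
    induction n with
    | zero => simp
    | succ n ih =>
      rw [pow_succ', map_mul, MulAut.mul_apply, ih, map_mul, map_pow, hfix c hc, show f a x = x * c by rw [hcdef]; group,
        mul_assoc, ← pow_succ']
  have h2 := hpow (orderOf a)
  rw [pow_orderOf_eq_one, map_one, MulAut.one_apply] at h2
  have h3 : c ^ orderOf a = 1 := by simpa using h2.symm
  obtain ⟨k, hk⟩ := hR c
  have h4 : c = 1 := orderOf_eq_one_iff.1 (Nat.eq_one_of_dvd_coprimes (hcop.pow_right k)
    (orderOf_dvd_of_pow_eq_one h3) (orderOf_dvd_of_pow_eq_one hk))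
  rw [hcdef] at h4
  exact (inv_mul_eq_one.1 h4).symm

/-- An invariant series with factors of order `p`. -/
theorem fixed_series {R : Type*} [Group R] [Finite R] (hR : IsPGroup p R) {A : Type*} [Group A] [Finite A]
    (f : A →* MulAut R) (s : R) {a : A} (hcop : (orderOf a).Coprime p) (ha : Killed p a) :
    ∀ (n : ℕ) (N : Subgroup R), Nat.card N ≤ n → N.Normal → (∀ b, ∀ x ∈ N, f b x ∈ N) →
      (∀ M : Subgroup R, M ≤ N → (∀ x ∈ M, Commute x s) → Nat.card M ≤ p) → ∀ x ∈ N, f a x = x := by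
  intro n
  induction n with
  | zero => intro N h; exact absurd h (not_le.2 Nat.card_pos)
  | succ n ih =>
    intro N hn hNn hNi hcent
    haveI := hNn
    haveI := hR.isNilpotent
    by_cases hN1 : N = ⊥
    · subst hN1
      intro x hx
      rw [Subgroup.mem_bot.1 hx, map_one]
    set M := ⁅N, (⊤ : Subgroup R)⁆ with hM
    have hMN : M ≤ N := Subgroup.commutator_le_left N ⊤
    have hMlt : M < N := lt_of_le_of_ne hMN fun h => hN1 (eq_bot_of_le_commutator_top h.ge)
    have hcardlt : Nat.card M < Nat.card N :=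
      lt_of_le_of_ne (Subgroup.card_le_of_le hMN) fun h => hMlt.ne (Subgroup.eq_of_le_of_card_ge hMN h.ge)
    have hMi : ∀ b, ∀ x ∈ M, f b x ∈ M := by
      intro b x hx
      have hle : M ≤ M.comap (f b).toMonoidHom := Subgroup.commutator_le.2 fun r hr t _ => by
        show f b ⁅r, t⁆ ∈ M
        rw [map_commutatorElement]
        exact Subgroup.commutator_mem_commutator (hNi b r hr) (Subgroup.mem_top _)
      exact hle hx
    have hfixM := ih M (by omega) inferInstance hMi fun M' hM' => hcent M' (hM'.trans hMN)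
    refine fixed_step hR f N M hMN hNi hMi ?_ hcop ha hfixM
    -- counting commutators with `s`
    set D := N ⊓ Subgroup.centralizer ({s} : Set R) with hD
    have hDc : Nat.card D ≤ p :=
      hcent D inf_le_left fun x hx => Subgroup.mem_centralizer_singleton_iff.1 hx.2
    have hmem : ∀ m : N, ⁅(m : R), s⁆ ∈ M := fun m =>
      Subgroup.commutator_mem_commutator m.2 (Subgroup.mem_top s)
    let F : N ⧸ D.subgroupOf N → M := fun q => ⟨_, hmem q.out⟩
    have hF : Function.Injective F := by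
      intro q q' h
      have h1 : ⁅((q.out : N) : R), s⁆ = ⁅((q'.out : N) : R), s⁆ := congrArg Subtype.val h
      rw [← QuotientGroup.out_eq' q, ← QuotientGroup.out_eq' q', QuotientGroup.eq]
      refine ⟨((q.out)⁻¹ * q'.out : N).2, Subgroup.mem_centralizer_singleton_iff.2 ?_⟩
      have h2 : ((q.out : N) : R) * s * ((q.out : N) : R)⁻¹ = ((q'.out : N) : R) * s * ((q'.out : N) : R)⁻¹ := by
        have := congrArg (· * s) h1
        simpa [commutatorElement_def, mul_assoc] using this
      set u := ((q.out : N) : R)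
      set v := ((q'.out : N) : R)
      show u⁻¹ * v * s = s * (u⁻¹ * v)
      calc u⁻¹ * v * s = u⁻¹ * (v * s * v⁻¹) * v := by group
        _ = s * (u⁻¹ * v) := by rw [← h2]; group
    have h1 := Subgroup.card_eq_card_quotient_mul_card_subgroup (D.subgroupOf N)
    rw [Nat.card_congr (Subgroup.subgroupOfEquivOfLe (inf_le_left : D ≤ N)).toEquiv] at h1
    have h2 := card_mul_relIndex hMN
    have h3 : Nat.card N ≤ Nat.card M * p := h1.le.trans (Nat.mul_le_mul (Nat.card_le_card_of_injective F hF) hDc)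
    exact Nat.le_of_mul_le_mul_left (h2.le.trans h3) Nat.card_pos

/-- A characteristic subgroup of exponent `p` on which the automorphisms of order prime to `p` act faithfully. -/
theorem exists_char_exp {R : Type*} [Group R] [Finite R] (hp2 : p ≠ 2) (hR : IsPGroup p R) :
    ∃ K : Subgroup R, (∀ e : MulAut R, ∀ x ∈ K, e x ∈ K) ∧ (∀ x ∈ K, x ^ p = 1) ∧
      ∀ α : MulAut R, (orderOf α).Coprime p → (∀ x ∈ K, α x = x) → α = 1 := by
  obtain ⟨H, hHc, hHR, -, hCH⟩ := Invol.exists_critical hR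
  haveI := hHc
  have hcen : ∀ x ∈ H, ∀ y ∈ H, ∀ z ∈ H, Commute ⁅x, y⁆ z := fun x hx y hy z hz => by
    have h1 := hHR (Subgroup.commutator_mem_commutator hx (Subgroup.mem_top y))
    exact (Subgroup.mem_centralizer_iff.1 h1.2 z hz).symm
  have hHi : ∀ (α : MulAut R) x, x ∈ H → α x ∈ H := fun α x hx => by
    rw [← Subgroup.Characteristic.fixed (H := H) inferInstance α] at hx
    exact hx
  let K : Subgroup R :=
    { carrier := {x | x ∈ H ∧ x ^ p = 1}
      one_mem' := ⟨one_mem H, one_pow p⟩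
      mul_mem' := fun {x y} hx hy => by
        refine ⟨H.mul_mem hx.1 hy.1, ?_⟩
        have hc : ⁅y, x⁆ ^ p = 1 := by
          have h2 : y * x * y⁻¹ = ⁅y, x⁆ * x := by rw [commutatorElement_def]; group
          have h3 : (y * x * y⁻¹) ^ p = 1 := by rw [conj_pow, hx.2, mul_one, mul_inv_cancel]
          rwa [h2, (hcen y hy.1 x hx.1 x hx.1).mul_pow, hx.2, mul_one] at h3
        rw [Grp.mul_pow_class_two (x := x) (y := y) (c := ⁅y, x⁆) (by rw [commutatorElement_def]; group)
          (hcen y hy.1 x hx.1 x hx.1) (hcen y hy.1 x hx.1 y hy.1) p, hx.2, hy.2]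
        obtain ⟨m, hm⟩ := hp.out.dvd_choose_self two_ne_zero (by have := hp.out.two_le; omega : 2 < p)
        rw [hm, pow_mul, hc, one_pow, one_mul, one_mul]
      inv_mem' := fun {x} hx => ⟨H.inv_mem hx.1, by rw [inv_pow, hx.2, inv_one]⟩ }
  refine ⟨K, fun e x hx => ⟨hHi e x hx.1, by rw [← map_pow, hx.2, map_one]⟩, fun x hx => hx.2, fun α hα h => ?_⟩
  refine Invol.aut_eq_one_of_fixed hR hCH hα fun x hx => ?_
  let αH : MulAut H :=
    { toFun := fun x => ⟨α x, hHi α x x.2⟩
      invFun := fun x => ⟨α.symm x, hHi α.symm x x.2⟩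
      left_inv := fun x => Subtype.ext (α.symm_apply_apply x)
      right_inv := fun x => Subtype.ext (α.apply_symm_apply x)
      map_mul' := fun x y => Subtype.ext (map_mul α (x : R) y) }
  have hpow : ∀ (n : ℕ) (y : H), ((αH ^ n) y : R) = (α ^ n) y := by
    intro n
    induction n with
    | zero => intro y; rfl
    | succ n ih => intro y; rw [pow_succ', pow_succ', MulAut.mul_apply, MulAut.mul_apply, ← ih]; rfl
  have hord : orderOf αH ∣ orderOf α := orderOf_dvd_of_pow_eq_one (MulEquiv.ext fun y => Subtype.ext (by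
    rw [hpow, pow_orderOf_eq_one]; rfl))
  have h1 : αH = 1 := aut_eq_one_of_fix_omega hp2 (hR.to_subgroup H) (Nat.Coprime.coprime_dvd_left hord hα)
    fun y hy => Subtype.ext (h y ⟨y.2, by simpa using congrArg Subtype.val hy⟩)
  exact congrArg Subtype.val (DFunLike.congr_fun h1 ⟨x, hx⟩)

/-- The hypothesis: an elementary subgroup of order `p²` contained in no larger one. -/
def HasMaxPlane (p : ℕ) (R : Type*) [Group R] : Prop :=
  ∃ E : Subgroup R, Cfsg.IsElementaryAbelian p E ∧ Nat.card E = p ^ 2 ∧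
    ∀ B : Subgroup R, Cfsg.IsElementaryAbelian p B → E ≤ B → B = E

/-- Derived elements and `(p - 1)`-st powers of order prime to `p` act trivially. -/
theorem eq_one_of_killed {R : Type u} [Group R] [Finite R] (hp2 : p ≠ 2) (hR : IsPGroup p R)
    (hr : ¬ Cfsg.PRankLE p 2 R) (hE : HasMaxPlane p R) {A : Type*} [Group A] [Finite A] (f : A →* MulAut R)
    {a : A} (hcop : (orderOf a).Coprime p) (ha : Killed p a) : f a = 1 := by
  classical
  obtain ⟨E, hEe, hE2, hEmax⟩ := hE
  obtain ⟨hnT, hZc, -, hTc, hTi⟩ := S1453.result p hp2 hR hr E hEe hE2 hEmax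
  set T := Subgroup.centralizer ((Subgroup.closure {x : R | x ∈ Subgroup.upperCentralSeries R 2 ∧ x ^ p = 1} : Subgroup R) : Set R) with hT
  obtain ⟨s, hsE, hsT⟩ := SetLike.not_le_iff_exists.1 hnT
  haveI := hTc
  obtain ⟨K, hKi, hKe, hKf⟩ := exists_char_exp hp2 hR
  haveI : K.Normal := ⟨fun x hx g => hKi (MulAut.conj g) x hx⟩
  have hTi' : ∀ b, ∀ x ∈ T, f b x ∈ T := fun b x hx => by
    rw [← Subgroup.Characteristic.fixed (H := T) inferInstance (f b)] at hx
    exact hx
  -- a nontrivial central element of order `p` lies in `E ∩ T`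
  obtain ⟨z, hzc, hzp, hz1⟩ : ∃ z : R, z ∈ Subgroup.center R ∧ z ^ p = 1 ∧ z ≠ 1 := by
    by_contra hcon
    push Not at hcon
    have h : Subgroup.closure {x : R | x ∈ Subgroup.center R ∧ x ^ p = 1} = ⊥ :=
      (Subgroup.closure_eq_bot_iff).2 fun x hx => hcon x hx.1 hx.2
    rw [h, Subgroup.card_bot] at hZc
    exact hp.out.ne_one hZc.symm
  have hzT : z ∈ T := Subgroup.center_le_centralizer _ hzc
  have hzE : z ∈ E := by
    have hB : Cfsg.IsElementaryAbelian p (E ⊔ Subgroup.zpowers z) := by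
      haveI : (Subgroup.zpowers z).Normal := ⟨fun x hx g => by
        obtain ⟨i, rfl⟩ := hx
        rw [show g * z ^ i * g⁻¹ = z ^ i from mul_inv_eq_iff_eq_mul.2 (Subgroup.mem_center_iff.1 (zpow_mem hzc i) g)]
        exact zpow_mem (Subgroup.mem_zpowers z) i⟩
      have hdec : ∀ b ∈ E ⊔ Subgroup.zpowers z, ∃ e ∈ E, ∃ i : ℤ, b = e * z ^ i := fun b hb => by
        obtain ⟨e, he, w, ⟨i, rfl⟩, rfl⟩ := Subgroup.mem_sup_of_normal_right.1 hb
        exact ⟨e, he, i, rfl⟩
      refine ⟨⟨⟨fun x y => Subtype.ext ?_⟩⟩, fun b hb => ?_⟩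
      · obtain ⟨e, he, i, hx⟩ := hdec x x.2
        obtain ⟨e', he', j, hy⟩ := hdec y y.2
        show (x : R) * y = y * x
        rw [hx, hy]
        have h1 : Commute e e' := congrArg Subtype.val (hEe.1.is_comm.comm (⟨e, he⟩ : E) ⟨e', he'⟩)
        exact ((h1.mul_right (Subgroup.mem_center_iff.1 (zpow_mem hzc j) e)).mul_left
          (((Subgroup.mem_center_iff.1 (zpow_mem hzc i) (e' * z ^ j)) : Commute (e' * z ^ j) (z ^ i)).symm)).eq
      · obtain ⟨e, he, i, rfl⟩ := hdec b hb
        rw [(show Commute e (z ^ i) from Subgroup.mem_center_iff.1 (zpow_mem hzc i) e).mul_pow, hEe.2 e he,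
          ← zpow_natCast (z ^ i), ← zpow_mul, mul_comm, zpow_mul, zpow_natCast, hzp, one_zpow, one_mul]
    exact (hEmax _ hB le_sup_left).le (Subgroup.mem_sup_right (Subgroup.mem_zpowers z))
  set ET := E ⊓ T with hET
  have hETc : Nat.card ET ≤ p := by
    obtain ⟨j, hj, hj'⟩ := (Nat.dvd_prime_pow hp.out).1 (show Nat.card ET ∣ p ^ 2 by
      rw [← hE2]; exact Subgroup.card_dvd_of_le inf_le_left)
    have hj1 : j ≤ 1 := by
      by_contra hgt
      have h : ET = E := Subgroup.eq_of_le_of_card_ge inf_le_left (by rw [hj', hE2, show j = 2 by omega])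
      exact hsT (inf_eq_left.1 h hsE)
    rw [hj']
    exact le_trans (Nat.pow_le_pow_right hp.out.pos hj1) (pow_one p).le
  have hEgen : E ≤ Subgroup.closure ({s, z} : Set R) := by
    set S := Subgroup.closure ({s, z} : Set R)
    have hSE : S ≤ E := (Subgroup.closure_le _).2 (Set.insert_subset hsE (Set.singleton_subset_iff.2 hzE))
    refine (Subgroup.eq_of_le_of_card_ge hSE ?_).ge
    obtain ⟨j, hj, hj'⟩ := (Nat.dvd_prime_pow hp.out).1 (show Nat.card S ∣ p ^ 2 by
      rw [← hE2]; exact Subgroup.card_dvd_of_le hSE)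
    rw [hE2, hj']
    refine Nat.pow_le_pow_right hp.out.pos ?_
    by_contra hlt
    have hsS : s ∈ S := Subgroup.subset_closure (Set.mem_insert _ _)
    have hzS : z ∈ S := Subgroup.subset_closure (Set.mem_insert_of_mem _ rfl)
    rcases (show j = 0 ∨ j = 1 by omega) with rfl | rfl
    · rw [Subgroup.eq_bot_of_card_eq S (hj'.trans (pow_zero p)), Subgroup.mem_bot] at hsS
      exact hsT (hsS ▸ one_mem T)
    · obtain ⟨i, hi⟩ := Subgroup.mem_zpowers_iff.1 (mem_zpowers_of_prime_card (p := p) (hj'.trans (pow_one p))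
        (g := (⟨z, hzS⟩ : S)) (g' := ⟨s, hsS⟩) fun h => hz1 (congrArg Subtype.val h))
      exact hsT (by rw [show s = z ^ i by simpa using (congrArg Subtype.val hi).symm]; exact zpow_mem hzT i)
  have hcent : ∀ M : Subgroup R, M ≤ K ⊓ T → (∀ x ∈ M, Commute x s) → Nat.card M ≤ p := by
    intro M hM hMs
    refine le_trans (Subgroup.card_le_of_le (K := ET) fun x hx => ⟨?_, (hM hx).2⟩) hETc
    have hcs : ∀ b ∈ insert x ({s, z} : Set R), ∀ c ∈ insert x ({s, z} : Set R), b * c = c * b := by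
      rintro b (rfl | rfl | rfl) c (rfl | rfl | rfl) <;>
        first
          | rfl
          | exact (hMs _ hx).eq
          | exact (hMs _ hx).eq.symm
          | exact Subgroup.mem_center_iff.1 hzc _
          | exact (Subgroup.mem_center_iff.1 hzc _).symm
    have hpw : ∀ b ∈ insert x ({s, z} : Set R), b ^ p = 1 := by
      rintro b (rfl | rfl | rfl)
      exacts [hKe _ (hM hx).1, hEe.2 _ hsE, hzp]
    have hB : Cfsg.IsElementaryAbelian p (Subgroup.closure (insert x ({s, z} : Set R))) := by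
      have hab := Subgroup.isMulCommutative_closure hcs
      refine ⟨hab, fun b hb => ?_⟩
      exact Subgroup.closure_induction (p := fun b _ => b ^ p = 1) hpw (one_pow p)
        (fun b c hb hc h1 h2 => by
          rw [(show Commute b c from congrArg Subtype.val (hab.is_comm.comm ⟨b, hb⟩ ⟨c, hc⟩)).mul_pow, h1, h2, one_mul])
        (fun b _ h => by rw [inv_pow, h, inv_one]) hb
    exact (hEmax _ hB (hEgen.trans (Subgroup.closure_mono (Set.subset_insert _ _)))).le
      (Subgroup.subset_closure (Set.mem_insert _ _))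
  have hfixKT := fixed_series hR f s hcop ha (Nat.card R) (K ⊓ T) (Subgroup.card_le_card_group _) inferInstance
    (fun b x hx => ⟨hKi (f b) x hx.1, hTi' b x hx.2⟩) hcent
  refine hKf _ (Nat.Coprime.coprime_dvd_left (orderOf_map_dvd f a) hcop) ?_
  haveI : ((K ⊓ T).subgroupOf K).Normal := inferInstance
  refine fixed_step hR f K (K ⊓ T) inf_le_left (fun b => hKi (f b)) (fun b x hx => ⟨hKi (f b) x hx.1, hTi' b x hx.2⟩)
    ?_ hcop ha hfixKT
  rw [Subgroup.inf_relIndex_left, ← hTi]
  exact Nat.le_of_dvd (Nat.pos_of_ne_zero Subgroup.index_ne_zero_of_finite) (Subgroup.relIndex_dvd_index_of_normal T K)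

/-- An elementary subgroup whose centralizer has rank at most two yields a maximal plane. -/
theorem hasMaxPlane_of {R : Type u} [Group R] [Finite R] (hR : IsPGroup p R) (hr : ¬ Cfsg.PRankLE p 2 R)
    (E : Subgroup R) (hE : Cfsg.IsElementaryAbelian p E)
    (hC : ∀ B : Subgroup R, B ≤ Subgroup.centralizer (E : Set R) → Cfsg.IsElementaryAbelian p B → Nat.card B ≤ p ^ 2) :
    HasMaxPlane p R := by
  classical
  haveI : Nonempty {B : Subgroup R // Cfsg.IsElementaryAbelian p B ∧ E ≤ B} := ⟨⟨E, hE, le_rfl⟩⟩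
  obtain ⟨⟨B, hB, hEB⟩, hmax⟩ := Finite.exists_max
    (fun B : {B : Subgroup R // Cfsg.IsElementaryAbelian p B ∧ E ≤ B} => Nat.card B.1)
  have hBmax : ∀ D : Subgroup R, Cfsg.IsElementaryAbelian p D → B ≤ D → D = B := fun D hD hBD =>
    (Subgroup.eq_of_le_of_card_ge hBD (hmax ⟨D, hD, hEB.trans hBD⟩)).symm
  have hBc : B ≤ Subgroup.centralizer (E : Set R) := fun b hb => Subgroup.mem_centralizer_iff.2 fun e he =>
    congrArg Subtype.val (hB.1.is_comm.comm (⟨e, hEB he⟩ : B) ⟨b, hb⟩)
  obtain ⟨j, hj⟩ := IsPGroup.iff_card.1 (hR.to_subgroup B)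
  have hj2 : j ≤ 2 := (Nat.pow_le_pow_iff_right hp.out.one_lt).1 (hj ▸ hC B hBc hB)
  rcases (show j ≤ 1 ∨ j = 2 by omega) with h | rfl
  swap
  · exact ⟨B, hB, hj, hBmax⟩
  -- otherwise `B` is central
  exfalso
  haveI : Nontrivial R := by
    by_contra h
    rw [not_nontrivial_iff_subsingleton] at h
    exact hr fun D _ _ => by rw [Nat.card_of_subsingleton (1 : D)]; exact Nat.one_le_pow _ _ hp.out.pos
  haveI := hR.center_nontrivial
  obtain ⟨n, hn⟩ := IsPGroup.iff_card.1 (hR.to_subgroup (Subgroup.center R))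
  have hdz : p ∣ Nat.card (Subgroup.center R) := by
    rcases n with _ | n
    · rw [pow_zero] at hn; exact absurd hn (Finite.one_lt_card (α := Subgroup.center R)).ne'
    · exact hn ▸ dvd_pow_self p n.succ_ne_zero
  obtain ⟨⟨z, hzc⟩, hz⟩ := exists_prime_orderOf_dvd_card' p hdz
  have hzp : z ^ p = 1 := by
    have := pow_orderOf_eq_one (⟨z, hzc⟩ : Subgroup.center R)
    rw [hz] at this
    exact congrArg Subtype.val this
  have hcs : ∀ b ∈ insert z (B : Set R), ∀ c ∈ insert z (B : Set R), b * c = c * b := by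
    rintro b (rfl | hb) c (rfl | hc)
    · rfl
    · exact (Subgroup.mem_center_iff.1 hzc c).symm
    · exact Subgroup.mem_center_iff.1 hzc b
    · exact congrArg Subtype.val (hB.1.is_comm.comm (⟨b, hb⟩ : B) ⟨c, hc⟩)
  have hD : Cfsg.IsElementaryAbelian p (Subgroup.closure (insert z (B : Set R))) := by
    have hab := Subgroup.isMulCommutative_closure hcs
    refine ⟨hab, fun b hb => ?_⟩
    exact Subgroup.closure_induction (p := fun b _ => b ^ p = 1) (by
        rintro b (rfl | hb)
        exacts [hzp, hB.2 b hb]) (one_pow p)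
      (fun b c hb hc h1 h2 => by
        rw [(show Commute b c from congrArg Subtype.val (hab.is_comm.comm ⟨b, hb⟩ ⟨c, hc⟩)).mul_pow, h1, h2, one_mul])
      (fun b _ h => by rw [inv_pow, h, inv_one]) hb
  have hzB : z ∈ B := (hBmax _ hD ((Set.subset_insert _ _).trans Subgroup.subset_closure)).le
    (Subgroup.subset_closure (Set.mem_insert _ _))
  have hBz : B = Subgroup.zpowers z := by
    refine (Subgroup.eq_of_le_of_card_ge (Subgroup.zpowers_le.2 hzB) ?_).symm
    rw [Nat.card_zpowers, hj, ← Subgroup.orderOf_mk z hzc, hz]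
    exact le_trans (Nat.pow_le_pow_right hp.out.pos h) (pow_one p).le
  refine hr fun D hDa hDe => hC D (fun d _ => Subgroup.mem_centralizer_iff.2 fun e he => ?_) ⟨hDa, hDe⟩
  obtain ⟨i, rfl⟩ := hBz.le (hEB he)
  exact (Subgroup.mem_center_iff.1 (zpow_mem hzc i) d).symm

/-- A narrow group of rank at least three has a maximal plane. -/
theorem hasMaxPlane_of_narrow {R : Type u} [Group R] [Finite R] (hR : IsPGroup p R) (hr : ¬ Cfsg.PRankLE p 2 R)
    (hn : Cfsg.IsNarrow p R) : HasMaxPlane p R := by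
  classical
  obtain ⟨R₀, R₁, hR₀, hR₁, -, hcom, hsup⟩ := hn.resolve_left hr
  haveI := hR₁
  haveI : IsCyclic R₀ := isCyclic_of_prime_card (p := p) hR₀
  have hR₀e : Cfsg.IsElementaryAbelian p R₀ := by
    letI := IsCyclic.commGroup (α := R₀)
    refine ⟨⟨⟨fun a b => mul_comm a b⟩⟩, fun a ha => orderOf_dvd_iff_pow_eq_one.1 ?_⟩
    rw [← hR₀]; exact R₀.orderOf_dvd_natCard ha
  refine hasMaxPlane_of hR hr R₀ hR₀e fun B hB hBe => ?_
  letI : Fintype R₁ := Fintype.ofFinite R₁
  set P := {c : R₁ // c ^ p = 1} with hP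
  have hPc : Nat.card P ≤ p := by
    rw [Nat.card_eq_fintype_card, Fintype.card_subtype]
    exact IsCyclic.card_pow_eq_one_le hp.out.pos
  have hdec : ∀ b ∈ B, ∃ r : R₀, ∃ c : P, (r : R) * ((c.1 : R₁) : R) = b := by
    intro b hb
    have hb' : b ∈ R₀ ⊔ R₁ := hsup.ge (hB hb)
    have hmem : ∀ x ∈ R₀ ⊔ R₁, ∃ r ∈ R₀, ∃ c ∈ R₁, x = r * c := by
      intro x hx
      rw [← Subgroup.closure_eq R₀, ← Subgroup.closure_eq R₁, ← Subgroup.closure_union] at hx
      induction hx using Subgroup.closure_induction with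
      | mem x hx =>
        rcases hx with hx | hx
        · exact ⟨x, hx, 1, one_mem _, (mul_one x).symm⟩
        · exact ⟨1, one_mem _, x, hx, (one_mul x).symm⟩
      | one => exact ⟨1, one_mem _, 1, one_mem _, (one_mul 1).symm⟩
      | mul x y _ _ ihx ihy =>
        obtain ⟨r, hr, c, hc, rfl⟩ := ihx
        obtain ⟨r', hr', c', hc', rfl⟩ := ihy
        refine ⟨r * r', mul_mem hr hr', c * c', mul_mem hc hc', ?_⟩
        rw [mul_assoc r c, ← mul_assoc c r', ← hcom r' hr' c hc]; group
      | inv x _ ih =>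
        obtain ⟨r, hr, c, hc, rfl⟩ := ih
        exact ⟨r⁻¹, inv_mem hr, c⁻¹, inv_mem hc, by rw [mul_inv_rev, hcom r⁻¹ (inv_mem hr) c⁻¹ (inv_mem hc)]⟩
    obtain ⟨r, hr, c, hc, rfl⟩ := hmem b hb'
    refine ⟨⟨r, hr⟩, ⟨⟨c, hc⟩, Subtype.ext ?_⟩, rfl⟩
    have h := hBe.2 _ hb
    rw [(show Commute r c from hcom r hr c hc).mul_pow, hR₀e.2 r hr, one_mul] at h
    exact h
  choose fr fc hfc using hdec
  have hinj : Function.Injective (fun b : B => ((fr b b.2, fc b b.2) : R₀ × P)) := fun b b' h => by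
    refine Subtype.ext ?_
    obtain ⟨h1, h2⟩ := Prod.ext_iff.1 h
    dsimp only at h1 h2
    rw [← hfc b b.2, ← hfc b' b'.2, h1, h2]
  refine (Nat.card_le_card_of_injective _ hinj).trans ?_
  rw [Nat.card_prod, hR₀, pow_two]
  exact Nat.mul_le_mul_left p hPc

/-- The derived subgroup of a faithful group of odd order is a `p`-group. -/
theorem derived_isPGroup {R : Type u} [Group R] [Finite R] (hp2 : p ≠ 2) (hR : IsPGroup p R)
    (hr : ¬ Cfsg.PRankLE p 2 R) (hE : HasMaxPlane p R) {A : Type*} [Group A] [Finite A]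
    (f : A →* MulAut R) (hf : Function.Injective f) : IsPGroup p (commutator A) := by
  intro z
  obtain ⟨k, m, hm, hord⟩ := Nat.exists_eq_pow_mul_and_not_dvd (orderOf_pos (z : A)).ne' p hp.out.ne_one
  refine ⟨k, Subtype.ext ?_⟩
  have h1 : orderOf ((z : A) ^ p ^ k) = m := by
    rw [orderOf_pow_of_dvd (pow_ne_zero _ hp.out.ne_zero) (hord ▸ dvd_mul_right _ _), hord,
      Nat.mul_div_cancel_left _ (pow_pos hp.out.pos k)]
  simpa using hf ((eq_one_of_killed hp2 hR hr hE f (h1.symm ▸ (hp.out.coprime_iff_not_dvd.2 hm).symm)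
    (Or.inl (pow_mem z.2 _))).trans (map_one f).symm)

/-- Elements of order prime to `p` have order dividing `p - 1`. -/
theorem orderOf_dvd {R : Type u} [Group R] [Finite R] (hp2 : p ≠ 2) (hR : IsPGroup p R)
    (hr : ¬ Cfsg.PRankLE p 2 R) (hE : HasMaxPlane p R) {A : Type*} [Group A] [Finite A]
    (f : A →* MulAut R) (hf : Function.Injective f) (a : A) (ha : (orderOf a).Coprime p) :
    orderOf a ∣ p - 1 :=
  orderOf_dvd_of_pow_eq_one (hf ((eq_one_of_killed hp2 hR hr hE f
    (Nat.Coprime.coprime_dvd_left (orderOf_pow_dvd _) ha) (Or.inr ⟨a, rfl⟩)).trans (map_one f).symm))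

end Cfsg.Agent.Transfer.Narrow
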