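import Mathlib
import Cfsg.Agent.Lib.Fus.DihedralAut
import Cfsg.Agent.Lib.Classical.DicksonSmall

/-! Groups all of whose `2`-by-cyclic subgroups are cyclic, dihedral `2`-groups or `A₄`. -/

set_option autoImplicit false

namespace Cfsg.Agent.Transfer.TwoByCyclic

open scoped Pointwise

universe u

/-- A subgroup of a dihedral `2`-group is cyclic or a dihedral `2`-group. -/
theorem dihedral_subgroup {X : Type u} [Group X] [Finite X] {m : ℕ} (e : X ≃* DihedralGroup (2 ^ m))
    (H : Subgroup X) : IsCyclic H ∨ ∃ j, Nonempty (H ≃* DihedralGroup (2 ^ j)) := by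
  haveI : NeZero (2 ^ m) := ⟨by positivity⟩
  set R : Subgroup X := Subgroup.zpowers (e.symm (.r 1)) with hR
  have hr : ∀ i : ZMod (2 ^ m), e.symm (.r i) ∈ R := fun i => by
    obtain ⟨z, rfl⟩ := ZMod.intCast_surjective i
    exact ⟨z, by rw [← DihedralGroup.r_one_zpow z, map_zpow]⟩
  by_cases hle : H ≤ R
  · left
    exact isCyclic_of_injective (Subgroup.inclusion hle) (Subgroup.inclusion_injective hle)
  obtain ⟨w, hwH, hwR⟩ := SetLike.not_le_iff_exists.1 hle
  have hsr : ∀ x : X, x ∉ R → ∃ i, x = e.symm (.sr i) := by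
    intro x hx
    rcases hd : e x with i | i
    · exact absurd (by rw [← e.symm_apply_apply x, hd]; exact hr i) hx
    · exact ⟨i, by rw [← hd, e.symm_apply_apply]⟩
  obtain ⟨i, rfl⟩ := hsr w hwR
  set A : Subgroup H := R.subgroupOf H with hA
  haveI : IsCyclic A := isCyclic_of_injective ((H.subtype.comp A.subtype).codRestrict R fun a => a.2) fun a b h => by
    exact Subtype.ext (Subtype.ext (congrArg Subtype.val h :))
  have hidx : A.index = 2 := by
    rw [Subgroup.index_eq_two_iff]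
    refine ⟨⟨_, hwH⟩, fun b => ?_⟩
    rw [xor_iff_iff_not, hA, Subgroup.mem_subgroupOf, Subgroup.mem_subgroupOf, Subgroup.coe_mul]
    constructor
    · intro hb hb'
      exact hwR ((R.mul_mem_cancel_left hb').1 hb)
    · intro hb
      obtain ⟨k, hk⟩ := hsr b hb
      rw [hk, ← map_mul, DihedralGroup.sr_mul_sr]
      exact hr _
  have hw2 : e.symm (.sr i) * e.symm (.sr i) = 1 := by rw [← map_mul, DihedralGroup.sr_mul_self, map_one]
  obtain ⟨f⟩ := Dickson.nonempty_dihedral A hidx (w := ⟨_, hwH⟩) (fun h => hwR h) (Subtype.ext hw2) (by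
    rintro ⟨a, ha⟩ (haR : a ∈ R)
    refine Subtype.ext ?_
    show e.symm (.sr i) * a * (e.symm (.sr i))⁻¹ = a⁻¹
    obtain ⟨z, rfl⟩ := haR
    simp only [← map_zpow, DihedralGroup.r_one_zpow, ← map_inv, ← map_mul]
    simp)
  obtain ⟨j, -, hj⟩ := (Nat.dvd_prime_pow Nat.prime_two).1
    (show Nat.card A ∣ 2 ^ m from by
      have h1 : Nat.card A ∣ Nat.card R := Subgroup.card_dvd_of_injective
        ((H.subtype.comp A.subtype).codRestrict R fun a => a.2)
        fun a b h => Subtype.ext (Subtype.ext (congrArg Subtype.val h :))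
      rwa [hR, Nat.card_zpowers, MulEquiv.orderOf_eq, DihedralGroup.orderOf_r_one] at h1)
  exact Or.inr ⟨j, ⟨hj ▸ f⟩⟩

theorem mulAut_pow_six {S : Type u} [Group S] [Finite S] (h4 : Nat.card S = 4) (φ : MulAut S) : φ ^ 6 = 1 := by
  classical
  haveI := Fintype.ofFinite S
  let T := {x : S // x ≠ 1}
  let f : MulAut S →* Equiv.Perm T :=
    { toFun := fun ψ => ψ.toEquiv.subtypeEquiv fun x => by simp
      map_one' := by ext; rfl
      map_mul' := fun _ _ => by ext; rfl }
  have hf : Function.Injective f := by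
    intro ψ χ h
    ext x
    by_cases hx : x = 1
    · simp [hx]
    · exact congrArg Subtype.val (Equiv.ext_iff.1 h ⟨x, hx⟩)
  have hT : Fintype.card T = 3 := by
    rw [show Fintype.card T = Fintype.card {x : S // ¬ x = 1} from rfl, Fintype.card_subtype_compl,
      Fintype.card_subtype_eq, ← Nat.card_eq_fintype_card, h4]
  apply hf
  have hc : Fintype.card (Equiv.Perm T) = 6 := by rw [Fintype.card_perm, hT]; rfl
  rw [map_pow, map_one, ← hc]
  exact pow_card_eq_one

variable {G : Type u} [Group G] [Finite G]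

/-- The Klein four group on two commuting involutions. -/
theorem exists_klein {z w : G} (hz : z * z = 1) (hw : w * w = 1) (hzw : z * w = w * z) (hz1 : z ≠ 1)
    (hw1 : w ≠ 1) (hne : z ≠ w) : ∃ K : Subgroup G, Nat.card K = 4 ∧ (∀ k ∈ K, k ^ 2 = 1) ∧
      ∀ k, k ∈ K ↔ k = 1 ∨ k = z ∨ k = w ∨ k = z * w := by
  have hwz : ∀ a, z * (z * a) = a := fun a => by rw [← mul_assoc, hz, one_mul]
  have hww : ∀ a, w * (w * a) = a := fun a => by rw [← mul_assoc, hw, one_mul]
  have hsw : ∀ a, w * (z * a) = z * (w * a) := fun a => by rw [← mul_assoc, ← hzw, mul_assoc]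
  let K : Subgroup G :=
    { carrier := {1, z, w, z * w}
      one_mem' := Or.inl rfl
      mul_mem' := by
        rintro a b (rfl | rfl | rfl | rfl) (rfl | rfl | rfl | rfl) <;>
          simp [mul_assoc, hz, hw, hwz, hww, hsw, ← hzw]
      inv_mem' := by
        rintro a (rfl | rfl | rfl | rfl) <;>
          simp [inv_eq_of_mul_eq_one_right hz, inv_eq_of_mul_eq_one_right hw, ← hzw] }
  refine ⟨K, ?_, ?_, fun k => Iff.rfl⟩
  · rw [← SetLike.coe_sort_coe, Nat.card_coe_set_eq]
    show ({1, z, w, z * w} : Set G).ncard = 4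
    have h1 : z * w ≠ 1 := fun h => hne (by rw [← hwz w, h, mul_one])
    rw [Set.ncard_insert_of_notMem (by simp [hz1.symm, hw1.symm, h1.symm]),
      Set.ncard_insert_of_notMem (by simp [hne, hw1]), Set.ncard_pair (by simp [hz1])]
  · rintro k (rfl | rfl | rfl | rfl) <;> simp [pow_two, mul_assoc, hz, hw, hwz, hww, hsw, ← hzw]

/-- A group generated by a cyclic normal subgroup and a commuting element of coprime order is cyclic. -/
theorem isCyclic_sup {H : Type u} [Group H] [Finite H] (S : Subgroup H) [IsCyclic S] (y : H)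
    (hc : ∀ s ∈ S, Commute s y) (hcop : (Nat.card S).Coprime (orderOf y))
    (hgen : S ⊔ Subgroup.zpowers y = ⊤) : IsCyclic H := by
  obtain ⟨⟨s, hs⟩, hsgen⟩ := IsCyclic.exists_generator (α := S)
  have hSs : S ≤ Subgroup.zpowers s := fun a ha => by
    obtain ⟨k, hk⟩ := Subgroup.mem_zpowers_iff.1 (hsgen ⟨a, ha⟩)
    exact ⟨k, congrArg Subtype.val hk⟩
  have hsy : (orderOf s).Coprime (orderOf y) :=
    Nat.Coprime.coprime_dvd_left (Subgroup.orderOf_dvd_natCard S hs) hcop
  refine isCyclic_iff_exists_zpowers_eq_top.2 ⟨s * y, eq_top_iff.2 (hgen ▸ sup_le (hSs.trans ?_) ?_)⟩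
  · rw [Subgroup.zpowers_le]
    obtain ⟨j, hj⟩ := exists_pow_eq_self_of_coprime hsy.symm
    have h1 : ((s * y) ^ orderOf y) ^ j ∈ Subgroup.zpowers (s * y) :=
      pow_mem (pow_mem (Subgroup.mem_zpowers _) _) _
    rwa [(hc s hs).mul_pow, pow_orderOf_eq_one, mul_one, hj] at h1
  · rw [Subgroup.zpowers_le]
    obtain ⟨j, hj⟩ := exists_pow_eq_self_of_coprime hsy
    have h1 : ((s * y) ^ orderOf s) ^ j ∈ Subgroup.zpowers (s * y) :=
      pow_mem (pow_mem (Subgroup.mem_zpowers _) _) _
    rwa [(hc s hs).mul_pow, pow_orderOf_eq_one, one_mul, hj] at h1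

/-- In a group with a normal Sylow `2`-subgroup and cyclic quotient an element of odd order generates the rest. -/
theorem exists_odd_generator {H : Type u} [Group H] [Finite H] (S : Sylow 2 H) [(S : Subgroup H).Normal]
    [IsCyclic (H ⧸ (S : Subgroup H))] :
    ∃ y : H, Odd (orderOf y) ∧ (S : Subgroup H) ⊔ Subgroup.zpowers y = ⊤ := by
  haveI : Fact (Nat.Prime 2) := ⟨Nat.prime_two⟩
  obtain ⟨q, hq⟩ := IsCyclic.exists_generator (α := H ⧸ (S : Subgroup H))
  obtain ⟨x, rfl⟩ := QuotientGroup.mk_surjective q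
  obtain ⟨k, hk⟩ := IsPGroup.iff_card.1 S.2
  set y := x ^ Nat.card (S : Subgroup H) with hy
  have hodd : Odd (S : Subgroup H).index := by
    rw [← Nat.not_even_iff_odd, even_iff_two_dvd]
    exact S.not_dvd_index
  have hy0 : y ^ (S : Subgroup H).index = 1 := by
    rw [hy, ← pow_mul, Subgroup.card_mul_index, pow_card_eq_one']
  refine ⟨y, hodd.of_dvd_nat (orderOf_dvd_of_pow_eq_one hy0), eq_top_iff.2 fun h _ => ?_⟩
  have hcop : (Nat.card (S : Subgroup H)).Coprime (orderOf (x : H ⧸ (S : Subgroup H))) := by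
    rw [hk]
    refine Nat.Coprime.pow_left k (Nat.coprime_two_left.2 (hodd.of_dvd_nat ?_))
    rw [Subgroup.index]
    exact orderOf_dvd_natCard _
  obtain ⟨j, hj⟩ := exists_pow_eq_self_of_coprime hcop
  obtain ⟨l, hl⟩ := Subgroup.mem_zpowers_iff.1 (hq (h : H ⧸ (S : Subgroup H)))
  have hl' : ((y ^ j) ^ l : H) = (h : H ⧸ (S : Subgroup H)) := by
    rw [QuotientGroup.mk_zpow, QuotientGroup.mk_pow, hy, QuotientGroup.mk_pow, hj, hl]
  rw [QuotientGroup.eq] at hl'
  have h3 : ((y ^ j) ^ l) * (((y ^ j) ^ l)⁻¹ * h) ∈ (S : Subgroup H) ⊔ Subgroup.zpowers y :=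
    Subgroup.mul_mem _ (Subgroup.mem_sup_right (zpow_mem (pow_mem (Subgroup.mem_zpowers y) j) l))
      (Subgroup.mem_sup_left hl')
  rwa [mul_inv_cancel_left] at h3

/-- An element of odd order acts trivially when the automorphism group is a `2`-group. -/
theorem commute_of_isPGroup {H : Type u} [Group H] [Finite H] (S : Subgroup H) [S.Normal]
    (hA : IsPGroup 2 (MulAut S)) {y : H} (hy : Odd (orderOf y)) : ∀ s ∈ S, Commute s y := by
  intro s hs
  haveI : Fact (Nat.Prime 2) := ⟨Nat.prime_two⟩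
  obtain ⟨k, hk⟩ := hA (MulAut.conjNormal y : MulAut S)
  have h1 : orderOf (MulAut.conjNormal y : MulAut S) = 1 := by
    refine Nat.eq_one_of_dvd_coprimes (Nat.Coprime.pow_left k (Nat.coprime_two_left.2 hy))
      (orderOf_dvd_of_pow_eq_one hk) (orderOf_map_dvd _ y)
  have h2 : y * s * y⁻¹ = s := by
    have := congrArg (fun φ : MulAut S => ((φ ⟨s, hs⟩ : S) : H)) (orderOf_eq_one_iff.1 h1)
    simpa using this
  exact (mul_inv_eq_iff_eq_mul.1 h2).symm

theorem mem_centralizer_klein (P : Sylow 2 G)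
    (hP : ∀ K : Subgroup G, K ≤ P → Nat.card K = 4 → (∀ k ∈ K, k ^ 2 = 1) → Subgroup.centralizer (K : Set G) = K)
    (K : Subgroup G) (h4 : Nat.card K = 4) (h2 : ∀ k ∈ K, k ^ 2 = 1) {z : G}
    (hz : ∀ k ∈ K, Commute k z) : z ∈ K := by
  haveI : Fact (Nat.Prime 2) := ⟨Nat.prime_two⟩
  obtain ⟨Q, hQ⟩ := (IsPGroup.of_card (n := 2) (by rw [h4]; rfl) : IsPGroup 2 K).exists_le_sylow
  obtain ⟨g, rfl⟩ := MulAction.exists_smul_eq G Q P
  set f := (MulAut.conj g).toMonoidHom with hf
  have hKP : K.map f ≤ ((g • Q : Sylow 2 G) : Subgroup G) := by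
    rw [Sylow.coe_subgroup_smul]
    exact Subgroup.map_mono hQ
  have hcent := hP (K.map f) hKP (by rw [Subgroup.card_map_of_injective (MulAut.conj g).injective, h4]) (by
    rintro _ ⟨k, hk, rfl⟩
    rw [← map_pow, h2 k hk, map_one])
  have hmem : f z ∈ Subgroup.centralizer ((K.map f : Subgroup G) : Set G) := by
    rw [Subgroup.mem_centralizer_iff]
    rintro _ ⟨k, hk, rfl⟩
    rw [← map_mul, ← map_mul, (hz k hk).eq]
  rw [hcent] at hmem
  obtain ⟨k, hk, e⟩ := hmem
  rwa [← (MulAut.conj g).injective e]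

/-- A dihedral Sylow subgroup with self-centralising fours gives the condition. -/
theorem twoByCyclic_of_dihedral (P : Sylow 2 G) {m : ℕ} (e : (P : Subgroup G) ≃* DihedralGroup (2 ^ m))
    (hP : ∀ K : Subgroup G, K ≤ P → Nat.card K = 4 → (∀ k ∈ K, k ^ 2 = 1) → Subgroup.centralizer (K : Set G) = K)
    (H : Subgroup G) (S : Sylow 2 H) [(S : Subgroup H).Normal] [IsCyclic (H ⧸ (S : Subgroup H))] :
    IsCyclic H ∨ (∃ n : ℕ, Nonempty (H ≃* DihedralGroup (2 ^ n))) ∨ Nonempty (H ≃* alternatingGroup (Fin 4)) := by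
  haveI : Fact (Nat.Prime 2) := ⟨Nat.prime_two⟩
  obtain ⟨y, hy, hgen⟩ := exists_odd_generator S
  obtain ⟨Q, hQ⟩ := (S.2.map H.subtype).exists_le_sylow
  let eQ : (Q : Subgroup G) ≃* DihedralGroup (2 ^ m) := (Q.equiv P).trans e
  let eS : (S : Subgroup H) ≃* (((S : Subgroup H).map H.subtype).subgroupOf (Q : Subgroup G)) :=
    ((S : Subgroup H).equivMapOfInjective H.subtype H.subtype_injective).trans
      (Subgroup.subgroupOfEquivOfLe hQ).symm
  have hcop : (Nat.card (S : Subgroup H)).Coprime (orderOf y) := by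
    obtain ⟨k, hk⟩ := IsPGroup.iff_card.1 S.2
    rw [hk]
    exact Nat.Coprime.pow_left k (Nat.coprime_two_left.2 hy)
  have hcyc : IsCyclic (S : Subgroup H) → IsCyclic H := by
    intro hc
    refine isCyclic_sup _ y (commute_of_isPGroup _ ?_ hy) hcop hgen
    obtain ⟨k, hk⟩ := IsPGroup.iff_card.1 S.2
    rcases k with _ | k
    · haveI : Subsingleton (S : Subgroup H) := (Nat.card_eq_one_iff_unique.1 (by simpa using hk)).1
      exact fun φ => ⟨0, MulEquiv.ext fun x => Subsingleton.elim _ _⟩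
    · refine IsPGroup.of_card (n := k) ?_
      rw [IsCyclic.card_mulAut, hk, Nat.totient_prime_pow_succ Nat.prime_two]
      simp
  rcases dihedral_subgroup eQ (((S : Subgroup H).map H.subtype).subgroupOf (Q : Subgroup G)) with hc | ⟨j, ⟨f⟩⟩
  · exact Or.inl (hcyc (MulEquiv.isCyclic eS |>.2 hc))
  set ef := eS.trans f
  rcases j with _ | j
  · refine Or.inl (hcyc (isCyclic_of_prime_card (p := 2) ?_))
    rw [Nat.card_congr ef.toEquiv, DihedralGroup.nat_card, pow_zero, mul_one]
  -- a four group inside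
  haveI : NeZero (2 ^ (j + 1)) := ⟨by positivity⟩
  set h : ZMod (2 ^ (j + 1)) := ((2 ^ j : ℕ) : ZMod (2 ^ (j + 1))) with hh
  have hh2 : h + h = 0 := by rw [hh, ← Nat.cast_add, ← two_mul, ← pow_succ', ZMod.natCast_self]
  have hh0 : h ≠ 0 := by
    rw [hh, Ne, ZMod.natCast_eq_zero_iff]
    exact fun hd => absurd (Nat.le_of_dvd (by positivity) hd) (not_le.2 (Nat.pow_lt_pow_right one_lt_two (by omega)))
  set ι : DihedralGroup (2 ^ (j + 1)) →* G := H.subtype.comp ((S : Subgroup H).subtype.comp ef.symm.toMonoidHom)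
  have hι : Function.Injective ι :=
    H.subtype_injective.comp ((S : Subgroup H).subtype_injective.comp ef.symm.injective)
  obtain ⟨K, hK4, hK2, hKmem⟩ := exists_klein (z := ι (.r h)) (w := ι (.sr 0))
    (by rw [← map_mul, DihedralGroup.r_mul_r, hh2, DihedralGroup.r_zero, map_one])
    (by rw [← map_mul, DihedralGroup.sr_mul_self, map_one])
    (by rw [← map_mul, ← map_mul, DihedralGroup.r_mul_sr, DihedralGroup.sr_mul_r, zero_sub, zero_add,
      neg_eq_of_add_eq_zero_left hh2])
    (fun e' => hh0 (by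
      have h0 := hι (e'.trans (map_one ι).symm)
      rw [← DihedralGroup.r_zero] at h0
      exact DihedralGroup.r.inj h0))
    (fun e' => by
      have h0 := hι (e'.trans (map_one ι).symm)
      rw [← DihedralGroup.r_zero] at h0
      cases h0)
    (fun e' => by cases hι e')
  have hKS : ∀ k ∈ K, ∃ s ∈ (S : Subgroup H), (s : G) = k := by
    intro k hk
    obtain ⟨d, rfl⟩ : k ∈ ι.range := by
      rcases (hKmem k).1 hk with rfl | rfl | rfl | rfl
      · exact one_mem _
      · exact ⟨_, rfl⟩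
      · exact ⟨_, rfl⟩
      · exact mul_mem ⟨_, rfl⟩ ⟨_, rfl⟩
    exact ⟨_, (ef.symm d).2, rfl⟩
  have hfix : ∀ z : H, Odd (orderOf z) → (∀ s ∈ (S : Subgroup H), Commute s z) → z = 1 := by
    intro z hz hzc
    have hzK : (z : G) ∈ K := mem_centralizer_klein P hP K hK4 hK2 fun k hk => by
      obtain ⟨s, hs, rfl⟩ := hKS k hk
      exact congrArg Subtype.val (hzc s hs).eq
    rw [← orderOf_eq_one_iff]
    have h2 : orderOf z ∣ 2 := by
      refine orderOf_dvd_of_pow_eq_one (Subtype.ext ?_)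
      rw [SubgroupClass.coe_pow]
      exact hK2 _ hzK
    exact Nat.eq_one_of_dvd_coprimes (Nat.coprime_two_left.2 hz) h2 dvd_rfl
  have hwhole : y = 1 → ∃ n, Nonempty (H ≃* DihedralGroup (2 ^ n)) := by
    rintro rfl
    rw [Subgroup.zpowers_one_eq_bot, sup_bot_eq] at hgen
    exact ⟨j + 1, ⟨(Subgroup.topEquiv.symm.trans (MulEquiv.subgroupCongr hgen.symm)).trans ef⟩⟩
  rcases j with _ | j
  · -- the four group case
    have hS4 : Nat.card (S : Subgroup H) = 4 := by
      rw [Nat.card_congr ef.toEquiv, DihedralGroup.nat_card]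
      norm_num
    have hy3 : y ^ 3 = 1 := by
      refine hfix _ (hy.of_dvd_nat (orderOf_pow_dvd 3)) fun s hs => ?_
      have h6 := mulAut_pow_six hS4 (MulAut.conjNormal y : MulAut (S : Subgroup H))
      have h3 : (MulAut.conjNormal y : MulAut (S : Subgroup H)) ^ 3 = 1 := by
        rw [← orderOf_dvd_iff_pow_eq_one]
        have hd : orderOf (MulAut.conjNormal y : MulAut (S : Subgroup H)) ∣ 2 * 3 := orderOf_dvd_of_pow_eq_one h6
        exact (Nat.Coprime.coprime_dvd_left (orderOf_map_dvd _ y) (Nat.coprime_two_right.2 hy)).dvd_of_dvd_mul_left hd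
      rw [← map_pow] at h3
      have h4 : y ^ 3 * s * (y ^ 3)⁻¹ = s := by
        have h5 := congrArg (fun φ : MulAut (S : Subgroup H) => ((φ ⟨s, hs⟩ : (S : Subgroup H)) : H)) h3
        simp only [MulAut.conjNormal_apply, MulAut.one_apply] at h5
        exact h5
      exact (mul_inv_eq_iff_eq_mul.1 h4).symm
    rcases (Nat.dvd_prime Nat.prime_three).1 (orderOf_dvd_of_pow_eq_one hy3) with h1 | h3
    · exact Or.inr (Or.inl (hwhole (orderOf_eq_one_iff.1 h1)))
    right; right
    have hdisj : Disjoint (S : Subgroup H) (Subgroup.zpowers y) :=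
      disjoint_iff.2 (Subgroup.inf_eq_bot_of_coprime (by rw [Nat.card_zpowers]; exact hcop))
    have hcompl : Subgroup.IsComplement' (S : Subgroup H) (Subgroup.zpowers y) :=
      Subgroup.isComplement'_of_disjoint_and_mul_eq_univ hdisj (by
        rw [← Subgroup.normal_mul, hgen, Subgroup.coe_top])
    have h12 : Nat.card H = 12 := by rw [← hcompl.card_mul_card, hS4, Nat.card_zpowers, h3]
    refine Dickson.nonempty_alternating_four h12 (Subgroup.zpowers y) (by rw [Nat.card_zpowers, h3]) ?_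
    refine le_antisymm (fun g hg => ?_) Subgroup.le_normalizer
    obtain ⟨s, hs, z, hz, rfl⟩ : g ∈ ((S : Subgroup H) : Set H) * (Subgroup.zpowers y : Set H) := by
      rw [hcompl.mul_eq]; trivial
    have hs' : s ∈ Subgroup.normalizer (Subgroup.zpowers y : Set H) := by
      simpa using (Subgroup.normalizer _).mul_mem hg (Subgroup.le_normalizer ((Subgroup.zpowers y).inv_mem hz))
    have hcomm : ∀ t ∈ (S : Subgroup H), t = s → Commute t y := by
      rintro t ht rfl
      have h1 : t * y * t⁻¹ * y⁻¹ ∈ (S : Subgroup H) := by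
        rw [show t * y * t⁻¹ * y⁻¹ = t * (y * t⁻¹ * y⁻¹) by group]
        exact mul_mem ht (Subgroup.Normal.conj_mem inferInstance _ (inv_mem ht) y)
      have h2 : t * y * t⁻¹ * y⁻¹ ∈ Subgroup.zpowers y :=
        mul_mem ((Subgroup.mem_normalizer_iff.1 hs' y).1 (Subgroup.mem_zpowers y))
          (inv_mem (Subgroup.mem_zpowers y))
      have h := Subgroup.disjoint_def.1 hdisj h1 h2
      rw [mul_inv_eq_one, mul_inv_eq_iff_eq_mul] at h
      exact h
    have hsy : Commute s y := hcomm s hs rfl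
    -- y is not the identity on the four group, so fixes only the identity
    have hs1 : s = 1 := by
      by_contra hs1
      suffices hall : ∀ t ∈ (S : Subgroup H), Commute t y by
        rw [hfix y hy hall, orderOf_one] at h3; norm_num at h3
      intro t ht
      set φ := (MulAut.conjNormal y : MulAut (S : Subgroup H)) with hφ
      have hφs : φ ⟨s, hs⟩ = ⟨s, hs⟩ := Subtype.ext (by
        show y * s * y⁻¹ = s
        rw [← hsy.eq, mul_inv_cancel_right])
      have hφ3 : φ (φ (φ ⟨t, ht⟩)) = ⟨t, ht⟩ := Subtype.ext (by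
        show y * (y * (y * t * y⁻¹) * y⁻¹) * y⁻¹ = t
        calc y * (y * (y * t * y⁻¹) * y⁻¹) * y⁻¹ = (y * y * y) * t * (y * y * y)⁻¹ := by group
          _ = t := by rw [← pow_three', hy3, inv_one, one_mul, mul_one])
      have hφt : φ ⟨t, ht⟩ = ⟨t, ht⟩ := by
        classical
        haveI := Fintype.ofFinite (S : Subgroup H)
        by_contra hne
        set u : (S : Subgroup H) := ⟨t, ht⟩ with hu
        have hu1 : u ≠ 1 := fun e' => hne (by rw [e', map_one])
        have hus : u ≠ ⟨s, hs⟩ := fun e' => hne (by rw [e', hφs])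
        have hv1 : φ u ≠ 1 := fun e' => hu1 (φ.injective (e'.trans (map_one φ).symm))
        have hvs : φ u ≠ ⟨s, hs⟩ := fun e' => hus (φ.injective (e'.trans hφs.symm))
        have hw1 : φ (φ u) ≠ 1 := fun e' => hv1 (φ.injective (e'.trans (map_one φ).symm))
        have hws : φ (φ u) ≠ ⟨s, hs⟩ := fun e' => hvs (φ.injective (e'.trans hφs.symm))
        have hwu : φ (φ u) ≠ u := fun e' => hne (by rw [← e', hφ3, e'])
        have hwv : φ (φ u) ≠ φ u := fun e' => hne (φ.injective e')
        have hs0 : (⟨s, hs⟩ : (S : Subgroup H)) ≠ 1 := fun e' => hs1 (congrArg Subtype.val e')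
        have hle := Finset.card_le_univ ({1, ⟨s, hs⟩, u, φ u, φ (φ u)} : Finset (S : Subgroup H))
        rw [← Nat.card_eq_fintype_card, hS4] at hle
        simp [hs0.symm, hu1.symm, hv1.symm, hw1.symm, hus.symm, hvs.symm, hws.symm, Ne.symm hne, hwu.symm,
          hwv.symm] at hle
      have h4 : y * t * y⁻¹ = t := congrArg Subtype.val hφt
      exact (mul_inv_eq_iff_eq_mul.1 h4).symm
    show s * z ∈ Subgroup.zpowers y
    rwa [hs1, one_mul]
  · refine Or.inr (Or.inl (hwhole (hfix y hy (commute_of_isPGroup _ ?_ hy))))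
    exact Fus.isPGroup_mulAut_congr ef (Fus.isPGroup_mulAut_dihedralGroup (by omega))

end Cfsg.Agent.Transfer.TwoByCyclic
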