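import Mathlib

/-!
Finite computations for the quadratic form of minus type in dimension four over two elements.
-/

set_option autoImplicit false

namespace Cfsg.Agent.Transfer.MinusFour

/-- Binary vectors of length four. -/
abbrev V4 : Type := Fin 4 → ZMod 2

/-- The model form with five singular points. -/
def fM (x : V4) : ZMod 2 := x 0 * x 1 + x 0 * x 2 + x 0 * x 3 + x 1 * x 2 + x 1 * x 3 + x 2 * x 3

/-- A form in symplectic coordinates. -/
def gS (a : V4) (x : V4) : ZMod 2 := a 0 * x 0 + a 1 * x 1 + a 2 * x 2 + a 3 * x 3 + x 0 * x 1 + x 2 * x 3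

def bits (n : ℕ) : V4 := ![(n : ZMod 2), ((n / 2 : ℕ) : ZMod 2), ((n / 4 : ℕ) : ZMod 2), ((n / 8 : ℕ) : ZMod 2)]

/-- The linear map with prescribed columns. -/
def comb (c : Fin 4 → V4) (x : V4) : V4 := x 0 • c 0 + x 1 • c 1 + x 2 • c 2 + x 3 • c 3

/-- The first four singular vectors. -/
def cols (a : V4) : Fin 4 → V4 := fun i =>
  (((List.range 16).map bits).filter fun v => decide (v ≠ 0 ∧ gS a v = 0)).getD i 0

theorem cases_form : ∀ a : V4,
    (∃ u v : V4, u ≠ 0 ∧ v ≠ 0 ∧ u ≠ v ∧ gS a u = 0 ∧ gS a v = 0 ∧ gS a (u + v) = 0) ∨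
    ((∀ x, comb (cols a) x = 0 → x = 0) ∧ ∀ x, gS a (comb (cols a) x) = fM x) := by
  decide +kernel

/-- The five singular points of the model. -/
def pt (i : Fin 5) : V4 := fun j => if (i : ℕ) = 4 then 1 else if (j : ℕ) = i then 1 else 0

/-- The matrix of a permutation of the five points. -/
def permMat (σ : Equiv.Perm (Fin 5)) : Matrix (Fin 4) (Fin 4) (ZMod 2) :=
  Matrix.of fun i j => pt (σ j.castSucc) i

theorem permMat_facts : ∀ σ : Equiv.Perm (Fin 5),
    permMat σ * permMat σ⁻¹ = 1 ∧ (∀ x : V4, fM (Matrix.mulVec (permMat σ) x) = fM x) ∧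
      ∀ i : Fin 5, Matrix.mulVec (permMat σ) (pt i) = pt (σ i) := by
  decide +kernel

theorem pt_spec : (∀ x : V4, (x ≠ 0 ∧ fM x = 0) ↔ ∃ i, x = pt i) ∧ Function.Injective pt ∧
    ∀ j : Fin 4, Pi.single j (1 : ZMod 2) = pt j.castSucc := by
  decide +kernel

end Cfsg.Agent.Transfer.MinusFour
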