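import Mathlib
import Cfsg.Agent.Lib.Transfer.OmegaMetacyclic
import Cfsg.Agent.Lib.Fus.MetacyclicTwoAut
import Cfsg.Agent.Lib.Grp.RankThreeFour
import Cfsg.Agent.Lib.Transfer.RankTwo

/-!
Coprime action on metacyclic `p`-groups, `p` odd: if the group is generated by the commutators with
the acting group, it is abelian.
-/

set_option autoImplicit false
set_option linter.style.haveILetI false
set_option linter.unusedSectionVars false
set_option maxHeartbeats 1000000

namespace Cfsg.Agent.Transfer.MetaCoprime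

open scoped commutatorElement

universe u

/-- The action generates the group by commutators. -/
def Gen {R A : Type*} [Group R] [Group A] (f : A →* MulAut R) : Prop :=
  Subgroup.closure {y : R | ∃ a x, y = x * (f a x)⁻¹} = ⊤

variable {p : ℕ} [hp : Fact p.Prime]

/-- An element fixed modulo an invariant subgroup with abelian quotient lies in that subgroup. -/
theorem mem_of_fixed {R A : Type*} [Group R] [Finite R] [Group A] [Finite A] (hR : IsPGroup p R)
    (hcop : (Nat.card A).Coprime p) (f : A →* MulAut R) (hgen : Gen f) (K : Subgroup R) [K.Normal]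
    (hK : ∀ a, ∀ x ∈ K, f a x ∈ K) (hab : ∀ x y : R, ⁅x, y⁆ ∈ K) {y : R}
    (hy : ∀ a, y⁻¹ * f a y ∈ K) : y ∈ K := by
  classical
  letI : Fintype A := Fintype.ofFinite A
  letI : CommGroup (R ⧸ K) :=
    { (inferInstance : Group (R ⧸ K)) with
      mul_comm := fun u v => by
        obtain ⟨x, rfl⟩ := QuotientGroup.mk'_surjective K u
        obtain ⟨w, rfl⟩ := QuotientGroup.mk'_surjective K v
        rw [← commutatorElement_eq_one_iff_mul_comm, ← map_commutatorElement]
        exact (QuotientGroup.eq_one_iff _).2 (hab x w) }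
  let ν : R →* R ⧸ K := ∏ a : A, (QuotientGroup.mk' K).comp (f a).toMonoidHom
  have happ : ∀ x, ν x = ∏ a : A, QuotientGroup.mk' K (f a x) := fun x => MonoidHom.finsetProd_apply _ _ x
  have hν : ν.ker = ⊤ := by
    rw [eq_top_iff, ← hgen, Subgroup.closure_le]
    rintro z ⟨a, x, rfl⟩
    show ν (x * (f a x)⁻¹) = 1
    rw [map_mul, map_inv, mul_inv_eq_one, happ, happ]
    refine (Fintype.prod_equiv (Equiv.mulRight a) _ _ fun b => ?_).symm
    show _ = QuotientGroup.mk' K (f (b * a) x)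
    rw [map_mul]; rfl
  have h1 : (QuotientGroup.mk' K y) ^ Nat.card A = 1 := by
    have h := MonoidHom.mem_ker.1 (hν.ge (Subgroup.mem_top y))
    rw [happ, Finset.prod_congr rfl (fun a _ => ?_), Finset.prod_const, Finset.card_univ, ← Nat.card_eq_fintype_card] at h
    · exact h
    · exact ((QuotientGroup.eq).2 (hy a)).symm
  obtain ⟨k, hk⟩ := hR.to_quotient K (QuotientGroup.mk' K y)
  refine (QuotientGroup.eq_one_iff y).1 (orderOf_eq_one_iff.1 ?_)
  exact Nat.eq_one_of_dvd_coprimes (hcop.pow_right k) (orderOf_dvd_of_pow_eq_one h1) (orderOf_dvd_of_pow_eq_one hk)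

theorem zpowers_eq_iff {R : Type*} [Group R] [Finite R] {z : R} (hz : z ^ p = 1) {k m : ℤ} (hz1 : z ≠ 1) :
    z ^ k = z ^ m ↔ ((k : ZMod p) = m) := by
  rw [zpow_eq_zpow_iff_modEq, orderOf_eq_prime hz hz1, ZMod.intCast_eq_intCast_iff]

theorem class_two_case {R : Type u} [Group R] [Finite R] {A : Type*} [Group A] [Finite A] (hp2 : p ≠ 2)
    (hR : IsPGroup p R) (hm : Cfsg.IsMetacyclic R) (hcop : (Nat.card A).Coprime p) (f : A →* MulAut R)
    (hgen : Gen f) {z : R} (hzc : ∀ x, Commute z x) (hzp : z ^ p = 1) (hz1 : z ≠ 1)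
    (hD : commutator R = Subgroup.zpowers z) : False := by
  classical
  have hcomm : ∀ x y : R, ⁅x, y⁆ ∈ Subgroup.zpowers z := fun x y => by
    rw [← hD, _root_.commutator_def]; exact Subgroup.commutator_mem_commutator (Subgroup.mem_top x) (Subgroup.mem_top y)
  have hcc : ∀ (c : R), c ∈ Subgroup.zpowers z → ∀ w, Commute c w := by
    rintro _ ⟨k, rfl⟩ w; exact (hzc w).zpow_left k
  have hnc : ¬ IsCyclic R := fun h => by
    letI := h.commGroup
    refine hz1 (Subgroup.mem_bot.1 ?_)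
    have : commutator R = ⊥ := by
      rw [_root_.commutator_def, eq_bot_iff, Subgroup.commutator_le]
      intro x _ y _
      rw [Subgroup.mem_bot, commutatorElement_eq_one_iff_mul_comm]; exact mul_comm x y
    rw [← this, hD]; exact Subgroup.mem_zpowers z
  have hpowmul : ∀ (k : ℕ), 1 ≤ k → ∀ x y : R, (x * y) ^ p ^ k = x ^ p ^ k * y ^ p ^ k := by
    intro k hk x y
    rw [Grp.mul_pow_class_two (x := x) (y := y) (c := ⁅y, x⁆) (by rw [commutatorElement_def]; group)
      (hcc _ (hcomm y x) x) (hcc _ (hcomm y x) y) (p ^ k)]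
    obtain ⟨i, hi⟩ := Subgroup.mem_zpowers_iff.1 (hcomm y x)
    have hd : p ∣ (p ^ k).choose 2 := by
      rw [Nat.choose_two_right]
      refine (Nat.Coprime.dvd_of_dvd_mul_left ((Nat.coprime_primes hp.out Nat.prime_two).2 hp2) ?_)
      rw [Nat.mul_div_cancel' (Nat.even_mul_pred_self _).two_dvd]
      exact (dvd_pow_self p (by omega : k ≠ 0)).mul_right _
    obtain ⟨m, hm⟩ := hd
    rw [← hi, hm, pow_mul, ← zpow_natCast (z ^ i), ← zpow_mul, mul_comm i, zpow_mul, zpow_natCast, hzp,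
      one_zpow, one_pow, one_mul]
  let θ : R →* R :=
    { toFun := fun x => x ^ p
      map_one' := one_pow p
      map_mul' := fun x y => by have := hpowmul 1 le_rfl x y; rwa [pow_one] at this }
  have hpc : ∀ x y : R, Commute (x ^ p) y := by
    intro x y
    have hc : (x * y * x⁻¹ * y⁻¹) ^ p = 1 := by
      obtain ⟨i, hi⟩ := Subgroup.mem_zpowers_iff.1 (hcomm x y)
      rw [← commutatorElement_def, ← hi, ← zpow_natCast (z ^ i), ← zpow_mul, mul_comm i, zpow_mul, zpow_natCast, hzp,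
        one_zpow]
    have h1 : (y * x * y⁻¹) ^ p = x ^ p := by
      rw [show y * x * y⁻¹ = ⁅y, x⁆ * x by rw [commutatorElement_def]; group, (hcc _ (hcomm y x) x).mul_pow]
      obtain ⟨i, hi⟩ := Subgroup.mem_zpowers_iff.1 (hcomm y x)
      rw [← hi, ← zpow_natCast (z ^ i), ← zpow_mul, mul_comm i, zpow_mul, zpow_natCast, hzp, one_zpow, one_mul]
    rw [conj_pow] at h1
    exact (mul_inv_eq_iff_eq_mul.1 h1).symm
  set Φ := θ.range with hΦ
  have hΦc : ∀ w ∈ Φ, ∀ y, Commute w y := by rintro _ ⟨w, rfl⟩ y; exact hpc w y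
  haveI : Φ.Normal := ⟨fun w hw g => by rw [← (hΦc w hw g).eq, mul_inv_cancel_right]; exact hw⟩
  obtain ⟨V, hV, -, hVc⟩ := omega_card_metacyclic hp2 hR hm hnc
  have hidx : Φ.index = p ^ 2 := by
    have h1 : θ.ker = V := Subgroup.ext fun x => MonoidHom.mem_ker.trans (hV x).symm
    have h2 := Subgroup.card_mul_index θ.ker
    rw [Subgroup.index_ker, h1, hVc] at h2
    refine Nat.eq_of_mul_eq_mul_left (Nat.card_pos (α := Φ)) ?_
    rw [Subgroup.card_mul_index, ← h2, mul_comm]
  have hQab : ∀ x y : R, ⁅x, y⁆ ∈ Φ := by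
    intro x y
    rw [← QuotientGroup.eq_one_iff]
    show QuotientGroup.mk' Φ ⁅x, y⁆ = 1
    rw [map_commutatorElement, commutatorElement_eq_one_iff_mul_comm]
    exact (IsPGroup.isMulCommutative_of_card_eq_prime_sq (p := p) (G := R ⧸ Φ) (by rw [← Subgroup.index_eq_card, hidx])).is_comm.comm _ _
  have hzΦ : Subgroup.zpowers z ≤ Φ := by
    rw [← hD, _root_.commutator_def, Subgroup.commutator_le]
    exact fun x _ y _ => hQab x y
  have hΦi : ∀ a, ∀ x ∈ Φ, f a x ∈ Φ := by
    rintro a _ ⟨w, rfl⟩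
    exact ⟨f a w, (map_pow (f a) w p).symm⟩
  have hzi : ∀ a, f a z ∈ Subgroup.zpowers z := fun a => by
    rw [← hD]
    haveI : (commutator R).Characteristic := inferInstance
    exact (Subgroup.characteristic_iff_map_eq.1 inferInstance (f a)).le
      ⟨z, hD.ge (Subgroup.mem_zpowers z), rfl⟩
  -- the deepest power equal to `z`
  have hex : ∃ k, ¬ ∃ v : R, v ^ p ^ (k + 1) = z := by
    refine ⟨Nat.card R, ?_⟩
    rintro ⟨v, hv⟩
    obtain ⟨j, hj⟩ := IsPGroup.iff_orderOf.1 hR v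
    refine hz1 (hv ▸ orderOf_dvd_iff_pow_eq_one.1 (hj ▸ Nat.pow_dvd_pow p ?_))
    have h1 : p ^ j ≤ Nat.card R := hj ▸ Nat.le_of_dvd Nat.card_pos (orderOf_dvd_natCard v)
    have h2 := Nat.lt_pow_self hp.out.one_lt (n := j)
    omega
  set e := Nat.find hex with he
  have hemax : ¬ ∃ v : R, v ^ p ^ (e + 1) = z := Nat.find_spec hex
  have he1 : 1 ≤ e := by
    by_contra h0
    obtain ⟨w, hw⟩ := hzΦ (Subgroup.mem_zpowers z)
    exact hemax ⟨w, by rw [show e = 0 by omega, zero_add, pow_one]; exact hw⟩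
  obtain ⟨v, hv⟩ : ∃ v : R, v ^ p ^ e = z := by
    have h1 := not_not.1 (Nat.find_min hex (show e - 1 < Nat.find hex by rw [← he]; omega))
    rwa [show e - 1 + 1 = e by omega] at h1
  let η : R →* R :=
    { toFun := fun x => x ^ p ^ e
      map_one' := one_pow _
      map_mul' := hpowmul e he1 }
  have hηΦ : ∀ φ ∈ Φ, η φ ∈ Subgroup.zpowers z → η φ = 1 := by
    rintro _ ⟨w, rfl⟩ hmem
    by_contra hne
    obtain ⟨k, hk⟩ := Subgroup.mem_zpowers_iff.1 hmem
    have hk' : ¬ (p : ℤ) ∣ k := fun ⟨c, hc⟩ => hne (by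
      rw [← hk, hc, zpow_mul, zpow_natCast, hzp, one_zpow])
    obtain ⟨s, t, hst⟩ := ((Nat.prime_iff_prime_int.1 hp.out).coprime_iff_not_dvd.2 hk')
    refine hemax ⟨w ^ t, ?_⟩
    have hw : w ^ p ^ (e + 1) = z ^ k := by rw [pow_succ', pow_mul]; exact hk.symm
    rw [← zpow_natCast (w ^ t), ← zpow_mul, mul_comm t, zpow_mul, zpow_natCast, hw, ← zpow_mul]
    have h2 : z ^ (s * p + t * k) = z := by rw [hst, zpow_one]
    rw [zpow_add, mul_comm s, zpow_mul, zpow_natCast, hzp, one_zpow, one_mul, mul_comm t] at h2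
    exact h2
  have hvΦ : v ∉ Φ := fun h => by
    refine hz1 ?_
    rw [← hv]
    exact hηΦ v h (by show v ^ p ^ e ∈ _; rw [hv]; exact Subgroup.mem_zpowers z)
  set L0 := (Subgroup.zpowers z).comap η with hL0
  have hL0i : ∀ a, ∀ x ∈ L0, f a x ∈ L0 := fun a x hx => by
    obtain ⟨k, hk⟩ := Subgroup.mem_zpowers_iff.1 (show η x ∈ Subgroup.zpowers z from hx)
    show (f a x) ^ p ^ e ∈ Subgroup.zpowers z
    rw [← map_pow, show x ^ p ^ e = z ^ k from hk.symm, map_zpow]
    exact zpow_mem (hzi a) k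
  -- the main computation on an invariant subgroup of index `p`
  have main : ∀ L : Subgroup R, Φ ≤ L → L.index = p → (∀ a, ∀ x ∈ L, f a x ∈ L) → ∀ l ∈ L, l ∉ Φ → ∀ y, y ∉ L →
      ⁅l, y⁆ ≠ 1 ∧ ∀ a, ∃ i j : ℤ, (l ^ j)⁻¹ * f a l ∈ Φ ∧ (y ^ i)⁻¹ * f a y ∈ L ∧ f a ⁅l, y⁆ = ⁅l, y⁆ ^ (i * j) := by
    intro L hΦL hLi hLinv l hl hlΦ y hy
    have hLgen : ∀ x ∈ L, ∃ j : ℤ, (l ^ j)⁻¹ * x ∈ Φ := by
      intro x hx
      have hle : Φ ⊔ Subgroup.zpowers l = L := by
        refine Subgroup.eq_of_le_of_card_ge (sup_le hΦL (Subgroup.zpowers_le.2 hl)) ?_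
        obtain ⟨n, hn⟩ := IsPGroup.iff_card.1 (hR.to_subgroup (Φ ⊔ Subgroup.zpowers l))
        have h1 := Subgroup.card_mul_index L
        have h2 := Subgroup.card_mul_index Φ
        obtain ⟨m, hm'⟩ := IsPGroup.iff_card.1 (hR.to_subgroup Φ)
        rw [hLi] at h1
        rw [hidx, hm', ← h1, pow_two, ← mul_assoc] at h2
        have h3 : Nat.card L = p ^ (m + 1) := by rw [pow_succ]; exact (Nat.eq_of_mul_eq_mul_right hp.out.pos h2).symm
        rw [h3, hn]
        refine Nat.pow_le_pow_right hp.out.pos ?_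
        have hlt : Nat.card Φ < Nat.card ↥(Φ ⊔ Subgroup.zpowers l) := by
          refine lt_of_le_of_ne (Subgroup.card_le_of_le le_sup_left) fun heq => hlΦ ?_
          exact (Subgroup.eq_of_le_of_card_ge le_sup_left heq.ge).ge (Subgroup.mem_sup_right (Subgroup.mem_zpowers l))
        rw [hm', hn] at hlt
        exact (Nat.pow_lt_pow_iff_right hp.out.one_lt).1 hlt
      rw [← hle] at hx
      obtain ⟨φ, hφ, w, hw, rfl⟩ := Subgroup.mem_sup_of_normal_left.1 hx
      obtain ⟨j, rfl⟩ := Subgroup.mem_zpowers_iff.1 hw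
      exact ⟨j, by rw [(hΦc φ hφ (l ^ j)).eq, inv_mul_cancel_left]; exact hφ⟩
    haveI hLn : L.Normal := ⟨fun x hx g => by
      have h2 := L.mul_mem (hΦL (hQab g x)) hx
      rwa [show ⁅g, x⁆ * x = g * x * g⁻¹ by rw [commutatorElement_def]; group] at h2⟩
    have hygen : ∀ x : R, ∃ i : ℤ, (y ^ i)⁻¹ * x ∈ L := by
      intro x
      haveI : IsCyclic (R ⧸ L) := isCyclic_of_prime_card (p := p) (by rw [← Subgroup.index_eq_card, hLi])
      have hne : QuotientGroup.mk' L y ≠ 1 := fun h => hy ((QuotientGroup.eq_one_iff y).1 h)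
      obtain ⟨i, hi⟩ := Subgroup.mem_zpowers_iff.1 (mem_zpowers_of_prime_card (p := p)
        (by rw [← Subgroup.index_eq_card, hLi]) hne : QuotientGroup.mk' L x ∈ _)
      refine ⟨i, ?_⟩
      rw [← QuotientGroup.eq, QuotientGroup.mk_zpow]
      exact hi
    have hmulr : ∀ c x w : R, (∀ t, Commute c t) → ⁅x * c, w⁆ = ⁅x, w⁆ ∧ ⁅x, w * c⁆ = ⁅x, w⁆ := by
      intro c x w hc
      constructor
      · rw [commutatorElement_mul_left_eq_conj_mul, commutatorElement_eq_one_iff_mul_comm.2 (hc w).eq]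
        simp
      · rw [commutatorElement_mul_right_eq_mul_conj, commutatorElement_eq_one_iff_mul_comm.2 ((hc x).symm.eq)]
        simp
    have hleft : ∀ x w : R, ∀ k : ℤ, ⁅x ^ k, w⁆ = ⁅x, w⁆ ^ k := by
      intro x w k
      let g : R →* R :=
        { toFun := fun t => ⁅t, w⁆
          map_one' := commutatorElement_one_left w
          map_mul' := fun s t => by
            rw [commutatorElement_mul_left_eq_conj_mul, ← (hcc _ (hcomm t w) s).eq, mul_inv_cancel_right,
              (hcc _ (hcomm t w) _).eq] }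
      exact map_zpow g x k
    have hright : ∀ x w : R, ∀ k : ℤ, ⁅x, w ^ k⁆ = ⁅x, w⁆ ^ k := fun x w k => by
      rw [← commutatorElement_inv (w ^ k) x, hleft, ← inv_zpow, commutatorElement_inv]
    have hne : ⁅l, y⁆ ≠ 1 := fun h0 => by
      refine hz1 (Subgroup.mem_bot.1 ?_)
      have hab : commutator R = ⊥ := by
        rw [_root_.commutator_def, eq_bot_iff, Subgroup.commutator_le]
        intro x _ w _
        rw [Subgroup.mem_bot]
        obtain ⟨i, hi⟩ := hygen x
        obtain ⟨j, hj⟩ := hLgen _ hi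
        obtain ⟨i', hi'⟩ := hygen w
        obtain ⟨j', hj'⟩ := hLgen _ hi'
        have h0' : Commute l y := commutatorElement_eq_one_iff_mul_comm.1 h0
        have ex : x = y ^ i * l ^ j * ((l ^ j)⁻¹ * ((y ^ i)⁻¹ * x)) := by group
        have ew : w = y ^ i' * l ^ j' * ((l ^ j')⁻¹ * ((y ^ i')⁻¹ * w)) := by group
        rw [ex, ew, (hmulr _ _ _ (hΦc _ hj)).1, (hmulr _ _ _ (hΦc _ hj')).2, commutatorElement_eq_one_iff_mul_comm]
        exact (Commute.mul_left ((Commute.mul_right ((Commute.refl y).zpow_zpow i i') (h0'.symm.zpow_zpow i j')))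
          ((Commute.mul_right (h0'.zpow_zpow j i') ((Commute.refl l).zpow_zpow j j')))).eq
      rw [← hab, hD]; exact Subgroup.mem_zpowers z
    refine ⟨hne, fun a => ?_⟩
    obtain ⟨j, hj⟩ := hLgen _ (hLinv a l hl)
    obtain ⟨i, hi⟩ := hygen (f a y)
    obtain ⟨j', hj'⟩ := hLgen _ hi
    refine ⟨i, j, hj, hi, ?_⟩
    have ex : f a l = l ^ j * ((l ^ j)⁻¹ * f a l) := by group
    have ey : f a y = y ^ i * l ^ j' * ((l ^ j')⁻¹ * ((y ^ i)⁻¹ * f a y)) := by group
    rw [map_commutatorElement, ex, ey, (hmulr _ _ _ (hΦc _ hj)).1, (hmulr _ _ _ (hΦc _ hj')).2,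
      commutatorElement_mul_right_eq_mul_conj,
      commutatorElement_eq_one_iff_mul_comm.2 ((Commute.refl l).zpow_zpow j j').eq]
    rw [mul_one, mul_inv_cancel_right, hleft, hright, ← zpow_mul]
  have hfac : ∀ {k m : ℤ} {c : R}, c ∈ Subgroup.zpowers z → c ≠ 1 → c ^ k = c ^ m → (k : ZMod p) = m := by
    intro k m c hc hc1 h
    have hcp : c ^ p = 1 := by
      obtain ⟨i, rfl⟩ := hc
      rw [← zpow_natCast, ← zpow_mul, mul_comm, zpow_mul, zpow_natCast, hzp, one_zpow]
    exact (zpowers_eq_iff hcp hc1).1 h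
  have hfix : ∀ (L : Subgroup R) (w : R) (i : ℤ) (t : R), w ^ p ∈ L → (i : ZMod p) = 1 → (w ^ i)⁻¹ * t ∈ L →
      w⁻¹ * t ∈ L := by
    intro L w i t hw hi ht
    obtain ⟨c, hc⟩ := (ZMod.intCast_eq_intCast_iff_dvd_sub (1 : ℤ) i p).1 (by rw [hi]; norm_num)
    have h2 : w⁻¹ * t = (w ^ p) ^ c * ((w ^ i)⁻¹ * t) := by
      rw [← zpow_natCast w p, ← zpow_mul, ← hc]; group
    rw [h2]
    exact mul_mem (zpow_mem hw c) ht
  have hzscal : ∀ (c : R) (a : A) (i : ℤ), c ∈ Subgroup.zpowers z → f a z = z ^ i → f a c = c ^ i := by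
    rintro _ a i ⟨k, rfl⟩ h
    show f a (z ^ k) = (z ^ k) ^ i
    rw [map_zpow, h, ← zpow_mul, ← zpow_mul, mul_comm]
  by_cases hL : L0 ⊔ Φ = ⊤
  · -- `η` is a homomorphism onto `⟨z⟩` killing `Φ`
    have hexp : ∀ (n : ℕ) (x : R), ∃ w : R, x ^ p ^ (e + 1) = w ^ p ^ (e + 1 + n) := by
      intro n
      induction n with
      | zero => exact fun x => ⟨x, rfl⟩
      | succ n ih =>
        intro x
        obtain ⟨w, hw⟩ := ih x
        obtain ⟨l, hl, φ, hφ, rfl⟩ := Subgroup.mem_sup_of_normal_right.1 (hL.ge (Subgroup.mem_top w))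
        obtain ⟨u, rfl⟩ := hφ
        refine ⟨u, hw.trans ?_⟩
        have hl1 : l ^ p ^ (e + 1 + n) = 1 := by
          obtain ⟨k, hk⟩ := Subgroup.mem_zpowers_iff.1 (show η l ∈ Subgroup.zpowers z from hl)
          rw [show p ^ (e + 1 + n) = p ^ e * (p * p ^ n) by ring, pow_mul, show l ^ p ^ e = z ^ k from hk.symm, pow_mul,
            ← zpow_natCast (z ^ k) p, ← zpow_mul, mul_comm k, zpow_mul, zpow_natCast, hzp, one_zpow, one_pow]
        rw [hpowmul _ (by omega), hl1, one_mul]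
        show (u ^ p) ^ _ = _
        rw [← pow_mul, ← pow_succ']
        rfl
    have hexp1 : ∀ x : R, x ^ p ^ (e + 1) = 1 := fun x => by
      obtain ⟨w, hw⟩ := hexp (Nat.card R) x
      obtain ⟨j, hj⟩ := IsPGroup.iff_orderOf.1 hR w
      rw [hw]
      refine orderOf_dvd_iff_pow_eq_one.1 (hj ▸ Nat.pow_dvd_pow p ?_)
      have h1 : p ^ j ≤ Nat.card R := hj ▸ Nat.le_of_dvd Nat.card_pos (orderOf_dvd_natCard w)
      have h2 := Nat.lt_pow_self hp.out.one_lt (n := j)
      omega
    have hΦk : Φ ≤ η.ker := by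
      rintro _ ⟨w, rfl⟩
      show (w ^ p) ^ p ^ e = 1
      rw [← pow_mul, ← pow_succ', hexp1]
    have hr : η.range = Subgroup.zpowers z := by
      refine le_antisymm ?_ (Subgroup.zpowers_le.2 ⟨v, hv⟩)
      rintro _ ⟨x, rfl⟩
      obtain ⟨l, hl, φ, hφ, rfl⟩ := Subgroup.mem_sup_of_normal_right.1 (hL.ge (Subgroup.mem_top x))
      rw [map_mul, MonoidHom.mem_ker.1 (hΦk hφ), mul_one]
      exact hl
    have hki : η.ker.index = p := by rw [Subgroup.index_ker, hr, Nat.card_zpowers, orderOf_eq_prime hzp hz1]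
    have hkinv : ∀ a, ∀ x ∈ η.ker, f a x ∈ η.ker := fun a x hx => by
      show (f a x) ^ p ^ e = 1
      rw [← map_pow, show x ^ p ^ e = 1 from hx, map_one]
    obtain ⟨u, huk, huΦ⟩ := SetLike.exists_of_lt (lt_of_le_of_ne hΦk fun h => by
      rw [h, hki, pow_two] at hidx
      exact absurd hidx (lt_mul_of_one_lt_right hp.out.pos hp.out.one_lt).ne)
    have hvk : v ∉ η.ker := fun h => hz1 (hv ▸ h)
    obtain ⟨hne, hall⟩ := main η.ker hΦk hki hkinv u huk huΦ v hvk
    refine huΦ (mem_of_fixed hR hcop f hgen Φ hΦi hQab fun a => ?_)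
    obtain ⟨i, j, hj, hi, hc⟩ := hall a
    have hzi' : f a z = z ^ i := by
      rw [← hv, map_pow, show f a v = v ^ i * ((v ^ i)⁻¹ * f a v) by group]
      show η (v ^ i * ((v ^ i)⁻¹ * f a v)) = (η v) ^ i
      rw [map_mul, MonoidHom.mem_ker.1 hi, mul_one, map_zpow]
    rw [hzscal _ a i (hcomm u v) hzi'] at hc
    have h1 := hfac (hcomm u v) hne hc
    have hi0 : (i : ZMod p) ≠ 0 := fun h0 => by
      refine hz1 ((f a).injective ?_)
      rw [map_one, hzi', ← zpow_zero z]
      exact (zpowers_eq_iff hzp hz1).2 (by rw [h0]; simp)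
    refine hfix Φ u j _ ⟨u, rfl⟩ ?_ hj
    push_cast at h1
    exact (mul_left_eq_self₀.1 ((mul_comm _ _).trans h1.symm)).resolve_right hi0
  · set L := L0 ⊔ Φ with hLdef
    have hvL : v ∈ L := Subgroup.mem_sup_left (show v ^ p ^ e ∈ _ by rw [hv]; exact Subgroup.mem_zpowers z)
    have hLi : L.index = p := by
      have h1 := Subgroup.relIndex_mul_index (le_sup_right : Φ ≤ L)
      rw [hidx] at h1
      obtain ⟨k, hk, hk'⟩ := (Nat.dvd_prime_pow hp.out).1 (Dvd.intro_left _ h1)
      rw [hk'] at h1 ⊢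
      rcases (show k = 0 ∨ k = 1 ∨ k = 2 by omega) with rfl | rfl | rfl
      · exact absurd (Subgroup.index_eq_one.1 (hk'.trans (pow_zero p))) hL
      · exact pow_one p
      · have h2 : Φ.relIndex L = 1 := Nat.eq_of_mul_eq_mul_right (pow_pos hp.out.pos 2) (by rw [h1, one_mul])
        exact absurd (Subgroup.relIndex_eq_one.1 h2 hvL) hvΦ
    have hLinv : ∀ a, ∀ x ∈ L, f a x ∈ L := by
      intro a x hx
      obtain ⟨l, hl, φ, hφ, rfl⟩ := Subgroup.mem_sup_of_normal_right.1 hx
      rw [map_mul]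
      exact Subgroup.mul_mem_sup (hL0i a l hl) (hΦi a φ hφ)
    haveI : L.Normal := ⟨fun x hx g => by
      have h2 := L.mul_mem ((le_sup_right : Φ ≤ L) (hQab g x)) hx
      rwa [show ⁅g, x⁆ * x = g * x * g⁻¹ by rw [commutatorElement_def]; group] at h2⟩
    obtain ⟨y, hy⟩ : ∃ y, y ∉ L := not_forall.1 fun h => hL (eq_top_iff.2 fun x _ => h x)
    obtain ⟨hne, hall⟩ := main L le_sup_right hLi hLinv v hvL hvΦ y hy
    refine hy (mem_of_fixed hR hcop f hgen L hLinv (fun x w => (le_sup_right : Φ ≤ L) (hQab x w)) fun a => ?_)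
    obtain ⟨i, j, hj, hi, hc⟩ := hall a
    have hzj : f a z = z ^ j := by
      have h1 : η ((v ^ j)⁻¹ * f a v) = 1 := by
        refine hηΦ _ hj ?_
        rw [map_mul, map_inv, map_zpow]
        refine mul_mem (inv_mem (zpow_mem ?_ j)) ?_
        · show v ^ p ^ e ∈ _
          rw [hv]; exact Subgroup.mem_zpowers z
        · show (f a v) ^ p ^ e ∈ _
          rw [← map_pow, hv]; exact hzi a
      rw [← hv, map_pow, show f a v = v ^ j * ((v ^ j)⁻¹ * f a v) by group]
      show η (v ^ j * ((v ^ j)⁻¹ * f a v)) = (η v) ^ j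
      rw [map_mul, h1, mul_one, map_zpow]
    rw [hzscal _ a j (hcomm v y) hzj] at hc
    have h1 := hfac (hcomm v y) hne hc
    have hj0 : (j : ZMod p) ≠ 0 := fun h0 => by
      refine hz1 ((f a).injective ?_)
      rw [map_one, hzj, ← zpow_zero z]
      exact (zpowers_eq_iff hzp hz1).2 (by rw [h0]; simp)
    refine hfix L y i _ ((le_sup_right : Φ ≤ L) ⟨y, rfl⟩) ?_ hi
    push_cast at h1
    exact (mul_left_eq_self₀.1 h1.symm).resolve_right hj0

/-- A metacyclic `p`-group, `p` odd, generated by commutators with a group of order prime to `p` is abelian. -/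
theorem commute_of_gen {R : Type u} [Group R] [Finite R] {A : Type*} [Group A] [Finite A] (hp2 : p ≠ 2)
    (hR : IsPGroup p R) (hm : Cfsg.IsMetacyclic R) (hcop : (Nat.card A).Coprime p) (f : A →* MulAut R)
    (hgen : Gen f) (x y : R) : x * y = y * x := by
  classical
  by_contra hxy
  obtain ⟨N, hNn, hNc, hQc⟩ := id hm
  have hDN : commutator R ≤ N := by
    letI := hQc.commGroup
    rw [_root_.commutator_def, Subgroup.commutator_le]
    intro a _ b _
    rw [← QuotientGroup.eq_one_iff]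
    show QuotientGroup.mk' N ⁅a, b⁆ = 1
    rw [map_commutatorElement, commutatorElement_eq_one_iff_mul_comm]
    exact mul_comm _ _
  haveI : IsCyclic ↥(commutator R) := isCyclic_of_injective (Subgroup.inclusion hDN) (Subgroup.inclusion_injective hDN)
  obtain ⟨⟨g, hgD⟩, hg⟩ := IsCyclic.exists_generator (α := ↥(commutator R))
  have hgen' : commutator R = Subgroup.zpowers g := le_antisymm (fun w hw => by
    obtain ⟨i, hi⟩ := Subgroup.mem_zpowers_iff.1 (hg ⟨w, hw⟩)
    exact ⟨i, by simpa using congrArg Subtype.val hi⟩) (Subgroup.zpowers_le.2 hgD)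
  set M := Subgroup.zpowers (g ^ p) with hM
  have hMi : ∀ e : MulAut R, ∀ w ∈ M, e w ∈ M := by
    rintro e _ ⟨k, rfl⟩
    obtain ⟨i, hi⟩ := Subgroup.mem_zpowers_iff.1 (hgen'.le
      ((Subgroup.characteristic_iff_map_eq.1 inferInstance e).le ⟨g, hgD, rfl⟩ : e g ∈ commutator R))
    show e ((g ^ p) ^ k) ∈ M
    rw [map_zpow, map_pow, ← hi, show (g ^ i) ^ p = (g ^ p) ^ i by
      rw [← zpow_natCast, ← zpow_mul, mul_comm, zpow_mul, zpow_natCast]]
    exact zpow_mem (zpow_mem (Subgroup.mem_zpowers _) i) k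
  haveI : M.Normal := ⟨fun w hw r => hMi (MulAut.conj r) w hw⟩
  have hMfix : ∀ e : MulAut R, M.map e.toMonoidHom = M := fun e => le_antisymm
    (by rintro _ ⟨w, hw, rfl⟩; exact hMi e w hw)
    fun w hw => ⟨e.symm w, hMi e.symm w hw, e.apply_symm_apply w⟩
  have hgM : g ∉ M := by
    rintro ⟨k, hk⟩
    have hg1 : g ≠ 1 := fun h => hxy <| by
      have h2 : commutator R = ⊥ := by rw [hgen', h, Subgroup.zpowers_one_eq_bot]
      have h3 : ⁅x, y⁆ ∈ commutator R := by
        rw [_root_.commutator_def]; exact Subgroup.commutator_mem_commutator (Subgroup.mem_top x) (Subgroup.mem_top y)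
      rw [h2, Subgroup.mem_bot, commutatorElement_eq_one_iff_mul_comm] at h3
      exact h3
    obtain ⟨j, hj⟩ := IsPGroup.iff_orderOf.1 hR g
    have hd : (orderOf g : ℤ) ∣ (p : ℤ) * k - 1 := by
      rw [orderOf_dvd_iff_zpow_eq_one, zpow_sub, zpow_one, zpow_mul, zpow_natCast,
        show (g ^ p) ^ k = g from hk, mul_inv_cancel]
    rcases Nat.eq_zero_or_pos j with rfl | hj1
    · exact hg1 (orderOf_eq_one_iff.1 (by simpa using hj))
    have hpd : (p : ℤ) ∣ (p : ℤ) * k - 1 := dvd_trans (by rw [hj]; exact_mod_cast dvd_pow_self p hj1.ne') hd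
    have h1 : (p : ℤ) = 1 := Int.eq_one_of_dvd_one (Int.natCast_nonneg p) ((dvd_sub_right (dvd_mul_right _ _)).1 hpd)
    exact hp.out.one_lt.ne' (by exact_mod_cast h1)
  set π := QuotientGroup.mk' M with hπ
  have hD : commutator (R ⧸ M) = Subgroup.zpowers (π g) := by
    rw [← MonoidHom.map_zpowers, ← hgen', _root_.commutator_def, _root_.commutator_def, Subgroup.map_commutator,
      Subgroup.map_top_of_surjective π (QuotientGroup.mk'_surjective M)]
  have hzp : π g ^ p = 1 := by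
    rw [← map_pow]; exact (QuotientGroup.eq_one_iff _).2 (Subgroup.mem_zpowers _)
  have hz1 : π g ≠ 1 := fun h => hgM ((QuotientGroup.eq_one_iff g).1 h)
  haveI : (Subgroup.zpowers (π g)).Normal := hD ▸ inferInstance
  have hzc : ∀ w, Commute (π g) w := fun w => (Subgroup.mem_center_iff.1
    (Grp.RankThree.central_of_card_le (hR.to_quotient M) (by rw [Nat.card_zpowers, orderOf_eq_prime hzp hz1])
      (Subgroup.mem_zpowers (π g))) w).symm
  let fQ : A →* MulAut (R ⧸ M) :=
    { toFun := fun a => QuotientGroup.congr M M (f a) (hMfix (f a))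
      map_one' := MulEquiv.ext fun w => by
        obtain ⟨r, rfl⟩ := QuotientGroup.mk_surjective w
        show QuotientGroup.mk (f 1 r) = _
        rw [map_one]; rfl
      map_mul' := fun a b => MulEquiv.ext fun w => by
        obtain ⟨r, rfl⟩ := QuotientGroup.mk_surjective w
        show QuotientGroup.mk (f (a * b) r) = _
        rw [map_mul]; rfl }
  have hgenQ : Gen fQ := by
    unfold Gen
    rw [eq_top_iff, ← Subgroup.map_top_of_surjective π (QuotientGroup.mk'_surjective M), ← hgen, MonoidHom.map_closure]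
    refine Subgroup.closure_mono ?_
    rintro _ ⟨_, ⟨a, r, rfl⟩, rfl⟩
    exact ⟨a, π r, by rw [map_mul, map_inv]; rfl⟩
  exact class_two_case hp2 (hR.to_quotient M) (Cfsg.Agent.Fus.MetaTwo.isMetacyclic_quotient hm M) hcop fQ hgenQ hzc hzp hz1 hD

/-- The conjugation action of a normalizing subgroup. -/
theorem gen_of_commutator {G : Type*} [Group G] (R A : Subgroup G) (hA : A ≤ Subgroup.normalizer (R : Set G))
    (hRA : ⁅R, A⁆ = R) : ∃ f : A →* MulAut R, (∀ (a : A) (x : R), ((f a x : R) : G) = a * x * (a : G)⁻¹) ∧ Gen f := by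
  let f : A →* MulAut R :=
    { toFun := fun a =>
        { toFun := fun x => ⟨a * x * (a : G)⁻¹, (Subgroup.mem_normalizer_iff.1 (hA a.2) x).1 x.2⟩
          invFun := fun x => ⟨(a : G)⁻¹ * x * a, (Subgroup.mem_normalizer_iff''.1 (hA a.2) x).1 x.2⟩
          left_inv := fun x => Subtype.ext (by simp only [mul_assoc]; simp)
          right_inv := fun x => Subtype.ext (by simp only [mul_assoc]; simp)
          map_mul' := fun x y => Subtype.ext (by simp [mul_assoc]) }
      map_one' := MulEquiv.ext fun x => Subtype.ext (by simp)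
      map_mul' := fun a b => MulEquiv.ext fun x => Subtype.ext (by simp [mul_assoc]) }
  refine ⟨f, fun a x => rfl, ?_⟩
  unfold Gen
  refine Subgroup.map_injective R.subtype_injective ?_
  rw [← MonoidHom.range_eq_map, Subgroup.range_subtype]
  refine le_antisymm (Subgroup.map_subtype_le _) ?_
  conv_lhs => rw [← hRA]
  rw [Subgroup.commutator_le]
  intro x hx a ha
  refine ⟨⟨x, hx⟩ * (f ⟨a, ha⟩ ⟨x, hx⟩)⁻¹, Subgroup.subset_closure ⟨_, _, rfl⟩, ?_⟩
  show x * (a * x * a⁻¹)⁻¹ = _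
  rw [commutatorElement_def]; group

end Cfsg.Agent.Transfer.MetaCoprime
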