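import Mathlib
import Cfsg.Agent.Lib.Grp.Components
import Cfsg.Agent.Lib.Recog.Hughes

/-!
Automisers of cyclic Sylow subgroups, and perfect groups with cyclic Sylow subgroups.
-/

set_option autoImplicit false

namespace Cfsg.Agent.Transfer.CyclicSyl

variable {G : Type*} [Group G] [Finite G] {p : ℕ} [hp : Fact p.Prime]

theorem mem_sylow_of_mem_normalizer (P : Sylow p G) {u : G} (hu : u ∈ Subgroup.normalizer ((P : Subgroup G) : Set G))
    {j : ℕ} (huj : u ^ p ^ j = 1) : u ∈ (P : Subgroup G) := by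
  obtain ⟨i, -, hi⟩ := (Nat.dvd_prime_pow hp.out).1 (orderOf_dvd_of_pow_eq_one huj)
  have hz : IsPGroup p (Subgroup.zpowers u) := IsPGroup.of_card (n := i) (by rw [Nat.card_zpowers, hi])
  have h : IsPGroup p ((Subgroup.zpowers u) ⊔ (P : Subgroup G) : Subgroup G) :=
    hz.to_sup_of_normal_right' P.isPGroup' (Subgroup.zpowers_le.2 hu)
  rw [← P.3 h le_sup_right]
  exact Subgroup.mem_sup_left (Subgroup.mem_zpowers u)

/-- An element normalising a cyclic Sylow subgroup which fixes a non-identity element of it, or acts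
trivially modulo a proper subgroup, centralises it. -/
theorem mem_centralizer_of_normalizer (P : Sylow p G) [IsCyclic (P : Subgroup G)] {m : G}
    (hm : m ∈ Subgroup.normalizer ((P : Subgroup G) : Set G))
    (h : (∃ y ∈ (P : Subgroup G), y ≠ 1 ∧ m * y = y * m) ∨
      (∃ Q : Subgroup G, Q < (P : Subgroup G) ∧ ∀ x ∈ (P : Subgroup G), m * x * m⁻¹ * x⁻¹ ∈ Q)) :
    m ∈ Subgroup.centralizer ((P : Subgroup G) : Set G) := by
  obtain ⟨x, hx⟩ := (Subgroup.isCyclic_iff_exists_zpowers_eq_top (P : Subgroup G)).1 inferInstance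
  have hxP : x ∈ (P : Subgroup G) := hx ▸ Subgroup.mem_zpowers x
  obtain ⟨a, ha⟩ := IsPGroup.iff_orderOf.1 P.isPGroup' ⟨x, hxP⟩
  rw [Subgroup.orderOf_mk] at ha
  have hmx : m * x * m⁻¹ ∈ (P : Subgroup G) := (Subgroup.mem_normalizer_iff.1 hm x).1 hxP
  obtain ⟨k, hk⟩ := Subgroup.mem_zpowers_iff.1 (hx.symm ▸ hmx : m * x * m⁻¹ ∈ Subgroup.zpowers x)
  have hpk : (p : ℤ) ∣ k - 1 := by
    rcases h with ⟨y, hy, hy1, hmy⟩ | ⟨Q, hQ, hmQ⟩
    · obtain ⟨j, rfl⟩ := Subgroup.mem_zpowers_iff.1 (hx.symm ▸ hy : y ∈ Subgroup.zpowers x)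
      have e : (x ^ k) ^ j = x ^ j := by
        rw [hk, conj_zpow, hmy, mul_inv_cancel_right]
      rw [← zpow_mul, zpow_eq_zpow_iff_modEq, Int.modEq_comm, Int.modEq_iff_dvd, ha] at e
      have hnj : ¬ ((p ^ a : ℕ) : ℤ) ∣ j := fun hd => hy1 (by
        rw [← ha] at hd
        exact orderOf_dvd_iff_zpow_eq_one.1 hd)
      by_contra hnd
      refine hnj ?_
      have hco : IsCoprime ((p ^ a : ℕ) : ℤ) (k - 1) := by
        push_cast
        exact IsCoprime.pow_left ((Nat.prime_iff_prime_int.1 hp.out).coprime_iff_not_dvd.2 hnd)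
      exact hco.dvd_of_dvd_mul_left (by rw [show (k - 1) * j = k * j - j by ring]; exact e)
    · have e : x ^ (k - 1) ∈ Q := by
        rw [zpow_sub_one, hk]; exact hmQ x hxP
      by_contra hnd
      have hco : IsCoprime (k - 1) ((p ^ a : ℕ) : ℤ) := by
        push_cast
        exact IsCoprime.pow_right ((Nat.prime_iff_prime_int.1 hp.out).coprime_iff_not_dvd.2 hnd).symm
      obtain ⟨u, v, huv⟩ := hco
      have hxQ : x ∈ Q := by
        have h2 : x ^ (u * (k - 1) + v * ((p ^ a : ℕ) : ℤ)) = x := by rw [huv, zpow_one]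
        rw [← h2, zpow_add, mul_comm u, zpow_mul, mul_comm v, zpow_mul, ← ha, zpow_natCast, pow_orderOf_eq_one, one_zpow, mul_one]
        exact Q.zpow_mem e u
      exact hQ.not_ge (hx ▸ Subgroup.zpowers_le.2 hxQ)
  have hpow : ∀ j : ℕ, m ^ j * x * (m ^ j)⁻¹ = x ^ (k ^ j) := by
    intro j
    induction j with
    | zero => simp
    | succ j ih =>
      rw [pow_succ', show m * m ^ j * x * (m * m ^ j)⁻¹ = m * (m ^ j * x * (m ^ j)⁻¹) * m⁻¹ by group, ih,
        ← conj_zpow, ← hk, ← zpow_mul, pow_succ', mul_comm]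
  have h1 : m ^ p ^ a ∈ Subgroup.centralizer ({x} : Set G) := by
    rw [Subgroup.mem_centralizer_singleton_iff]
    have h2 : m ^ p ^ a * x * (m ^ p ^ a)⁻¹ = x := by
      rw [hpow]
      conv_rhs => rw [← zpow_one x]
      rw [zpow_eq_zpow_iff_modEq, Int.modEq_comm, Int.modEq_iff_dvd, ha]
      have := dvd_sub_pow_of_dvd_sub (a := k) (b := 1) hpk a
      rw [one_pow] at this
      push_cast
      exact (pow_dvd_pow _ (Nat.le_succ a)).trans this
    calc m ^ p ^ a * x = m ^ p ^ a * x * (m ^ p ^ a)⁻¹ * m ^ p ^ a := by group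
      _ = _ := by rw [h2]
  obtain ⟨b, t, hpt, hbt⟩ := Nat.exists_eq_pow_mul_and_not_dvd (orderOf_pos m).ne' p hp.out.ne_one
  have h3 : m ^ t ∈ Subgroup.centralizer ({x} : Set G) := by
    have hu : m ^ t ∈ (P : Subgroup G) := mem_sylow_of_mem_normalizer P (pow_mem hm t) (j := b)
      (by rw [← pow_mul, mul_comm, ← hbt, pow_orderOf_eq_one])
    rw [Subgroup.mem_centralizer_singleton_iff]
    exact congrArg Subtype.val ((IsCyclic.commGroup (α := (P : Subgroup G))).mul_comm ⟨_, hu⟩ ⟨x, hxP⟩)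
  have h4 : m ∈ Subgroup.centralizer ({x} : Set G) := by
    obtain ⟨u, v, huv⟩ : IsCoprime ((p ^ a : ℕ) : ℤ) (t : ℤ) :=
      Nat.isCoprime_iff_coprime.2 (Nat.Coprime.pow_left a ((Nat.Prime.coprime_iff_not_dvd hp.out).2 hpt))
    have h5 : m = (m ^ p ^ a) ^ u * (m ^ t) ^ v := by
      rw [← zpow_natCast, ← zpow_natCast m t, ← zpow_mul, ← zpow_mul, ← zpow_add, mul_comm _ u, mul_comm _ v, huv, zpow_one]
    rw [h5]
    exact mul_mem (Subgroup.zpow_mem _ h1 u) (Subgroup.zpow_mem _ h3 v)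
  rw [Subgroup.mem_centralizer_iff]
  intro y hy
  obtain ⟨j, rfl⟩ := Subgroup.mem_zpowers_iff.1 (hx.symm ▸ hy : y ∈ Subgroup.zpowers x)
  exact ((show Commute x m from (Subgroup.mem_centralizer_singleton_iff.1 h4).symm).zpow_left j).eq

/-- Burnside: if the automiser of a cyclic Sylow subgroup is trivial there is a complement. -/
theorem exists_complement (P : Sylow p G) [IsCyclic (P : Subgroup G)]
    (h : Subgroup.normalizer ((P : Subgroup G) : Set G) ≤ Subgroup.centralizer ((P : Subgroup G) : Set G)) :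
    ∃ O : Subgroup G, O.Normal ∧ O.IsComplement' (P : Subgroup G) :=
  ⟨_, MonoidHom.normal_ker _, MonoidHom.ker_transferSylow_isComplement' P h⟩

theorem hom_eq_one {A : Type*} [Group A] (hA : ∀ a b : A, a * b = b * a) (hperf : commutator G = ⊤) (f : G →* A) (g : G) :
    f g = 1 := by
  have : commutator G ≤ f.ker := by
    rw [commutator_def]
    refine Subgroup.commutator_le.2 fun a _ b _ => ?_
    rw [MonoidHom.mem_ker, map_commutatorElement, commutatorElement_eq_one_iff_mul_comm]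
    exact hA _ _
  exact this (hperf ▸ Subgroup.mem_top g)

theorem center_pElement_eq_one (hperf : commutator G = ⊤) (P : Sylow p G) [IsCyclic (P : Subgroup G)] {z : G}
    (hz : z ∈ Subgroup.center G) {j : ℕ} (hzj : z ^ p ^ j = 1) : z = 1 := by
  letI : CommGroup (P : Subgroup G) := IsCyclic.commGroup
  have key : ∀ (k : ℕ) (g₀ : G), g₀⁻¹ * z ^ k * g₀ ∈ (P : Subgroup G) → g₀⁻¹ * z ^ k * g₀ = z ^ k := fun k g₀ _ => by
    rw [mul_assoc, ← Subgroup.mem_center_iff.1 (pow_mem hz k) g₀, inv_mul_cancel_left]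
  have h1 := hom_eq_one (fun a b => mul_comm a b) hperf (MonoidHom.transfer (MonoidHom.id (P : Subgroup G))) z
  rw [MonoidHom.transfer_eq_pow _ z key] at h1
  have h2 : z ^ (P : Subgroup G).index = 1 := congrArg Subtype.val h1
  have h3 : orderOf z ∣ 1 := by
    have hc : Nat.Coprime (p ^ j) (P : Subgroup G).index :=
      Nat.Coprime.pow_left j ((Nat.Prime.coprime_iff_not_dvd hp.out).2 P.not_dvd_index)
    rw [← hc.gcd_eq_one]
    exact Nat.dvd_gcd (orderOf_dvd_of_pow_eq_one hzj) (orderOf_dvd_of_pow_eq_one h2)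
  exact orderOf_eq_one_iff.1 (Nat.dvd_one.1 h3)

theorem exists_normalizer_not_centralizer (hperf : commutator G = ⊤) (hpG : p ∣ Nat.card G) (P : Sylow p G)
    [IsCyclic (P : Subgroup G)] :
    ¬ Subgroup.normalizer ((P : Subgroup G) : Set G) ≤ Subgroup.centralizer ((P : Subgroup G) : Set G) := by
  intro h
  have hker : (MonoidHom.transferSylow P h).ker = ⊤ := eq_top_iff.2 fun g _ =>
    hom_eq_one (fun a b => (IsCyclic.commGroup (α := (P : Subgroup G))).mul_comm a b) hperf _ g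
  have hc := MonoidHom.ker_transferSylow_isComplement' P h
  rw [hker, Subgroup.isComplement'_top_left] at hc
  have h1 := P.dvd_card_of_dvd_card hpG
  rw [hc, Subgroup.card_bot] at h1
  exact hp.out.one_lt.ne' (Nat.dvd_one.1 h1)

end Cfsg.Agent.Transfer.CyclicSyl
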