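import Mathlib
import Cfsg.Prelude.Def_Transfer
import Cfsg.Prelude.Def_BaumannBlocks
import Cfsg.Agent.Lib.Transfer.Tate
import Cfsg.Agent.Lib.Transfer.Residual
import Cfsg.Agent.Lib.Grp.Cores

/-!
The Hall-Wielandt transfer theorem: a weakly closed subgroup `Q` of a Sylow subgroup `P` on which
`[u, z, ..., z] = 1` (`p - 1` times) has a normalizer controlling `p`-transfer.
-/

set_option autoImplicit false
set_option maxHeartbeats 1000000

open scoped Pointwise fwdDiff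

universe u

namespace Cfsg.Agent.Transfer.HallWielandt

open Cfsg Cfsg.Agent

section Fixed

variable {K : Type*} [Group K] [Finite K] {D : Subgroup K} {A : Type*} [CommGroup A]

open Classical in
/-- The contribution of a coset fixed by `v`, `1` if `v` moves it. -/
noncomputable def fixVal (φ : D →* A) (v : K) (q : K ⧸ D) : A :=
  if h : q.out⁻¹ * v * q.out ∈ D then φ ⟨_, h⟩ else 1

theorem smul_eq_iff {v : K} (q : K ⧸ D) : v • q = q ↔ q.out⁻¹ * v * q.out ∈ D := by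
  conv_lhs => rw [← QuotientGroup.out_eq' q]
  rw [MulAction.Quotient.smul_mk, eq_comm, QuotientGroup.eq, smul_eq_mul, mul_assoc]

theorem fixVal_of_ne (φ : D →* A) {v : K} {q : K ⧸ D} (h : v • q ≠ q) : fixVal φ v q = 1 :=
  dif_neg fun h' => h ((smul_eq_iff q).2 h')

theorem conj_invariant (φ : D →* A) {d e : D} {n : D} (h : e = n⁻¹ * d * n) : φ e = φ d := by
  rw [h, map_mul, map_mul, map_inv, mul_comm, mul_inv_cancel_left]

/-- The value only depends on the coset, and not on the representative. -/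
theorem fixVal_mk (φ : D →* A) {v x : K} (h : x⁻¹ * v * x ∈ D) :
    fixVal φ v (x : K ⧸ D) = φ ⟨_, h⟩ := by
  obtain ⟨d, hd⟩ := QuotientGroup.mk_out_eq_mul D x
  have h' : (x : K ⧸ D).out⁻¹ * v * (x : K ⧸ D).out ∈ D := by
    rw [hd, show (x * (d : K))⁻¹ * v * (x * d) = (d : K)⁻¹ * (x⁻¹ * v * x) * d by group]
    exact D.mul_mem (D.mul_mem (D.inv_mem d.2) h) d.2
  rw [fixVal, dif_pos h']
  refine conj_invariant φ (n := d) (Subtype.ext ?_)
  simp only [Subgroup.coe_mul, Subgroup.coe_inv, hd]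
  group

theorem fixVal_mk_of_notMem (φ : D →* A) {v x : K} (h : x⁻¹ * v * x ∉ D) : fixVal φ v (x : K ⧸ D) = 1 := by
  refine fixVal_of_ne φ fun he => h ?_
  rw [MulAction.Quotient.smul_mk, eq_comm, QuotientGroup.eq, smul_eq_mul, ← mul_assoc] at he
  exact he

theorem fixVal_smul (φ : D →* A) (v g : K) (q : K ⧸ D) : fixVal φ v (g • q) = fixVal φ (g⁻¹ * v * g) q := by
  obtain ⟨x, rfl⟩ := QuotientGroup.mk_surjective q
  rw [MulAction.Quotient.smul_mk, smul_eq_mul]
  by_cases h : x⁻¹ * (g⁻¹ * v * g) * x ∈ D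
  · have h' : (g * x)⁻¹ * v * (g * x) ∈ D := by
      rwa [show (g * x)⁻¹ * v * (g * x) = x⁻¹ * (g⁻¹ * v * g) * x by group]
    rw [fixVal_mk φ h, fixVal_mk φ h']
    exact congrArg φ (Subtype.ext (by group))
  · have h' : (g * x)⁻¹ * v * (g * x) ∉ D := by
      rwa [show (g * x)⁻¹ * v * (g * x) = x⁻¹ * (g⁻¹ * v * g) * x by group]
    rw [fixVal_mk_of_notMem φ h, fixVal_mk_of_notMem φ h']

/-- The transfer of an element whose proper powers contribute nothing is a product over fixed cosets. -/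
theorem transfer_eq_prod_fixed [Fintype (K ⧸ D)] (φ : D →* A) (v : K)
    (hkill : ∀ (x : K) (l : ℕ), 1 < l → l ∣ orderOf v → ∀ h : x⁻¹ * v ^ l * x ∈ D, φ ⟨_, h⟩ = 1) :
    φ.transfer v = ∏ q : K ⧸ D, fixVal φ v q := by
  classical
  haveI : Fintype (Quotient (MulAction.orbitRel (Subgroup.zpowers v) (K ⧸ D))) := Fintype.ofFinite _
  rw [MonoidHom.transfer_eq_prod_quotient_orbitRel_zpowers_quot,
    ← Fintype.prod_fiberwise (fun q : K ⧸ D => (Quotient.mk'' q : Quotient (MulAction.orbitRel (Subgroup.zpowers v) (K ⧸ D))))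
      (fun q => fixVal φ v q)]
  refine Finset.prod_congr rfl fun o _ => ?_
  have hper : Function.IsPeriodicPt (v • ·) (orderOf v) o.out := by
    show (v • ·)^[orderOf v] o.out = o.out
    rw [smul_iterate]
    show v ^ orderOf v • o.out = o.out
    rw [pow_orderOf_eq_one, one_smul]
  have hpos : 0 < Function.minimalPeriod (v • ·) o.out := hper.minimalPeriod_pos (orderOf_pos v)
  have horb : ∀ q : K ⧸ D, (Quotient.mk'' q : Quotient (MulAction.orbitRel (Subgroup.zpowers v) (K ⧸ D))) = o →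
      ∃ i : ℤ, v ^ i • o.out = q := by
    intro q hq
    obtain ⟨⟨_, i, rfl⟩, hi⟩ : q ∈ MulAction.orbit (Subgroup.zpowers v) o.out := by
      rw [← MulAction.orbitRel_apply]
      exact Quotient.exact' (hq.trans (Quotient.out_eq' o).symm)
    exact ⟨i, hi⟩
  by_cases h1 : Function.minimalPeriod (v • ·) o.out = 1
  · have hfix : v • o.out = o.out := Function.minimalPeriod_eq_one_iff_isFixedPt.1 h1
    have hfix' : ∀ i : ℤ, v ^ i • o.out = o.out := by
      intro i
      have : v ^ i ∈ MulAction.stabilizer K o.out := Subgroup.zpow_mem _ (MulAction.mem_stabilizer_iff.2 hfix) i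
      exact MulAction.mem_stabilizer_iff.1 this
    rw [Fintype.prod_eq_single (⟨o.out, Quotient.out_eq' o⟩ : {q : K ⧸ D //
      (Quotient.mk'' q : Quotient (MulAction.orbitRel (Subgroup.zpowers v) (K ⧸ D))) = o}) (fun x hx => by
        obtain ⟨i, hi⟩ := horb x.1 x.2
        exact absurd (Subtype.ext (hi.symm.trans (hfix' i))) hx)]
    · have h : o.out.out⁻¹ * v * o.out.out ∈ D := (smul_eq_iff _).1 hfix
      show _ = fixVal φ v o.out
      rw [fixVal, dif_pos h]
      exact congrArg φ (Subtype.ext (by simp only [h1, pow_one]))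
  · rw [Finset.prod_eq_one (fun q _ => ?_)]
    · exact hkill _ _ (by omega) hper.minimalPeriod_dvd _
    · obtain ⟨q, hq⟩ := q
      refine fixVal_of_ne φ fun hfix => h1 ?_
      obtain ⟨i, rfl⟩ := horb q hq
      rw [Function.minimalPeriod_eq_one_iff_isFixedPt]
      show v • o.out = o.out
      have h2 := congrArg (v ^ (-i) • ·) hfix
      simp only [smul_smul] at h2
      rwa [← zpow_add, neg_add_cancel, zpow_zero, one_smul, show v ^ (-i) * (v * v ^ i) = v by group] at h2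

end Fixed

theorem choose_pred_cast {p : ℕ} [hp : Fact p.Prime] : ∀ k < p, ((p - 1).choose k : ZMod p) = (-1) ^ k
  | 0, _ => by simp
  | k + 1, hk => by
    have h1 := choose_pred_cast (p := p) k (by omega)
    have h2 : (p.choose (k + 1) : ZMod p) = 0 :=
      (CharP.cast_eq_zero_iff (ZMod p) p _).2 (hp.out.dvd_choose_self (by omega) hk)
    obtain ⟨n, rfl⟩ : ∃ n, p = n + 1 := ⟨p - 1, by omega⟩
    rw [Nat.choose_succ_succ', Nat.cast_add] at h2
    rw [Nat.add_sub_cancel] at h1 ⊢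
    rw [h1] at h2
    rw [pow_succ]
    linear_combination h2

/-- A sequence with vanishing `(p-1)`-st difference has vanishing sum over a period, in exponent `p`. -/
theorem sum_eq_zero_of_fwdDiff {p : ℕ} [hp : Fact p.Prime] {M : Type*} [AddCommGroup M] (hM : ∀ m : M, p • m = 0)
    (a : ℕ → M) (ha : ((fwdDiff (1 : ℕ))^[p - 1] a) 0 = 0) : ∑ i ∈ Finset.range p, a i = 0 := by
  rw [fwdDiff_iter_eq_sum_shift, Nat.sub_add_cancel hp.out.pos] at ha
  refine Eq.trans (Finset.sum_congr rfl fun i hi => ?_) ha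
  rw [zero_add, smul_eq_mul, mul_one]
  have hip := Finset.mem_range.1 hi
  have hcong : ((-1 : ℤ) ^ (p - 1 - i) * ((p - 1).choose i : ℤ) : ZMod p) = 1 := by
    push_cast
    rw [choose_pred_cast i hip, ← pow_add, Nat.sub_add_cancel (by omega), ]
    have := ZMod.pow_card_sub_one_eq_one (neg_ne_zero.2 (one_ne_zero (α := ZMod p)))
    exact this
  obtain ⟨c, hc⟩ : (p : ℤ) ∣ ((-1 : ℤ) ^ (p - 1 - i) * ((p - 1).choose i : ℤ) - 1) := by
    rw [← ZMod.intCast_zmod_eq_zero_iff_dvd, Int.cast_sub, Int.cast_one, sub_eq_zero]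
    exact_mod_cast hcong
  rw [sub_eq_iff_eq_add] at hc
  rw [hc, add_zsmul, one_zsmul, mul_comm, mul_zsmul', natCast_zsmul, hM, zero_add]

variable {G : Type u} [Group G] [Finite G] {p : ℕ} [hp : Fact p.Prime]

/-- One commutation step `y ↦ y⁻¹z⁻¹yz`. -/
def step (z : G) (y : G) : G := y⁻¹ * z⁻¹ * y * z

/-- The sum of a linear character over the `z`-conjugates of `v` vanishes. -/
theorem prod_conj_eq_one {A : Type*} [CommGroup A] (hA : ∀ a : A, a ^ p = 1) (T : Subgroup G) (h : T →* A) {z v : G}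
    (hv : ∀ i : ℕ, (z ^ i)⁻¹ * v * z ^ i ∈ T) (hstep : (step z)^[p - 1] v = 1) :
    ∏ i ∈ Finset.range p, h ⟨(z ^ i)⁻¹ * v * z ^ i, hv i⟩ = 1 := by
  have hmem : ∀ k i, (z ^ i)⁻¹ * ((step z)^[k] v) * z ^ i ∈ T := by
    intro k
    induction k with
    | zero => exact hv
    | succ k ih =>
      intro i
      rw [Function.iterate_succ_apply', step]
      have h1 := T.mul_mem (T.inv_mem (ih i)) (ih (i + 1))
      convert h1 using 1
      rw [pow_succ]; group
  let a : ℕ → Additive A := fun i => Additive.ofMul (h ⟨_, hv i⟩)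
  have hiter : ∀ k i, ((fwdDiff (1 : ℕ))^[k] a) i = Additive.ofMul (h ⟨_, hmem k i⟩) := by
    intro k
    induction k with
    | zero => intro i; rfl
    | succ k ih =>
      intro i
      rw [Function.iterate_succ_apply', fwdDiff, ih, ih,
        show (⟨_, hmem (k + 1) i⟩ : T) = ⟨_, hmem k i⟩⁻¹ * ⟨_, hmem k (i + 1)⟩ from Subtype.ext (by
          simp only [Subgroup.coe_mul, Subgroup.coe_inv, Function.iterate_succ_apply', step, pow_succ]
          group),
        map_mul, map_inv, ofMul_mul, ofMul_inv]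
      abel
  have h0 := sum_eq_zero_of_fwdDiff (p := p) (M := Additive A)
    (fun m => hA (Additive.toMul m)) a (by
      rw [hiter, show (⟨_, hmem (p - 1) 0⟩ : T) = 1 from Subtype.ext (by simp [hstep]), map_one]
      rfl)
  exact h0

/-- Hall-Wielandt. -/
theorem pResidual_inf_le (P : Sylow p G) (Q : Subgroup G) (hQ : IsWeaklyClosed Q (P : Subgroup G))
    (h : ∀ u ∈ (P : Subgroup G), ∀ z ∈ Q, (step z)^[p - 1] u = 1) :
    pResidual p G ⊓ (P : Subgroup G) ≤ (pResidual p (Subgroup.normalizer (Q : Set G))).map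
      (Subgroup.normalizer (Q : Set G)).subtype := by
  classical
  set N := Subgroup.normalizer (Q : Set G) with hNdef
  set M := pResidual p G with hMdef
  haveI : M.Characteristic := pResidual_characteristic p G
  have hPN : (P : Subgroup G) ≤ N := by
    intro g hg
    have h1 : Q.map (MulAut.conj g).toMonoidHom = Q := by
      refine hQ.2 g ?_
      rintro _ ⟨y, hy, rfl⟩
      exact P.mul_mem (P.mul_mem hg (hQ.1 hy)) (P.inv_mem hg)
    refine Subgroup.mem_normalizer_fintype fun n hn => ?_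
    have h2 : (MulAut.conj g).toMonoidHom n ∈ Q.map (MulAut.conj g).toMonoidHom := ⟨n, hn, rfl⟩
    rwa [h1] at h2
  refine tate P N hPN fun L hLn hLi => ?_
  haveI := hLn
  haveI : IsCyclic (N ⧸ L) := isCyclic_of_prime_card (p := p) hLi
  letI : CommGroup (N ⧸ L) := IsCyclic.commGroup
  set lam : N →* N ⧸ L := QuotientGroup.mk' L with hlam
  have hA : ∀ a : N ⧸ L, a ^ p = 1 := fun a => by rw [← hLi]; exact pow_card_eq_one'
  suffices hmain : ∀ k : ℕ, ∀ w : N, (w : G) ∈ M → (∃ e : ℕ, orderOf w = p ^ e) → orderOf w = k → lam w = 1 by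
    intro x hx
    rw [Subgroup.mem_subgroupOf] at hx
    obtain ⟨e, he⟩ := IsPGroup.iff_orderOf.1 P.isPGroup' ⟨x, hx.2⟩
    rw [Subgroup.orderOf_mk, Subgroup.orderOf_coe] at he
    exact (QuotientGroup.eq_one_iff x).1 (hmain _ x hx.1 ⟨e, he⟩ rfl)
  intro k
  induction k using Nat.strong_induction_on with
  | _ k ih => ?_
  intro w hwM ⟨e, hwe⟩ hwk
  -- move `w` into `P`
  obtain ⟨u, huP, huM, hue, hlu⟩ : ∃ u : N, (u : G) ∈ P ∧ (u : G) ∈ M ∧ orderOf u = k ∧ lam u = lam w := by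
    obtain ⟨R, hR⟩ := (IsPGroup.of_card (n := e) (by rw [Nat.card_zpowers, hwe]) :
      IsPGroup p (Subgroup.zpowers w)).exists_le_sylow
    obtain ⟨n, hn⟩ := MulAction.exists_smul_eq N R (P.subtype hPN)
    refine ⟨n * w * n⁻¹, ?_, ?_, ?_, ?_⟩
    · have h1 : n * w * n⁻¹ ∈ n • R := by
        show n * w * n⁻¹ ∈ MulAut.conj n • (R : Subgroup N)
        exact ⟨w, hR (Subgroup.mem_zpowers w), rfl⟩
      rw [hn] at h1
      exact h1
    · exact Subgroup.Normal.conj_mem inferInstance _ hwM _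
    · rw [← hwk]; exact ((MulAut.conj n).orderOf_eq w)
    · rw [map_mul, map_mul, map_inv, mul_comm (lam n), mul_inv_cancel_right]
  rw [← hlu]
  have hlow : ∀ (y : N), (y : G) ∈ M → ∀ (e' : ℕ), orderOf y = p ^ e' → orderOf y < k → lam y = 1 :=
    fun y hy e' he' hlt => ih _ hlt y hy ⟨e', he'⟩ rfl
  have hordu : orderOf (u : G) = k := by rw [Subgroup.orderOf_coe, hue]
  have hordk : k = p ^ e := hwk ▸ hwe
  have hkill : ∀ (x : G) (l : ℕ), 1 < l → l ∣ k → ∀ (y : N), (y : G) = x⁻¹ * (u : G) ^ l * x → lam y = 1 := by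
    intro x l hl hlk y hy
    have hyM : (y : G) ∈ M := by
      rw [hy]
      have := Subgroup.Normal.conj_mem (inferInstance : M.Normal) _ (M.pow_mem huM l) x⁻¹
      rwa [inv_inv] at this
    have ho : orderOf y = k / l := by
      rw [← Subgroup.orderOf_coe, hy, show x⁻¹ * (u : G) ^ l * x = MulAut.conj x⁻¹ ((u : G) ^ l) by simp,
        MulEquiv.orderOf_eq, orderOf_pow_of_dvd (by omega) (hordu ▸ hlk), hordu]
    have hkpos : 0 < k := hordk ▸ pow_pos hp.out.pos e
    obtain ⟨e', -, he'⟩ := (Nat.dvd_prime_pow hp.out).1 ((Nat.div_dvd_of_dvd hlk).trans hordk.dvd)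
    exact hlow y hyM e' (ho.trans he') (ho ▸ Nat.div_lt_self hkpos hl)
  haveI : Fintype (G ⧸ N) := Fintype.ofFinite _
  have hV : ∏ q : G ⧸ N, fixVal lam (u : G) q = 1 := by
    rw [← transfer_eq_prod_fixed lam (u : G) fun x l hl hlu' hh =>
      hkill x l hl (hordu ▸ hlu') ⟨_, hh⟩ rfl]
    have hle : M ≤ (lam.transfer (G := G)).ker := by
      rw [hMdef, pResidual, Subgroup.closure_le]
      intro g hg
      rw [SetLike.mem_coe, MonoidHom.mem_ker, ← orderOf_eq_one_iff]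
      exact Nat.eq_one_of_dvd_coprimes hg (orderOf_map_dvd _ g) (orderOf_dvd_of_pow_eq_one (hA _))
    exact hle huM
  have h1 : fixVal lam (u : G) ((1 : G) : G ⧸ N) = lam u := by
    rw [fixVal_mk lam (show (1 : G)⁻¹ * (u : G) * 1 ∈ N by simpa using u.2)]
    exact congrArg lam (Subtype.ext (by simp))
  rw [← Finset.mul_prod_erase Finset.univ _ (Finset.mem_univ ((1 : G) : G ⧸ N)), h1] at hV
  suffices hrest : ∏ q ∈ Finset.univ.erase ((1 : G) : G ⧸ N), fixVal lam (u : G) q = 1 by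
    rwa [hrest, mul_one] at hV
  -- blocks
  let Dq : G ⧸ N → Subgroup G := fun q => (P : Subgroup G) ⊓ MulAction.stabilizer G q
  let Wq : G ⧸ N → Subgroup G := fun q => Dq q ⊔ Q
  let block : G ⧸ N → Set (G ⧸ N) := fun q => (fun w : G => w • q) '' (Wq q : Set G)
  have hWP : ∀ q, Wq q ≤ (P : Subgroup G) := fun q => sup_le inf_le_left hQ.1
  have hmap : ∀ g ∈ (P : Subgroup G), Q.map (MulAut.conj g).toMonoidHom = Q := by
    intro g hg
    refine hQ.2 g ?_
    rintro _ ⟨y, hy, rfl⟩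
    exact P.mul_mem (P.mul_mem hg (hQ.1 hy)) (P.inv_mem hg)
  have hblock : ∀ q, ∀ w ∈ Wq q, block (w • q) = block q := by
    intro q w hw
    have hD : Dq (w • q) = (Dq q).map (MulAut.conj w).toMonoidHom := by
      ext d
      simp only [Dq, Subgroup.mem_map, Subgroup.mem_inf, MulAction.mem_stabilizer_iff, MulEquiv.coe_toMonoidHom,
        MulAut.conj_apply]
      refine ⟨fun hd => ⟨w⁻¹ * d * w, ⟨P.mul_mem (P.mul_mem (P.inv_mem (hWP q hw)) hd.1) (hWP q hw), ?_⟩, by group⟩,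
        ?_⟩
      · rw [mul_smul, mul_smul, hd.2, inv_smul_smul]
      · rintro ⟨x, ⟨hx1, hx2⟩, rfl⟩
        exact ⟨P.mul_mem (P.mul_mem (hWP q hw) hx1) (P.inv_mem (hWP q hw)),
          by rw [mul_smul, mul_smul, inv_smul_smul, hx2]⟩
    have heq : Wq (w • q) = Wq q := by
      have h2 : (Wq q).map (MulAut.conj w).toMonoidHom = Wq q := by
        refine Subgroup.eq_of_le_of_card_ge ?_ ?_
        · rintro _ ⟨y, hy, rfl⟩
          exact (Wq q).mul_mem ((Wq q).mul_mem hw hy) ((Wq q).inv_mem hw)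
        · rw [Subgroup.card_map_of_injective (MulEquiv.injective _)]
      show Dq (w • q) ⊔ Q = _
      conv_lhs => rw [hD, ← hmap w (hWP q hw), ← Subgroup.map_sup]
      exact h2
    refine Set.ext fun y => ⟨?_, ?_⟩
    · rintro ⟨v, hv, rfl⟩
      exact ⟨v * w, (Wq q).mul_mem (heq ▸ hv) hw, mul_smul _ _ _⟩
    · rintro ⟨v, hv, rfl⟩
      refine ⟨v * w⁻¹, heq ▸ (Wq q).mul_mem hv ((Wq q).inv_mem hw), ?_⟩
      show (v * w⁻¹) • w • q = v • q
      rw [smul_smul, inv_mul_cancel_right]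
  have hself : ∀ q, q ∈ block q := fun q => ⟨1, (Wq q).one_mem, one_smul _ _⟩
  set s := Finset.univ.erase ((1 : G) : G ⧸ N) with hsdef
  have hs : ∀ q, q ∈ s → ∀ w ∈ (P : Subgroup G), w • q ∈ s := by
    intro q hq w hw
    rw [hsdef, Finset.mem_erase] at hq ⊢
    refine ⟨fun he => hq.1 ?_, Finset.mem_univ _⟩
    rw [← inv_smul_smul w q, he, MulAction.Quotient.smul_mk, smul_eq_mul, mul_one]
    exact QuotientGroup.eq.2 (by simpa using hPN hw)
  rw [← Finset.prod_fiberwise_of_maps_to (t := s.image block) (g := block)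
    (fun q hq => Finset.mem_image_of_mem _ hq)]
  refine Finset.prod_eq_one fun B hB => ?_
  obtain ⟨q₁, hq₁, rfl⟩ := Finset.mem_image.1 hB
  by_cases hall : ∀ q ∈ s.filter (fun q => block q = block q₁), (u : G) • q ≠ q
  · exact Finset.prod_eq_one fun q hq => fixVal_of_ne _ (hall q hq)
  push Not at hall
  obtain ⟨q₀, hq₀m, hfix⟩ := hall
  rw [Finset.mem_filter] at hq₀m
  obtain ⟨hq₀, hq₀b⟩ := hq₀m
  rw [← hq₀b]
  set D0 := Dq q₀ with hD0
  set W := Wq q₀ with hW
  have hD0W : D0 ≤ W := le_sup_left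
  have huD : (u : G) ∈ D0 := ⟨huP, MulAction.mem_stabilizer_iff.2 hfix⟩
  set g₀ : G := q₀.out with hg₀
  have hQD : ¬ Q ≤ D0 := by
    intro hle
    have hle' : Q.map (MulAut.conj g₀⁻¹).toMonoidHom ≤ N := by
      rintro _ ⟨y, hy, rfl⟩
      have := (smul_eq_iff q₀).1 (MulAction.mem_stabilizer_iff.1 (hle hy).2)
      simpa [MulAut.conj_apply] using this
    have hp' : IsPGroup p ((Q.map (MulAut.conj g₀⁻¹).toMonoidHom).subgroupOf N) :=
      ((P.isPGroup'.to_le hQ.1).map _).comap_subtype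
    obtain ⟨R, hR⟩ := hp'.exists_le_sylow
    obtain ⟨n, hn⟩ := MulAction.exists_smul_eq N R (P.subtype hPN)
    have h2 : Q.map (MulAut.conj ((n : G) * g₀⁻¹)).toMonoidHom ≤ (P : Subgroup G) := by
      rintro _ ⟨y, hy, rfl⟩
      have hy' : (MulAut.conj g₀⁻¹).toMonoidHom y ∈ Q.map (MulAut.conj g₀⁻¹).toMonoidHom := ⟨y, hy, rfl⟩
      have h3 : n * ⟨_, hle' hy'⟩ * n⁻¹ ∈ n • R := by
        show n * ⟨_, hle' hy'⟩ * n⁻¹ ∈ MulAut.conj n • (R : Subgroup N)
        exact ⟨_, hR (by rw [Subgroup.mem_subgroupOf]; exact hy'), rfl⟩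
      rw [hn] at h3
      have h4 : ((n * ⟨_, hle' hy'⟩ * n⁻¹ : N) : G) ∈ (P : Subgroup G) := h3
      simpa [MulAut.conj_apply, mul_assoc] using h4
    have h5 := hQ.2 _ h2
    have h6 : (n : G) * g₀⁻¹ ∈ N := Subgroup.mem_normalizer_fintype fun y hy => by
      have h7 : (MulAut.conj ((n : G) * g₀⁻¹)).toMonoidHom y ∈ Q.map (MulAut.conj ((n : G) * g₀⁻¹)).toMonoidHom :=
        ⟨y, hy, rfl⟩
      rwa [h5] at h7
    refine (Finset.mem_erase.1 hq₀).1 ?_
    rw [← QuotientGroup.out_eq' q₀, QuotientGroup.eq, mul_one]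
    have h8 := N.mul_mem (N.inv_mem n.2) h6
    rwa [inv_mul_cancel_left] at h8
  have hne : D0.subgroupOf W ≠ ⊤ := fun ht =>
    hQD ((le_sup_right : Q ≤ W).trans (Subgroup.subgroupOf_eq_top.1 ht))
  obtain ⟨T', hT', hDT'⟩ := (eq_top_or_exists_le_coatom (D0.subgroupOf W)).resolve_left hne
  have hWp : IsPGroup p W := P.isPGroup'.to_le (hWP q₀)
  have hTi : T'.index = p := coatom_index_eq hWp hT'
  haveI : T'.Normal := Subgroup.NormalizerCondition.normal_of_coatom T'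
    (Group.normalizerCondition_of_isNilpotent (h := hWp.isNilpotent)) hT'
  set T : Subgroup G := T'.map W.subtype with hT
  have hTW : T ≤ W := Subgroup.map_subtype_le _
  have hTmem : ∀ {x : G} (hx : x ∈ W), x ∈ T ↔ (⟨x, hx⟩ : W) ∈ T' := by
    intro x hx
    refine ⟨?_, fun h' => ⟨_, h', rfl⟩⟩
    rintro ⟨y, hy, rfl⟩
    exact hy
  have hDT : D0 ≤ T := fun x hx => (hTmem (hD0W hx)).2 (hDT' hx)
  obtain ⟨z, hzQ, hzT⟩ : ∃ z ∈ Q, z ∉ T := by
    refine SetLike.not_le_iff_exists.1 fun hle => hT'.1 (eq_top_iff.2 fun x _ => ?_)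
    exact (hTmem x.2).1 (sup_le hDT hle x.2)
  have hzW : z ∈ W := Subgroup.mem_sup_right hzQ
  haveI : Fact (Nat.card (W ⧸ T')).Prime := ⟨by rw [← Subgroup.index_eq_card, hTi]; exact hp.out⟩
  have hord : orderOf ((⟨z, hzW⟩ : W) : W ⧸ T') = p := orderOf_eq_prime (by rw [← hTi]; exact pow_card_eq_one')
    fun he => hzT ((hTmem hzW).2 ((QuotientGroup.eq_one_iff _).1 he))
  have hzpow : ∀ x ∈ W, ∃ i < p, (z ^ i)⁻¹ * x ∈ T := by
    intro x hx
    have htop : Subgroup.zpowers ((⟨z, hzW⟩ : W) : W ⧸ T') = ⊤ :=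
      Subgroup.eq_top_of_card_eq _ (by rw [Nat.card_zpowers, hord, ← Subgroup.index_eq_card, hTi])
    have hxz : ((⟨x, hx⟩ : W) : W ⧸ T') ∈ Subgroup.zpowers ((⟨z, hzW⟩ : W) : W ⧸ T') := htop ▸ Subgroup.mem_top _
    rw [mem_zpowers_iff_mem_range_orderOf, hord, Finset.mem_image] at hxz
    obtain ⟨i, hi, hix⟩ := hxz
    refine ⟨i, Finset.mem_range.1 hi, (hTmem (W.mul_mem (W.inv_mem (W.pow_mem hzW i)) hx)).2 ?_⟩
    rw [← QuotientGroup.mk_pow, QuotientGroup.eq] at hix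
    exact hix
  have hTconj : ∀ t ∈ T, ∀ x ∈ W, x⁻¹ * t * x ∈ T := by
    intro t ht x hx
    refine (hTmem (W.mul_mem (W.mul_mem (W.inv_mem hx) (hTW ht)) hx)).2 ?_
    have := Subgroup.Normal.conj_mem (inferInstance : T'.Normal) _ ((hTmem (hTW ht)).1 ht) (⟨x, hx⟩⁻¹ : W)
    rwa [inv_inv] at this
  have hv : ∀ i : ℕ, (z ^ i)⁻¹ * (u : G) * z ^ i ∈ T := fun i => hTconj _ (hDT huD) _ (W.pow_mem hzW i)
  have hDN : ∀ d ∈ D0, g₀⁻¹ * d * g₀ ∈ N := fun d hd => (smul_eq_iff q₀).1 (MulAction.mem_stabilizer_iff.1 hd.2)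
  let ψ : D0.subgroupOf T →* N ⧸ L := MonoidHom.mk' (fun d => lam ⟨g₀⁻¹ * ((d : T) : G) * g₀, hDN _ d.2⟩) (by
    intro a b
    rw [← map_mul]
    refine congrArg lam (Subtype.ext ?_)
    simp only [Subgroup.coe_mul]
    group)
  have hval : ∀ (t x : T), fixVal ψ t ((x : T ⧸ D0.subgroupOf T)) = fixVal lam (t : G) ((x : G) • q₀) := by
    intro t x
    rw [fixVal_smul]
    by_cases hmem : x⁻¹ * t * x ∈ D0.subgroupOf T
    · rw [fixVal_mk ψ hmem, fixVal,
        dif_pos (show q₀.out⁻¹ * ((x : G)⁻¹ * (t : G) * (x : G)) * q₀.out ∈ N from hDN _ hmem)]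
      rfl
    · rw [fixVal_mk_of_notMem ψ hmem, fixVal_of_ne]
      intro hfx
      exact hmem ⟨hWP q₀ (hTW (x⁻¹ * t * x).2), MulAction.mem_stabilizer_iff.2 hfx⟩
  haveI : Fintype (T ⧸ D0.subgroupOf T) := Fintype.ofFinite _
  have htr : ∀ i : ℕ, ψ.transfer ⟨_, hv i⟩ =
      ∏ r : T ⧸ D0.subgroupOf T, fixVal ψ (⟨_, hv i⟩ : T) r := by
    intro i
    refine transfer_eq_prod_fixed ψ _ fun x l hl hll hh => ?_
    have e : orderOf (⟨_, hv i⟩ : T) = k := by
      rw [← Subgroup.orderOf_coe]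
      show orderOf ((z ^ i)⁻¹ * (u : G) * z ^ i) = k
      rw [show (z ^ i)⁻¹ * (u : G) * z ^ i = MulAut.conj ((z ^ i)⁻¹) (u : G) by rw [MulAut.conj_apply, inv_inv],
        MulEquiv.orderOf_eq, hordu]
    rw [e] at hll
    refine hkill (z ^ i * (x : G) * g₀) l hl hll _ ?_
    show g₀⁻¹ * ((x : G)⁻¹ * ((z ^ i)⁻¹ * (u : G) * z ^ i) ^ l * (x : G)) * g₀ = _
    rw [show ((z ^ i)⁻¹ * (u : G) * z ^ i) ^ l = (z ^ i)⁻¹ * (u : G) ^ l * z ^ i by
      have := conj_pow (a := (z ^ i)⁻¹) (b := (u : G)) (i := l)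
      rwa [inv_inv] at this]
    group
  have hgoal : ∏ i ∈ Finset.range p, ψ.transfer ⟨_, hv i⟩ = 1 :=
    prod_conj_eq_one hA T ψ.transfer hv (h _ huP z hzQ)
  rw [Finset.prod_congr rfl (fun i _ => htr i), ← Finset.prod_product'] at hgoal
  rw [← hgoal]
  symm
  have hfib : ∀ q, q ∈ s.filter (fun q => block q = block q₀) ↔ ∃ w ∈ W, w • q₀ = q := by
    intro q
    rw [Finset.mem_filter]
    refine ⟨fun hq => ?_, ?_⟩
    · have := hself q
      rw [hq.2] at this
      exact this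
    · rintro ⟨w, hw, rfl⟩
      exact ⟨hs q₀ hq₀ w (hWP q₀ hw), hblock q₀ w hw⟩
  refine Finset.prod_bij (fun a _ => (z ^ a.1 * ((a.2.out : T) : G)) • q₀) ?_ ?_ ?_ ?_
  · rintro ⟨i, r⟩ -
    exact (hfib _).2 ⟨_, W.mul_mem (W.pow_mem hzW i) (hTW (r.out : T).2), rfl⟩
  · rintro ⟨i, r⟩ hi ⟨j, r'⟩ hj he
    simp only [Finset.mem_product, Finset.mem_range, Finset.mem_univ, and_true] at hi hj
    have hd : (z ^ i * ((r.out : T) : G))⁻¹ * (z ^ j * ((r'.out : T) : G)) ∈ D0 := by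
      have hmemW : (z ^ i * ((r.out : T) : G))⁻¹ * (z ^ j * ((r'.out : T) : G)) ∈ W :=
        W.mul_mem (W.inv_mem (W.mul_mem (W.pow_mem hzW i) (hTW (r.out : T).2)))
          (W.mul_mem (W.pow_mem hzW j) (hTW (r'.out : T).2))
      refine ⟨hWP q₀ hmemW, MulAction.mem_stabilizer_iff.2 ?_⟩
      rw [mul_smul, ← he, inv_smul_smul]
    have hij : i = j := by
      have h1 : (z ^ i)⁻¹ * z ^ j ∈ T := by
        have := T.mul_mem (T.mul_mem (r.out : T).2 (hDT hd)) (T.inv_mem (r'.out : T).2)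
        convert this using 1
        group
      have h2 := (hTmem (W.mul_mem (W.inv_mem (W.pow_mem hzW i)) (W.pow_mem hzW j))).1 h1
      have h3 : ((⟨z, hzW⟩ : W) : W ⧸ T') ^ i = ((⟨z, hzW⟩ : W) : W ⧸ T') ^ j := by
        rw [← QuotientGroup.mk_pow, ← QuotientGroup.mk_pow, QuotientGroup.eq]
        exact h2
      rw [pow_inj_mod, hord, Nat.mod_eq_of_lt hi, Nat.mod_eq_of_lt hj] at h3
      exact h3
    subst hij
    refine Prod.ext rfl ?_
    rw [← QuotientGroup.out_eq' r, ← QuotientGroup.out_eq' r', QuotientGroup.eq, Subgroup.mem_subgroupOf]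
    convert hd using 1
    simp [mul_assoc]
  · intro q hq
    obtain ⟨w, hw, rfl⟩ := (hfib q).1 hq
    obtain ⟨i, hi, hit⟩ := hzpow w hw
    refine ⟨(i, ((⟨_, hit⟩ : T) : T ⧸ D0.subgroupOf T)), by simp [hi], ?_⟩
    obtain ⟨d, hd⟩ := QuotientGroup.mk_out_eq_mul (D0.subgroupOf T) (⟨_, hit⟩ : T)
    rw [hd, Subgroup.coe_mul, mul_smul, mul_smul,
      MulAction.mem_stabilizer_iff.1 (Subgroup.mem_subgroupOf.1 d.2).2, ← mul_smul, mul_inv_cancel_left]
  · rintro ⟨i, r⟩ -
    rw [mul_smul, fixVal_smul lam _ (z ^ i)]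
    conv_lhs => rw [← QuotientGroup.out_eq' r]
    exact hval _ _

theorem pResidualOf_eq (P : Sylow p G) (Q : Subgroup G) (hQ : IsWeaklyClosed Q (P : Subgroup G))
    (h : ∀ u ∈ (P : Subgroup G), ∀ z ∈ Q, (step z)^[p - 1] u = 1) :
    pResidualOf p (Subgroup.normalizer (Q : Set G)) = pResidual p G ⊓ Subgroup.normalizer (Q : Set G) := by
  set N := Subgroup.normalizer (Q : Set G) with hNdef
  set M := pResidual p G with hMdef
  haveI : M.Characteristic := pResidual_characteristic p G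
  set R := (pResidual p N).map N.subtype with hR
  show R = M ⊓ N
  have hle : R ≤ M ⊓ N := le_inf (pResidual_map_le N.subtype) (Subgroup.map_subtype_le _)
  refine le_antisymm hle ?_
  rw [← Subgroup.relIndex_eq_one]
  have hdvd : R.relIndex (M ⊓ N) ∣ (pResidual p N).index := by
    rw [show (pResidual p N).index = R.relIndex N by
      rw [hR, Subgroup.relIndex, ← Subgroup.comap_subtype, Subgroup.comap_map_eq_self_of_injective N.subtype_injective]]
    exact ⟨_, (Subgroup.relIndex_mul_relIndex R (M ⊓ N) N hle inf_le_right).symm⟩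
  obtain ⟨k, hk⟩ := exists_pResidual_index (G := N) p
  rw [hk] at hdvd
  obtain ⟨j, -, hj⟩ := (Nat.dvd_prime_pow hp.out).1 hdvd
  rcases Nat.eq_zero_or_pos j with rfl | hjpos
  · rw [hj, pow_zero]
  exfalso
  have hPM : M ⊓ (P : Subgroup G) ≤ R := pResidual_inf_le P Q hQ h
  have hrel := Grp.sylow_inf_normal_relIndex P M
  refine hrel ?_
  rw [← Subgroup.inf_relIndex_right, inf_comm]
  have hsub : M ⊓ (P : Subgroup G) ≤ M ⊓ N := hPM.trans hle
  refine (hj ▸ dvd_pow_self p hjpos.ne').trans ?_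
  refine dvd_trans ⟨_, (Subgroup.relIndex_mul_relIndex _ _ _ hPM hle).symm.trans (mul_comm _ _)⟩ ?_
  exact ⟨_, (Subgroup.relIndex_mul_relIndex _ _ _ hsub inf_le_left).symm⟩

end Cfsg.Agent.Transfer.HallWielandt
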