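import Cfsg.Prelude.Def_Transfer
import Cfsg.Agent.Lib.Invol.ThompsonReduction
import Cfsg.Agent.Lib.Invol.ThompsonJ
import Cfsg.Agent.Lib.Invol.ZJElem
import Cfsg.Agent.Lib.Invol.CharP
import Cfsg.Agent.Lib.Fus.Replacement
import Cfsg.Agent.Lib.Transfer.Thompson
import Cfsg.Agent.Lib.Transfer.OmegaFixed
import Cfsg.Agent.Lib.Transfer.NormalComplement

/-!
Thompson's normal p-complement theorem for odd p, in the version with the elementary abelian
Thompson subgroup and the centralizer of the centre of a Sylow subgroup.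
-/

set_option autoImplicit false
set_option linter.style.haveILetI false
set_option maxHeartbeats 800000

namespace Cfsg.Agent.Transfer.ThompsonEl

open scoped Pointwise
open Subgroup

universe u

/-- The two functors of the criterion. -/
def family (p : ℕ) : Bool → ∀ (Q : Type u) [Group Q], Subgroup Q
  | false => fun Q _ => Subgroup.center Q
  | true => fun Q _ => Cfsg.thompsonSubgroup p Q

variable {p : ℕ} [hp : Fact p.Prime]

theorem family_isCharPFunctor :
    ∀ i, Cfsg.IsCharPFunctor.{u} p (family.{u} p i)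
  | false => Invol.isCharPFunctor_center p
  | true => by
    refine ⟨fun Q _ _ hQ hnt => Thompson.thompsonSubgroup_ne_bot ?_, fun Q R _ _ _ _ e => ?_⟩
    · obtain ⟨k, hk⟩ := IsPGroup.iff_card.mp hQ
      have h1 : 1 < Nat.card Q := Finite.one_lt_card
      rw [hk] at h1 ⊢
      exact dvd_pow_self p (by rintro rfl; simp at h1)
    · haveI : Finite R := Finite.of_equiv Q e.toEquiv
      refine le_antisymm ?_ (sSup_le fun B hB => ?_)
      · rw [Subgroup.map_le_iff_le_comap]
        exact sSup_le fun A hA => Subgroup.map_le_iff_le_comap.mp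
          (Thompson.le_thompsonSubgroup (Thompson.map_equiv_mem e hA))
      · intro y hy
        exact ⟨e.symm y, Thompson.le_thompsonSubgroup (Thompson.map_equiv_mem e.symm hB) ⟨y, hy, rfl⟩,
          e.apply_symm_apply y⟩

/-- If there is no quadratic element outside `U`, the elementary Thompson subgroup lies in `U`. -/
theorem exists_quad_or_thompsonEl_le (hp2 : p ≠ 2) {G : Type*} [Group G] [Finite G]
    {R U V : Subgroup G} (hRp : IsPGroup p R) (hVR : V ≤ R)
    (hRV : R ≤ Subgroup.normalizer (V : Set G))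
    (hVc : ∀ x ∈ V, ∀ y ∈ V, x * y = y * x) (hVe : ∀ x ∈ V, x ^ p = 1)
    (hUV : U ≤ Subgroup.centralizer (V : Set G)) :
    (∃ x ∈ R, x ∉ U ∧ Fus.IsQuad p x V) ∨ Cfsg.thompsonSubgroupOf p R ≤ U := by
  by_contra hne
  push Not at hne
  obtain ⟨hq, hJ⟩ := hne
  obtain ⟨A, ⟨hA, hAU⟩, hmax⟩ := Set.exists_max_image {A | Invol.IsMaxEl p R A ∧ ¬ A ≤ U}
    (fun A : Subgroup G => Nat.card ↥(A ⊓ V)) (Set.toFinite _) (by
      by_contra h
      exact hJ (Invol.thompsonEl_le_of fun A hA => by
        by_contra hAU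
        exact h ⟨A, hA, hAU⟩))
  by_cases hVA : V ≤ Subgroup.normalizer (A : Set G)
  · obtain ⟨x, hxA, hxU⟩ := SetLike.not_le_iff_exists.1 hAU
    refine hq x (hA.1 hxA) hxU fun v hv => ⟨?_, ?_⟩
    · rw [hA.2.1.2 x hxA, one_mul, mul_one]
    · have hw : x * v * x⁻¹ * v⁻¹ ∈ A := by
        rw [show x * v * x⁻¹ * v⁻¹ = x * (v * x⁻¹ * v⁻¹) by group]
        exact A.mul_mem hxA ((Subgroup.mem_normalizer_iff.1 (hVA hv) _).1 (A.inv_mem hxA))
      rw [hA.2.1.1 x hxA _ hw, mul_inv_cancel_right]
  · have hz : ∀ x ∈ V, ∀ y ∈ V, x * y * x⁻¹ * y⁻¹ = 1 := fun x hx y hy => by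
      rw [hVc x hx y hy]; group
    obtain ⟨B, hBR, hBc, hcard, hlt, hBA, -, -, hBe, -⟩ :=
      Invol.glauberman_replacement_exponent hp2 hRp hA.1 hVR (hA.1.trans hRV) hA.2.1.1
        (fun x hx y hy z _ => by rw [hz x hx y hy]; exact Commute.one_left z)
        (fun x hx y hy => by rw [hz x hx y hy]; exact A.one_mem) hVA
    have hodd : p % 2 = 1 := (hp.out.eq_two_or_odd).resolve_left hp2
    have hB : Invol.IsMaxEl p R B := ⟨hBR, ⟨hBc, hBe p hodd hA.2.1.2⟩,
      fun C hC hc => (hA.2.2 C hC hc).trans hcard⟩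
    have hBU : B ≤ U := by
      by_contra hBU
      exact (hmax B ⟨hB, hBU⟩).not_gt (Fus.card_lt_of_lt hlt)
    refine hVA (le_trans (fun v hv => ?_) hBA)
    exact hB.mem_of_commute (hVR hv) (hVe v hv)
      fun b hb => (Subgroup.mem_centralizer_iff.1 (hUV (hBU hb)) v hv).symm

/-- There is no minimal obstruction for Thompson's family. -/
theorem not_isThompsonMinimal (hp2 : p ≠ 2) {X : Type u} [Group X] [Finite X] :
    ¬ Invol.IsThompsonMinimal p (family.{u} p) X := by
  intro h
  obtain ⟨M, hd⟩ := h.data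
  set P := Cfsg.pCore p X
  have hPn : P.Normal := hd.pn
  have hPp : IsPGroup p P := hd.isP
  obtain ⟨S⟩ : Nonempty (Sylow p X) := inferInstance
  have hStop : (S : Subgroup X) ≠ ⊤ := by
    intro e
    refine h.notNPC (Transfer.hasNormalPComplement_iff_exists.mpr ⟨⊥, inferInstance, ?_, ?_⟩)
    · rw [Subgroup.card_bot]; exact hp.out.not_dvd_one
    · obtain ⟨k, hk⟩ := IsPGroup.iff_card.mp S.isPGroup'
      exact ⟨k, by rw [Subgroup.index_bot, ← hk, e, Subgroup.card_top]⟩
  have hPS : P ≤ (S : Subgroup X) := Grp.pCore_le_sylow S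
  set Z0 := Cfsg.inducedFunctor (family.{u} p false) (S : Subgroup X)
  have hZS : Z0 ≤ (S : Subgroup X) := Invol.inducedFunctor_le _ _
  have hZcomm : ∀ z ∈ Z0, ∀ s ∈ (S : Subgroup X), s * z = z * s := by
    rintro _ ⟨z, hz, rfl⟩ s hs
    exact congrArg Subtype.val (Subgroup.mem_center_iff.mp hz ⟨s, hs⟩)
  have hZP : Z0 ≤ P := fun z hz => h.cent
    (Subgroup.mem_centralizer_iff.mpr fun x hx => hZcomm z hz x (hPS hx))
  have hZPc : Z0 ≤ P ⊓ Subgroup.centralizer (P : Set X) := fun z hz =>
    ⟨hZP hz, Subgroup.mem_centralizer_iff.mpr fun x hx => hZcomm z hz x (hPS hx)⟩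
  set V := Subgroup.normalClosure (Z0 : Set X)
  have hVn : V.Normal := Subgroup.normalClosure_normal
  have hVle : V ≤ P ⊓ Subgroup.centralizer (P : Set X) := Subgroup.normalClosure_le_normal hZPc
  have hVc : ∀ x ∈ V, ∀ y ∈ V, x * y = y * x := fun x hx y hy =>
    Subgroup.mem_centralizer_iff.mp (hVle hy).2 x (hVle hx).1
  have hPV : P ≤ Subgroup.centralizer (V : Set X) := fun x hx =>
    Subgroup.mem_centralizer_iff.mpr fun v hv => (Subgroup.mem_centralizer_iff.mp (hVle hv).2 x hx).symm
  -- `C(V) = P`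
  set C := Subgroup.centralizer (V : Set X)
  have hCn : C.Normal := Subgroup.normal_centralizer
  have hCS : C ≤ (S : Subgroup X) := by
    rcases h.maximal S ((S : Subgroup X) ⊔ C) le_sup_left with e | e
    · exact le_sup_right.trans e.le
    · exfalso
      have hle : (⊤ : Subgroup X) ≤ Subgroup.normalizer (Z0 : Set X) := by
        rw [← e]
        refine sup_le (fun s hs => Subgroup.centralizer_le_normalizer _ ?_)
          (fun c hc => Subgroup.centralizer_le_normalizer _ ?_)
        · exact Subgroup.mem_centralizer_iff.mpr fun z hz => (hZcomm z hz s hs).symm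
        · exact Subgroup.mem_centralizer_iff.mpr fun z hz =>
            Subgroup.mem_centralizer_iff.mp hc z (Subgroup.subset_normalClosure hz)
      exact hStop (le_antisymm le_top (hle.trans (h.norm false S).le))
  have hCP : C ≤ P := Grp.le_pCore hCn (S.isPGroup'.to_le hCS)
  have hVP : V ≤ P := hVle.trans inf_le_left
  -- pass to the elements of order dividing `p`
  let Ω : Subgroup X :=
    { carrier := {x | x ∈ V ∧ x ^ p = 1}
      one_mem' := ⟨V.one_mem, one_pow p⟩
      mul_mem' := fun {a b} ha hb => ⟨V.mul_mem ha.1 hb.1, by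
        rw [(show Commute a b from hVc a ha.1 b hb.1).mul_pow, ha.2, hb.2, one_mul]⟩
      inv_mem' := fun {a} ha => ⟨V.inv_mem ha.1, by rw [inv_pow, ha.2, inv_one]⟩ }
  have hΩn : Ω.Normal := ⟨fun x hx g => ⟨hVn.conj_mem x hx.1 g, by rw [conj_pow, hx.2]; group⟩⟩
  have hΩV : Ω ≤ V := fun x hx => hx.1
  have hΩC : Subgroup.centralizer (Ω : Set X) ≤ P := by
    haveI : Ω.Normal := hΩn
    haveI : (Subgroup.centralizer (Ω : Set X)).Normal := Subgroup.normal_centralizer
    refine Grp.le_pCore inferInstance (Invol.isPGroup_of_coprime_elements fun y hy => ?_)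
    rw [Subgroup.orderOf_coe y |>.symm] at hy
    refine Subtype.ext ?_
    have h1 : MulAut.conjNormal (H := V) (y : X) = 1 :=
      Transfer.aut_eq_one_of_fix_omega hp2 (hPp.to_le hVP)
        (Nat.Coprime.coprime_dvd_left (orderOf_map_dvd MulAut.conjNormal (y : X)) hy) fun v hv => by
          refine Subtype.ext ?_
          rw [MulAut.conjNormal_apply, ← Subgroup.mem_centralizer_iff.1 y.2 v ⟨v.2, congrArg Subtype.val hv⟩,
            mul_inv_cancel_right]
    have h2 : (y : X) ∈ P := hCP (Subgroup.mem_centralizer_iff.mpr fun v hv => by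
      have h3 := congrArg Subtype.val (DFunLike.congr_fun h1 (⟨v, hv⟩ : V))
      simp only [MulAut.conjNormal_apply, MulAut.one_apply] at h3
      exact (mul_inv_eq_iff_eq_mul.mp h3).symm)
    obtain ⟨k, hk⟩ := hPp ⟨(y : X), h2⟩
    have h4 : (y : X) ^ p ^ k = 1 := congrArg Subtype.val hk
    exact orderOf_eq_one_iff.mp
      (Nat.eq_one_of_dvd_coprimes (hy.pow_right k) dvd_rfl (orderOf_dvd_of_pow_eq_one h4))
  -- no quadratic element outside `P`
  have hquad : ¬ ∃ x ∈ (S : Subgroup X), x ∉ P ∧ Fus.IsQuad p x Ω := by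
    rintro ⟨x, hxS, hxP, hq⟩
    apply hxP
    obtain ⟨e, he⟩ := IsPGroup.iff_card.mp S.isPGroup'
    have hxp : x ^ p ^ e = 1 := by
      have := pow_card_eq_one' (G := (S : Subgroup X)) (x := ⟨x, hxS⟩)
      rw [he] at this
      exact congrArg Subtype.val this
    refine Invol.mem_pCore_of_comm hd hxp fun m hm => ?_
    obtain ⟨n, hn⟩ := Invol.comm_acts_pElement hp2 hd x hm Ω (hPp.to_le (hΩV.trans hVP)) MulAut.conjNormal
      fun r => by
        refine Subtype.ext ?_
        have e1 : (r : X)⁻¹ * (x * r * x⁻¹) = x * r * x⁻¹ * (r : X)⁻¹ :=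
          hVc _ (V.inv_mem (hΩV r.2)) _ (hVn.conj_mem r (hΩV r.2) x)
        show x * ((r : X)⁻¹ * (x * r * x⁻¹)) * x⁻¹ = (r : X)⁻¹ * (x * r * x⁻¹)
        rw [e1]
        exact (hq r r.2).2
    set c := x * m * x⁻¹ * m⁻¹
    have hcC : c ^ p ^ n ∈ P := by
      refine hΩC (Subgroup.mem_centralizer_iff.mpr fun v hv => ?_)
      have h2 := congrArg Subtype.val (DFunLike.congr_fun hn (⟨v, hv⟩ : Ω))
      rw [← map_pow] at h2
      simp only [MulAut.conjNormal_apply, MulAut.one_apply] at h2
      exact (mul_inv_eq_iff_eq_mul.mp h2).symm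
    obtain ⟨k, hk, hk'⟩ := hd.mid c (mul_mem (hd.mn.conj_mem m hm x) (inv_mem hm))
    obtain ⟨s, t, hst⟩ : IsCoprime (k : ℤ) ((p ^ n : ℕ) : ℤ) :=
      Nat.isCoprime_iff_coprime.mpr (hk.pow_right n)
    rw [← zpow_one c, ← hst, zpow_add, mul_comm s, zpow_mul, mul_comm t, zpow_mul,
      zpow_natCast, zpow_natCast]
    exact mul_mem (zpow_mem hk' _) (zpow_mem hcC _)
  have hJ := (exists_quad_or_thompsonEl_le hp2 S.isPGroup' ((hΩV.trans hVP).trans hPS)
    Subgroup.le_normalizer_of_normal (fun x hx y hy => hVc x hx.1 y hy.1) (fun x hx => hx.2)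
    (hPV.trans (Subgroup.centralizer_le hΩV))).resolve_left hquad
  -- the Thompson subgroup is normal
  have hJn : (Cfsg.thompsonSubgroupOf p (S : Subgroup X)).Normal := by
    refine ⟨fun y hy g => ?_⟩
    refine (Invol.thompsonEl_le_of (K := (Cfsg.thompsonSubgroupOf p (S : Subgroup X)).comap
      (MulAut.conj g).toMonoidHom) fun A hA => Subgroup.map_le_iff_le_comap.mp ?_) hy
    refine Invol.IsMaxEl.le_thompsonEl ⟨?_, ⟨?_, ?_⟩, fun B hB hc => ?_⟩
    · rintro _ ⟨a, ha, rfl⟩
      exact hPS (hPn.conj_mem a (hJ (hA.le_thompsonEl ha)) g)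
    · rintro _ ⟨a, ha, rfl⟩ _ ⟨b, hb, rfl⟩
      rw [← map_mul, hA.2.1.1 a ha b hb, map_mul]
    · rintro _ ⟨a, ha, rfl⟩
      rw [← map_pow, hA.2.1.2 a ha, map_one]
    · rw [Subgroup.card_map_of_injective (MulAut.conj g).injective]
      exact hA.2.2 B hB hc
  have h1 : Subgroup.normalizer (Cfsg.thompsonSubgroupOf p (S : Subgroup X) : Set X) = S :=
    h.norm true S
  rw [Subgroup.normalizer_eq_top] at h1
  exact hStop h1.symm

/-- Thompson's normal `p`-complement theorem, elementary version. -/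
theorem hasNormalPComplement_of_center (hp2 : p ≠ 2) {G : Type u} [Group G] [Finite G]
    (S : Sylow p G)
    (hZ : Cfsg.HasNormalPComplement p ↥(Subgroup.centralizer
      (((S : Subgroup G) ⊓ Subgroup.centralizer (S : Set G)) : Set G)))
    (hJ : Cfsg.HasNormalPComplement p ↥(Subgroup.normalizer
      (Cfsg.thompsonSubgroupOf p (S : Subgroup G) : Set G))) :
    Cfsg.HasNormalPComplement p G := by
  set Z : Subgroup G := (S : Subgroup G) ⊓ Subgroup.centralizer ((S : Subgroup G) : Set G) with hZdef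
  -- the normalizer of the centre of `S` centralizes it
  have hNC : Subgroup.normalizer (Z : Set G) ≤ Subgroup.centralizer (Z : Set G) := by
    intro x hx
    set C := Subgroup.centralizer (Z : Set G) with hC
    have hSC : (S : Subgroup G) ≤ C := fun s hs =>
      Subgroup.mem_centralizer_iff.mpr fun z hz =>
        (Subgroup.mem_centralizer_iff.mp hz.2 s hs).symm
    have hxC : ∀ c ∈ C, x * c * x⁻¹ ∈ C := fun c hc => by
      refine Subgroup.mem_centralizer_iff.mpr fun z hz => ?_
      have h1 : x⁻¹ * z * x ∈ Z := (Subgroup.mem_normalizer_iff'.mp hx _).mpr (by simpa [mul_assoc] using hz)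
      have h2 := Subgroup.mem_centralizer_iff.mp hc _ h1
      calc z * (x * c * x⁻¹) = x * ((x⁻¹ * z * x) * c) * x⁻¹ := by group
        _ = x * (c * (x⁻¹ * z * x)) * x⁻¹ := by rw [h2]
        _ = x * c * x⁻¹ * z := by group
    have hxS : ((x • S : Sylow p G) : Subgroup G) ≤ C := by
      show (S : Subgroup G).map (MulAut.conj x).toMonoidHom ≤ C
      rintro _ ⟨s, hs, rfl⟩
      exact hxC s (hSC hs)
    obtain ⟨c, hc⟩ := MulAction.exists_smul_eq C ((x • S).subtype hxS) (S.subtype hSC)
    rw [Sylow.smul_subtype] at hc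
    have hy : ((c : G) * x) • S = S := by
      have := Sylow.subtype_injective hc
      rw [Subgroup.smul_def, ← mul_smul] at this
      exact this
    have hyN : (c : G) * x ∈ Subgroup.normalizer ((S : Subgroup G) : Set G) :=
      Sylow.smul_eq_iff_mem_normalizer.mp hy
    suffices (c : G) * x ∈ C by simpa using mul_mem (inv_mem c.2) this
    have hNS : Cfsg.HasNormalPComplement p ↥(Subgroup.normalizer ((S : Subgroup G) : Set G)) := by
      refine Transfer.hasNormalPComplement_mono ?_ hJ
      have := Invol.normalizer_le_normalizer_inducedFunctor (family_isCharPFunctor.{u} (p := p) true)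
        (G := G) S.isPGroup'
      exact this
    set N := Subgroup.normalizer ((S : Subgroup G) : Set G)
    obtain ⟨K, hKn, hKd, k, hk⟩ := Transfer.hasNormalPComplement_iff_exists.mp hNS
    have hcp := Transfer.isComplement'_sylow (S.subtype (Subgroup.le_normalizer)) hKd hk
    obtain ⟨⟨a, b⟩, hab : (a : N) * (b : N) = ⟨(c : G) * x, hyN⟩⟩ :=
      hcp.2 ⟨(c : G) * x, hyN⟩
    have e : ((a : N) : G) * ((b : N) : G) = (c : G) * x := congrArg Subtype.val hab
    rw [← e]
    refine mul_mem ?_ (hSC b.2)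
    refine Subgroup.mem_centralizer_iff.mpr fun z hz => ?_
    set zz : N := ⟨z, Subgroup.le_normalizer hz.1⟩
    have hzz : zz ∈ (S.subtype Subgroup.le_normalizer : Sylow p N).toSubgroup := hz.1
    haveI : ((S : Subgroup G).subgroupOf N).Normal := Subgroup.normal_in_normalizer
    have hcomm := Subgroup.commute_of_normal_of_disjoint K ((S : Subgroup G).subgroupOf N) hKn
      inferInstance hcp.disjoint (a : N) zz a.2 hzz
    exact (congrArg Subtype.val hcomm.eq).symm
  have hZN : Cfsg.HasNormalPComplement p ↥(Subgroup.normalizer (Z : Set G)) :=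
    Transfer.hasNormalPComplement_mono hNC hZ
  by_contra hG
  have hN := Invol.normalizersNPC_of_one (W := family.{u} p) family_isCharPFunctor S
    (fun i => match i with
      | false => by
          show Cfsg.HasNormalPComplement p ↥(Subgroup.normalizer
            (Cfsg.inducedFunctor (fun Q [Group Q] => Subgroup.center Q) (S : Subgroup G) : Set G))
          rw [Invol.inducedFunctor_center]
          exact hZN
      | true => hJ)
  obtain ⟨X, _, _, -, hmin⟩ := Invol.exists_thompsonMinimal family_isCharPFunctor hN hG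
  exact not_isThompsonMinimal hp2 hmin

end Cfsg.Agent.Transfer.ThompsonEl
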