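import Mathlib
import Cfsg.Agent.Lib.Grp.HHModular

/-!
The Hall-Higman counting argument in the modular case, with the extra inequality needed for `p = 2`.
-/

set_option autoImplicit false
set_option linter.style.haveILetI false

namespace Cfsg.Agent.Transfer.HHB

open Module Cfsg.Agent.Grp Cfsg.Agent.Grp.NilpotentCommutant Cfsg.Agent.Grp.HHModular
open scoped commutatorElement

variable {K : Type*} [Field K]

/-- The square of the kernel dimension of a square-zero power bounds its centralizer below. -/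
theorem sq_le_commutant {U : Type*} [AddCommGroup U] [Module K U] [FiniteDimensional K U]
    (N : Module.End K U) {e : ℕ} (hne : N ^ e ≠ 0) (hsq : N ^ e * N ^ e = 0) :
    e * e ≤ finrank K ↥(commutant (N ^ e)) := by
  have hker : ∀ i ≤ e, i ≤ finrank K (LinearMap.ker (N ^ i)) := by
    intro i
    induction i with
    | zero => intro _; exact Nat.zero_le _
    | succ i ih =>
      intro hi
      have hlt : LinearMap.ker (N ^ i) < LinearMap.ker (N ^ (i + 1)) := by
        refine lt_of_le_of_ne (fun v hv => ?_) fun heq => hne ?_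
        · rw [LinearMap.mem_ker] at hv ⊢
          rw [pow_succ', Module.End.mul_apply, hv, map_zero]
        · have h2 := Module.End.ker_pow_constant heq (e + e - i)
          rw [show i + (e + e - i) = e + e by omega, pow_add N e e, hsq, LinearMap.ker_zero,
            LinearMap.ker_eq_top] at h2
          rw [show e = i + (e - i) by omega, pow_add, h2, zero_mul]
      have := Submodule.finrank_lt_finrank_of_lt hlt
      have := ih (by omega)
      omega
  set M := N ^ e with hM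
  let L : ((U ⧸ LinearMap.range M) →ₗ[K] LinearMap.ker M) →ₗ[K] ↥(commutant M) :=
    { toFun := fun T => ⟨(LinearMap.ker M).subtype ∘ₗ T ∘ₗ (LinearMap.range M).mkQ, by
        refine mem_commutant.mpr (LinearMap.ext fun v => ?_)
        have h1 : Submodule.Quotient.mk (p := LinearMap.range M) (M v) = 0 :=
          (Submodule.Quotient.mk_eq_zero _).mpr ⟨v, rfl⟩
        have h2 := LinearMap.mem_ker.mp (T ((LinearMap.range M).mkQ v)).2
        simp only [Module.End.mul_apply, LinearMap.comp_apply, Submodule.mkQ_apply, Submodule.coe_subtype,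
          h1, map_zero, ZeroMemClass.coe_zero]
        exact h2.symm⟩
      map_add' := fun a b => Subtype.ext (LinearMap.ext fun v => by simp)
      map_smul' := fun c a => Subtype.ext (LinearMap.ext fun v => by simp) }
  have hL : Function.Injective L := fun a b h => by
    refine LinearMap.ext fun v => ?_
    obtain ⟨w, rfl⟩ := Submodule.Quotient.mk_surjective _ v
    exact Subtype.ext (LinearMap.congr_fun (congrArg Subtype.val h) w)
  have h1 := LinearMap.finrank_le_finrank_of_injective hL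
  have h2 : finrank K (U ⧸ LinearMap.range M) = finrank K (LinearMap.ker M) := by
    have a := (LinearMap.range M).finrank_quotient_add_finrank
    have c := M.finrank_range_add_finrank_ker
    omega
  rw [Module.finrank_linearMap, h2] at h1
  exact (Nat.mul_le_mul (hker e le_rfl) (hker e le_rfl)).trans h1

theorem half_bound {U : Type*} [AddCommGroup U] [Module K U] [FiniteDimensional K U] {ι : Type*}
    [Fintype ι] [DecidableEq ι] (o : ι) (σ : Equiv.Perm ι) {h : ℕ} (hσo : σ o = o) (hσh : σ ^ h = 1)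
    (hfree : ∀ i, 0 < i → i < h → ∀ g, (σ ^ i) g = g → g = o) (b : Basis ι K (Module.End K U))
    (u : Module.End K U) (hu : u ^ h = 1)
    (hconj : ∀ g, ∃ c : K, u * b g * u ^ (h - 1) = c • b (σ g)) {k : ℕ} (hk : h = 2 ^ (k + 1))
    [CharP K 2] : finrank K U ≤ 1 ∨ 2 * (2 ^ k * 2 ^ k) ≤ finrank K U * finrank K U + 1 := by
  rcases Nat.lt_or_ge 1 (finrank K U) with hd | hd
  swap
  · exact Or.inl hd
  right
  haveI : Nontrivial U := Module.finrank_pos_iff.mp (show 0 < finrank K U by omega)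
  haveI : CharP (Module.End K U) 2 :=
    charP_of_injective_algebraMap (algebraMap K (Module.End K U)).injective 2
  have he : 0 < 2 ^ k := by positivity
  have h2e : h = 2 ^ k + 2 ^ k := by rw [hk, pow_succ]; omega
  have hpow : ∀ (n : ℕ), n ≤ h → ∀ g, ∃ c : K, u ^ n * b g * u ^ (h - n) = c • b ((σ ^ n) g) := by
    intro n
    induction n with
    | zero => intro _ g; exact ⟨1, by simp [hu]⟩
    | succ n ih =>
      intro hn g
      obtain ⟨c, hc⟩ := ih (by omega) g
      obtain ⟨c', hc'⟩ := hconj ((σ ^ n) g)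
      refine ⟨c * c', ?_⟩
      have h5 : u ^ (h - n) * u ^ (h - 1) = u ^ (h - (n + 1)) := by
        rw [← pow_add, show h - n + (h - 1) = h - (n + 1) + h by omega, pow_add, hu, mul_one]
      calc u ^ (n + 1) * b g * u ^ (h - (n + 1)) = u * (u ^ n * b g * u ^ (h - n)) * u ^ (h - 1) := by
            rw [← h5, pow_succ']; simp only [mul_assoc]
        _ = _ := by
            rw [hc, mul_smul_comm, smul_mul_assoc, hc', smul_smul, pow_succ', Equiv.Perm.mul_apply]
  obtain ⟨h1, -, h3⟩ := finrank_commutant_le o (σ ^ 2 ^ k) (h := 2) le_rfl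
    (Function.IsFixedPt.perm_pow hσo _) (by rw [← pow_mul, show 2 ^ k * 2 = h by omega, hσh])
    (fun i hi hi2 g hg => hfree (2 ^ k) he (by omega) g (by
      rwa [show i = 1 by omega, pow_one] at hg))
    b (u ^ 2 ^ k) (by rw [← pow_mul, show 2 ^ k * 2 = h by omega, hu]) (fun g => by
      obtain ⟨c, hc⟩ := hpow (2 ^ k) (by omega) g
      refine ⟨c, ?_⟩
      rw [pow_one]
      rwa [show h - 2 ^ k = 2 ^ k by omega] at hc)
  set N := u - 1 with hN
  have hfrob : N ^ 2 ^ k = u ^ 2 ^ k - 1 := by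
    rw [hN, sub_pow_char_pow_of_commute (p := 2) (n := k) (h := Commute.one_right u), one_pow]
  rw [← hfrob] at h3
  have hsq : N ^ 2 ^ k * N ^ 2 ^ k = 0 := by
    rw [← pow_add, ← h2e, hk, hN, sub_pow_char_pow_of_commute (p := 2) (n := k + 1) (h := Commute.one_right u),
      ← hk, hu, one_pow, sub_self]
  have hne : N ^ 2 ^ k ≠ 0 := by
    intro h0
    rw [h0] at h3
    have htop : commutant (0 : Module.End K U) = ⊤ :=
      eq_top_iff.mpr fun S _ => mem_commutant.mpr (by rw [mul_zero, zero_mul])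
    rw [htop, finrank_top, Module.finrank_linearMap, ← h1] at h3
    have : 1 < finrank K U * finrank K U := Nat.one_lt_mul_iff.mpr ⟨by omega, by omega, Or.inl hd⟩
    omega
  have h6 := sq_le_commutant N hne hsq
  rw [← h1] at h3
  have : 1 ≤ finrank K U * finrank K U := Nat.mul_pos (by omega) (by omega)
  omega

/-- The Hall-Higman counting theorem in characteristic `p`. -/
theorem hallHigman_modular_two {K : Type*} [Field K] [IsAlgClosed K] {V : Type*} [AddCommGroup V] [Module K V]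
    [FiniteDimensional K V] [Nontrivial V] {Γ : Type*} [Group Γ] [Finite Γ] (ρ : Γ →* Module.End K V)
    (Q Z : Subgroup Γ) (x : Γ) {h : ℕ} (hh : 2 ≤ h) (hxh : x ^ h = 1)
    (hxQ : x ∈ Subgroup.normalizer (Q : Set Γ)) (hxZ : x ∈ Subgroup.normalizer (Z : Set Γ))
    (hcomm : ∀ g ∈ Q, ∀ t ∈ Q, ⁅t, g⁆ ∈ Z) (ω : Γ → K)
    (hω : ∀ z ∈ Z, ρ z = ω z • 1) (hωx : ∀ z ∈ Z, ω (x * z * x⁻¹) = ω z)
    (hnondeg : ∀ g ∈ Q, g ∉ Z → ∃ t ∈ Q, ω ⁅t, g⁆ ≠ 1) (hZQ : Z ≤ Q)
    (hfree : ∀ i, 0 < i → i < h → ∀ g ∈ Q, g⁻¹ * (x ^ i * g * (x ^ i)⁻¹) ∈ Z → g ∈ Z)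
    {s : ℕ} (hs : (ρ x - 1) ^ s = 0) :
    ∃ d : ℕ, d * d = Z.relIndex Q ∧ h ∣ d * d - 1 ∧ d * d * h ≤ s * (h + (d * d - 1)) ∧
      ∀ k, h = 2 ^ (k + 1) → CharP K 2 → d ≤ 1 ∨ 2 * (2 ^ k * 2 ^ k) ≤ d * d + 1 := by
  classical
  haveI : NeZero h := ⟨by omega⟩
  -- an irreducible `Q`-submodule
  obtain ⟨U, ⟨hU0, hUinv⟩, hUmin⟩ : ∃ U : Submodule K V, (U ≠ ⊥ ∧ ∀ g ∈ Q, ∀ v ∈ U, ρ g v ∈ U) ∧
      ∀ W : Submodule K V, W < U → ¬ (W ≠ ⊥ ∧ ∀ g ∈ Q, ∀ v ∈ W, ρ g v ∈ W) := by
    obtain ⟨U, hU, hmin⟩ := (IsWellFounded.wf : WellFounded ((· < ·) : Submodule K V → Submodule K V → Prop)).has_min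
      {W : Submodule K V | W ≠ ⊥ ∧ ∀ g ∈ Q, ∀ v ∈ W, ρ g v ∈ W} ⟨⊤, top_ne_bot, fun _ _ _ _ => trivial⟩
    exact ⟨U, hU, fun W hW h' => hmin W h' hW⟩
  haveI : Nontrivial U := Submodule.nontrivial_iff_ne_bot.mpr hU0
  let ρU : ↥Q →* Module.End K U :=
    { toFun := fun q => (ρ (q : Γ)).restrict (fun v hv => hUinv q q.2 v hv)
      map_one' := LinearMap.ext fun v => Subtype.ext (by simp [LinearMap.restrict_apply])
      map_mul' := fun a b => LinearMap.ext fun v => Subtype.ext (by simp [LinearMap.restrict_apply]) }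
  have hρU : ∀ (q : ↥Q) (v : U), ((ρU q v : U) : V) = ρ (q : Γ) v := fun q v => rfl
  have hirr : ∀ S : Submodule K U, (∀ q, ∀ v ∈ S, ρU q v ∈ S) → S = ⊥ ∨ S = ⊤ := by
    intro S hS
    by_cases hS0 : S = ⊥
    · exact Or.inl hS0
    right
    by_contra hS1
    refine hUmin (S.map U.subtype) ?_ ⟨fun e => hS0 ?_, ?_⟩
    · refine lt_of_le_of_ne (Submodule.map_subtype_le U S) fun e => hS1 ?_
      refine Submodule.map_injective_of_injective U.injective_subtype ?_
      rw [e, Submodule.map_top, Submodule.range_subtype]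
    · refine Submodule.map_injective_of_injective U.injective_subtype ?_
      rw [e, Submodule.map_bot]
    · rintro g hg _ ⟨v, hv, rfl⟩
      exact ⟨ρU ⟨g, hg⟩ v, hS _ v hv, rfl⟩
  set Z' := Z.subgroupOf Q with hZ'
  have hZ'n : Z'.Normal := ⟨fun z hz t => by
    have h1 : ((t * z * t⁻¹ : ↥Q) : Γ) = ⁅(t : Γ), (z : Γ)⁆ * z := by
      simp only [Subgroup.coe_mul, Subgroup.coe_inv, commutatorElement_def]; group
    show ((t * z * t⁻¹ : ↥Q) : Γ) ∈ Z
    rw [h1]
    exact Z.mul_mem (hcomm _ z.2 _ t.2) hz⟩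
  have hUz : ∀ z : ↥Q, z ∈ Z' → ρU z = ω (z : Γ) • 1 := fun z hz => LinearMap.ext fun v => Subtype.ext (by
    rw [hρU, hω _ (show (z : Γ) ∈ Z from hz)]; rfl)
  have hinv : ∀ q : ↥Q, ρU q⁻¹ * ρU q = 1 := fun q => by rw [← map_mul, inv_mul_cancel, map_one]
  have hne0 : ∀ q : ↥Q, ρU q ≠ 0 := fun q e => by
    have := hinv q
    rw [e, mul_zero] at this
    exact zero_ne_one this
  have huniq : ∀ c c' : K, c • (1 : Module.End K U) = c' • 1 → c = c' := fun c c' e => by
    obtain ⟨v, hv⟩ := exists_ne (0 : U)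
    exact smul_left_injective K hv (by simpa using LinearMap.congr_fun e v)
  -- representatives
  let r : ↥Q ⧸ Z' → ↥Q := fun g => if g = 1 then 1 else g.out
  have hr : ∀ g : ↥Q ⧸ Z', ((r g : ↥Q) : ↥Q ⧸ Z') = g := fun g => by
    by_cases hg : g = 1 <;> simp [r, hg]
  have hdec : ∀ q : ↥Q, ∃ z ∈ Z', q = r (q : ↥Q ⧸ Z') * z := fun q =>
    ⟨(r (q : ↥Q ⧸ Z'))⁻¹ * q, QuotientGroup.eq.mp (hr _), (mul_inv_cancel_left _ _).symm⟩
  haveI : Fintype (↥Q ⧸ Z') := Fintype.ofFinite _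
  set B : ↥Q ⧸ Z' → Module.End K U := fun g => ρU (r g) with hB
  have hqB : ∀ q : ↥Q, ∃ c : K, ρU q = c • B (q : ↥Q ⧸ Z') := fun q => by
    obtain ⟨z, hz, e⟩ := hdec q
    refine ⟨ω (z : Γ), ?_⟩
    conv_lhs => rw [e]
    rw [map_mul, hUz z hz, mul_smul_comm, mul_one]
  have hspan : ⊤ ≤ Submodule.span K (Set.range B) := by
    rw [← span_eq_top_of_irreducible ρU hirr, Submodule.span_le]
    rintro _ ⟨q, rfl⟩
    obtain ⟨c, hc⟩ := hqB q
    rw [hc]
    exact Submodule.smul_mem _ _ (Submodule.subset_span ⟨_, rfl⟩)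
  have hli : LinearIndependent K B := by
    rw [linearIndependent_iff']
    intro s
    induction hs : s.card using Nat.strong_induction_on generalizing s with
    | _ n ih =>
    intro a hsum g₁ hg₁
    by_cases hone : ∀ g ∈ s, g = g₁
    · rw [Finset.sum_eq_single_of_mem g₁ hg₁ (fun g hg hne => absurd (hone g hg) hne)] at hsum
      exact (smul_eq_zero.mp hsum).resolve_right (hne0 _)
    push Not at hone
    obtain ⟨g₂, hg₂, hne⟩ := hone
    set e : ↥Q := (r g₂)⁻¹ * r g₁ with he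
    have heZ : e ∉ Z' := fun h1 => hne (by rw [← hr g₁, ← hr g₂]; exact QuotientGroup.eq.mpr h1)
    obtain ⟨t, ht, hte⟩ := hnondeg (e : Γ) e.2 heZ
    set c : ↥Q ⧸ Z' → K := fun g => ω ⁅t, ((r g : ↥Q) : Γ)⁆ with hc
    have hcj : ∀ g, ρU ⟨t, ht⟩ * B g * ρU (⟨t, ht⟩ : ↥Q)⁻¹ = c g • B g := by
      intro g
      have h1 : ⁅(⟨t, ht⟩ : ↥Q), r g⁆ ∈ Z' := hcomm _ (r g).2 _ ht
      calc ρU ⟨t, ht⟩ * B g * ρU (⟨t, ht⟩ : ↥Q)⁻¹ = ρU (⁅(⟨t, ht⟩ : ↥Q), r g⁆ * r g) := by
            rw [hB, ← map_mul, ← map_mul]; congr 1; rw [commutatorElement_def]; group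
        _ = c g • B g := by rw [map_mul, hUz _ h1, smul_mul_assoc, one_mul]; rfl
    have hc12 : c g₁ ≠ c g₂ := by
      intro heq
      have hel : ∀ w : ↥Q, ρU ⁅(⟨t, ht⟩ : ↥Q), w⁆ = ω ⁅t, (w : Γ)⁆ • 1 := fun w => hUz _ (hcomm _ w.2 _ ht)
      have h1 : ρU ⁅(⟨t, ht⟩ : ↥Q), r g₁⁆ = ρU ⁅(⟨t, ht⟩ : ↥Q), r g₂⁆ * (ρU (r g₂) * ρU ⁅(⟨t, ht⟩ : ↥Q), e⁆ * ρU (r g₂)⁻¹) := by
        rw [← map_mul, ← map_mul, ← map_mul, he]; congr 1; simp only [commutatorElement_def]; group
      rw [hel, hel, hel] at h1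
      simp only [smul_mul_assoc, mul_smul_comm, one_mul, mul_one, smul_smul] at h1
      rw [← map_mul, mul_inv_cancel, map_one] at h1
      have h2 : c g₁ = ω ⁅t, (e : Γ)⁆ * c g₂ := huniq _ _ h1
      have hc0 : c g₂ ≠ 0 := fun e0 => hne0 ⁅(⟨t, ht⟩ : ↥Q), r g₂⁆ (by
        rw [hel, show ω ⁅t, ((r g₂ : ↥Q) : Γ)⁆ = 0 from e0, zero_smul])
      rw [heq] at h2
      exact hte (mul_right_cancel₀ hc0 (by rw [one_mul]; exact h2.symm))
    have hnew : ∑ g ∈ s.erase g₂, (a g * (c g - c g₂)) • B g = 0 := by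
      rw [Finset.sum_erase _ (by rw [sub_self, mul_zero, zero_smul])]
      have h1 : ∑ g ∈ s, (a g * c g) • B g = 0 := by
        have h2 := congrArg (fun T => ρU ⟨t, ht⟩ * T * ρU (⟨t, ht⟩ : ↥Q)⁻¹) hsum
        simp only [Finset.mul_sum, Finset.sum_mul, mul_smul_comm, smul_mul_assoc, hcj, mul_zero, zero_mul,
          smul_smul] at h2
        exact h2
      calc ∑ g ∈ s, (a g * (c g - c g₂)) • B g
          = ∑ g ∈ s, ((a g * c g) • B g + (-c g₂) • (a g • B g)) := Finset.sum_congr rfl fun g _ => by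
            rw [smul_smul]
            refine Eq.trans ?_ (add_smul _ _ _)
            congr 1
            ring
        _ = (∑ g ∈ s, (a g * c g) • B g) + (-c g₂) • ∑ g ∈ s, a g • B g := by
            rw [Finset.sum_add_distrib, Finset.smul_sum]
        _ = 0 := by rw [h1, hsum, smul_zero, add_zero]
    have h3 := ih (s.erase g₂).card (hs ▸ Finset.card_erase_lt_of_mem hg₂) (s.erase g₂) rfl _ hnew g₁
      (Finset.mem_erase.mpr ⟨Ne.symm hne, hg₁⟩)
    exact (mul_eq_zero.mp h3).resolve_right (sub_ne_zero.mpr hc12)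
  let b := Basis.mk hli hspan
  have hb : ∀ g, b g = B g := fun g => Basis.mk_apply hli hspan g
  have hbo : b 1 = 1 := by rw [hb, hB]; simp [r]
  -- extending to algebra maps
  have hext : ∀ {W : Type _} [AddCommGroup W] [Module K W] (η : ↥Q →* Module.End K W),
      (∀ z ∈ Z', η z = ω (z : Γ) • 1) →
      ∃ ψ : Module.End K U →ₐ[K] Module.End K W, ∀ q, ψ (ρU q) = η q := by
    intro W _ _ η hη
    let ψ := b.constr K (fun g => η (r g))
    have hψ : ∀ q, ψ (ρU q) = η q := by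
      intro q
      obtain ⟨z, hz, e⟩ := hdec q
      conv_lhs => rw [e, map_mul, hUz z hz, mul_smul_comm, mul_one, map_smul]
      conv_rhs => rw [e, map_mul, hη z hz, mul_smul_comm, mul_one]
      congr 1
      show ψ (B _) = _
      rw [← hb, Basis.constr_basis]
    refine ⟨AlgHom.ofLinearMap ψ (by rw [← map_one ρU, hψ, map_one]) ?_, hψ⟩
    intro S T
    induction (b.span_eq ▸ Submodule.mem_top : S ∈ Submodule.span K (Set.range b)) using Submodule.span_induction with
    | mem S hS =>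
      obtain ⟨g, rfl⟩ := hS
      induction (b.span_eq ▸ Submodule.mem_top : T ∈ Submodule.span K (Set.range b)) using Submodule.span_induction with
      | mem T hT =>
        obtain ⟨k, rfl⟩ := hT
        rw [hb, hb, hB, ← map_mul, hψ, hψ, hψ, map_mul]
      | zero => simp
      | add _ _ _ _ h1 h2 => simp only [mul_add, map_add, h1, h2]
      | smul c _ _ h1 => simp only [mul_smul_comm, map_smul, h1]
    | zero => simp
    | add _ _ _ _ h1 h2 => simp only [add_mul, map_add, h1, h2]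
    | smul c _ _ h1 => simp only [smul_mul_assoc, map_smul, h1]
  -- twisting by `x`
  let tw : ↥Q →* ↥Q :=
    { toFun := fun q => ⟨x * q * x⁻¹, (Subgroup.mem_normalizer_iff.mp hxQ q).mp q.2⟩
      map_one' := Subtype.ext (by simp)
      map_mul' := fun a b => Subtype.ext (by simp [mul_assoc]) }
  have htwZ : ∀ z ∈ Z', tw z ∈ Z' := fun z hz => (Subgroup.mem_normalizer_iff.mp hxZ _).mp hz
  obtain ⟨ψ, hψ⟩ := hext (ρU.comp tw) (fun z hz => by
    rw [MonoidHom.comp_apply, hUz _ (htwZ z hz), show ((tw z : ↥Q) : Γ) = x * z * x⁻¹ from rfl, hωx _ (show (z : Γ) ∈ Z from hz)])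
  obtain ⟨φ₀, hφ₀, hφψ⟩ := exists_intertwine ψ
  set u₀ : Module.End K U := φ₀ with hu₀
  have hu₀q : ∀ q, u₀ * ρU q = ρU (tw q) * u₀ := fun q => LinearMap.ext fun y => by
    show φ₀ (ρU q y) = ρU (tw q) (φ₀ y)
    rw [hφψ, hψ]; rfl
  have hu₀pow : ∀ (n : ℕ) q, u₀ ^ n * ρU q = ρU (tw^[n] q) * u₀ ^ n := by
    intro n
    induction n with
    | zero => intro q; simp
    | succ n ih =>
      intro q
      rw [pow_succ', mul_assoc, ih, ← mul_assoc, hu₀q, mul_assoc, Function.iterate_succ_apply']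
  have htwn : ∀ (n : ℕ) (q : ↥Q), ((tw^[n] q : ↥Q) : Γ) = x ^ n * q * (x ^ n)⁻¹ := by
    intro n
    induction n with
    | zero => intro q; simp
    | succ n ih =>
      intro q
      rw [Function.iterate_succ_apply']
      show x * ((tw^[n] q : ↥Q) : Γ) * x⁻¹ = _
      rw [ih, pow_succ']; group
  have htwh : ∀ q, tw^[h] q = q := fun q => Subtype.ext (by rw [htwn, hxh]; simp)
  obtain ⟨c, hc⟩ : ∃ c : K, u₀ ^ h = c • 1 := by
    obtain ⟨c, hc⟩ := Module.End.exists_eigenvalue (u₀ ^ h)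
    refine ⟨c, LinearMap.ext fun v => ?_⟩
    have htop : Module.End.eigenspace (u₀ ^ h) c = ⊤ := by
      refine (hirr _ fun q w hw => ?_).resolve_left hc
      rw [Module.End.mem_eigenspace_iff] at hw ⊢
      have := LinearMap.congr_fun (hu₀pow h q) w
      rw [htwh, Module.End.mul_apply, Module.End.mul_apply, hw, map_smul] at this
      exact this
    exact Module.End.mem_eigenspace_iff.mp (htop ▸ Submodule.mem_top : v ∈ Module.End.eigenspace (u₀ ^ h) c)
  have hc0 : c ≠ 0 := by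
    rintro rfl
    rw [zero_smul] at hc
    have hinj : Function.Injective (u₀ ^ h : Module.End K U) := by rw [Module.End.coe_pow]; exact hφ₀.iterate h
    obtain ⟨y, hy⟩ := exists_ne (0 : U)
    exact hy (hinj (by rw [hc]; simp))
  obtain ⟨ν, hν⟩ := IsAlgClosed.exists_pow_nat_eq c⁻¹ (show 0 < h by omega)
  set u₁ : Module.End K U := ν • u₀ with hu₁
  have hu₁h : u₁ ^ h = 1 := by rw [hu₁, smul_pow, hν, hc, smul_smul, inv_mul_cancel₀ hc0, one_smul]
  have hu₁q : ∀ q, u₁ * ρU q = ρU (tw q) * u₁ := fun q => by rw [hu₁, smul_mul_assoc, mul_smul_comm, hu₀q]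
  have hu₁inv : u₁ * u₁ ^ (h - 1) = 1 := by rw [← pow_succ', show h - 1 + 1 = h by omega, hu₁h]
  have hu₁inv' : u₁ ^ (h - 1) * u₁ = 1 := by rw [← pow_succ, show h - 1 + 1 = h by omega, hu₁h]
  have hu₁q' : ∀ q, u₁ ^ (h - 1) * ρU (tw q) = ρU q * u₁ ^ (h - 1) := fun q => by
    calc u₁ ^ (h - 1) * ρU (tw q) = u₁ ^ (h - 1) * (ρU (tw q) * (u₁ * u₁ ^ (h - 1))) := by rw [hu₁inv, mul_one]
      _ = u₁ ^ (h - 1) * (u₁ * ρU q) * u₁ ^ (h - 1) := by rw [hu₁q]; simp only [mul_assoc]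
      _ = _ := by rw [← mul_assoc, hu₁inv', one_mul]
  -- an embedding into `V` on which `x` is a multiple of `u₁`
  obtain ⟨π, hπ⟩ := hext (ρ.comp Q.subtype) (fun z hz => hω _ hz)
  obtain ⟨φ₁, hφ₁, hφπ⟩ := exists_intertwine π
  let H : Submodule K (U →ₗ[K] V) :=
    { carrier := {φ | ∀ (q : ↥Q) y, φ (ρU q y) = ρ (q : Γ) (φ y)}
      add_mem' := fun {f g} hf hg q y => by simp only [LinearMap.add_apply, hf q y, hg q y, map_add]
      zero_mem' := fun q y => by simp
      smul_mem' := fun a f hf q y => by simp only [LinearMap.smul_apply, hf q y, map_smul] }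
  have hφ₁H : φ₁ ∈ H := fun q y => by rw [hφπ, hπ]; rfl
  let Φ : Module.End K H :=
    { toFun := fun f => ⟨ρ x ∘ₗ f.1 ∘ₗ (u₁ ^ (h - 1)), fun q y => by
        simp only [LinearMap.comp_apply]
        obtain ⟨q', rfl⟩ : ∃ q', tw q' = q := ⟨⟨x⁻¹ * q * x, by
          have := (Subgroup.mem_normalizer_iff.mp (inv_mem hxQ) q).mp q.2
          simpa using this⟩, Subtype.ext (by show x * (x⁻¹ * q * x) * x⁻¹ = q; group)⟩
        have h1 := LinearMap.congr_fun (hu₁q' q') y
        rw [Module.End.mul_apply, Module.End.mul_apply] at h1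
        rw [h1, f.2 q', ← Module.End.mul_apply, ← Module.End.mul_apply (ρ ((tw q' : ↥Q) : Γ)), ← map_mul, ← map_mul]
        congr 2
        show x * (q' : Γ) = x * q' * x⁻¹ * x
        group⟩
      map_add' := fun f g => Subtype.ext (LinearMap.ext fun y => by simp)
      map_smul' := fun a f => Subtype.ext (LinearMap.ext fun y => by simp) }
  haveI : Nontrivial H := ⟨⟨⟨φ₁, hφ₁H⟩, 0, fun e => by
    obtain ⟨y, hy⟩ := exists_ne (0 : U)
    exact hy (hφ₁ (by rw [show φ₁ = 0 from congrArg Subtype.val e]; simp))⟩⟩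
  obtain ⟨μ, hμ⟩ := Module.End.exists_eigenvalue Φ
  obtain ⟨f, hf, hf0⟩ := hμ.exists_hasEigenvector
  have hfinj : Function.Injective (f : U →ₗ[K] V) := by
    rw [← LinearMap.ker_eq_bot]
    refine (hirr _ fun q y hy => ?_).resolve_right fun e => hf0 (Subtype.ext (LinearMap.ker_eq_top.mp e))
    rw [LinearMap.mem_ker] at hy ⊢
    rw [f.2 q y, hy, map_zero]
  have hfx : ∀ y, ρ x ((f : U →ₗ[K] V) y) = μ • (f : U →ₗ[K] V) (u₁ y) := by
    intro y
    have h1 : ρ x ((f : U →ₗ[K] V) ((u₁ ^ (h - 1)) (u₁ y))) = μ • (f : U →ₗ[K] V) (u₁ y) :=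
      LinearMap.congr_fun (congrArg Subtype.val (Module.End.mem_eigenspace_iff.mp hf)) (u₁ y)
    rwa [← Module.End.mul_apply, hu₁inv', Module.End.one_apply] at h1
  set u : Module.End K U := μ • u₁ with hu
  have hfu : ∀ (n : ℕ) y, (ρ x ^ n) ((f : U →ₗ[K] V) y) = (f : U →ₗ[K] V) ((u ^ n) y) := by
    intro n
    induction n with
    | zero => intro y; rfl
    | succ n ih =>
      intro y
      rw [pow_succ, Module.End.mul_apply, hfx, ← map_smul, pow_succ, Module.End.mul_apply]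
      exact ih _
  have huh : u ^ h = 1 := LinearMap.ext fun y => hfinj (by rw [← hfu, ← map_pow, hxh, map_one]; rfl)
  have hμ0 : μ ≠ 0 := by
    rintro rfl
    rw [hu, zero_smul, zero_pow (by omega)] at huh
    exact zero_ne_one huh
  have huq : ∀ q, u * ρU q * u ^ (h - 1) = ρU (tw q) := fun q => by
    rw [show u * ρU q = ρU (tw q) * u by rw [hu, smul_mul_assoc, mul_smul_comm, hu₁q], mul_assoc,
      ← pow_succ', show h - 1 + 1 = h by omega, huh, mul_one]
  -- the permutation of the cosets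
  let σ₀ : ↥Q ⧸ Z' →* ↥Q ⧸ Z' := QuotientGroup.map Z' Z' tw (fun z hz => by
    show tw z ∈ Z'
    exact htwZ z hz)
  have hσn : ∀ (n : ℕ) (q : ↥Q), σ₀^[n] (q : ↥Q ⧸ Z') = ((tw^[n] q : ↥Q) : ↥Q ⧸ Z') := by
    intro n
    induction n with
    | zero => intro q; rfl
    | succ n ih => intro q; rw [Function.iterate_succ_apply', Function.iterate_succ_apply', ih]; rfl
  have hσh : ∀ g, σ₀^[h] g = g := fun g => by
    obtain ⟨q, rfl⟩ := QuotientGroup.mk_surjective g
    rw [hσn, htwh]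
  let σ : Equiv.Perm (↥Q ⧸ Z') :=
    { toFun := σ₀
      invFun := σ₀^[h - 1]
      left_inv := fun g => by rw [← Function.iterate_succ_apply, show (h - 1).succ = h by omega, hσh]
      right_inv := fun g => by rw [← Function.iterate_succ_apply' σ₀, show (h - 1).succ = h by omega, hσh] }
  have hσpow : ∀ (n : ℕ) g, (σ ^ n) g = σ₀^[n] g := fun n g => by rw [Equiv.Perm.coe_pow]; rfl
  have hfree' : ∀ i, 0 < i → i < h → ∀ g, (σ ^ i) g = g → g = 1 := by
    intro i hi hih g hg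
    obtain ⟨q, rfl⟩ := QuotientGroup.mk_surjective g
    rw [hσpow, hσn, eq_comm, QuotientGroup.eq] at hg
    refine (QuotientGroup.eq_one_iff q).mpr (hfree i hi hih q q.2 ?_)
    have h4 : ((q⁻¹ * tw^[i] q : ↥Q) : Γ) ∈ Z := hg
    rwa [Subgroup.coe_mul, Subgroup.coe_inv, htwn] at h4
  have hconj : ∀ g, ∃ c : K, u * b g * u ^ (h - 1) = c • b (σ g) := by
    intro g
    obtain ⟨c', hc'⟩ := hqB (tw (r g))
    refine ⟨c', ?_⟩
    rw [hb, hb, hB, huq, hc']
    congr 2
    conv_rhs => rw [← hr g]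
    rfl
  obtain ⟨h1, h2, h3⟩ := finrank_commutant_le (1 : ↥Q ⧸ Z') σ hh (map_one σ₀)
    (Equiv.ext fun g => by rw [hσpow, hσh]; rfl)
    hfree' b u huh hconj
  have hfN : ∀ (n : ℕ) y, ((ρ x - 1) ^ n) ((f : U →ₗ[K] V) y) = (f : U →ₗ[K] V) (((u - 1) ^ n) y) := by
    intro n
    induction n with
    | zero => intro y; rfl
    | succ n ih =>
      intro y
      rw [pow_succ, Module.End.mul_apply, pow_succ, Module.End.mul_apply, ← ih]
      congr 1
      have e := hfu 1 y
      rw [pow_one, pow_one] at e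
      rw [LinearMap.sub_apply, LinearMap.sub_apply, Module.End.one_apply, Module.End.one_apply, e, map_sub]
  have hN : (u - 1) ^ s = 0 := LinearMap.ext fun y => hfinj (by rw [← hfN, hs]; simp)
  have h4 := sq_le_mul_finrank (finrank K U) (u - 1) s rfl hN
  refine ⟨finrank K U, ?_, h1 ▸ h2, ?_, fun k hk hc2 =>
    half_bound (1 : ↥Q ⧸ Z') σ (map_one σ₀) (Equiv.ext fun g => by rw [hσpow, hσh]; rfl) hfree'
      b u huh hconj hk⟩
  · rw [h1, ← Nat.card_eq_fintype_card]; rfl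
  · rw [h1]
    calc Fintype.card (↥Q ⧸ Z') * h ≤ s * finrank K ↥(commutant (u - 1)) * h := Nat.mul_le_mul_right h (h1 ▸ h4)
      _ = s * (h * finrank K ↥(commutant (u - 1))) := by ring
      _ ≤ _ := Nat.mul_le_mul_left s h3

end Cfsg.Agent.Transfer.HHB
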