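import Mathlib
import Cfsg.Agent.Lib.Grp.HHPLength
import Cfsg.Agent.Lib.Transfer.HHBModular

/-!
Theorem B of Hall and Higman, every prime.
-/

set_option autoImplicit false
set_option linter.style.haveILetI false
set_option linter.unusedSectionVars false

namespace Cfsg.Agent.Transfer.HHB

open Module Cfsg.Agent.Grp Cfsg.Agent.Grp.HHExc
open scoped commutatorElement TensorProduct

/-- The counting inequality forces `d + 1 = p ^ k`. -/
theorem arith_all {p k d : ℕ} (hp : p.Prime) (hk : k ≠ 0) (hd : 1 < d)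
    (hdvd : p ^ k ∣ d * d - 1) (hineq : d * d * p ^ k ≤ (p ^ k - 1) * (p ^ k + (d * d - 1)))
    (h2 : p = 2 → 2 * (2 ^ (k - 1) * 2 ^ (k - 1)) ≤ d * d + 1) :
    d + 1 = p ^ k ∧ ∀ r, d * d * p ^ k ≤ r * (p ^ k + (d * d - 1)) → p ^ k - 1 ≤ r := by
  by_cases hp2 : p = 2
  swap
  · exact HHExc.arith hp hp2 hk hd hdvd hineq
  subst hp2
  have h2' := h2 rfl
  obtain ⟨j, rfl⟩ : ∃ j, k = j + 1 := ⟨k - 1, by omega⟩
  rw [Nat.add_sub_cancel] at h2'
  set e := 2 ^ j with he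
  have he1 : 1 ≤ e := Nat.one_le_two_pow
  have hg : 2 ^ (j + 1) = e + e := by rw [pow_succ, he]; omega
  rw [hg] at hdvd hineq ⊢
  obtain ⟨c, rfl⟩ : ∃ c, d = c + 2 := ⟨d - 2, by omega⟩
  have hdd : (c + 2) * (c + 2) - 1 = (c + 1) * (c + 3) := by
    rw [show (c + 2) * (c + 2) = (c + 1) * (c + 3) + 1 by ring]; omega
  rw [hdd] at hdvd hineq ⊢
  obtain ⟨g, hgg⟩ : ∃ g, e + e = g + 2 := ⟨e + e - 2, by omega⟩
  rw [hgg, show g + 2 - 1 = g + 1 by omega] at hineq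
  have hle : c + 2 ≤ g + 1 := by nlinarith
  have hodd : 2 ∣ c + 1 := by
    have h1 : 2 ∣ (c + 1) * (c + 3) := dvd_trans ⟨e, by omega⟩ hdvd
    rcases (Nat.Prime.dvd_mul Nat.prime_two).mp h1 with h | h
    · exact h
    · omega
  obtain ⟨a, ha⟩ := hodd
  have h3 : e ∣ a * (2 * (a + 1)) := by
    rw [ha, show c + 3 = 2 * (a + 1) by omega, show e + e = 2 * e by omega, mul_assoc] at hdvd
    exact Nat.dvd_of_mul_dvd_mul_left (by norm_num) hdvd
  have hcase : e ∣ c + 1 ∨ e ∣ c + 3 := by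
    by_cases hA : 2 ∣ a
    · left
      have hco : Nat.Coprime e (a + 1) :=
        Nat.Coprime.pow_left _ ((Nat.Prime.coprime_iff_not_dvd Nat.prime_two).mpr (by omega))
      rw [ha]
      refine hco.dvd_of_dvd_mul_right ?_
      rwa [show 2 * a * (a + 1) = a * (2 * (a + 1)) by ring]
    · right
      have hco : Nat.Coprime e a :=
        Nat.Coprime.pow_left _ ((Nat.Prime.coprime_iff_not_dvd Nat.prime_two).mpr hA)
      rw [show c + 3 = 2 * (a + 1) by omega]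
      exact hco.dvd_of_dvd_mul_left h3
  have hfin : c + 3 = g + 2 := by
    rcases hcase with ⟨q, hq⟩ | ⟨q, hq⟩
    · have : q < 2 := by nlinarith
      have : q ≠ 0 := by rintro rfl; omega
      have : q = 1 := by omega
      subst this
      nlinarith
    · have : q ≤ 2 := by nlinarith
      have : q ≠ 0 := by rintro rfl; omega
      rcases (show q = 1 ∨ q = 2 by omega) with rfl | rfl
      · nlinarith
      · omega
  refine ⟨by omega, fun r hr => ?_⟩
  obtain rfl : g = c + 1 := by omega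
  by_contra hlt
  have : r * (e + e + (c + 1) * (c + 3)) ≤ (c + 1) * (e + e + (c + 1) * (c + 3)) :=
    Nat.mul_le_mul_right _ (by omega)
  rw [hgg] at this hr
  nlinarith

variable {K : Type*} [Field K] {V : Type*} [AddCommGroup V] [Module K V]
  {Γ : Type*} [Group Γ] [Finite Γ] {ρ : Γ →* Module.End K V}

/-- The action of `c` on `Q` modulo the radical. -/
theorem section_dichotomy_all [IsAlgClosed K] [FiniteDimensional K V] {p q : ℕ} [hp : Fact p.Prime]
    [hq : Fact q.Prime] [CharP K p] {Q Z : Subgroup Γ} (S : Setting p Q Z)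
    (hQ : IsPGroup q Q) {x : Γ} (hxQ : x ∈ Subgroup.normalizer (Q : Set Γ))
    (hxZ : x ∈ Subgroup.normalizer (Z : Set Γ)) {m : ℕ} (hx : x ^ p ^ (m + 1) = 1) {s : ℕ}
    (hs : (ρ x - 1) ^ s = 0) (hsm : s ≤ p ^ (m + 1) - 1) {ω : Γ → K} (hW : chEigen ρ Z ω ≠ ⊥) :
    x ^ p ^ m ∈ stab Q Z ω ∧
    (∀ r ∈ rad S hW, ∀ v ∈ chEigen ρ Z ω, ρ (x ^ p ^ m * r * (x ^ p ^ m)⁻¹) v = ρ r v) ∧
    ((∀ g ∈ Q, g⁻¹ * (x ^ p ^ m * g * (x ^ p ^ m)⁻¹) ∈ rad S hW) ∨
      ∃ k b : ℕ, k ≠ 0 ∧ k ≤ m + 1 ∧ b ≠ 0 ∧ p ^ k = q ^ b + 1 ∧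
        p ^ (m + 1) - p ^ (m + 1 - k) ≤ s ∧
        ∃ Q1 : Subgroup Γ, rad S hW ≤ Q1 ∧ Q1 ≤ Q ∧ 1 < (rad S hW).relIndex Q1) := by
  classical
  obtain ⟨j, hjm, hjZ, hker⟩ := orbit_bound ρ Z hxZ hx hW hs hsm
  set x' := x ^ p ^ j with hx'def
  set c := x ^ p ^ m with hcdef
  have hx'S : x' ∈ stab Q Z ω := ⟨Subgroup.pow_mem _ hxQ _, Subgroup.pow_mem _ hxZ _, hjZ⟩
  have hcx' : c = x' ^ p ^ (m - j) := by
    rw [hcdef, hx'def, ← pow_mul, ← pow_add, show j + (m - j) = m by omega]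
  have hcS : c ∈ stab Q Z ω := hcx' ▸ Subgroup.pow_mem _ hx'S _
  set R := rad S hW with hRdef
  have hRQ : R ≤ Q := fun g hg => (mem_rad.mp hg).1
  have hconjR : ∀ g ∈ stab Q Z ω, ∀ a ∈ R, g * a * g⁻¹ ∈ R := fun g hg a ha => conj_mem_rad hg ha
  have hpK : ∀ n : ℕ, ¬ p ∣ n → (n : K) ≠ 0 := fun n hn e => hn ((CharP.cast_eq_zero_iff K p n).mp e)
  have hcp : c ^ p = 1 := by rw [hcdef, ← pow_mul, ← pow_succ, hx]
  set W := chEigen ρ Z ω with hWdef
  haveI : Nontrivial W := Submodule.nontrivial_iff_ne_bot.mpr hW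
  set Γω := stab Q Z ω
  set ρW := restr (ρ := ρ) Q Z ω
  have hQS : Q ≤ Γω := setting_le_stab S ω
  have hρWsub : ∀ (n : ℕ) (v : W),
      ((((ρW ⟨x', hx'S⟩ - 1) ^ n) v : W) : V) = ((ρ x' - 1) ^ n) v := by
    intro n
    induction n with
    | zero => intro v; rfl
    | succ n ih =>
      intro v
      rw [pow_succ, Module.End.mul_apply, pow_succ, Module.End.mul_apply, ih]
      congr 1
  have hnil : ∀ r, s ≤ p ^ j * r + (p ^ j - 1) → (ρW ⟨x', hx'S⟩ - 1) ^ r = 0 := fun r hr =>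
    LinearMap.ext fun v => Subtype.ext (by rw [hρWsub]; exact hker s r hs hr v v.2)
  have hfix : ∀ r ∈ R, ∀ v ∈ W, ρ (c * r * c⁻¹) v = ρ r v := by
    set R' := R.subgroupOf Γω
    have hR'c : ∀ a ∈ R', ∀ b ∈ R', ρW a * ρW b = ρW b * ρW a := by
      intro a ha b hb
      refine LinearMap.ext fun v => Subtype.ext ?_
      rw [Module.End.mul_apply, Module.End.mul_apply, coe_restr, coe_restr, coe_restr, coe_restr]
      have hb : (b : Γ) ∈ R := hb
      have ha : (a : Γ) ∈ R := ha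
      have hc' : ⁅(a : Γ), (b : Γ)⁆ ∈ Z := S.comm _ (hRQ hb) _ (hRQ ha)
      have h2 : ρ ((a : Γ) * b) = ρ ⁅(a : Γ), (b : Γ)⁆ * ρ ((b : Γ) * a) := by
        rw [← map_mul]; congr 1; simp only [commutatorElement_def]; group
      rw [← Module.End.mul_apply, ← map_mul, h2, Module.End.mul_apply,
        (mem_chEigen ρ).mp (apply_mem_chEigen ρ (hQS (Q.mul_mem (hRQ hb) (hRQ ha))).2.1
          (hQS (Q.mul_mem (hRQ hb) (hRQ ha))).2.2 v.2) _ hc',
        (mem_rad.mp hb).2 _ (hRQ ha), one_smul, map_mul, Module.End.mul_apply]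
    have hR'card : (Nat.card R' : K) ≠ 0 := by
      refine hpK _ fun hd => S.coprime ?_
      rw [Nat.card_congr (Subgroup.subgroupOfEquivOfLe (hRQ.trans hQS)).toEquiv] at hd
      exact hd.trans (Subgroup.card_dvd_of_le hRQ)
    have hxn : (⟨x', hx'S⟩ : Γω) ∈ Subgroup.normalizer (R' : Set Γω) := by
      refine Subgroup.mem_normalizer_iff.mpr fun a => ⟨fun ha => hconjR _ hx'S _ ha, fun ha => ?_⟩
      have := hconjR _ (inv_mem hx'S) _ (show x' * (a : Γ) * x'⁻¹ ∈ R from ha)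
      show (a : Γ) ∈ R
      simpa [mul_assoc] using this
    have hxh' : (⟨x', hx'S⟩ : Γω) ^ p ^ (m - j + 1) = 1 := Subtype.ext (by
      show x' ^ p ^ (m - j + 1) = 1
      rw [hx'def, ← pow_mul, ← pow_add, show j + (m - j + 1) = m + 1 by omega, hx])
    intro r hr v hv
    have htop := iSup_chEigen_eq_top ρW R' hR'c hR'card
    suffices h : ρW ⟨c * r * c⁻¹, mul_mem (mul_mem hcS (hQS (hRQ hr))) (inv_mem hcS)⟩ =
        ρW ⟨r, hQS (hRQ hr)⟩ from congrArg Subtype.val (LinearMap.congr_fun h ⟨v, hv⟩)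
    rw [← LinearMap.eqLocus_eq_top, eq_top_iff, ← htop]
    refine iSup_le fun χ => ?_
    rcases eq_or_ne (chEigen ρW R' χ) ⊥ with hb | hb
    · rw [hb]; exact bot_le
    intro u hu
    have hple : 1 ≤ p ^ j := pow_pos hp.out.pos j
    have hpm : p ^ j * p ^ (m - j + 1) = p ^ (m + 1) := by
      rw [← pow_add, show j + (m - j + 1) = m + 1 by omega]
    obtain ⟨i, him, hi, -⟩ := orbit_bound ρW R' hxn hxh' hb (s := p ^ (m - j + 1) - 1) (hnil _ (by
      rw [Nat.mul_sub_one, hpm]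
      have : p ^ j ≤ p ^ (m + 1) := Nat.pow_le_pow_right hp.out.pos (by omega)
      omega)) le_rfl
    set y : Γω := (⟨x', hx'S⟩ : Γω) ^ p ^ (m - j) with hy
    have hyc : (y : Γ) = c := by
      rw [hy, SubmonoidClass.coe_pow, hcx']
    have hyfix : ∀ a ∈ R', χ (y * a * y⁻¹) = χ a := by
      have key : ∀ t : ℕ, ∀ a ∈ R', χ (((⟨x', hx'S⟩ : Γω) ^ p ^ i) ^ t * a * (((⟨x', hx'S⟩ : Γω) ^ p ^ i) ^ t)⁻¹) = χ a := by
        intro t
        induction t with
        | zero => intro a _; simp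
        | succ t ih =>
          intro a ha
          rw [← ih a ha, ← hi (((⟨x', hx'S⟩ : Γω) ^ p ^ i) ^ t * a * (((⟨x', hx'S⟩ : Γω) ^ p ^ i) ^ t)⁻¹)
            ((Subgroup.mem_normalizer_iff.mp (Subgroup.pow_mem _ (Subgroup.pow_mem _ hxn _) t) a).mp ha)]
          congr 1
          rw [pow_succ']; group
      intro a ha
      rw [hy, show p ^ (m - j) = p ^ i * p ^ (m - j - i) by rw [← pow_add]; congr 1; omega, pow_mul]
      exact key _ a ha
    have ha : (⟨r, hQS (hRQ hr)⟩ : Γω) ∈ R' := hr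
    have hb' : (⟨c * r * c⁻¹, mul_mem (mul_mem hcS (hQS (hRQ hr))) (inv_mem hcS)⟩ : Γω) ∈ R' :=
      hconjR _ hcS _ hr
    show ρW _ u = ρW _ u
    rw [(mem_chEigen ρW).mp hu _ hb', (mem_chEigen ρW).mp hu _ ha, ← hyfix _ ha]
    congr 2
    exact Subtype.ext (by simp [hyc])
  refine ⟨hcS, hfix, ?_⟩
  -- the quotient by the radical
  set Rq := R.subgroupOf Q
  haveI hRqn : Rq.Normal := ⟨fun a ha g => hconjR _ (hQS g.2) _ ha⟩
  have hcommRq : ∀ a b : Q, ((a : Q ⧸ Rq) : Q ⧸ Rq) * b = (b : Q ⧸ Rq) * a := by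
    intro a b
    rw [← QuotientGroup.mk_mul, ← QuotientGroup.mk_mul, QuotientGroup.eq]
    show (((a * b)⁻¹ * (b * a) : Q) : Γ) ∈ rad S hW
    refine mem_rad.mpr ⟨((a * b)⁻¹ * (b * a)).2, fun t ht => ?_⟩
    have hz : ((a : Γ) * b)⁻¹ * ((b : Γ) * a) ∈ Z := by
      have := S.comm _ (Q.inv_mem a.2) _ (Q.inv_mem b.2)
      rwa [show ⁅(b : Γ)⁻¹, (a : Γ)⁻¹⁆ = ((a : Γ) * b)⁻¹ * ((b : Γ) * a) by
        simp only [commutatorElement_def]; group] at this
    have h1 : t * (((a * b)⁻¹ * (b * a) : Q) : Γ) = (((a * b)⁻¹ * (b * a) : Q) : Γ) * t :=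
      S.central _ hz t ht
    rw [commutatorElement_eq_one_iff_mul_comm.mpr h1]
    exact (ch_mul ρ hW).1
  letI : CommGroup (Q ⧸ Rq) := { (inferInstance : Group (Q ⧸ Rq)) with
    mul_comm := fun a b => by
      obtain ⟨a, rfl⟩ := QuotientGroup.mk_surjective a
      obtain ⟨b, rfl⟩ := QuotientGroup.mk_surjective b
      exact hcommRq a b }
  let cQ : Q →* Q :=
    { toFun := fun a => ⟨c * a * c⁻¹, (Subgroup.mem_normalizer_iff.mp hcS.1 a).mp a.2⟩
      map_one' := Subtype.ext (by simp)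
      map_mul' := fun a b => Subtype.ext (by simp [mul_assoc]) }
  let φ : Q ⧸ Rq →* Q ⧸ Rq := QuotientGroup.map Rq Rq cQ (fun a ha => hconjR _ hcS _ ha)
  have hφ : ∀ a : Q, φ a = (cQ a : Q) := fun a => rfl
  have hφn : ∀ (n : ℕ) (a : Q), ∃ h, (φ^[n]) a = ((⟨c ^ n * a * (c ^ n)⁻¹, h⟩ : Q) : Q ⧸ Rq) := by
    intro n
    induction n with
    | zero => intro a; exact ⟨by simp, by simp⟩
    | succ n ih =>
      intro a
      obtain ⟨h, e⟩ := ih a
      refine ⟨(Subgroup.mem_normalizer_iff.mp (Subgroup.pow_mem _ hcS.1 _) a).mp a.2, ?_⟩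
      rw [Function.iterate_succ_apply', e, hφ]
      congr 1
      apply Subtype.ext
      show c * (c ^ n * a * (c ^ n)⁻¹) * c⁻¹ = c ^ (n + 1) * a * (c ^ (n + 1))⁻¹
      rw [pow_succ']; group
  have hφp : ∀ u, φ^[p] u = u := by
    intro u
    obtain ⟨a, rfl⟩ := QuotientGroup.mk_surjective u
    obtain ⟨h, e⟩ := hφn p a
    rw [e]; congr 1; exact Subtype.ext (by simp [hcp])
  let f : Q ⧸ Rq →* Q ⧸ Rq := φ / MonoidHom.id _
  have hf : ∀ u, f u = φ u / u := fun u => rfl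
  let N : Q ⧸ Rq → Q ⧸ Rq := fun u => ∏ i ∈ Finset.range p, φ^[i] u
  have hNφ : ∀ u, N (φ u) = N u := by
    intro u
    have h1 : (∏ i ∈ Finset.range p, φ^[i] (φ u)) * φ^[0] u = (∏ i ∈ Finset.range p, φ^[i] u) * φ^[p] u := by
      rw [← Finset.prod_range_succ (fun i => φ^[i] u) p, Finset.prod_range_succ']
      congr 1
    rw [hφp] at h1
    exact mul_right_cancel h1
  have hNf : ∀ u, N (f u) = 1 := fun u => by
    have : ∀ i, φ^[i] (φ u / u) = φ^[i] (φ u) / φ^[i] u := by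
      intro i
      induction i with
      | zero => rfl
      | succ i ih => rw [Function.iterate_succ_apply', Function.iterate_succ_apply', Function.iterate_succ_apply', ih, map_div]
    show ∏ i ∈ Finset.range p, φ^[i] (f u) = 1
    simp only [hf, this, Finset.prod_div_distrib]
    exact div_eq_one.mpr (hNφ u)
  have hcopQ : (Nat.card (Q ⧸ Rq)).Coprime p := by
    refine ((hp.out.coprime_iff_not_dvd.mpr fun hd => S.coprime ?_)).symm
    exact hd.trans Rq.card_quotient_dvd_card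
  -- the commutator part
  let Q1 : Subgroup Γ :=
    (f.range.comap (QuotientGroup.mk' Rq)).map Q.subtype
  have hQ1Q : Q1 ≤ Q := Subgroup.map_subtype_le _
  have hRQ1 : R ≤ Q1 := fun r hr => ⟨⟨r, hRQ hr⟩,
    show QuotientGroup.mk' Rq ⟨r, hRQ hr⟩ ∈ f.range by
      rw [show QuotientGroup.mk' Rq ⟨r, hRQ hr⟩ = 1 from (QuotientGroup.eq_one_iff _).mpr hr]
      exact f.range.one_mem, rfl⟩
  have hQ1mem : ∀ g : Q, (g : Γ) ∈ Q1 ↔ (g : Q ⧸ Rq) ∈ f.range := fun g =>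
    ⟨fun ⟨a, ha, e⟩ => by rw [← Subtype.ext e]; exact ha, fun h => ⟨g, h, rfl⟩⟩
  have hQ1c : ∀ g ∈ Q, g⁻¹ * (c * g * c⁻¹) ∈ Q1 := by
    intro g hg
    refine (hQ1mem ((⟨g, hg⟩ : Q)⁻¹ * cQ ⟨g, hg⟩)).mpr ⟨((⟨g, hg⟩ : Q) : Q ⧸ Rq), ?_⟩
    rw [hf, hφ, div_eq_inv_mul]; rfl
  -- fixed points in the commutator part are trivial
  have hfpf : ∀ g ∈ Q1, g⁻¹ * (c * g * c⁻¹) ∈ R → g ∈ R := by
    intro g hg hgc
    have hgQ := hQ1Q hg
    set u : Q ⧸ Rq := ((⟨g, hgQ⟩ : Q) : Q ⧸ Rq) with hu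
    have hφu : φ u = u := by
      rw [hu, hφ, eq_comm, QuotientGroup.eq]
      exact hgc
    obtain ⟨w, hw⟩ := (hQ1mem ⟨g, hgQ⟩).mp hg
    have h1 : N u = u ^ p := by
      have : ∀ i, φ^[i] u = u := fun i => Function.IsFixedPt.iterate hφu i
      show ∏ i ∈ Finset.range p, φ^[i] u = u ^ p
      simp [this]
    rw [show N u = 1 by rw [show u = f w from hw.symm]; exact hNf w] at h1
    have h2 : orderOf u ∣ Nat.gcd (Nat.card (Q ⧸ Rq)) p :=
      Nat.dvd_gcd (orderOf_dvd_natCard u) (orderOf_dvd_of_pow_eq_one h1.symm)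
    rw [hcopQ.gcd_eq_one, Nat.dvd_one, orderOf_eq_one_iff] at h2
    rw [hu] at h2
    exact (QuotientGroup.eq_one_iff (⟨g, hgQ⟩ : Q)).mp h2
  by_cases hQ1R : Q1 = R
  · exact Or.inl fun g hg => hQ1R ▸ hQ1c g hg
  refine Or.inr ?_
  -- the form is non-degenerate on the commutator part
  have hnd : ∀ g ∈ Q1, g ∉ R → ∃ t ∈ Q1, ω ⁅t, g⁆ ≠ 1 := by
    intro g hg hgR
    by_contra hcon
    push Not at hcon
    apply hgR
    have hgQ := hQ1Q hg
    -- the pairing with `g` is a character of `Q ⧸ Rq`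
    let β : Q →* K :=
      { toFun := fun t => ω ⁅(t : Γ), g⁆
        map_one' := by rw [Subgroup.coe_one, commutatorElement_one_left, (ch_mul ρ hW).1]
        map_mul' := fun a b => by
          have h := S.central _ (S.comm g hgQ _ b.2) (a : Γ) a.2
          rw [show ⁅((a * b : Q) : Γ), g⁆ = (a : Γ) * ⁅(b : Γ), g⁆ * (a : Γ)⁻¹ * ⁅(a : Γ), g⁆ by
              simp only [Subgroup.coe_mul, commutatorElement_def]; group, h, mul_inv_cancel_right,
            (ch_mul ρ hW).2 _ (S.comm g hgQ _ b.2) _ (S.comm g hgQ _ a.2), mul_comm] }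
    have hβR : Rq ≤ β.ker := by
      intro a ha
      rw [MonoidHom.mem_ker]
      show ω ⁅(a : Γ), g⁆ = 1
      have h1 := (mem_rad.mp (show (a : Γ) ∈ R from ha)).2 g hgQ
      have h2 := ch_inv ρ hW (S.comm (a : Γ) a.2 g hgQ)
      rw [commutatorElement_inv, h1, one_mul] at h2
      exact h2
    let βb : Q ⧸ Rq →* K := QuotientGroup.lift Rq β hβR
    have hker : ∀ w ∈ f.range, βb w = 1 := by
      intro w hw
      obtain ⟨a, rfl⟩ := QuotientGroup.mk_surjective w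
      exact hcon a ((hQ1mem a).mpr hw)
    refine mem_rad.mpr ⟨hgQ, fun t ht => ?_⟩
    set u : Q ⧸ Rq := ((⟨t, ht⟩ : Q) : Q ⧸ Rq) with hu
    have h1 : ∀ i, βb (φ^[i] u) = βb u := by
      intro i
      induction i with
      | zero => rfl
      | succ i ih =>
        rw [Function.iterate_succ_apply', ← ih]
        have := hker (f (φ^[i] u)) ⟨_, rfl⟩
        rw [hf, div_eq_inv_mul, map_mul] at this
        have h3 : βb (φ^[i] u) * βb (φ^[i] u)⁻¹ = 1 := by rw [← map_mul, mul_inv_cancel, map_one]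
        calc βb (φ (φ^[i] u)) = (βb (φ^[i] u) * βb (φ^[i] u)⁻¹) * βb (φ (φ^[i] u)) := by rw [h3, one_mul]
          _ = βb (φ^[i] u) := by rw [mul_assoc, this, mul_one]
    -- the pairing kills fixed points of `c`
    have h2 : βb (N u) = 1 := by
      obtain ⟨a, ha⟩ := QuotientGroup.mk_surjective (N u)
      rw [← ha]
      show ω ⁅(a : Γ), g⁆ = 1
      have hfa : φ (a : Q ⧸ Rq) = a := by
        rw [ha, map_prod]
        refine Eq.trans (Finset.prod_congr rfl fun i _ => ?_) (hNφ u)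
        exact (Function.iterate_succ_apply' φ i u).symm.trans (Function.iterate_succ_apply φ i u)
      obtain ⟨w, hw⟩ := (hQ1mem ⟨g, hgQ⟩).mp hg
      obtain ⟨e, rfl⟩ := QuotientGroup.mk_surjective w
      -- `ω ⁅a, -⁆` is invariant under `c`
      let γ : Q →* K :=
        { toFun := fun t => ω ⁅(a : Γ), (t : Γ)⁆
          map_one' := by rw [Subgroup.coe_one, commutatorElement_one_right, (ch_mul ρ hW).1]
          map_mul' := fun s t => by
            rw [Subgroup.coe_mul, comm_mul S a.2 s.2 t.2, (ch_mul ρ hW).2 _ (S.comm _ s.2 _ a.2) _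
              (S.comm _ t.2 _ a.2)] }
      have hγR : Rq ≤ γ.ker := fun r hr => MonoidHom.mem_ker.mpr ((mem_rad.mp (show (r : Γ) ∈ R from hr)).2 _ a.2)
      let γb : Q ⧸ Rq →* K := QuotientGroup.lift Rq γ hγR
      show γb ((⟨g, hgQ⟩ : Q) : Q ⧸ Rq) = 1
      rw [← hw, hf, div_eq_inv_mul, map_mul, hφ]
      have hinv : γb (cQ e : Q) = γb (e : Q ⧸ Rq) := by
        show ω ⁅(a : Γ), c * (e : Γ) * c⁻¹⁆ = ω ⁅(a : Γ), (e : Γ)⁆
        have hd : (cQ a)⁻¹ * a ∈ Rq := by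
          rw [hφ] at hfa; exact QuotientGroup.eq.mp hfa
        have hr : (⁅((cQ a)⁻¹ * a : Q), cQ e⁆ : Q) = (⁅((cQ a)⁻¹ * a : Q), cQ e⁆ : Q) := rfl
        have h5 := (mem_rad.mp (show (((cQ a)⁻¹ * a : Q) : Γ) ∈ R from hd)).2 _ (cQ e).2
        set d : Γ := (((cQ a)⁻¹ * a : Q) : Γ) with hdd
        have hdQ : d ∈ Q := ((cQ a)⁻¹ * a).2
        have h6 := ch_inv ρ hW (S.comm d hdQ _ (cQ e).2)
        rw [commutatorElement_inv, h5, one_mul] at h6
        have e1 : (a : Γ) = (cQ a : Γ) * d := by rw [hdd]; simp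
        have hz := S.central _ (S.comm (cQ e : Γ) (cQ e).2 d hdQ) (cQ a : Γ) (cQ a).2
        calc ω ⁅(a : Γ), c * (e : Γ) * c⁻¹⁆
            = ω ((cQ a : Γ) * ⁅d, (cQ e : Γ)⁆ * (cQ a : Γ)⁻¹ * ⁅(cQ a : Γ), (cQ e : Γ)⁆) := by
              rw [e1]; congr 1
              show ⁅(cQ a : Γ) * d, (cQ e : Γ)⁆ = _
              simp only [commutatorElement_def]; group
          _ = ω ⁅(cQ a : Γ), (cQ e : Γ)⁆ := by
              rw [hz, mul_inv_cancel_right, (ch_mul ρ hW).2 _ (S.comm _ (cQ e).2 _ hdQ) _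
                (S.comm _ (cQ e).2 _ (cQ a).2), h6, one_mul]
          _ = _ := by
              show ω ⁅c * (a : Γ) * c⁻¹, c * (e : Γ) * c⁻¹⁆ = _
              rw [show ⁅c * (a : Γ) * c⁻¹, c * (e : Γ) * c⁻¹⁆ = c * ⁅(a : Γ), (e : Γ)⁆ * c⁻¹ by
                simp only [commutatorElement_def]; group]
              exact hcS.2.2 _ (S.comm _ e.2 _ a.2)
      rw [hinv, ← map_mul, inv_mul_cancel, map_one]
    have h3 : βb u ^ p = 1 := by
      have : βb (N u) = βb u ^ p := by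
        show βb (∏ i ∈ Finset.range p, φ^[i] u) = _
        simp [map_prod, h1]
      rw [← this, h2]
    have h4 : (βb u - 1) ^ p = 0 := by rw [sub_pow_char, h3, one_pow, sub_self]
    exact sub_eq_zero.mp (eq_zero_of_pow_eq_zero h4)
  -- the counting theorem
  set h := p ^ (m - j + 1) with hh
  have hh2 : 2 ≤ h := le_trans hp.out.two_le (Nat.le_self_pow (by omega) p)
  have hpm : p ^ j * h = p ^ (m + 1) := by
    rw [hh, ← pow_add, show j + (m - j + 1) = m + 1 by omega]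
  have hQ1S : Q1 ≤ Γω := hQ1Q.trans hQS
  have hx'Q1 : ∀ g ∈ Q1, x' * g * x'⁻¹ ∈ Q1 := by
    intro g hg
    obtain ⟨w, hw⟩ := (hQ1mem ⟨g, hQ1Q hg⟩).mp hg
    obtain ⟨e, rfl⟩ := QuotientGroup.mk_surjective w
    rw [hf, hφ, div_eq_inv_mul, ← QuotientGroup.mk_inv, ← QuotientGroup.mk_mul, QuotientGroup.eq] at hw
    have h1 : x' * (((e⁻¹ * cQ e)⁻¹ * ⟨g, hQ1Q hg⟩ : Q) : Γ) * x'⁻¹ ∈ R := hconjR _ hx'S _ hw
    have he' : x' * (e : Γ) * x'⁻¹ ∈ Q := (Subgroup.mem_normalizer_iff.mp hx'S.1 _).mp e.2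
    have h2 := hQ1c _ he'
    have hxc : Commute x' c := by rw [hx'def, hcdef]; exact Commute.pow_pow_self x _ _
    have e2 : (x' * (e : Γ) * x'⁻¹)⁻¹ * (c * (x' * (e : Γ) * x'⁻¹) * c⁻¹) =
        x' * ((e⁻¹ * cQ e : Q) : Γ) * x'⁻¹ := by
      show _ = x' * ((e : Γ)⁻¹ * (c * (e : Γ) * c⁻¹)) * x'⁻¹
      have h3 := hxc.eq
      have h4 := hxc.inv_left.inv_right.eq
      calc _ = x' * (e : Γ)⁻¹ * x'⁻¹ * ((c * x') * (e : Γ) * (x'⁻¹ * c⁻¹)) := by group
        _ = x' * (e : Γ)⁻¹ * x'⁻¹ * ((x' * c) * (e : Γ) * (c⁻¹ * x'⁻¹)) := by rw [h3, h4]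
        _ = _ := by group
    rw [e2] at h2
    have h3 := Q1.mul_mem h2 (hRQ1 h1)
    convert h3 using 1
    simp [mul_assoc]
  have hZR : Z ≤ R := fun z hz => mem_rad.mpr ⟨S.le hz, fun t ht => by
    rw [commutatorElement_eq_one_iff_mul_comm.mpr (S.central z hz t ht)]; exact (ch_mul ρ hW).1⟩
  -- characters of the radical
  set R' := R.subgroupOf Γω
  set Q1' := Q1.subgroupOf Γω
  set X : Γω := ⟨x', hx'S⟩
  have htop : ⨆ χ : Γω → K, chEigen ρW R' χ = ⊤ := by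
    refine iSup_chEigen_eq_top ρW R' (fun a ha b hb => ?_) ?_
    · refine LinearMap.ext fun v => Subtype.ext ?_
      rw [Module.End.mul_apply, Module.End.mul_apply, coe_restr, coe_restr, coe_restr, coe_restr]
      have hb : (b : Γ) ∈ R := hb
      have ha : (a : Γ) ∈ R := ha
      have hc' : ⁅(a : Γ), (b : Γ)⁆ ∈ Z := S.comm _ (hRQ hb) _ (hRQ ha)
      have h2 : ρ ((a : Γ) * b) = ρ ⁅(a : Γ), (b : Γ)⁆ * ρ ((b : Γ) * a) := by
        rw [← map_mul]; congr 1; simp only [commutatorElement_def]; group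
      rw [← Module.End.mul_apply, ← map_mul, h2, Module.End.mul_apply,
        (mem_chEigen ρ).mp (apply_mem_chEigen ρ (hQS (Q.mul_mem (hRQ hb) (hRQ ha))).2.1
          (hQS (Q.mul_mem (hRQ hb) (hRQ ha))).2.2 v.2) _ hc',
        (mem_rad.mp hb).2 _ (hRQ ha), one_smul, map_mul, Module.End.mul_apply]
    · refine hpK _ fun hd => S.coprime ?_
      rw [Nat.card_congr (Subgroup.subgroupOfEquivOfLe (hRQ.trans hQS)).toEquiv] at hd
      exact hd.trans (Subgroup.card_dvd_of_le hRQ)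
  obtain ⟨χ, hχ⟩ : ∃ χ : Γω → K, chEigen ρW R' χ ≠ ⊥ := by
    by_contra hcon
    push Not at hcon
    exact bot_ne_top (α := Submodule K W) (by rw [← htop]; simp [hcon])
  have hXn : X ∈ Subgroup.normalizer (R' : Set Γω) := by
    refine Subgroup.mem_normalizer_iff.mpr fun a => ⟨fun ha => hconjR _ hx'S _ ha, fun ha => ?_⟩
    have := hconjR _ (inv_mem hx'S) _ (show x' * (a : Γ) * x'⁻¹ ∈ R from ha)
    show (a : Γ) ∈ R
    simpa [mul_assoc] using this
  have hXh : X ^ p ^ (m - j + 1) = 1 := Subtype.ext (by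
    show x' ^ p ^ (m - j + 1) = 1
    rw [hx'def, ← pow_mul, ← pow_add, show j + (m - j + 1) = m + 1 by omega, hx])
  obtain ⟨i, him, hi, hiker⟩ := orbit_bound ρW R' hXn hXh hχ (s := h - 1) (hnil _ (by
    rw [Nat.mul_sub_one, hpm]
    have : p ^ j ≤ p ^ (m + 1) := Nat.pow_le_pow_right hp.out.pos (by omega)
    have := pow_pos hp.out.pos j
    omega)) le_rfl
  set k := m - j - i + 1 with hk
  have hji : m + 1 - k = j + i := by omega
  have hkm : k ≤ m + 1 := by omega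
  have hk0 : k ≠ 0 := by omega
  have hpk : p ^ i * p ^ k = h := by rw [hh, ← pow_add]; congr 1; omega
  -- `χ` extends `ω`
  obtain ⟨u0, hu0, hu01⟩ := (Submodule.ne_bot_iff _).mp hχ
  have hχZ : ∀ z : Γω, (z : Γ) ∈ Z → χ z = ω (z : Γ) := fun z hz => by
    have h1 := congrArg Subtype.val ((mem_chEigen ρW).mp hu0 z (hZR hz))
    rw [coe_restr, (mem_chEigen ρ).mp u0.2 _ hz] at h1
    exact (smul_left_injective K (fun e => hu01 (Subtype.ext e) : (u0 : V) ≠ 0) h1).symm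
  have hQ1'S : Q1' ≤ stab Q1' R' χ := by
    intro g hg
    have hgR : ∀ r ∈ R', g * r * g⁻¹ ∈ R' := fun r hr => hconjR _ (hQS (hQ1Q hg)) _ hr
    refine mem_stab.mpr ⟨Subgroup.le_normalizer hg, Subgroup.mem_normalizer_iff.mpr fun r => ⟨hgR r, fun hr => ?_⟩, fun r hr => ?_⟩
    · have := hconjR _ (hQS (Q.inv_mem (hQ1Q hg))) _ (show (g : Γ) * r * (g : Γ)⁻¹ ∈ R from hr)
      show (r : Γ) ∈ R
      simpa [mul_assoc] using this
    · have hr0 : (r : Γ) ∈ R := hr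
      have hg0 : (g : Γ) ∈ Q1 := hg
      have hw1 : ω ⁅(g : Γ), (r : Γ)⁆ = 1 := (mem_rad.mp hr0).2 _ (hQ1Q hg0)
      have hz : (⁅g, r⁆ : Γω).1 ∈ Z := S.comm _ (hRQ hr) _ (hQ1Q hg)
      rw [show g * r * g⁻¹ = ⁅g, r⁆ * r by simp only [commutatorElement_def]; group,
        (ch_mul ρW hχ).2 _ (show ⁅g, r⁆ ∈ R' from hZR hz) _ hr, hχZ _ hz,
        show ((⁅g, r⁆ : Γω) : Γ) = ⁅(g : Γ), (r : Γ)⁆ from rfl, hw1, one_mul]
  have hXQ1 : X ∈ Subgroup.normalizer (Q1' : Set Γω) := by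
    have hmap : Q1.map (MulAut.conj x').toMonoidHom = Q1 := by
      refine Subgroup.eq_of_le_of_card_ge ?_ (Subgroup.card_map_of_injective (MulAut.conj x').injective).ge
      rintro _ ⟨g, hg, rfl⟩
      exact hx'Q1 g hg
    refine Subgroup.mem_normalizer_iff.mpr fun g => ⟨fun hg => hx'Q1 _ hg, fun hg => ?_⟩
    have hg' : x' * (g : Γ) * x'⁻¹ ∈ Q1 := hg
    rw [← hmap] at hg'
    obtain ⟨g', hg'', e⟩ := hg'
    rw [MulEquiv.coe_toMonoidHom, MulAut.conj_apply] at e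
    show (g : Γ) ∈ Q1
    rwa [show (g : Γ) = g' by simpa using e.symm]
  set Γ2 := stab Q1' R' χ with hΓ2
  set ρ2 := restr (ρ := ρW) Q1' R' χ with hρ2
  set y : Γ2 := ⟨X ^ p ^ i, mem_stab.mpr ⟨Subgroup.pow_mem _ hXQ1 _, Subgroup.pow_mem _ hXn _, hi⟩⟩ with hy
  have hyh : y ^ p ^ k = 1 := Subtype.ext (by
    show (X ^ p ^ i) ^ p ^ k = 1
    rw [← pow_mul, hpk, hh, hXh])
  haveI : Nontrivial ↥(chEigen ρW R' χ) := Submodule.nontrivial_iff_ne_bot.mpr hχ
  have hnorm2 : ∀ (A : Subgroup Γω), X ∈ Subgroup.normalizer (A : Set Γω) →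
      y ∈ Subgroup.normalizer ((A.subgroupOf Γ2 : Subgroup Γ2) : Set Γ2) := fun A hA =>
    Subgroup.mem_normalizer_iff.mpr fun g =>
      Subgroup.mem_normalizer_iff.mp (Subgroup.pow_mem _ hA (p ^ i)) (g : Γω)
  have hρ2sub : ∀ (n : ℕ) (v : ↥(chEigen ρW R' χ)),
      ((((ρ2 y - 1) ^ n) v : ↥(chEigen ρW R' χ)) : W) = ((ρW (X ^ p ^ i) - 1) ^ n) v := by
    intro n
    induction n with
    | zero => intro v; rfl
    | succ n ih =>
      intro v
      rw [pow_succ, Module.End.mul_apply, pow_succ, Module.End.mul_apply, ih]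
      congr 1
  have hnil2 : ∀ s' r, (ρW X - 1) ^ s' = 0 → s' ≤ p ^ i * r + (p ^ i - 1) → (ρ2 y - 1) ^ r = 0 :=
    fun s' r hs' hr => LinearMap.ext fun v => Subtype.ext (by
      rw [hρ2sub]; exact hiker s' r hs' hr v v.2)
  have hfree2 : ∀ t, 0 < t → t < p ^ k → ∀ g ∈ Q1'.subgroupOf Γ2,
      g⁻¹ * (y ^ t * g * (y ^ t)⁻¹) ∈ R'.subgroupOf Γ2 → g ∈ R'.subgroupOf Γ2 := by
    intro t ht htk g hg hgt
    refine hfpf _ hg ?_
    -- `c` is a power of `y ^ t`
    set z : Γ := ((((y ^ t : Γ2)) : Γω) : Γ) with hz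
    obtain ⟨a, u, hu, e⟩ := Nat.exists_eq_pow_mul_and_not_dvd ht.ne' p hp.out.ne_one
    have hak : a < k := by
      by_contra hak
      have h1 : p ^ k ≤ p ^ a := Nat.pow_le_pow_right hp.out.pos (not_lt.mp hak)
      have h2 : p ^ a ≤ p ^ a * u := Nat.le_mul_of_pos_right _ (Nat.pos_of_ne_zero fun e0 => hu (e0 ▸ dvd_zero p))
      omega
    have hz1 : z = (x' ^ (p ^ i * p ^ a)) ^ u := by
      rw [hz, e]
      simp [hy, X, ← pow_mul, mul_assoc]
    have hord : orderOf (x' ^ (p ^ i * p ^ a)) ∣ p ^ k := by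
      refine orderOf_dvd_of_pow_eq_one ?_
      rw [← pow_mul, show p ^ i * p ^ a * p ^ k = h * p ^ a by rw [← hpk]; ring, pow_mul,
        show x' ^ h = 1 from congrArg Subtype.val hXh, one_pow]
    obtain ⟨n, hn⟩ : ∃ n : ℕ, z ^ n = x' ^ (p ^ i * p ^ a) := by
      rw [hz1]
      exact exists_pow_eq_self_of_coprime ((((hp.out.coprime_iff_not_dvd.mpr hu).symm.pow_right k)).coprime_dvd_right hord)
    have hc : c = z ^ (n * p ^ (k - 1 - a)) := by
      rw [pow_mul, hn, ← pow_mul, hcx']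
      congr 1
      rw [← pow_add, ← pow_add]; congr 1; omega
    have hzS : z ∈ Γω := ((y ^ t : Γ2) : Γω).2
    have hpow : ∀ N : ℕ, (g : Γω).1⁻¹ * (z ^ N * (g : Γω).1 * (z ^ N)⁻¹) ∈ R := by
      intro N
      induction N with
      | zero => simp
      | succ N ih =>
        have h1 : (g : Γω).1⁻¹ * (z * (g : Γω).1 * z⁻¹) ∈ R := hgt
        have h2 := R.mul_mem h1 (hconjR _ hzS _ ih)
        rw [pow_succ']
        convert h2 using 1
        group
    rw [hc]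
    exact hpow _
  have hcount : ∀ r, (ρ2 y - 1) ^ r = 0 → ∃ d : ℕ, d * d = R.relIndex Q1 ∧ p ^ k ∣ d * d - 1 ∧
      d * d * p ^ k ≤ r * (p ^ k + (d * d - 1)) ∧
      ∀ k', p ^ k = 2 ^ (k' + 1) → CharP K 2 → d ≤ 1 ∨ 2 * (2 ^ k' * 2 ^ k') ≤ d * d + 1 := by
    intro r hr
    obtain ⟨d, hd, h1, h2⟩ := hallHigman_modular_two ρ2 (Q1'.subgroupOf Γ2) (R'.subgroupOf Γ2) y
      (h := p ^ k) (le_trans hp.out.two_le (Nat.le_self_pow (by omega) p)) hyh (hnorm2 _ hXQ1) (hnorm2 _ hXn)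
      (fun g hg t ht => hZR (S.comm _ (hQ1Q hg) _ (hQ1Q ht))) (fun g => χ (g : Γω))
      (fun r hr => LinearMap.ext fun v => Subtype.ext ((mem_chEigen ρW).mp v.2 _ hr))
      (fun r hr => hi _ hr)
      (fun g hg hgR => by
        obtain ⟨t, ht, hne⟩ := hnd _ hg hgR
        refine ⟨⟨⟨t, hQ1S ht⟩, hQ1'S ht⟩, ht, ?_⟩
        rw [hχZ _ (S.comm _ (hQ1Q hg) _ (hQ1Q ht))]
        exact hne)
      (fun g hg => hRQ1 hg) hfree2 hr
    refine ⟨d, ?_, h1, h2⟩
    rw [hd, Subgroup.relIndex_subgroupOf hQ1'S, Subgroup.relIndex_subgroupOf hQ1S]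
  have hpi := pow_pos hp.out.pos i
  obtain ⟨d, hd, hdvd, hineq, hhalf⟩ := hcount (p ^ k - 1) (hnil2 (h - 1) _ (hnil _ (by
    rw [Nat.mul_sub_one, hpm]
    have : p ^ j ≤ p ^ (m + 1) := Nat.pow_le_pow_right hp.out.pos (by omega)
    omega)) (by
    rw [Nat.mul_sub_one, hpk]
    have : p ^ i ≤ h := hpk ▸ Nat.le_mul_of_pos_right _ (pow_pos hp.out.pos k)
    omega))
  have hd1 : 1 < d := by
    rcases Nat.lt_or_ge 1 d with hlt | hle
    · exact hlt
    exfalso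
    interval_cases d
    · exact absurd hd.symm (Subgroup.index_ne_zero_of_finite (H := R.subgroupOf Q1))
    · exact hQ1R (le_antisymm (Subgroup.relIndex_eq_one.mp (by rw [← hd])) hRQ1)
  obtain ⟨hde, hmin⟩ : d + 1 = p ^ k ∧ ∀ r, d * d * p ^ k ≤ r * (p ^ k + (d * d - 1)) → p ^ k - 1 ≤ r :=
    arith_all hp.out (by omega) hd1 hdvd hineq (fun e => by
      subst e
      exact (hhalf (k - 1) (by rw [show k - 1 + 1 = k by omega]) inferInstance).resolve_left (by omega))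
  obtain ⟨b, hqd⟩ : ∃ b, d = q ^ b := by
    obtain ⟨e, he⟩ := IsPGroup.iff_card.mp (hQ.to_le hQ1Q)
    have h1 : d ∣ q ^ e := he ▸ (Dvd.intro _ hd).trans (Subgroup.relIndex_dvd_card R Q1)
    obtain ⟨b, -, hb⟩ := (Nat.dvd_prime_pow hq.out).mp h1
    exact ⟨b, hb⟩
  have hb0 : b ≠ 0 := fun e => by rw [e, pow_zero] at hqd; omega
  refine ⟨k, b, by omega, hkm, hb0, by rw [← hqd, hde], ?_, Q1, hRQ1, hQ1Q, ?_⟩
  · -- the degree
    by_contra hlt
    push Not at hlt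
    rw [hji] at hlt
    set r := p ^ k - 2
    have hk2le : 2 ≤ p ^ k := le_trans hp.out.two_le (Nat.le_self_pow hk0 p)
    have e1 : p ^ (m + 1) = p ^ (j + i) * p ^ k := by rw [← pow_add, ← hji, Nat.sub_add_cancel hkm]
    have e2 : p ^ j * (p ^ i * r + (p ^ i - 1)) + (p ^ j - 1) = p ^ (j + i) * r + (p ^ (j + i) - 1) := by
      rw [pow_add, Nat.mul_add, Nat.mul_sub_one, ← mul_assoc]
      have : p ^ j ≤ p ^ j * p ^ i := Nat.le_mul_of_pos_right _ hpi
      have hC := pow_pos hp.out.pos j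
      clear_value r
      generalize p ^ j * p ^ i * r = A
      generalize p ^ j * p ^ i = B at this ⊢
      generalize p ^ j = C at this hC ⊢
      omega
    have hsr : s ≤ p ^ j * (p ^ i * r + (p ^ i - 1)) + (p ^ j - 1) := by
      rw [e2]
      have e3 : p ^ (m + 1) = p ^ (j + i) * r + 2 * p ^ (j + i) := by
        rw [e1, show p ^ k = r + 2 by omega]; ring
      have := pow_pos hp.out.pos (j + i)
      omega
    obtain ⟨d', hd', -, hineq', -⟩ := hcount r (hnil2 _ r (hnil _ hsr) le_rfl)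
    have hdd : d' = d := Nat.mul_self_inj.mp (hd'.trans hd.symm)
    subst hdd
    have := hmin r hineq'
    omega
  · rw [← hd]
    exact lt_of_lt_of_le hd1 (Nat.le_mul_self d)

theorem exceptional_of_noncommute {p q : ℕ} [hp : Fact p.Prime] [hq : Fact q.Prime] [CharP K p]
    (hpq : p ≠ q) [IsAlgClosed K] [FiniteDimensional K V] {ρ : Γ →* Module.End K V} (hρ : Function.Injective ρ) {Q : Subgroup Γ}
    (hQ : IsPGroup q Q) {x : Γ} (hxQ : x ∈ Subgroup.normalizer (Q : Set Γ)) {m : ℕ}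
    (hx : x ^ p ^ (m + 1) = 1) {s : ℕ} (hs : (ρ x - 1) ^ s = 0) (hsm : s ≤ p ^ (m + 1) - 1)
    (hnc : ¬ ∀ g ∈ Q, x ^ p ^ m * g * (x ^ p ^ m)⁻¹ = g) :
    ∃ k b : ℕ, k ≠ 0 ∧ k ≤ m + 1 ∧ b ≠ 0 ∧ p ^ k = q ^ b + 1 ∧
      p ^ (m + 1) - p ^ (m + 1 - k) ≤ s ∧ ¬ IsMulCommutative Q := by
  by_contra hnon
  refine hnc ?_
  classical
  set c := x ^ p ^ m with hcdef
  set A := Subgroup.zpowers c with hA
  have hcp : c ^ p = 1 := by rw [hcdef, ← pow_mul, ← pow_succ, hx]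
  suffices hgoal : ⁅Q, A⁆ = ⊥ by
    intro g hg
    rw [Subgroup.commutator_eq_bot_iff_le_centralizer] at hgoal
    exact mul_inv_eq_iff_eq_mul.mpr (Subgroup.mem_centralizer_iff.mp (hgoal hg) c (Subgroup.mem_zpowers c))
  by_contra hnt
  obtain ⟨P0, ⟨hP0Q, hxP0, hP0nt⟩, hP0min⟩ := (Set.toFinite
    {U : Subgroup Γ | U ≤ Q ∧ x ∈ Subgroup.normalizer (U : Set Γ) ∧ ⁅U, A⁆ ≠ ⊥}).exists_minimal
      ⟨Q, le_rfl, hxQ, hnt⟩
  have hP0 : IsPGroup q P0 := hQ.to_le hP0Q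
  have hAX : A ≤ Subgroup.zpowers x := Subgroup.zpowers_le.mpr (Subgroup.pow_mem _ (Subgroup.mem_zpowers x) _)
  obtain ⟨hPA, hstruct, -, -⟩ := Cfsg.Agent.S3736.result (p := q) (Subgroup.zpowers x) A P0 hP0
    (Subgroup.zpowers_le.mpr hxP0) hAX (Subgroup.zpowers_le.mpr (Subgroup.mem_normalizer_iff.mpr fun y => by
      have hxc : Commute x c := by rw [hcdef]; exact Commute.self_pow x _
      constructor <;> intro hy
      · obtain ⟨i, rfl⟩ := Subgroup.mem_zpowers_iff.mp hy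
        rw [(hxc.zpow_right i).eq, mul_inv_cancel_right]
        exact Subgroup.zpow_mem _ (Subgroup.mem_zpowers c) i
      · obtain ⟨i, hi⟩ := Subgroup.mem_zpowers_iff.mp hy
        have : y = c ^ i := by
          rw [show y = x⁻¹ * (x * y * x⁻¹) * x by group, ← hi, mul_assoc, ← (hxc.zpow_right i).eq,
            inv_mul_cancel_left]
        rw [this]; exact Subgroup.zpow_mem _ (Subgroup.mem_zpowers c) i))
    (by
      rw [hA, Nat.card_zpowers]
      exact (((Nat.coprime_primes hp.out hq.out).mpr hpq)).coprime_dvd_left (orderOf_dvd_of_pow_eq_one hcp))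
    hP0nt (fun U hU hB => by
      by_contra h
      exact hU.not_ge (hP0min ⟨hU.le.trans hP0Q, hB (Subgroup.mem_zpowers x), h⟩ hU.le))
  -- the centre part
  obtain ⟨Z, hS, hxZ⟩ : ∃ Z : Subgroup Γ, Setting p P0 Z ∧ x ∈ Subgroup.normalizer (Z : Set Γ) := by
    have hcop : ¬ p ∣ Nat.card P0 := by
      obtain ⟨e, he⟩ := IsPGroup.iff_card.mp hP0
      rw [he]
      exact fun h => hpq ((Nat.prime_dvd_prime_iff_eq hp.out hq.out).mp (hp.out.dvd_of_dvd_pow h))
    rcases hstruct with hel | hspec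
    · refine ⟨⊥, ⟨bot_le, fun g hg t ht => ?_, fun z hz g _ => ?_, hcop⟩, ?_⟩
      · rw [Subgroup.mem_bot, commutatorElement_eq_one_iff_mul_comm]
        exact congrArg Subtype.val (hel.1.is_comm.comm ⟨t, ht⟩ ⟨g, hg⟩)
      · rw [Subgroup.mem_bot.mp hz]; simp
      · rw [Subgroup.normalizer_eq_top]; exact Subgroup.mem_top x
    · refine ⟨(Subgroup.center P0).map P0.subtype, ⟨Subgroup.map_subtype_le _, fun g hg t ht => ?_,
        fun z hz g hg => ?_, hcop⟩, ?_⟩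
      · exact ⟨⁅(⟨t, ht⟩ : P0), ⟨g, hg⟩⁆, hspec.2.2.le (Subgroup.commutator_mem_commutator
          (Subgroup.mem_top _) (Subgroup.mem_top _)), by simp [commutatorElement_def]⟩
      · obtain ⟨z', hz', rfl⟩ := hz
        exact congrArg Subtype.val (Subgroup.mem_center_iff.mp hz' ⟨g, hg⟩)
      · refine Cfsg.Agent.Grp.mem_normalizer_of_map_eq.mpr ?_
        let e : P0 ≃* P0 := ((MulAut.conj x).subgroupMap P0).trans
          (MulEquiv.subgroupCongr (Cfsg.Agent.Grp.mem_normalizer_of_map_eq.mp hxP0))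
        have he : (Subgroup.center P0).map e.toMonoidHom = Subgroup.center P0 :=
          Subgroup.characteristic_iff_map_eq.mp inferInstance e
        conv_rhs => rw [← he]
        rw [Subgroup.map_map, Subgroup.map_map]
        rfl
  have hZcard : (Nat.card Z : K) ≠ 0 := fun e =>
    hS.coprime (((CharP.cast_eq_zero_iff K p _).mp e).trans (Subgroup.card_dvd_of_le hS.le))
  have htop := iSup_chEigen_eq_top ρ Z (fun a ha b hb => by
    rw [← map_mul, ← map_mul, hS.central b hb a (hS.le ha)]) hZcard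
  refine hP0nt ?_
  rw [Subgroup.commutator_eq_bot_iff_le_centralizer]
  intro g hg
  refine Subgroup.mem_centralizer_iff.mpr fun a ha => ?_
  suffices h : c * g * c⁻¹ = g by
    have hcg : Commute c g := mul_inv_eq_iff_eq_mul.mp h
    obtain ⟨i, rfl⟩ := Subgroup.mem_zpowers_iff.mp ha
    exact (hcg.zpow_left i).eq
  apply hρ
  rw [← LinearMap.eqLocus_eq_top, eq_top_iff, ← htop]
  refine iSup_le fun ω => ?_
  rcases eq_or_ne (chEigen ρ Z ω) ⊥ with hb | hW
  · rw [hb]; exact bot_le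
  intro v hv
  obtain ⟨-, hfix, hdich⟩ := section_dichotomy_all (q := q) hS hP0 hxP0 hxZ hx hs hsm hW
  refine hfix g ?_ v hv
  -- `P0` lies in the radical
  suffices hall : ∀ t ∈ P0, t⁻¹ * (c * t * c⁻¹) ∈ rad hS hW by
    have hle : ⁅P0, A⁆ ≤ rad hS hW := by
      rw [Subgroup.commutator_le]
      intro t ht a ha
      have hnat : ∀ i : ℕ, ∀ t ∈ P0, t⁻¹ * (c ^ i * t * (c ^ i)⁻¹) ∈ rad hS hW := by
        intro i
        induction i with
        | zero => intro t _; simp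
        | succ i ih =>
          intro t ht
          have ht' : c ^ i * t * (c ^ i)⁻¹ ∈ P0 :=
            (Subgroup.mem_normalizer_iff.mp (Subgroup.pow_mem _ (Subgroup.pow_mem _ hxP0 _) _) t).mp ht
          have := (rad hS hW).mul_mem (ih t ht) (hall _ ht')
          convert this using 1
          rw [pow_succ']; group
      obtain ⟨i, rfl⟩ := (isOfFinOrder_of_finite c).mem_powers_iff_mem_zpowers.mpr ha
      have ht' := hnat i _ (P0.inv_mem ht)
      convert ht' using 1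
      simp only [commutatorElement_def]; group
    exact hle (hPA.symm ▸ hg)
  rcases hdich with h | ⟨k, b, hk, hkm, hb, hpk, hdeg, Q1, hR1, hQ1, hlt⟩
  · exact h
  refine absurd ⟨k, b, hk, hkm, hb, hpk, hdeg, fun hab => hlt.ne' (Subgroup.relIndex_eq_one.mpr ?_)⟩ hnon
  exact fun t ht => mem_rad.mpr ⟨hQ1 ht, fun u hu => by
    rw [commutatorElement_eq_one_iff_mul_comm.mpr
      (congrArg Subtype.val (hab.is_comm.comm ⟨u, hP0Q hu⟩ ⟨t, hP0Q (hQ1 ht)⟩)), (ch_mul ρ hW).1]⟩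

universe u

open Subgroup in
/-- An element whose minimal polynomial is too small has an exceptional section. -/
theorem exceptional_of_norm [IsAlgClosed K] [FiniteDimensional K V] {H : Type u} [Group H] [Finite H]
    {p : ℕ} [hp : Fact p.Prime] [CharP K p] (hH : Cfsg.IsPSolvable p H) (hO : Cfsg.pCore p H = ⊥)
    {ρ : H →* Module.End K V} (hρ : Function.Injective ρ) {h : H} {m : ℕ} (hx : h ^ p ^ (m + 1) = 1)
    {s : ℕ} (hs : (ρ h - 1) ^ s = 0) (hsm : s ≤ p ^ (m + 1) - 1) (hne : h ^ p ^ m ≠ 1) :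
    ∃ q k b : ℕ, q.Prime ∧ k ≠ 0 ∧ k ≤ m + 1 ∧ b ≠ 0 ∧ p ^ k = q ^ b + 1 ∧
      p ^ (m + 1) - p ^ (m + 1 - k) ≤ s ∧ ∀ S : Sylow q H, ¬ IsMulCommutative (S : Subgroup H) := by
  classical
  set C := Cfsg.pPrimeCore p H with hC
  haveI : C.Normal := pPrimeCore_isNormal
  have hcop : (Nat.card (zpowers h)).Coprime (Nat.card C) := by
    rw [Nat.card_zpowers]
    exact ((hp.out.coprime_iff_not_dvd.mpr pPrimeCore_not_dvd).pow_left (m + 1)).coprime_dvd_left
      (orderOf_dvd_of_pow_eq_one hx)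
  by_contra hnon
  refine hne ?_
  have hle : C ≤ centralizer ({h ^ p ^ m} : Set H) := by
    refine le_trans (le_of_forall_sylow (K := C) inf_le_left fun q hq => ?_) inf_le_right
    obtain ⟨X, hX, hTX⟩ := exists_invariant_sylow (zpowers h) C
      (by rw [normalizer_eq_top]; exact le_top) hcop (Or.inl inferInstance) q
    refine ⟨X, hX, le_inf hX.1 fun w hw => ?_⟩
    rw [mem_centralizer_singleton_iff]
    by_cases hqp : q = p
    · subst hqp
      obtain ⟨j, hj⟩ := hX.2.1.exists_card_eq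
      rcases j.eq_zero_or_pos with rfl | hj0
      · rw [pow_zero] at hj
        have := card_eq_one.mp hj
        rw [this, mem_bot] at hw
        simp [hw]
      · exact absurd ((hj ▸ dvd_pow_self q hj0.ne' : q ∣ Nat.card X).trans (card_dvd_of_le hX.1))
          pPrimeCore_not_dvd
    by_cases hall : ∀ g ∈ X, h ^ p ^ m * g * (h ^ p ^ m)⁻¹ = g
    · exact (mul_inv_eq_iff_eq_mul.mp (hall w hw)).symm
    obtain ⟨k, b, hk, hkm, hb, hpk, hdeg, hab⟩ := exceptional_of_noncommute (Ne.symm hqp) hρ hX.2.1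
      (hTX (mem_zpowers h)) hx hs hsm hall
    refine absurd ⟨q, k, b, Fact.out, hk, hkm, hb, hpk, hdeg, fun S hS => hab ?_⟩ hnon
    obtain ⟨S₀, hS₀⟩ := hX.2.1.exists_le_sylow
    obtain ⟨g, hg⟩ := MulAction.exists_smul_eq H S₀ S
    refine ⟨⟨fun a c => Subtype.ext ?_⟩⟩
    have hmem : ∀ y : X, g * (y : H) * g⁻¹ ∈ (S : Subgroup H) := fun y => by
      rw [← hg, Sylow.coe_subgroup_smul]
      exact ⟨y, hS₀ y.2, rfl⟩
    have h2 := congrArg Subtype.val (hS.is_comm.comm ⟨_, hmem a⟩ ⟨_, hmem c⟩)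
    simp only [Subgroup.coe_mul] at h2 ⊢
    exact (MulAut.conj g).injective (by simpa [MulAut.conj_apply, mul_assoc] using h2)
  have hK1 : h ^ p ^ m ∈ C := Block.centralizer_pPrimeCore_le hH hO (mem_centralizer_iff.mpr fun w hw =>
    mem_centralizer_singleton_iff.mp (hle hw))
  have h1 : orderOf (h ^ p ^ m) ∣ p := orderOf_dvd_of_pow_eq_one (by rw [← pow_mul, ← pow_succ, hx])
  have h2 := Nat.dvd_gcd h1 (orderOf_dvd_natCard _ hK1)
  rw [(hp.out.coprime_iff_not_dvd.mpr pPrimeCore_not_dvd : p.Coprime (Nat.card C))] at h2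
  exact orderOf_eq_one_iff.mp (Nat.dvd_one.mp h2)

end Cfsg.Agent.Transfer.HHB
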