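import Mathlib
import Cfsg.Prelude.Def_Transfer
import Cfsg.Prelude.Def_PLocal

/-!
Extraspecial groups: splitting off a pair of generators, and the classification up to isomorphism by order,
exponent (odd case) or number of solutions of `x ^ 2 = 1` (even case).
-/

set_option autoImplicit false
set_option linter.style.haveILetI false

open scoped commutatorElement

namespace Cfsg.Agent.Transfer.ExtraIso

universe u v

/-- A group with commutators and centre inside `⟨z⟩`, `z` central of order `p`. -/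
structure Ext (p : ℕ) {G : Type u} [Group G] (z : G) : Prop where
  ne_one : z ≠ 1
  pow_eq : z ^ p = 1
  central : ∀ g, z * g = g * z
  comm : ∀ a b : G, ⁅a, b⁆ ∈ Subgroup.zpowers z
  center_le : ∀ g : G, (∀ h, g * h = h * g) → g ∈ Subgroup.zpowers z

/-- Two generators with commutator `z` and `p`-th powers `z ^ α`, `z ^ β`. -/
structure Pair (p : ℕ) {G : Type u} [Group G] (z x y : G) (α β : ℤ) : Prop where
  comm : x * y = z * (y * x)
  px : x ^ p = z ^ α
  py : y ^ p = z ^ β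

variable {p : ℕ} [hp : Fact p.Prime] {G : Type u} [Group G] {z : G}

theorem Ext.zpow_eq_one (h : Ext p z) (i : ℤ) : z ^ i = 1 ↔ (p : ℤ) ∣ i := by
  rw [← orderOf_dvd_iff_zpow_eq_one, orderOf_eq_prime h.pow_eq h.ne_one]

theorem Ext.commute_zpow (h : Ext p z) (i : ℤ) (g : G) : Commute (z ^ i) g :=
  (show Commute z g from h.central g).zpow_left i

/-- Moving powers past each other. -/
theorem Ext.swap (h : Ext p z) {a b : G} {s : ℤ} (hab : a * b = z ^ s * (b * a)) (i j : ℤ) :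
    a ^ i * b ^ j = z ^ (s * i * j) * (b ^ j * a ^ i) := by
  have e1 : a * b * a⁻¹ = z ^ s * b := by rw [hab]; group
  have e2 : a * b ^ j * a⁻¹ = z ^ (s * j) * b ^ j := by
    rw [← MulAut.conj_apply, map_zpow, MulAut.conj_apply, e1, (h.commute_zpow s b).mul_zpow, ← zpow_mul]
  have e3 : b ^ j * a * (b ^ j)⁻¹ = z ^ (-(s * j)) * a := by
    have h' : b ^ j * a = z ^ (-(s * j)) * (a * b ^ j) := by
      have : a * b ^ j = z ^ (s * j) * (b ^ j * a) := by rw [← mul_assoc, ← e2]; group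
      rw [this, ← mul_assoc, ← zpow_add, neg_add_cancel, zpow_zero, one_mul]
    rw [h']; group
  have e4 : b ^ j * a ^ i * (b ^ j)⁻¹ = z ^ (-(s * i * j)) * a ^ i := by
    rw [← MulAut.conj_apply, map_zpow, MulAut.conj_apply, e3, (h.commute_zpow _ a).mul_zpow, ← zpow_mul]
    ring_nf
  have e5 : b ^ j * a ^ i = z ^ (-(s * i * j)) * (a ^ i * b ^ j) := by rw [← mul_assoc, ← e4]; group
  rw [e5, ← mul_assoc, ← zpow_add, add_neg_cancel, zpow_zero, one_mul]

section Split

variable {x y : G} {α β : ℤ}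

theorem swap_yx (h : Ext p z) (hP : Pair p z x y α β) (i j : ℤ) :
    y ^ j * x ^ i = z ^ (-(i * j)) * (x ^ i * y ^ j) := by
  rw [h.swap (a := x) (b := y) (s := 1) (by rw [zpow_one]; exact hP.comm) i j, ← mul_assoc, ← zpow_add,
    one_mul, neg_add_cancel, zpow_zero, one_mul]

/-- The centralizer of the pair. -/
abbrev cent (x y : G) : Subgroup G := Subgroup.centralizer ({x, y} : Set G)

theorem commute_left {a : G} (ha : a ∈ cent x y) : Commute a x :=
  (Subgroup.mem_centralizer_iff.1 ha x (by simp)).symm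

theorem commute_right {a : G} (ha : a ∈ cent x y) : Commute a y :=
  (Subgroup.mem_centralizer_iff.1 ha y (by simp)).symm

theorem z_mem (h : Ext p z) : z ∈ cent x y := Subgroup.mem_centralizer_iff.2 fun g _ => (h.central g).symm

theorem zpow_mem' (h : Ext p z) (i : ℤ) : z ^ i ∈ cent x y := Subgroup.zpow_mem _ (z_mem h) i

/-- The normal form. -/
def form (x y : G) (i j : ℤ) (a : G) : G := x ^ i * y ^ j * a

theorem form_mul (h : Ext p z) (hP : Pair p z x y α β) (i j k l : ℤ) {a : G} (b : G) (ha : a ∈ cent x y) :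
    form x y i j a * form x y k l b = form x y (i + k) (j + l) (z ^ (-(k * j)) * (a * b)) := by
  have hax : Commute a (x ^ k * y ^ l) :=
    ((commute_left ha).zpow_right k).mul_right ((commute_right ha).zpow_right l)
  have e : form x y i j a * form x y k l b = x ^ i * (y ^ j * x ^ k) * y ^ l * (a * b) := by
    simp only [form]
    calc x ^ i * y ^ j * a * (x ^ k * y ^ l * b) = x ^ i * y ^ j * (a * (x ^ k * y ^ l)) * b := by group
      _ = x ^ i * y ^ j * ((x ^ k * y ^ l) * a) * b := by rw [hax.eq]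
      _ = _ := by group
  rw [e, swap_yx h hP, form, zpow_add, zpow_add]
  have hz := h.commute_zpow (-(k * j))
  calc x ^ i * (z ^ (-(k * j)) * (x ^ k * y ^ j)) * y ^ l * (a * b)
      = (x ^ i * z ^ (-(k * j))) * (x ^ k * y ^ j * y ^ l) * (a * b) := by group
    _ = z ^ (-(k * j)) * (x ^ i * x ^ k * (y ^ j * y ^ l)) * (a * b) := by rw [← (hz (x ^ i)).eq]; group
    _ = (x ^ i * x ^ k * (y ^ j * y ^ l)) * z ^ (-(k * j)) * (a * b) := by rw [(hz _).eq]
    _ = _ := by group

theorem form_eq_iff (h : Ext p z) (hP : Pair p z x y α β) (i j i' j' : ℤ) {a b : G} (ha : a ∈ cent x y)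
    (hb : b ∈ cent x y) :
    form x y i j a = form x y i' j' b ↔
      ∃ u w : ℤ, i = i' + p * u ∧ j = j' + p * w ∧ z ^ (α * u + β * w) * a = b := by
  constructor
  · intro he
    have key : ∀ (i j : ℤ) (c : G), c ∈ cent x y →
        x * form x y i j c * x⁻¹ = z ^ j * form x y i j c ∧ y * form x y i j c * y⁻¹ = z ^ (-i) * form x y i j c := by
      intro i j c hc
      constructor
      · have h1 : x * form x y i j c * x⁻¹ = x ^ i * (x ^ (1 : ℤ) * y ^ j) * (x ^ (1 : ℤ))⁻¹ * c := by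
          simp only [form]
          rw [show x * (x ^ i * y ^ j * c) * x⁻¹ = x ^ i * (x * y ^ j) * (c * x⁻¹) by group,
            (commute_left hc).inv_right.eq, zpow_one]
          group
        rw [h1, h.swap (a := x) (b := y) (s := 1) (by rw [zpow_one]; exact hP.comm) 1 j, form]
        calc x ^ i * (z ^ (1 * 1 * j) * (y ^ j * x ^ (1 : ℤ))) * (x ^ (1 : ℤ))⁻¹ * c
            = (x ^ i * z ^ j) * y ^ j * c := by group
          _ = (z ^ j * x ^ i) * y ^ j * c := by rw [← (h.commute_zpow j (x ^ i)).eq]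
          _ = _ := by group
      · have h1 : y * form x y i j c * y⁻¹ = (y ^ (1 : ℤ) * x ^ i) * y ^ j * (y ^ (1 : ℤ))⁻¹ * c := by
          simp only [form]
          rw [show y * (x ^ i * y ^ j * c) * y⁻¹ = y * x ^ i * y ^ j * (c * y⁻¹) by group,
            (commute_right hc).inv_right.eq, zpow_one]
          group
        rw [h1, swap_yx h hP, form, mul_one]
        group
    obtain ⟨k1, k2⟩ := key i j a ha
    obtain ⟨k3, k4⟩ := key i' j' b hb
    rw [he] at k1 k2
    have h1 : z ^ j = z ^ j' := mul_right_cancel (k1.symm.trans k3)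
    have h2 : z ^ (-i) = z ^ (-i') := mul_right_cancel (k2.symm.trans k4)
    rw [← mul_inv_eq_one, ← zpow_sub, h.zpow_eq_one] at h1 h2
    obtain ⟨w, hw⟩ := h1
    obtain ⟨u', hu'⟩ := h2
    obtain rfl : j = j' + p * w := by omega
    obtain rfl : i = i' + p * (-u') := by rw [mul_neg]; omega
    refine ⟨-u', w, rfl, rfl, ?_⟩
    simp only [form, zpow_add, zpow_mul, zpow_natCast, hP.px, hP.py] at he
    simp only [← zpow_mul] at he
    have hcz := h.commute_zpow (α * -u')
    have e : x ^ i' * (z ^ (α * -u')) * (y ^ j' * z ^ (β * w)) * a = x ^ i' * y ^ j' * (z ^ (α * -u' + β * w) * a) := by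
      calc x ^ i' * (z ^ (α * -u')) * (y ^ j' * z ^ (β * w)) * a
          = x ^ i' * (z ^ (α * -u') * y ^ j') * z ^ (β * w) * a := by group
        _ = x ^ i' * (y ^ j' * z ^ (α * -u')) * z ^ (β * w) * a := by rw [(hcz _).eq]
        _ = _ := by group
    rw [e] at he
    exact mul_left_cancel he
  · rintro ⟨u, w, rfl, rfl, rfl⟩
    simp only [form, zpow_add, zpow_mul, zpow_natCast, hP.px, hP.py]
    simp only [← zpow_mul]
    have hcz := h.commute_zpow (α * u)
    calc x ^ i' * (z ^ (α * u)) * (y ^ j' * z ^ (β * w)) * a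
        = x ^ i' * (z ^ (α * u) * y ^ j') * z ^ (β * w) * a := by group
      _ = x ^ i' * (y ^ j' * z ^ (α * u)) * z ^ (β * w) * a := by rw [(hcz _).eq]
      _ = _ := by group

theorem exists_form (h : Ext p z) (hP : Pair p z x y α β) (g : G) :
    ∃ i j : ℤ, ∃ a ∈ cent x y, g = form x y i j a := by
  obtain ⟨s, hs⟩ := h.comm g x
  obtain ⟨t, ht⟩ := h.comm g y
  simp only [commutatorElement_def] at hs ht
  have hgx : g * x * g⁻¹ = z ^ s * x := by rw [hs]; group
  have hgy : g * y * g⁻¹ = z ^ t * y := by rw [ht]; group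
  refine ⟨t, -s, (x ^ t * y ^ (-s))⁻¹ * g, Subgroup.mem_centralizer_iff.2 ?_, by rw [form, mul_inv_cancel_left]⟩
  intro c hc
  simp only [Set.mem_insert_iff, Set.mem_singleton_iff] at hc
  have key : ∀ (d : G) (k : ℤ), g * d * g⁻¹ = z ^ k * d → (x ^ t * y ^ (-s)) * d * (x ^ t * y ^ (-s))⁻¹ = z ^ k * d →
      d * ((x ^ t * y ^ (-s))⁻¹ * g) = (x ^ t * y ^ (-s))⁻¹ * g * d := by
    intro d k h1 h2
    set w := x ^ t * y ^ (-s)
    calc d * (w⁻¹ * g) = w⁻¹ * (w * d * w⁻¹) * g := by group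
      _ = w⁻¹ * (g * d * g⁻¹) * g := by rw [h1, h2]
      _ = w⁻¹ * g * d := by group
  rcases hc with rfl | rfl
  · refine key c s hgx ?_
    have e1 : y ^ (-s) * c * (y ^ (-s))⁻¹ = z ^ s * c := by
      have := swap_yx h hP 1 (-s)
      rw [zpow_one, show -((1 : ℤ) * -s) = s by ring] at this
      rw [this]; group
    calc c ^ t * y ^ (-s) * c * (c ^ t * y ^ (-s))⁻¹ = c ^ t * (y ^ (-s) * c * (y ^ (-s))⁻¹) * (c ^ t)⁻¹ := by group
      _ = c ^ t * (z ^ s * c) * (c ^ t)⁻¹ := by rw [e1]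
      _ = (c ^ t * z ^ s) * c * (c ^ t)⁻¹ := by group
      _ = (z ^ s * c ^ t) * c * (c ^ t)⁻¹ := by rw [← (h.commute_zpow s (c ^ t)).eq]
      _ = _ := by group
  · refine key c t hgy ?_
    have e1 : x ^ t * c * (x ^ t)⁻¹ = z ^ t * c := by
      have := h.swap (a := x) (b := c) (s := 1) (by rw [zpow_one]; exact hP.comm) t 1
      rw [zpow_one, one_mul, mul_one] at this
      rw [this]; group
    calc x ^ t * c ^ (-s) * c * (x ^ t * c ^ (-s))⁻¹ = x ^ t * c * (x ^ t)⁻¹ := by group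
      _ = _ := e1

theorem ext_cent (h : Ext p z) (hP : Pair p z x y α β) : Ext p (⟨z, z_mem h⟩ : cent x y) where
  ne_one := fun e => h.ne_one (congrArg Subtype.val e)
  pow_eq := Subtype.ext h.pow_eq
  central := fun g => Subtype.ext (h.central g)
  comm := fun a b => by
    obtain ⟨k, hk⟩ := h.comm a b
    exact ⟨k, Subtype.ext hk⟩
  center_le := fun a ha => by
    obtain ⟨k, hk⟩ := h.center_le a fun g => by
      obtain ⟨i, j, b, hb, rfl⟩ := exists_form h hP g
      have hab : Commute (a : G) b := congrArg Subtype.val (ha ⟨b, hb⟩)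
      exact ((((commute_left a.2).zpow_right i).mul_right ((commute_right a.2).zpow_right j)).mul_right hab).eq
    exact ⟨k, Subtype.ext hk⟩

/-- Coordinates. -/
noncomputable def coord (h : Ext p z) (hP : Pair p z x y α β) : Fin p × Fin p × cent x y ≃ G := by
  refine Equiv.ofBijective (fun t => form x y (t.1 : ℕ) (t.2.1 : ℕ) t.2.2) ⟨?_, ?_⟩
  · rintro ⟨i, j, a⟩ ⟨i', j', b⟩ he
    obtain ⟨u, w, hu, hw, hab⟩ := (form_eq_iff h hP _ _ _ _ a.2 b.2).1 he
    have key : ∀ (a b : Fin p) (c : ℤ), ((a : ℕ) : ℤ) = (b : ℕ) + p * c → c = 0 := by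
      intro a b c hc
      rcases lt_trichotomy c 0 with hlt | h0 | hgt
      · nlinarith [a.2, b.2, mul_le_mul_of_nonneg_left (show c ≤ -1 by omega) (Int.natCast_nonneg p)]
      · exact h0
      · nlinarith [a.2, b.2, mul_le_mul_of_nonneg_left (show (1 : ℤ) ≤ c by omega) (Int.natCast_nonneg p)]
    obtain rfl := key i i' u hu
    obtain rfl := key j j' w hw
    simp only [mul_zero, add_zero, Nat.cast_inj, zpow_zero, one_mul] at hu hw hab
    obtain rfl := Fin.ext hu
    obtain rfl := Fin.ext hw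
    obtain rfl := Subtype.ext hab
    rfl
  · intro g
    obtain ⟨i, j, a, ha, rfl⟩ := exists_form h hP g
    have hp0 : (p : ℤ) ≠ 0 := by exact_mod_cast hp.out.ne_zero
    have hlt : ∀ k : ℤ, (k % p).toNat < p := fun k => by
      have := Int.emod_lt_of_pos k (show (0 : ℤ) < p by exact_mod_cast hp.out.pos)
      have := Int.emod_nonneg k hp0
      omega
    refine ⟨⟨⟨_, hlt i⟩, ⟨_, hlt j⟩, ⟨z ^ (α * (i / p) + β * (j / p)) * a, mul_mem (zpow_mem' h _) ha⟩⟩, Eq.symm ?_⟩
    refine (form_eq_iff h hP i j _ _ ha (mul_mem (zpow_mem' h _) ha)).2 ⟨i / p, j / p, ?_, ?_, rfl⟩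
    · show i = (((i % p).toNat : ℕ) : ℤ) + p * (i / p)
      rw [Int.toNat_of_nonneg (Int.emod_nonneg i hp0)]; exact (Int.emod_add_mul_ediv i p).symm
    · show j = (((j % p).toNat : ℕ) : ℤ) + p * (j / p)
      rw [Int.toNat_of_nonneg (Int.emod_nonneg j hp0)]; exact (Int.emod_add_mul_ediv j p).symm

theorem card_eq (h : Ext p z) (hP : Pair p z x y α β) : Nat.card G = p * (p * Nat.card (cent x y)) := by
  rw [← Nat.card_congr (coord h hP), Nat.card_prod, Nat.card_prod, Nat.card_fin]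

end Split

/-- An isomorphism from two families of words with the same multiplication and the same coincidences. -/
theorem equiv_of_words {A : Type*} {G₁ : Type u} {G₂ : Type v} [Group G₁] [Group G₂] (φ : A → G₁) (ψ : A → G₂)
    (hφ : Function.Surjective φ) (hψ : Function.Surjective ψ) (heq : ∀ a b, φ a = φ b ↔ ψ a = ψ b)
    (hmul : ∀ a b, ∃ c, φ c = φ a * φ b ∧ ψ c = ψ a * ψ b) : ∃ e : G₁ ≃* G₂, ∀ a, e (φ a) = ψ a := by
  choose r hr using hφ
  have hspec : ∀ a, ψ (r (φ a)) = ψ a := fun a => (heq _ _).1 (hr _)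
  let f : G₁ →* G₂ := MonoidHom.mk' (fun g => ψ (r g)) fun g g' => by
    obtain ⟨c, hc1, hc2⟩ := hmul (r g) (r g')
    rw [hr, hr] at hc1
    rw [← hc1, hspec, hc2]
  refine ⟨MulEquiv.ofBijective f ⟨fun g g' hg => ?_, fun g => ?_⟩, hspec⟩
  · have := (heq _ _).2 hg
    rwa [hr, hr] at this
  · obtain ⟨a, rfl⟩ := hψ g
    exact ⟨φ a, hspec a⟩

section Two

variable {G₂ : Type v} [Group G₂] {z₂ : G₂}

theorem extend {x y : G} {x₂ y₂ : G₂} {α β : ℤ} (h : Ext p z) (h₂ : Ext p z₂) (hP : Pair p z x y α β)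
    (hP₂ : Pair p z₂ x₂ y₂ α β) (e : cent x y ≃* cent x₂ y₂) (he : e ⟨z, z_mem h⟩ = ⟨z₂, z_mem h₂⟩) :
    ∃ f : G ≃* G₂, f z = z₂ := by
  have hez : ∀ k : ℤ, ((e ⟨z ^ k, zpow_mem' h k⟩ : cent x₂ y₂) : G₂) = z₂ ^ k := fun k => by
    rw [show (⟨z ^ k, zpow_mem' h k⟩ : cent x y) = ⟨z, z_mem h⟩ ^ k from Subtype.ext (by simp), map_zpow, he]
    simp
  obtain ⟨f, hf⟩ := equiv_of_words (fun t : ℤ × ℤ × cent x y => form x y t.1 t.2.1 (t.2.2 : G))
    (fun t => form x₂ y₂ t.1 t.2.1 (e t.2.2 : G₂))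
    (fun g => by obtain ⟨i, j, a, ha, rfl⟩ := exists_form h hP g; exact ⟨⟨i, j, a, ha⟩, rfl⟩)
    (fun g => by
      obtain ⟨i, j, a, ha, rfl⟩ := exists_form h₂ hP₂ g
      exact ⟨⟨i, j, e.symm ⟨a, ha⟩⟩, by simp⟩)
    (fun s t => by
      rw [form_eq_iff h hP _ _ _ _ s.2.2.2 t.2.2.2, form_eq_iff h₂ hP₂ _ _ _ _ (e s.2.2).2 (e t.2.2).2]
      refine exists_congr fun u => exists_congr fun w => and_congr_right fun _ => and_congr_right fun _ => ?_
      rw [← hez, ← Subgroup.coe_mul, Subtype.coe_inj, ← map_mul, e.injective.eq_iff, ← Subtype.coe_inj, Subgroup.coe_mul])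
    (fun s t => ⟨⟨s.1 + t.1, s.2.1 + t.2.1, ⟨z ^ (-(t.1 * s.2.1)), zpow_mem' h _⟩ * (s.2.2 * t.2.2)⟩, by
      rw [form_mul h hP _ _ _ _ _ s.2.2.2]; rfl, by
      rw [form_mul h₂ hP₂ _ _ _ _ _ (e s.2.2).2, map_mul, map_mul, Subgroup.coe_mul, Subgroup.coe_mul, hez]⟩)
  refine ⟨f, ?_⟩
  have := hf (0, 0, ⟨z, z_mem h⟩)
  simp only [form, zpow_zero, one_mul, he] at this
  exact this

/-- The case of groups of order `p`. -/
theorem base (h : Ext p z) (h₂ : Ext p z₂) (hc : ∀ g : G, g ∈ Subgroup.zpowers z)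
    (hc₂ : ∀ g : G₂, g ∈ Subgroup.zpowers z₂) : ∃ f : G ≃* G₂, f z = z₂ := by
  obtain ⟨f, hf⟩ := equiv_of_words (fun k : ℤ => z ^ k) (fun k => z₂ ^ k) (fun g => hc g) (fun g => hc₂ g)
    (fun a b => by rw [← mul_inv_eq_one, ← zpow_sub, h.zpow_eq_one, ← mul_inv_eq_one (a := z₂ ^ a), ← zpow_sub,
      h₂.zpow_eq_one])
    (fun a b => ⟨a + b, zpow_add z a b, zpow_add z₂ a b⟩)
  exact ⟨f, by simpa using hf 1⟩

end Two

theorem eq_zpowers_of_card [Finite G] (h : Ext p z) (hc : Nat.card G = p) (g : G) : g ∈ Subgroup.zpowers z :=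
  mem_zpowers_of_prime_card hc h.ne_one

theorem exists_noncentral [Finite G] (h : Ext p z) (hc : Nat.card G ≠ p) : ∃ x : G, x ∉ Subgroup.zpowers z := by
  by_contra hn
  push Not at hn
  refine hc ?_
  rw [← orderOf_eq_prime h.pow_eq h.ne_one]
  exact (orderOf_eq_card_of_forall_mem_zpowers hn).symm

/-- Every noncentral element has a partner with commutator `z`. -/
theorem exists_partner (h : Ext p z) {x : G} (hx : x ∉ Subgroup.zpowers z) : ∃ y : G, x * y = z * (y * x) := by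
  obtain ⟨y₀, hy₀⟩ : ∃ y, x * y ≠ y * x := by
    by_contra hn
    push Not at hn
    exact hx (h.center_le x hn)
  obtain ⟨s, hs⟩ := h.comm x y₀
  simp only [commutatorElement_def] at hs
  have hxy : x * y₀ = z ^ s * (y₀ * x) := by rw [hs]; group
  have hps : ¬ (p : ℤ) ∣ s := fun hd => hy₀ (by rw [hxy, (h.zpow_eq_one s).2 hd, one_mul])
  obtain ⟨u, w, huw⟩ := ((Nat.prime_iff_prime_int.1 hp.out).coprime_iff_not_dvd.2 hps).symm
  refine ⟨y₀ ^ u, ?_⟩
  have := h.swap hxy 1 u
  rw [zpow_one, show s * 1 * u = 1 + p * (-w) by linear_combination huw, zpow_add, zpow_one,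
    (h.zpow_eq_one _).2 (dvd_mul_right _ _), mul_one] at this
  exact this

theorem pow_p_mem (h : Ext p z) (x : G) : ∃ k : ℤ, x ^ p = z ^ k := by
  obtain ⟨k, hk⟩ := h.center_le (x ^ p) fun g => by
    obtain ⟨s, hs⟩ := h.comm x g
    simp only [commutatorElement_def] at hs
    have := h.swap (show x * g = z ^ s * (g * x) by rw [hs]; group) p 1
    rw [zpow_natCast, zpow_one, (h.zpow_eq_one _).2 (Dvd.intro_left s (by ring)), one_mul] at this
    exact this
  exact ⟨k, hk.symm⟩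

/-- Odd case: exponent `p` and equal orders. -/
theorem iso_of_exponent : ∀ (n : ℕ) (G₁ : Type u) (G₂ : Type v) [Group G₁] [Group G₂] [Finite G₁] [Finite G₂]
    (z₁ : G₁) (z₂ : G₂), Ext p z₁ → Ext p z₂ → (∀ g : G₁, g ^ p = 1) → (∀ g : G₂, g ^ p = 1) →
    Nat.card G₁ = n → Nat.card G₂ = n → ∃ f : G₁ ≃* G₂, f z₁ = z₂ := by
  intro n
  induction n using Nat.strong_induction_on with
  | _ n ih =>
    intro G₁ G₂ _ _ _ _ z₁ z₂ h₁ h₂ e₁ e₂ c₁ c₂
    by_cases hn : n = p
    · exact base h₁ h₂ (eq_zpowers_of_card h₁ (c₁.trans hn)) (eq_zpowers_of_card h₂ (c₂.trans hn))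
    obtain ⟨x₁, hx₁⟩ := exists_noncentral h₁ (c₁.trans_ne hn)
    obtain ⟨x₂, hx₂⟩ := exists_noncentral h₂ (c₂.trans_ne hn)
    obtain ⟨y₁, hy₁⟩ := exists_partner h₁ hx₁
    obtain ⟨y₂, hy₂⟩ := exists_partner h₂ hx₂
    have P₁ : Pair p z₁ x₁ y₁ 0 0 := ⟨hy₁, by rw [zpow_zero, e₁], by rw [zpow_zero, e₁]⟩
    have P₂ : Pair p z₂ x₂ y₂ 0 0 := ⟨hy₂, by rw [zpow_zero, e₂], by rw [zpow_zero, e₂]⟩
    have d₁ := card_eq h₁ P₁
    have d₂ := card_eq h₂ P₂
    rw [c₁] at d₁
    rw [c₂] at d₂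
    have hlt : Nat.card (cent x₁ y₁) < n := by
      rw [d₁]
      calc Nat.card (cent x₁ y₁) < p * Nat.card (cent x₁ y₁) := lt_mul_of_one_lt_left Nat.card_pos hp.out.one_lt
        _ ≤ _ := Nat.le_mul_of_pos_left _ hp.out.pos
    obtain ⟨e, he⟩ := ih _ hlt (cent x₁ y₁) (cent x₂ y₂) _ _ (ext_cent h₁ P₁) (ext_cent h₂ P₂)
      (fun g => Subtype.ext (e₁ g)) (fun g => Subtype.ext (e₂ g)) rfl
      (Nat.eq_of_mul_eq_mul_left hp.out.pos (Nat.eq_of_mul_eq_mul_left hp.out.pos (d₂.symm.trans d₁)))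
    exact extend h₁ h₂ P₁ P₂ e he

/-- The number of solutions of `g ^ 2 = 1`. -/
noncomputable def invCount (G : Type*) [Group G] : ℕ := Nat.card {g : G // g ^ 2 = 1}

section Even

variable [Fact (Nat.Prime 2)]

theorem dihedral_pair {G : Type u} [Group G] {z x : G} (h : Ext 2 z) (hx : x ∉ Subgroup.zpowers z)
    (hx2 : x ^ 2 = 1) : ∃ y : G, Pair 2 z x y 0 0 := by
  obtain ⟨y, hy⟩ := exists_partner h hx
  obtain ⟨k, hk⟩ := pow_p_mem h y
  rcases Int.emod_two_eq_zero_or_one k with hk0 | hk1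
  · refine ⟨y, hy, by rw [zpow_zero, hx2], ?_⟩
    rw [zpow_zero, hk, h.zpow_eq_one]
    exact Int.dvd_of_emod_eq_zero hk0
  · have hyz : y ^ 2 = z := by
      rw [hk]
      conv_rhs => rw [← zpow_one z]
      rw [← mul_inv_eq_one, ← zpow_sub, h.zpow_eq_one]
      exact Int.dvd_of_emod_eq_zero (by omega)
    refine ⟨x * y, ?_, by rw [zpow_zero, hx2], ?_⟩
    · have := h.central x
      calc x * (x * y) = x * (z * (y * x)) := by rw [hy]
        _ = z * (x * y * x) := by rw [← mul_assoc, ← this]; group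
    · rw [zpow_zero]
      have h1 : x * y * (x * y) = z * (x * x) * (y * y) := by
        have h2 : y * x = z * (x * y) := by
          have hzz : z * z = 1 := by rw [← pow_two]; exact h.pow_eq
          rw [hy, ← mul_assoc, hzz, one_mul]
        calc x * y * (x * y) = x * (y * x) * y := by group
          _ = (x * z) * (x * y * y) := by rw [h2]; group
          _ = z * x * (x * y * y) := by rw [h.central x]
          _ = _ := by group
      rw [pow_two, h1, ← pow_two x, ← pow_two y, hx2, hyz, mul_one, ← pow_two, h.pow_eq]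

theorem sq_eq {G : Type u} [Group G] {z : G} (h : Ext 2 z) (g : G) : g ^ 2 = 1 ∨ g ^ 2 = z := by
  obtain ⟨k, hk⟩ := pow_p_mem h g
  rcases Int.emod_two_eq_zero_or_one k with h0 | h1
  · left; rw [hk, h.zpow_eq_one]; exact Int.dvd_of_emod_eq_zero h0
  · right
    rw [hk]
    conv_rhs => rw [← zpow_one z]
    rw [← mul_inv_eq_one, ← zpow_sub, h.zpow_eq_one]
    exact Int.dvd_of_emod_eq_zero (by omega)

theorem invCount_cyclic {G : Type u} [Group G] [Finite G] {z : G} (h : Ext 2 z) (hc : Nat.card G = 2) :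
    invCount G = 2 := by
  have : ∀ g : G, g ^ 2 = 1 := fun g => by rw [← hc]; exact pow_card_eq_one'
  rw [invCount, Nat.card_congr (Equiv.subtypeUnivEquiv this), hc]

theorem invCount_split {G : Type u} [Group G] [Finite G] {z x y : G} (h : Ext 2 z) (hP : Pair 2 z x y 0 0) :
    invCount G = 2 * invCount (cent x y) + Nat.card (cent x y) := by
  classical
  have hsq : ∀ (i j : ℤ) (a : cent x y), (form x y i j (a : G)) ^ 2 = z ^ (i * j) * (a : G) ^ 2 := by
    intro i j a
    rw [pow_two, form_mul h hP i j i j _ a.2, pow_two]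
    have e : form x y (i + i) (j + j) (z ^ (-(i * j)) * ((a : G) * a)) =
        form x y 0 0 (z ^ (i * j) * ((a : G) * a)) := by
      refine (form_eq_iff h hP _ _ _ _ (mul_mem (zpow_mem' h _) (mul_mem a.2 a.2))
        (mul_mem (zpow_mem' h _) (mul_mem a.2 a.2))).2 ⟨i, j, by push_cast; ring, by push_cast; ring, ?_⟩
      rw [zero_mul, zero_mul, add_zero, zpow_zero, one_mul]
      congr 1
      rw [← mul_inv_eq_one, ← zpow_sub, h.zpow_eq_one]
      exact ⟨-(i * j), by push_cast; ring⟩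
    rw [e, form, zpow_zero, zpow_zero, one_mul, one_mul]
  haveI := Fintype.ofFinite (cent x y)
  have e1 : invCount G = Nat.card {t : Fin 2 × Fin 2 × cent x y // (coord h hP t) ^ 2 = 1} :=
    Nat.card_congr (Equiv.subtypeEquiv (coord h hP) fun t => Iff.rfl).symm
  rw [e1, Nat.card_eq_fintype_card, Fintype.card_subtype]
  have e2 : ∀ t : Fin 2 × Fin 2 × cent x y,
      (coord h hP t) ^ 2 = z ^ (((t.1 : ℕ) : ℤ) * ((t.2.1 : ℕ) : ℤ)) * (t.2.2 : G) ^ 2 := fun t => hsq _ _ _
  simp only [e2]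
  rw [Finset.card_filter, Fintype.sum_prod_type, Fin.sum_univ_two]
  simp only [Fintype.sum_prod_type, Fin.sum_univ_two, Fin.val_zero, Fin.val_one, Nat.cast_zero, Nat.cast_one,
    mul_zero, zero_mul, mul_one, zpow_zero, zpow_one, one_mul]
  have hN : invCount (cent x y) = ∑ a : cent x y, if (a : G) ^ 2 = 1 then 1 else 0 := by
    rw [invCount, Nat.card_eq_fintype_card, Fintype.card_subtype, Finset.card_filter]
    exact Finset.sum_congr rfl fun a _ => by simp [Subtype.ext_iff]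
  have hsum : (∑ a : cent x y, if (a : G) ^ 2 = 1 then 1 else 0) + (∑ a : cent x y, if z * (a : G) ^ 2 = 1 then 1 else 0) =
      Nat.card (cent x y) := by
    rw [← Finset.sum_add_distrib, Nat.card_eq_fintype_card, Fintype.card, Finset.card_eq_sum_ones]
    refine Finset.sum_congr rfl fun a _ => ?_
    rcases sq_eq h (a : G) with h1 | h1
    · simp [h1, h.ne_one]
    · simp [h1, h.ne_one, ← pow_two, h.pow_eq]
  rw [hN]
  omega

/-- Either a dihedral pair splits off, or the group has order eight and only two solutions of `g ^ 2 = 1`. -/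
theorem cases_two {G : Type u} [Group G] [Finite G] {z : G} (h : Ext 2 z) (hc : Nat.card G ≠ 2) :
    (∃ x y : G, Pair 2 z x y 0 0) ∨
      (∃ x y : G, Pair 2 z x y 1 1 ∧ Nat.card (cent x y) = 2 ∧ invCount G = 2) := by
  by_cases hD : ∃ x : G, x ∉ Subgroup.zpowers z ∧ x ^ 2 = 1
  · obtain ⟨x, hx, hx2⟩ := hD
    exact Or.inl ⟨x, dihedral_pair h hx hx2⟩
  push Not at hD
  right
  have hsqz : ∀ g : G, g ∉ Subgroup.zpowers z → g ^ 2 = z := fun g hg => (sq_eq h g).resolve_left (hD g hg)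
  obtain ⟨x, hx⟩ := exists_noncentral h hc
  obtain ⟨y, hy⟩ := exists_partner h hx
  have hy' : y ∉ Subgroup.zpowers z := by
    rintro ⟨k, rfl⟩
    have h1 : x * z ^ k = z ^ k * x := ((h.commute_zpow k x).eq).symm
    rw [h1] at hy
    exact h.ne_one (right_eq_mul.1 hy)
  have P : Pair 2 z x y 1 1 := ⟨hy, by rw [zpow_one, hsqz x hx], by rw [zpow_one, hsqz y hy']⟩
  have hzeq : ∀ g : G, g ∈ Subgroup.zpowers z → g ^ 2 = 1 := by
    rintro _ ⟨k, rfl⟩
    show (z ^ k) ^ 2 = 1
    rw [← zpow_natCast, ← zpow_mul, h.zpow_eq_one]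
    exact ⟨k, by ring⟩
  have hC : ∀ a ∈ cent x y, a ∈ Subgroup.zpowers z := by
    intro a ha
    by_contra hna
    have hxa : x * a ∉ Subgroup.zpowers z := by
      intro hmem
      have h1 : Commute (x * a) y := by
        obtain ⟨k, hk⟩ := hmem
        simp only at hk
        rw [← hk]; exact h.commute_zpow k y
      have h2 : x * y = y * x := by
        have h3 : x * y = (x * a) * y * a⁻¹ := by
          rw [mul_assoc x a y, (commute_right ha).eq]; group
        rw [h3, h1.eq]; group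
      rw [h2] at hy
      exact h.ne_one (mul_eq_right.1 hy.symm)
    have h4 := hsqz _ hxa
    rw [(commute_left ha).symm.mul_pow, hsqz x hx, hsqz a hna] at h4
    exact h.ne_one (mul_eq_left.1 h4)
  have hcc : Nat.card (cent x y) = 2 := by
    have e : cent x y = Subgroup.zpowers z := le_antisymm hC (Subgroup.zpowers_le.2 (z_mem h))
    rw [e, Nat.card_zpowers, orderOf_eq_prime h.pow_eq h.ne_one]
  refine ⟨x, y, P, hcc, ?_⟩
  have e : invCount G = Nat.card (Subgroup.zpowers z) := by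
    refine Nat.card_congr (Equiv.subtypeEquivRight fun g => ⟨fun hg => ?_, hzeq g⟩)
    by_contra hn
    exact hD g hn hg
  rw [e, Nat.card_zpowers, orderOf_eq_prime h.pow_eq h.ne_one]

/-- Order and number of solutions of `g ^ 2 = 1`. -/
theorem count_formula : ∀ (n : ℕ) (G : Type u) [Group G] [Finite G] (z : G), Ext 2 z → Nat.card G = n → n ≠ 2 →
    ∃ m : ℕ, 1 ≤ m ∧ n = 2 ^ (2 * m + 1) ∧
      (invCount G = 2 ^ (2 * m) + 2 ^ m ∨ invCount G + 2 ^ m = 2 ^ (2 * m)) := by
  intro n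
  induction n using Nat.strong_induction_on with
  | _ n ih =>
    intro G _ _ z h hc hn
    rcases cases_two h (hc.trans_ne hn) with ⟨x, y, P⟩ | ⟨x, y, P, hC, hN⟩
    · have d := card_eq h P
      rw [hc] at d
      have d' := invCount_split h P
      by_cases hC : Nat.card (cent x y) = 2
      · refine ⟨1, le_rfl, by rw [d, hC]; norm_num, Or.inl ?_⟩
        rw [d', invCount_cyclic (ext_cent h P) hC, hC]; norm_num
      have hlt : Nat.card (cent x y) < n := by
        have := Nat.card_pos (α := cent x y)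
        omega
      obtain ⟨m, hm1, hm2, hm3⟩ := ih _ hlt (cent x y) _ (ext_cent h P) rfl hC
      refine ⟨m + 1, by omega, by rw [d, hm2]; ring, ?_⟩
      have e1 : 2 ^ (2 * (m + 1)) = 4 * 2 ^ (2 * m) := by ring
      have e2 : 2 ^ (m + 1) = 2 * 2 ^ m := by ring
      have e3 : 2 ^ (2 * m + 1) = 2 * 2 ^ (2 * m) := by ring
      rw [hm2, e3] at d'
      rcases hm3 with hm3 | hm3
      · left; omega
      · right; omega
    · have d := card_eq h P
      rw [hc, hC] at d
      exact ⟨1, le_rfl, by rw [d]; norm_num, Or.inr (by rw [hN]; norm_num)⟩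

/-- Even case: equal orders and equal numbers of solutions of `g ^ 2 = 1`. -/
theorem iso_of_count : ∀ (n : ℕ) (G₁ : Type u) (G₂ : Type v) [Group G₁] [Group G₂] [Finite G₁] [Finite G₂]
    (z₁ : G₁) (z₂ : G₂), Ext 2 z₁ → Ext 2 z₂ → Nat.card G₁ = n → Nat.card G₂ = n → invCount G₁ = invCount G₂ →
    ∃ f : G₁ ≃* G₂, f z₁ = z₂ := by
  intro n
  induction n using Nat.strong_induction_on with
  | _ n ih =>
    intro G₁ G₂ _ _ _ _ z₁ z₂ h₁ h₂ c₁ c₂ hN
    by_cases hn : n = 2
    · exact base h₁ h₂ (eq_zpowers_of_card h₁ (c₁.trans hn)) (eq_zpowers_of_card h₂ (c₂.trans hn))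
    rcases cases_two h₁ (c₁.trans_ne hn) with ⟨x₁, y₁, P₁⟩ | ⟨x₁, y₁, P₁, hC₁, hN₁⟩ <;>
    rcases cases_two h₂ (c₂.trans_ne hn) with ⟨x₂, y₂, P₂⟩ | ⟨x₂, y₂, P₂, hC₂, hN₂⟩
    · have d₁ := card_eq h₁ P₁
      have d₂ := card_eq h₂ P₂
      rw [c₁] at d₁
      rw [c₂] at d₂
      have hlt : Nat.card (cent x₁ y₁) < n := by
        have := Nat.card_pos (α := cent x₁ y₁)
        omega
      have s₁ := invCount_split h₁ P₁
      have s₂ := invCount_split h₂ P₂
      obtain ⟨e, he⟩ := ih _ hlt (cent x₁ y₁) (cent x₂ y₂) _ _ (ext_cent h₁ P₁) (ext_cent h₂ P₂) rfl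
        (by omega) (by omega)
      exact extend h₁ h₂ P₁ P₂ e he
    · exfalso
      have s₁ := invCount_split h₁ P₁
      have : 0 < invCount (cent x₁ y₁) := by
        haveI : Nonempty {g : cent x₁ y₁ // g ^ 2 = 1} := ⟨⟨1, one_pow 2⟩⟩
        exact Nat.card_pos
      have := Nat.card_pos (α := cent x₁ y₁)
      omega
    · exfalso
      have s₂ := invCount_split h₂ P₂
      have : 0 < invCount (cent x₂ y₂) := by
        haveI : Nonempty {g : cent x₂ y₂ // g ^ 2 = 1} := ⟨⟨1, one_pow 2⟩⟩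
        exact Nat.card_pos
      have := Nat.card_pos (α := cent x₂ y₂)
      omega
    · obtain ⟨e, he⟩ := base (ext_cent h₁ P₁) (ext_cent h₂ P₂) (eq_zpowers_of_card (ext_cent h₁ P₁) hC₁)
        (eq_zpowers_of_card (ext_cent h₂ P₂) hC₂)
      exact extend h₁ h₂ P₁ P₂ e he

end Even

/-- Extraspecial groups fit the setting. -/
theorem exists_ext {G : Type u} [Group G] [Finite G] (h : Cfsg.IsExtraspecial p G) :
    ∃ z : G, Ext p z ∧ Nat.card G ≠ p := by
  obtain ⟨⟨-, -, hcm⟩, hZ⟩ := h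
  haveI : Nontrivial (Subgroup.center G) := Finite.one_lt_card_iff_nontrivial.1 (hZ ▸ hp.out.one_lt)
  obtain ⟨⟨z, hz⟩, hne⟩ := exists_ne (1 : Subgroup.center G)
  have hz1 : z ≠ 1 := fun e => hne (Subtype.ext e)
  have hgen : ∀ w ∈ Subgroup.center G, w ∈ Subgroup.zpowers z := fun w hw => by
    obtain ⟨k, hk⟩ := mem_zpowers_of_prime_card (g' := (⟨w, hw⟩ : Subgroup.center G)) hZ hne
    exact ⟨k, congrArg Subtype.val hk⟩
  refine ⟨z, ⟨hz1, ?_, fun g => (Subgroup.mem_center_iff.1 hz g).symm, fun a b => hgen _ ?_,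
    fun g hg => hgen g (Subgroup.mem_center_iff.2 fun k => (hg k).symm)⟩, fun hc => ?_⟩
  · have := pow_card_eq_one' (x := (⟨z, hz⟩ : Subgroup.center G))
    rw [hZ] at this
    exact congrArg Subtype.val this
  · rw [← hcm]; exact Subgroup.commutator_mem_commutator (Subgroup.mem_top a) (Subgroup.mem_top b)
  · have htop : Subgroup.center G = ⊤ := (Subgroup.card_eq_iff_eq_top _).1 (hZ.trans hc.symm)
    have hbot : commutator G = ⊥ := by
      rw [commutator_def, Subgroup.commutator_eq_bot_iff_le_centralizer]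
      exact fun g _ => Subgroup.mem_centralizer_iff.2 fun k _ =>
        ((Subgroup.mem_center_iff.1 (htop ▸ Subgroup.mem_top k)) g).symm
    rw [hcm, htop] at hbot
    haveI := Subgroup.subsingleton_iff.1 (subsingleton_of_top_le_bot (α := Subgroup G) hbot.le)
    exact hz1 (Subsingleton.elim z 1)

end Cfsg.Agent.Transfer.ExtraIso
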