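import Mathlib
import Cfsg.Agent.Lib.Transfer.MetacyclicCoprime
import Cfsg.Agent.Lib.Transfer.OddRankTwoStructure
import Cfsg.Agent.Lib.Transfer.Fusion
import Cfsg.Agent.Lib.Transfer.Regular
import Cfsg.Agent.Lib.Grp.ExponentClosed
import Cfsg.Agent.S0016
import Cfsg.Agent.Lib.Grp.SameOrderConj

/-!
`p`-groups of rank two generated by commutators with a group of odd order prime to `p`.
-/

set_option autoImplicit false
set_option linter.style.haveILetI false
set_option linter.unusedSectionVars false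
set_option maxHeartbeats 2000000

namespace Cfsg.Agent.Transfer.MetaCoprime

open scoped commutatorElement

universe u

variable {p : ℕ} [hp : Fact p.Prime]

/-- A nonabelian group generated by commutators with an odd coprime group has `p > 3`. -/
theorem three_lt_of_gen {R : Type u} [Group R] [Finite R] {A : Type*} [Group A] [Finite A] (hp2 : p ≠ 2)
    (hR : IsPGroup p R) (hrk : Cfsg.PRankLE p 2 R) (hodd : Odd (Nat.card A)) (hcop : (Nat.card A).Coprime p)
    (f : A →* MulAut R) (hgen : Gen f) [Nontrivial R] : 3 < p := by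
  have hne : f.range ≠ ⊥ := fun h => by
    obtain ⟨x, hx⟩ := exists_ne (1 : R)
    refine hx ?_
    have hb : (⊤ : Subgroup R) ≤ ⊥ := by
      rw [← hgen, Subgroup.closure_le]
      rintro _ ⟨a, y, rfl⟩
      rw [show f a = 1 from Subgroup.mem_bot.1 (h ▸ ⟨a, rfl⟩)]
      simp
    exact Subgroup.mem_bot.1 (hb (Subgroup.mem_top x))
  obtain ⟨q, hq, hqd⟩ := Nat.exists_prime_and_dvd (n := Nat.card f.range)
    (fun h => hne (Subgroup.eq_bot_of_card_eq _ h))
  haveI := Fact.mk hq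
  obtain ⟨α, hα⟩ := exists_prime_orderOf_dvd_card' q hqd
  have hqA : q ∣ Nat.card A := hqd.trans (Subgroup.card_range_dvd f)
  have hq2 : q ≠ 2 := fun h => hodd.not_two_dvd_nat (h ▸ hqA)
  have hqp : q ≠ p := fun h => hp.out.one_lt.ne' (Nat.eq_one_of_dvd_coprimes hcop (h ▸ hqA) dvd_rfl)
  have h := OddRankTwo.prime_dvd_of_aut hp2 hR hrk hq hqp (α : MulAut R)
    (by rw [← hα]; exact orderOf_injective f.range.subtype f.range.subtype_injective α)
  by_contra h3
  have hp3 : p = 3 := by have := hp.out.two_le; omega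
  subst hp3
  have h8 : q ∣ 2 ^ 3 := by norm_num at h ⊢; exact h
  exact hq2 ((Nat.prime_dvd_prime_iff_eq hq Nat.prime_two).1 (hq.dvd_of_dvd_pow h8))

theorem structure_of_gen {R : Type u} [Group R] [Finite R] {A : Type*} [Group A] [Finite A] (hp2 : p ≠ 2)
    (hp5 : 3 < p) (hR : IsPGroup p R) (hrk : Cfsg.PRankLE p 2 R) (hodd : Odd (Nat.card A))
    (hcop : (Nat.card A).Coprime p) (f : A →* MulAut R) (hgen : Gen f) (hnab : ¬ ∀ x y : R, x * y = y * x) :
    ∃ R₁ : Subgroup R, (∀ x, x ∈ R₁ ↔ x ^ p = 1) ∧ R₁ ⊔ Subgroup.centralizer (R₁ : Set R) = ⊤ ∧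
      ¬ (∀ x ∈ R₁, ∀ y ∈ R₁, x * y = y * x) ∧ Nat.card R₁ = p ^ 3 ∧
      IsCyclic (Subgroup.centralizer (R₁ : Set R)) ∧
      R₁ ⊓ Subgroup.centralizer (R₁ : Set R) = ⁅R₁, R₁⁆ := by
  classical
  haveI := hR.isNilpotent
  let R₁ : Subgroup R :=
    { carrier := {x | x ^ p = 1}
      one_mem' := one_pow p
      mul_mem' := fun {x y} hx hy => RankTwo.pow_mul_eq_one hp5 hR hrk hx hy
      inv_mem' := fun {x} hx => by show x⁻¹ ^ p = 1; rw [inv_pow, show x ^ p = 1 from hx, inv_one] }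
  have hR1 : ∀ x, x ∈ R₁ ↔ x ^ p = 1 := fun x => Iff.rfl
  have hR1i : ∀ e : MulAut R, ∀ x ∈ R₁, e x ∈ R₁ := fun e x hx => by
    show e x ^ p = 1; rw [← map_pow, show x ^ p = 1 from hx, map_one]
  haveI : R₁.Normal := ⟨fun x hx g => hR1i (MulAut.conj g) x hx⟩
  have hR1e : ∀ x : R₁, x ^ p = 1 := fun x => Subtype.ext x.2
  have hR1rk := RankTwo.rankLE_subgroup hrk R₁
  have hnomega : ¬ Nat.card R₁ ≤ p ^ 2 := fun h => hnab (commute_of_gen hp2 hR
    (RankTwo.isMetacyclic hp5 hR fun K hK => le_trans (Subgroup.card_le_of_le (K := R₁) fun x hx => hK x hx) h)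
    hcop f hgen)
  have hR1c : Nat.card R₁ = p ^ 3 := by
    obtain ⟨j, hj⟩ := IsPGroup.iff_card.1 (hR.to_subgroup R₁)
    have h3 := RankTwo.card_le_cube (hR.to_subgroup R₁) hR1rk hR1e
    rw [hj] at h3 hnomega ⊢
    have hj3 := (Nat.pow_le_pow_iff_right hp.out.one_lt).1 h3
    rcases (show j ≤ 2 ∨ j = 3 by omega) with h | h
    · exact absurd (Nat.pow_le_pow_right hp.out.pos h) hnomega
    · rw [h]
  have hR1nab : ¬ ∀ x ∈ R₁, ∀ y ∈ R₁, x * y = y * x := fun h => hnomega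
    (hrk R₁ ⟨⟨fun a b => Subtype.ext (h a a.2 b b.2)⟩⟩ fun a ha => ha)
  set C := Subgroup.centralizer (R₁ : Set R) with hC
  set Z := R₁ ⊓ C with hZ
  have hCi : ∀ e : MulAut R, ∀ c ∈ C, e c ∈ C := fun e c hc => Subgroup.mem_centralizer_iff.2 fun x hx => by
    have h := Subgroup.mem_centralizer_iff.1 hc (e.symm x) (hR1i e.symm x hx)
    have h2 := congrArg e h
    rwa [map_mul, map_mul, MulEquiv.apply_symm_apply] at h2
  have hZi : ∀ e : MulAut R, ∀ c ∈ Z, e c ∈ Z := fun e c hc => ⟨hR1i e c hc.1, hCi e c hc.2⟩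
  -- the centre of `R₁` has order `p`
  have hZcen : ∀ x : R₁, x ∈ Subgroup.center R₁ ↔ (x : R) ∈ Z := fun x => by
    rw [Subgroup.mem_center_iff]
    exact ⟨fun h => ⟨x.2, Subgroup.mem_centralizer_iff.2 fun y hy => congrArg Subtype.val (h ⟨y, hy⟩)⟩,
      fun h y => Subtype.ext (Subgroup.mem_centralizer_iff.1 h.2 y y.2)⟩
  have hZne : Z ≠ ⊥ := fun h => by
    haveI : Nontrivial R₁ := Finite.one_lt_card_iff_nontrivial.1 (by
      rw [hR1c]; exact Nat.one_lt_pow (by norm_num) hp.out.one_lt)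
    haveI := (hR.to_subgroup R₁).center_nontrivial
    obtain ⟨⟨x, hx⟩, hne⟩ := exists_ne (1 : Subgroup.center R₁)
    refine hne (Subtype.ext (Subtype.ext ?_))
    have := (hZcen x).1 hx
    rw [h, Subgroup.mem_bot] at this
    exact this
  have hZc : Nat.card Z = p := by
    obtain ⟨j, hj⟩ := IsPGroup.iff_card.1 (hR.to_subgroup Z)
    have hj0 : j ≠ 0 := fun h => hZne (Subgroup.eq_bot_of_card_eq _ (by rw [hj, h, pow_zero]))
    suffices j ≤ 1 by rw [hj, show j = 1 by omega, pow_one]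
    by_contra hgt
    refine hR1nab fun x hx y hy => ?_
    have he : Subgroup.center R₁ = Z.subgroupOf R₁ := Subgroup.ext fun x => hZcen x
    haveI : IsCyclic (R₁ ⧸ Subgroup.center R₁) := by
      have h1 := Subgroup.card_eq_card_quotient_mul_card_subgroup (Subgroup.center R₁)
      rw [hR1c, he, Nat.card_congr (Subgroup.subgroupOfEquivOfLe (inf_le_left : Z ≤ R₁)).toEquiv, hj, ← he] at h1
      obtain ⟨i, hi, hi'⟩ := (Nat.dvd_prime_pow hp.out).1 (Dvd.intro _ h1.symm)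
      rw [hi', ← pow_add] at h1
      have h2 := Nat.pow_right_injective hp.out.two_le h1
      rcases (show i = 0 ∨ i = 1 by omega) with rfl | rfl
      · haveI : Subsingleton (R₁ ⧸ Subgroup.center R₁) := (Nat.card_eq_one_iff_unique.1 (by simpa using hi')).1
        infer_instance
      · exact isCyclic_of_prime_card (p := p) (by rwa [pow_one] at hi')
    exact congrArg Subtype.val (commutative_of_cyclic_center_quotient (QuotientGroup.mk' (Subgroup.center R₁))
      (by rw [QuotientGroup.ker_mk']) ⟨x, hx⟩ ⟨y, hy⟩)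
  haveI : Z.Normal := ⟨fun x hx g => hZi (MulAut.conj g) x hx⟩
  have hZcentral : ∀ z ∈ Z, ∀ t : R, Commute z t := fun z hz t =>
    (Subgroup.mem_center_iff.1 (Grp.RankThree.central_of_card_le hR hZc.le hz) t).symm
  have hgenZ : ∀ z0 ∈ Z, z0 ≠ 1 → ∀ z ∈ Z, ∃ i : ℤ, z0 ^ i = z := by
    intro z0 hz0 hne z hz
    obtain ⟨i, hi⟩ := Subgroup.mem_zpowers_iff.1 (mem_zpowers_of_prime_card (p := p) hZc
      (g := (⟨z0, hz0⟩ : Z)) (g' := ⟨z, hz⟩) fun h => hne (congrArg Subtype.val h))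
    exact ⟨i, by simpa using congrArg Subtype.val hi⟩
  -- commutators inside `R₁` lie in `Z`
  have hcR1 : ∀ x ∈ R₁, ∀ y ∈ R₁, ⁅x, y⁆ ∈ Z := by
    intro x hx y hy
    haveI : (Z.subgroupOf R₁).Normal := inferInstance
    have hab := IsPGroup.isMulCommutative_of_card_eq_prime_sq (p := p) (G := R₁ ⧸ Z.subgroupOf R₁) (by
      have h1 := Subgroup.card_eq_card_quotient_mul_card_subgroup (Z.subgroupOf R₁)
      rw [hR1c, Nat.card_congr (Subgroup.subgroupOfEquivOfLe (inf_le_left : Z ≤ R₁)).toEquiv, hZc] at h1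
      exact (Nat.eq_of_mul_eq_mul_right hp.out.pos (by rw [← h1]; ring)).symm)
    have h2 : QuotientGroup.mk' (Z.subgroupOf R₁) ⁅(⟨x, hx⟩ : R₁), (⟨y, hy⟩ : R₁)⁆ = 1 := by
      rw [map_commutatorElement, commutatorElement_eq_one_iff_mul_comm]
      exact hab.is_comm.comm _ _
    exact (QuotientGroup.eq_one_iff (⁅(⟨x, hx⟩ : R₁), (⟨y, hy⟩ : R₁)⁆ : R₁)).1 h2
  have hderZ : ⁅R₁, R₁⁆ = Z := by
    have hle : ⁅R₁, R₁⁆ ≤ Z := Subgroup.commutator_le.2 hcR1
    refine Subgroup.eq_of_le_of_card_ge hle ?_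
    obtain ⟨j, hj⟩ := IsPGroup.iff_card.1 (hR.to_subgroup ⁅R₁, R₁⁆)
    rcases Nat.eq_zero_or_pos j with rfl | hpos
    · refine absurd (fun x hx y hy => ?_) hR1nab
      have h1 := Subgroup.eq_bot_of_card_eq _ (hj.trans (pow_zero p))
      exact commutatorElement_eq_one_iff_mul_comm.1 (Subgroup.mem_bot.1 (h1 ▸ Subgroup.commutator_mem_commutator hx hy))
    · rw [hZc, hj]; exact le_trans (pow_one p).ge (Nat.pow_le_pow_right hp.out.pos hpos)
  have hCc : IsCyclic C := by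
    refine (S0016.result p (hR.to_subgroup C) fun H H' hH hH' => ?_).resolve_right fun h => hp2 h.1
    have hle : ∀ H : Subgroup C, Nat.card H = p → H = Z.subgroupOf C := by
      intro H hH
      refine Subgroup.eq_of_le_of_card_ge (fun x hx => ?_) ?_
      · have h1 := H.orderOf_dvd_natCard hx
        rw [hH] at h1
        have h2 : x ^ p = 1 := orderOf_dvd_iff_pow_eq_one.1 h1
        exact ⟨congrArg Subtype.val h2, x.2⟩
      · rw [Nat.card_congr (Subgroup.subgroupOfEquivOfLe (inf_le_right : Z ≤ C)).toEquiv, hZc, hH]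
    rw [hle H hH, hle H' hH']
  refine ⟨R₁, hR1, ?_, hR1nab, hR1c, hCc, hderZ.symm⟩
  -- bilinearity
  have hbl : ∀ x y : R, ⁅x, y⁆ ∈ Z → ∀ t, ⁅t * x, y⁆ = ⁅t, y⁆ * ⁅x, y⁆ := fun x y h t => by
    rw [commutatorElement_mul_left_eq_conj_mul, ← (hZcentral _ h t).eq, mul_inv_cancel_right, (hZcentral _ h _).eq]
  have hpowl : ∀ x y : R, ⁅x, y⁆ ∈ Z → ∀ i : ℤ, ⁅x ^ i, y⁆ = ⁅x, y⁆ ^ i := by
    intro x y h i
    let g : Subgroup.zpowers x →* R :=
      { toFun := fun t => ⁅(t : R), y⁆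
        map_one' := commutatorElement_one_left y
        map_mul' := fun s t => by
          refine hbl _ _ ?_ _
          obtain ⟨_, ⟨j, rfl⟩⟩ := t
          show ⁅x ^ j, y⁆ ∈ Z
          induction j using Int.induction_on with
          | zero => rw [zpow_zero, commutatorElement_one_left]; exact one_mem _
          | succ n ih => rw [zpow_add_one, hbl x y h]; exact mul_mem ih h
          | pred n ih =>
            have h' : x ^ (-(n : ℤ)) = x ^ (-(n : ℤ) - 1) * x := by rw [← zpow_add_one]; congr 1; ring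
            rw [h', hbl x y h] at ih
            exact (Z.mul_mem_cancel_right h).1 ih }
    exact map_zpow g ⟨x, Subgroup.mem_zpowers x⟩ i
  have hpowr : ∀ x y : R, ⁅y, x⁆ ∈ Z → ∀ i : ℤ, ⁅x, y ^ i⁆ = ⁅x, y⁆ ^ i := fun x y h i => by
    rw [← commutatorElement_inv (y ^ i) x, hpowl y x h, ← inv_zpow, commutatorElement_inv]
  set N := R₁ ⊔ C with hN
  have hNmem : ∀ v ∈ N, ∃ r ∈ R₁, ∃ c ∈ C, v = r * c := fun v hv => by
    obtain ⟨r, hr, c, hc, e⟩ := Subgroup.mem_sup_of_normal_left.1 hv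
    exact ⟨r, hr, c, hc, e.symm⟩
  have hR1gen : ∀ x ∈ R₁, ∀ y ∈ R₁, ⁅x, y⁆ ≠ 1 → R₁ ≤ Subgroup.closure ({x, y} : Set R) := by
    intro x hx y hy hne
    set S := Subgroup.closure ({x, y} : Set R)
    have hS : S ≤ R₁ := (Subgroup.closure_le _).2 (Set.insert_subset hx (Set.singleton_subset_iff.2 hy))
    have hxS : x ∈ S := Subgroup.subset_closure (Set.mem_insert _ _)
    have hyS : y ∈ S := Subgroup.subset_closure (Set.mem_insert_of_mem _ rfl)
    have hZS : Z ≤ S := fun z hz => by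
      obtain ⟨i, rfl⟩ := hgenZ _ (hcR1 x hx y hy) hne z hz
      refine zpow_mem ?_ i
      rw [commutatorElement_def]
      exact mul_mem (mul_mem (mul_mem hxS hyS) (inv_mem hxS)) (inv_mem hyS)
    refine (Subgroup.eq_of_le_of_card_ge hS ?_).ge
    by_contra hlt
    refine hne (commutatorElement_eq_one_iff_mul_comm.2 ?_)
    obtain ⟨j, hj⟩ := IsPGroup.iff_card.1 (hR.to_subgroup S)
    rw [hR1c, hj, not_le, Nat.pow_lt_pow_iff_right hp.out.one_lt] at hlt
    rcases (show j = 0 ∨ j = 1 ∨ j = 2 by omega) with rfl | rfl | rfl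
    · rw [Subgroup.eq_bot_of_card_eq S (hj.trans (pow_zero p)), Subgroup.mem_bot] at hxS
      rw [hxS, one_mul, mul_one]
    · haveI : IsCyclic S := isCyclic_of_prime_card (p := p) (hj.trans (pow_one p))
      letI := IsCyclic.commGroup (α := S)
      exact congrArg Subtype.val (mul_comm (⟨x, hxS⟩ : S) ⟨y, hyS⟩)
    · exact congrArg Subtype.val ((IsPGroup.isMulCommutative_of_card_eq_prime_sq hj).is_comm.comm (⟨x, hxS⟩ : S) ⟨y, hyS⟩)
  have inN : ∀ x ∈ R₁, ∀ y ∈ R₁, ⁅x, y⁆ ≠ 1 → ∀ v : R, ⁅v, x⁆ ∈ Z → ⁅v, y⁆ ∈ Z → v ∈ N := by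
    intro x hx y hy hne v hvx hvy
    obtain ⟨i, hi⟩ := hgenZ _ (hcR1 x hx y hy) hne _ hvx
    obtain ⟨j, hj⟩ := hgenZ _ (hcR1 x hx y hy) hne _ hvy
    set r := x ^ j * y ^ (-i) with hr
    have hrR : r ∈ R₁ := mul_mem (zpow_mem hx _) (zpow_mem hy _)
    have h1 : ∀ w ∈ R₁, ⁅r, w⁆ = ⁅x, w⁆ ^ j * ⁅y, w⁆ ^ (-i) := fun w hw => by
      rw [hr, hbl _ _ (hcR1 _ (zpow_mem hy _) w hw), hpowl _ _ (hcR1 x hx w hw), hpowl _ _ (hcR1 y hy w hw)]
    have hrx : ⁅r, x⁆ = ⁅v, x⁆ := by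
      rw [h1 x hx, commutatorElement_eq_one_iff_mul_comm.2 rfl, one_zpow, one_mul, ← commutatorElement_inv x y,
        inv_zpow', neg_neg, hi]
    have hry : ⁅r, y⁆ = ⁅v, y⁆ := by
      rw [h1 y hy, commutatorElement_eq_one_iff_mul_comm.2 (rfl : y * y = y * y), one_zpow, mul_one, hj]
    have hc : r⁻¹ * v ∈ C := by
      refine Subgroup.mem_centralizer_iff.2 fun w hw => ?_
      have key : ∀ t, ⁅r, t⁆ = ⁅v, t⁆ → r⁻¹ * v ∈ Subgroup.centralizer ({t} : Set R) := fun t ht => by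
        rw [Subgroup.mem_centralizer_singleton_iff]
        have h2 : r * t * r⁻¹ = v * t * v⁻¹ := by
          have := congrArg (· * t) ht
          simpa [commutatorElement_def, mul_assoc] using this
        have h3 : r⁻¹ * v * t * (r⁻¹ * v)⁻¹ = t := by
          rw [show r⁻¹ * v * t * (r⁻¹ * v)⁻¹ = r⁻¹ * (v * t * v⁻¹) * r by group, ← h2]; group
        exact mul_inv_eq_iff_eq_mul.1 h3
      have hle : R₁ ≤ Subgroup.centralizer ({r⁻¹ * v} : Set R) := (hR1gen x hx y hy hne).trans (by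
        rw [Subgroup.closure_le]
        rintro t (rfl | rfl) <;> refine Subgroup.mem_centralizer_singleton_iff.2 ?_
        · exact (Subgroup.mem_centralizer_singleton_iff.1 (key _ hrx)).symm
        · exact (Subgroup.mem_centralizer_singleton_iff.1 (key _ hry)).symm)
      exact (Subgroup.mem_centralizer_singleton_iff.1 (hle hw))
    rw [show v = r * (r⁻¹ * v) by group]
    exact Subgroup.mul_mem_sup hrR hc
  set W := ⁅R₁, (⊤ : Subgroup R)⁆ with hW
  have hWR1 : W ≤ R₁ := Subgroup.commutator_le_left _ _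
  have hWne : W ≠ R₁ := fun h => hZne (le_bot_iff.1 (inf_le_left.trans (eq_bot_of_le_commutator_top h.ge).le))
  have hWmem : ∀ t : R, ∀ r ∈ R₁, ⁅t, r⁆ ∈ W := fun t r hr => by
    rw [← commutatorElement_inv r t]
    exact inv_mem (Subgroup.commutator_mem_commutator hr (Subgroup.mem_top t))
  have hZW : Z ≤ W := hderZ.ge.trans (Subgroup.commutator_mono le_rfl le_top)
  have hWi : ∀ e : MulAut R, ∀ w ∈ W, e w ∈ W := by
    intro e w hw
    have hle : W ≤ W.comap e.toMonoidHom := Subgroup.commutator_le.2 fun r hr t _ => by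
      show e ⁅r, t⁆ ∈ W
      rw [map_commutatorElement]
      exact Subgroup.commutator_mem_commutator (hR1i e r hr) (Subgroup.mem_top _)
    exact hle hw
  haveI : W.Normal := ⟨fun x hx g => hWi (MulAut.conj g) x hx⟩
  obtain ⟨y, hy, hyW⟩ := SetLike.exists_of_lt (lt_of_le_of_ne hWR1 hWne)
  obtain ⟨x0, hx0, hx0y⟩ : ∃ x ∈ R₁, ⁅x, y⁆ ≠ 1 := by
    by_contra hcon
    push Not at hcon
    refine hyW (hZW ⟨hy, Subgroup.mem_centralizer_iff.2 fun x hx => commutatorElement_eq_one_iff_mul_comm.1 (hcon x hx)⟩)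
  by_cases hWZ : W ≤ Z
  · exact eq_top_iff.2 fun v _ => inN x0 hx0 y hy hx0y v (hWZ (hWmem v x0 hx0)) (hWZ (hWmem v y hy))
  exfalso
  have hWc : Nat.card W = p ^ 2 := by
    obtain ⟨j, hj⟩ := IsPGroup.iff_card.1 (hR.to_subgroup W)
    have h1 : Nat.card W < Nat.card R₁ := by
      refine lt_of_le_of_ne (Subgroup.card_le_of_le hWR1) fun h => hWne (Subgroup.eq_of_le_of_card_ge hWR1 h.ge)
    have h2 : Nat.card Z < Nat.card W := by
      refine lt_of_le_of_ne (Subgroup.card_le_of_le hZW) fun h => hWZ (Subgroup.eq_of_le_of_card_ge hZW h.ge).ge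
    rw [hj, hR1c, Nat.pow_lt_pow_iff_right hp.out.one_lt] at h1
    rw [hj, hZc] at h2
    rw [hj]
    rcases (show j = 0 ∨ j = 1 ∨ j = 2 by omega) with rfl | rfl | rfl
    · rw [pow_zero] at h2; exact absurd h2 (not_lt.2 hp.out.one_lt.le)
    · rw [pow_one] at h2; exact absurd h2 (lt_irrefl p)
    · rfl
  have hWZt : ∀ w ∈ W, ∀ t : R, ⁅t, w⁆ ∈ Z := by
    intro w hw t
    haveI : (W.map (QuotientGroup.mk' Z)).Normal := Subgroup.Normal.map inferInstance _ (QuotientGroup.mk'_surjective Z)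
    have hc : Nat.card (W.map (QuotientGroup.mk' Z)) ≤ p := by
      have h := Grp.SameOrder.card_map_mk Z W
      rw [inf_eq_left.mpr hZW, hZc, hWc, pow_two] at h
      exact (Nat.eq_of_mul_eq_mul_right hp.out.pos h).le
    rw [← QuotientGroup.eq_one_iff]
    show QuotientGroup.mk' Z ⁅t, w⁆ = 1
    rw [map_commutatorElement, commutatorElement_eq_one_iff_mul_comm]
    exact Subgroup.mem_center_iff.1 (Grp.RankThree.central_of_card_le (hR.to_quotient Z) hc ⟨w, hw, rfl⟩) _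
  have hWab : ∀ a ∈ W, ∀ b ∈ W, a * b = b * a := fun a ha b hb =>
    congrArg Subtype.val ((IsPGroup.isMulCommutative_of_card_eq_prime_sq hWc).is_comm.comm (⟨a, ha⟩ : W) ⟨b, hb⟩)
  have hWgen : ∀ w0 ∈ W, w0 ∉ Z → ∀ w ∈ W, ∃ i : ℤ, (w0 ^ i)⁻¹ * w ∈ Z := by
    intro w0 hw0 hw0Z w hw
    have hq : Nat.card (W ⧸ Z.subgroupOf W) = p := by
      have h1 := Subgroup.card_eq_card_quotient_mul_card_subgroup (Z.subgroupOf W)
      rw [hWc, Nat.card_congr (Subgroup.subgroupOfEquivOfLe hZW).toEquiv, hZc, pow_two] at h1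
      exact (Nat.eq_of_mul_eq_mul_right hp.out.pos h1).symm
    obtain ⟨i, hi⟩ := Subgroup.mem_zpowers_iff.1 (mem_zpowers_of_prime_card (p := p) hq
      (g := QuotientGroup.mk' (Z.subgroupOf W) ⟨w0, hw0⟩) (g' := QuotientGroup.mk' _ ⟨w, hw⟩)
      fun h => hw0Z ((QuotientGroup.eq_one_iff (⟨w0, hw0⟩ : W)).1 h))
    refine ⟨i, ?_⟩
    rw [← map_zpow] at hi
    have hi' := (QuotientGroup.eq).1 (hi : QuotientGroup.mk _ = QuotientGroup.mk _)
    simpa [Subgroup.mem_subgroupOf] using hi'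
  have hR1gen' : ∀ r ∈ R₁, ∃ i : ℤ, (y ^ i)⁻¹ * r ∈ W := by
    intro r hr
    have hq : Nat.card (R₁ ⧸ W.subgroupOf R₁) = p := by
      have h1 := Subgroup.card_eq_card_quotient_mul_card_subgroup (W.subgroupOf R₁)
      rw [hR1c, Nat.card_congr (Subgroup.subgroupOfEquivOfLe hWR1).toEquiv, hWc, pow_succ'] at h1
      exact (Nat.eq_of_mul_eq_mul_right (pow_pos hp.out.pos 2) h1).symm
    obtain ⟨i, hi⟩ := Subgroup.mem_zpowers_iff.1 (mem_zpowers_of_prime_card (p := p) hq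
      (g := QuotientGroup.mk' (W.subgroupOf R₁) ⟨y, hy⟩) (g' := QuotientGroup.mk' _ ⟨r, hr⟩)
      fun h => hyW ((QuotientGroup.eq_one_iff (⟨y, hy⟩ : R₁)).1 h))
    refine ⟨i, ?_⟩
    rw [← map_zpow] at hi
    have hi' := (QuotientGroup.eq).1 (hi : QuotientGroup.mk _ = QuotientGroup.mk _)
    simpa [Subgroup.mem_subgroupOf] using hi'
  -- an element outside `N`
  obtain ⟨u, hu⟩ : ∃ u, ⁅u, y⁆ ∉ Z := by
    by_contra hcon
    push Not at hcon
    refine hWZ (Subgroup.commutator_le.2 fun r hr t _ => ?_)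
    obtain ⟨i, hi⟩ := hR1gen' r hr
    rw [← commutatorElement_inv t r]
    refine inv_mem ?_
    rw [show r = y ^ i * ((y ^ i)⁻¹ * r) by group, commutatorElement_mul_right_eq_mul_conj,
      mul_assoc ⁅t, y ^ i⁆, ← (hZcentral _ (hWZt _ hi t) (y ^ i)).eq, ← mul_assoc, mul_inv_cancel_right]
    refine mul_mem ?_ (hWZt _ hi t)
    rw [hpowr t y (by rw [← commutatorElement_inv t y]; exact inv_mem (hcon t)) i]
    exact zpow_mem (hcon t) i
  set w := ⁅u, y⁆ with hw
  have hwW : w ∈ W := hWmem u y hy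
  have hyw : ⁅y, w⁆ ≠ 1 := fun h0 => by
    refine hR1nab fun a ha b hb => ?_
    obtain ⟨i, hi⟩ := hR1gen' a ha
    obtain ⟨j, hj⟩ := hR1gen' b hb
    have hc : ∀ t ∈ W, Commute y t := fun t ht => by
      obtain ⟨k, hk⟩ := hWgen w hwW hu t ht
      rw [show t = w ^ k * ((w ^ k)⁻¹ * t) by group]
      exact ((show Commute y w from commutatorElement_eq_one_iff_mul_comm.1 h0).zpow_right k).mul_right
        (hZcentral _ hk y).symm
    rw [show a = y ^ i * ((y ^ i)⁻¹ * a) by group, show b = y ^ j * ((y ^ j)⁻¹ * b) by group]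
    exact ((((Commute.refl y).zpow_zpow i j).mul_right ((hc _ hj).zpow_left i)).mul_left
      (((hc _ hi).zpow_left j).symm.mul_right (hWab _ hi _ hj))).eq
  have hNcomm : ∀ d ∈ N, ∀ t ∈ R₁, ⁅d, t⁆ ∈ Z := fun d hd t ht => by
    obtain ⟨r, hr, c, hc, rfl⟩ := hNmem d hd
    rw [commutatorElement_mul_left_eq_conj_mul, commutatorElement_eq_one_iff_mul_comm.2
      (Subgroup.mem_centralizer_iff.1 hc t ht).symm]
    simpa using hcR1 r hr t ht
  have huN : u ∉ N := fun h => hu (hNcomm u h y hy)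
  -- bilinearity modulo `Z`
  let π := QuotientGroup.mk' Z
  have hWcen : ∀ v ∈ W, ∀ t : R, Commute (π v) (π t) := fun v hv t => by
    rw [commute_iff_eq, ← commutatorElement_eq_one_iff_mul_comm, ← map_commutatorElement]
    refine (QuotientGroup.eq_one_iff _).2 ?_
    rw [← commutatorElement_inv t v]; exact inv_mem (hWZt v hv t)
  have hQl : ∀ r ∈ R₁, ∀ t : R, ∀ i : ℤ, π ⁅t ^ i, r⁆ = π ⁅t, r⁆ ^ i := by
    intro r hr t i
    let g : R →* R ⧸ Z :=
      { toFun := fun v => π ⁅v, r⁆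
        map_one' := by rw [commutatorElement_one_left, map_one]
        map_mul' := fun a b => by
          rw [commutatorElement_mul_left_eq_conj_mul, map_mul, map_mul, map_mul, map_inv,
            ← (hWcen _ (hWmem b r hr) a).eq, mul_inv_cancel_right, (hWcen _ (hWmem b r hr) _).eq] }
    exact map_zpow g t i
  have hQm : ∀ r ∈ R₁, ∀ a b : R, π ⁅a * b, r⁆ = π ⁅a, r⁆ * π ⁅b, r⁆ := fun r hr a b => by
    rw [commutatorElement_mul_left_eq_conj_mul, map_mul, map_mul, map_mul, map_inv,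
      ← (hWcen _ (hWmem b r hr) a).eq, mul_inv_cancel_right, (hWcen _ (hWmem b r hr) _).eq]
  have hQr : ∀ r ∈ R₁, ∀ t : R, ∀ i : ℤ, π ⁅t, r ^ i⁆ = π ⁅t, r⁆ ^ i := by
    intro r hr t i
    let g : R₁ →* R ⧸ Z :=
      { toFun := fun v => π ⁅t, (v : R)⁆
        map_one' := by rw [OneMemClass.coe_one, commutatorElement_one_right, map_one]
        map_mul' := fun a b => by
          rw [Subgroup.coe_mul, commutatorElement_mul_right_eq_mul_conj, map_mul, map_mul, map_mul, map_inv,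
            mul_assoc (π ⁅t, (a : R)⁆), ← (hWcen _ (hWmem t b b.2) a).eq, mul_assoc, mul_inv_cancel_right] }
    exact map_zpow g ⟨r, hr⟩ i
  have hπ : ∀ v : R, π v = 1 ↔ v ∈ Z := fun v => QuotientGroup.eq_one_iff v
  have hdec : ∀ v : R, ∃ i : ℤ, (u ^ i)⁻¹ * v ∈ N := by
    intro v
    obtain ⟨i, hi⟩ := hWgen w hwW hu _ (hWmem v y hy)
    refine ⟨i, inN y hy w (hWR1 hwW) hyw _ ?_ (hWZt w hwW _)⟩
    rw [← hπ, hQm y hy, ← zpow_neg, hQl y hy u, ← hw]
    have h2 : π w ^ i = π ⁅v, y⁆ := by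
      have := (hπ _).2 hi
      rwa [map_mul, map_inv, map_zpow, inv_mul_eq_one] at this
    rw [← h2, ← zpow_add, neg_add_cancel, zpow_zero]
  have hup : u ^ p ∈ N := by
    refine inN y hy w (hWR1 hwW) hyw _ ?_ (hWZt w hwW _)
    rw [← hπ, ← zpow_natCast u p, hQl y hy u, ← hw, zpow_natCast, ← map_pow, show w ^ p = 1 from hWR1 hwW, map_one]
  have hNi : ∀ a, ∀ v ∈ N, f a v ∈ N := fun a v hv => by
    obtain ⟨r, hr, c, hc, rfl⟩ := hNmem v hv
    rw [map_mul]
    exact Subgroup.mul_mem_sup (hR1i (f a) r hr) (hCi (f a) c hc)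
  haveI : C.Normal := ⟨fun x hx g => hCi (MulAut.conj g) x hx⟩
  have hNder : ∀ s t : R, ⁅s, t⁆ ∈ N := fun s t => by
    rw [← QuotientGroup.eq_one_iff]
    show QuotientGroup.mk' N ⁅s, t⁆ = 1
    obtain ⟨i, hi⟩ := hdec s
    obtain ⟨j, hj⟩ := hdec t
    have h1 : ∀ (x : R) (k : ℤ), (u ^ k)⁻¹ * x ∈ N → QuotientGroup.mk' N x = QuotientGroup.mk' N u ^ k :=
      fun x k hk => by rw [← map_zpow]; exact ((QuotientGroup.eq).2 hk).symm
    rw [map_commutatorElement, h1 s i hi, h1 t j hj, commutatorElement_eq_one_iff_mul_comm]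
    exact ((Commute.refl (QuotientGroup.mk' N u)).zpow_zpow i j).eq
  obtain ⟨a₀, ha₀⟩ : ∃ a, u⁻¹ * f a u ∉ N := by
    by_contra hcon
    push Not at hcon
    exact huN (mem_of_fixed hR hcop f hgen N hNi hNder hcon)
  -- `u` centralizes `C`
  have hNC : ∀ d ∈ N, ∀ c ∈ C, Commute d c := fun d hd c hc => by
    obtain ⟨r, hr, c', hc', rfl⟩ := hNmem d hd
    letI := hCc.commGroup
    exact Commute.mul_left (Subgroup.mem_centralizer_iff.1 hc r hr)
      (congrArg Subtype.val (mul_comm (⟨c', hc'⟩ : C) ⟨c, hc⟩))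
  obtain ⟨⟨g, hg⟩, hgg⟩ := hCc.exists_generator
  have hCgen : ∀ c ∈ C, ∃ i : ℤ, c = g ^ i := fun c hc => by
    obtain ⟨i, hi⟩ := Subgroup.mem_zpowers_iff.1 (hgg ⟨c, hc⟩)
    exact ⟨i, by simpa using (congrArg Subtype.val hi).symm⟩
  have huC : ∀ c ∈ C, Commute u c := by
    obtain ⟨l, hl⟩ := hCgen _ ((inferInstance : C.Normal).conj_mem g hg u)
    obtain ⟨m, hm⟩ := hdec (f a₀ u)
    have hlin : ∀ c ∈ C, u * c * u⁻¹ = c ^ l := fun c hc => by
      obtain ⟨i, rfl⟩ := hCgen c hc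
      rw [← conj_zpow, hl, ← zpow_mul, ← zpow_mul, mul_comm]
    have hmc : ∀ c ∈ C, Commute (u ^ (m - 1)) c := fun c hc => by
      obtain ⟨c, rfl⟩ := (f a₀).surjective c
      have hc0 : c ∈ C := by simpa using hCi (f a₀).symm _ hc
      set d := (u ^ m)⁻¹ * f a₀ u with hd
      have h1 : f a₀ (u * c * u⁻¹) = u ^ m * f a₀ c * (u ^ m)⁻¹ := by
        rw [map_mul, map_mul, map_inv, show f a₀ u = u ^ m * d by rw [hd]; group, mul_inv_rev]
        rw [show u ^ m * d * f a₀ c * (d⁻¹ * (u ^ m)⁻¹) = u ^ m * (d * f a₀ c * d⁻¹) * (u ^ m)⁻¹ by group,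
          (hNC d hm _ hc).eq, mul_inv_cancel_right]
      rw [hlin c hc0, map_zpow, ← hlin _ hc] at h1
      have h2 : (u⁻¹ * u ^ m) * f a₀ c * (u⁻¹ * u ^ m)⁻¹ = f a₀ c := by
        rw [show (u⁻¹ * u ^ m) * f a₀ c * (u⁻¹ * u ^ m)⁻¹ = u⁻¹ * (u ^ m * f a₀ c * (u ^ m)⁻¹) * u by group, ← h1]
        group
      rw [show u ^ (m - 1) = u⁻¹ * u ^ m by rw [zpow_sub_one]; group]
      exact mul_inv_eq_iff_eq_mul.1 h2
    have hm1 : ¬ (p : ℤ) ∣ m - 1 := fun ⟨e, he⟩ => ha₀ (by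
      rw [show u⁻¹ * f a₀ u = u ^ (m - 1) * ((u ^ m)⁻¹ * f a₀ u) by group, he, zpow_mul, zpow_natCast]
      exact mul_mem (zpow_mem hup e) hm)
    obtain ⟨k, hk⟩ := IsPGroup.iff_orderOf.1 hR u
    obtain ⟨s, t, hst⟩ := (((Nat.prime_iff_prime_int.1 hp.out).coprime_iff_not_dvd.2 hm1).symm.pow_right (n := k))
    intro c hc
    have h3 : u = (u ^ (m - 1)) ^ s := by
      have h4 : u ^ ((p : ℤ) ^ k) = 1 := by
        rw [show ((p : ℤ) ^ k) = ((p ^ k : ℕ) : ℤ) by norm_num, zpow_natCast, ← hk, pow_orderOf_eq_one]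
      calc u = u ^ (s * (m - 1) + t * (p : ℤ) ^ k) := by rw [hst, zpow_one]
        _ = (u ^ (m - 1)) ^ s := by rw [zpow_add, mul_comm t, zpow_mul u _ t, h4, one_zpow, mul_one, mul_comm, zpow_mul]
    rw [h3]
    exact (hmc c hc).zpow_left s
  have hcentral : ∀ c ∈ C, ∀ v : R, Commute c v := fun c hc v => by
    obtain ⟨i, hi⟩ := hdec v
    rw [show v = u ^ i * ((u ^ i)⁻¹ * v) by group]
    exact ((huC c hc).symm.zpow_right i).mul_right (hNC _ hi c hc).symm
  -- the derived subgroup lies in `W`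
  have hder : ∀ s t : R, ⁅s, t⁆ ∈ W := fun s t => by
    rw [← QuotientGroup.eq_one_iff]
    let ρ := QuotientGroup.mk' W
    show ρ ⁅s, t⁆ = 1
    have hcen : ∀ v : R, ∀ d ∈ N, Commute (ρ d) (ρ v) := fun v d hd => by
      obtain ⟨r, hr, c, hc, rfl⟩ := hNmem d hd
      rw [map_mul]
      refine Commute.mul_left ?_ ((hcentral c hc v).map ρ)
      rw [commute_iff_eq, ← commutatorElement_eq_one_iff_mul_comm, ← map_commutatorElement]
      exact (QuotientGroup.eq_one_iff _).2 (Subgroup.commutator_mem_commutator hr (Subgroup.mem_top v))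
    obtain ⟨i, hi⟩ := hdec s
    obtain ⟨j, hj⟩ := hdec t
    rw [map_commutatorElement, commutatorElement_eq_one_iff_mul_comm, show s = u ^ i * ((u ^ i)⁻¹ * s) by group,
      show t = u ^ j * ((u ^ j)⁻¹ * t) by group, map_mul, map_mul]
    refine (Commute.mul_left (Commute.mul_right ?_ (hcen _ _ hj).symm)
      (Commute.mul_right (hcen _ _ hi) (hcen _ _ hi))).eq
    rw [map_zpow, map_zpow]
    exact (Commute.refl (ρ u)).zpow_zpow i j
  have hreg : Cfsg.IsRegularPGroup p R := by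
    refine Grp.isRegularPGroup_of_class_lt hR (le_bot_iff.1 ?_)
    refine le_trans (Subgroup.lowerCentralSeries_antitone _ (show 3 ≤ p - 1 by omega)) ?_
    have h1 : (⊤ : Subgroup R).lowerCentralSeries 1 ≤ W := by
      rw [Subgroup.lowerCentralSeries_succ, Subgroup.lowerCentralSeries_zero, Subgroup.commutator_le]
      exact fun s _ t _ => hder s t
    have h2 : (⊤ : Subgroup R).lowerCentralSeries 2 ≤ Z := by
      rw [Subgroup.lowerCentralSeries_succ, Subgroup.commutator_le]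
      intro s hs t _
      rw [← commutatorElement_inv t s]
      exact inv_mem (hWZt s (h1 hs) t)
    rw [Subgroup.lowerCentralSeries_succ, Subgroup.commutator_le]
    intro s hs t _
    rw [Subgroup.mem_bot]
    exact commutatorElement_eq_one_iff_mul_comm.2 (hZcentral s (h2 hs) t).eq
  have hpmul : ∀ s t : R, (s * t) ^ p = s ^ p * t ^ p := fun s t => by
    obtain ⟨c, hc, he⟩ := hreg.2 s t 1
    rw [Regular.powerClosure_eq_bot fun v hv => by
      rw [pow_one]
      exact hWR1 ((Subgroup.commutator_le.2 fun s' _ t' _ => hder s' t') hv)] at hc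
    rw [Subgroup.mem_bot] at hc
    simpa [hc] using he
  have hpC : ∀ s : R, s ^ p ∈ C := fun s => Subgroup.mem_centralizer_iff.2 fun t _ => by
    have h : (t * s * t⁻¹) ^ p = s ^ p := by
      simpa using (Regular.pow_eq_iff hreg (t * s * t⁻¹) s 1).2 (by
        rw [pow_one]; exact hWR1 (hder t s))
    rw [conj_pow] at h
    exact mul_inv_eq_iff_eq_mul.1 h
  -- `u ^ p` generates `C`
  have hc0 : ∀ c ∈ C, ∃ i : ℤ, (u ^ p) ^ i = c := by
    obtain ⟨i, hi⟩ := hCgen _ (hpC u)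
    have hip : ¬ (p : ℤ) ∣ i := fun ⟨j, hj⟩ => by
      have h1 : (u * (g ^ j)⁻¹) ^ p = 1 := by
        rw [hpmul, hi, hj, inv_pow, ← zpow_natCast (g ^ j), ← zpow_mul, mul_comm, mul_inv_cancel]
      refine huN ?_
      rw [show u = (u * (g ^ j)⁻¹) * g ^ j by group]
      exact Subgroup.mul_mem_sup h1 (zpow_mem hg j)
    obtain ⟨k, hk⟩ := IsPGroup.iff_orderOf.1 hR g
    obtain ⟨s, t, hst⟩ := (((Nat.prime_iff_prime_int.1 hp.out).coprime_iff_not_dvd.2 hip).symm.pow_right (n := k))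
    intro c hc
    obtain ⟨l, rfl⟩ := hCgen c hc
    have h4 : g ^ ((p : ℤ) ^ k) = 1 := by
      rw [show ((p : ℤ) ^ k) = ((p ^ k : ℕ) : ℤ) by norm_num, zpow_natCast, ← hk, pow_orderOf_eq_one]
    refine ⟨s * l, ?_⟩
    calc (u ^ p) ^ (s * l) = (g ^ (s * i + t * (p : ℤ) ^ k)) ^ l := by
          rw [hi, zpow_add, mul_comm t, zpow_mul g _ t, h4, one_zpow, mul_one, ← zpow_mul, ← zpow_mul]
          congr 1; ring
      _ = g ^ l := by rw [hst, zpow_one]
  set z0 := ⁅y, w⁆ with hz0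
  have hz0Z : z0 ∈ Z := hcR1 y hy w (hWR1 hwW)
  have hz0p : z0 ^ p = 1 := hz0Z.1
  obtain ⟨s0, hs0⟩ := hc0 z0 hz0Z.2
  have hymod : ∀ e : ℤ, y ^ e ∈ W → (e : ZMod p) = 0 := fun e he => by
    by_contra h0
    rw [ZMod.intCast_zmod_eq_zero_iff_dvd] at h0
    obtain ⟨s, t, hst⟩ := ((Nat.prime_iff_prime_int.1 hp.out).coprime_iff_not_dvd.2 h0)
    refine hyW ?_
    have h1 : y = (y ^ (p : ℤ)) ^ s * (y ^ e) ^ t := by
      rw [← zpow_mul, ← zpow_mul, ← zpow_add, mul_comm (p : ℤ), mul_comm e, hst, zpow_one]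
    rw [h1, zpow_natCast, show y ^ p = 1 from hy, one_zpow, one_mul]
    exact zpow_mem he t
  refine hyW (mem_of_fixed hR hcop f hgen W (fun a => hWi (f a)) hder fun a => ?_)
  obtain ⟨m, hm⟩ := hdec (f a u)
  obtain ⟨k, hk⟩ := hR1gen' _ (hR1i (f a) y hy)
  set d := (u ^ m)⁻¹ * f a u with hd
  set w' := (y ^ k)⁻¹ * f a y with hw'
  have hau : f a u = u ^ m * d := by rw [hd]; group
  have hay : f a y = y ^ k * w' := by rw [hw']; group
  have haw : π (f a w) = π w ^ (k * m) := by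
    have hyk : y ^ k ∈ R₁ := zpow_mem hy k
    have hA : π ⁅u ^ m * d, y ^ k⁆ = π ⁅u ^ m, y ^ k⁆ := by
      rw [hQm _ hyk, (hπ _).2 (hNcomm d hm _ hyk), mul_one]
    have hB : π ⁅u ^ m * d, w'⁆ = 1 := (hπ _).2 (hWZt w' hk _)
    rw [hw, map_commutatorElement, hau, hay, commutatorElement_mul_right_eq_mul_conj, map_mul, map_mul, map_mul,
      hB, mul_one, map_inv, mul_inv_cancel_right, hA, hQr y hy, hQl y hy, ← hw, ← zpow_mul, mul_comm m k]
  have hz0a : f a z0 = z0 ^ (k * (k * m)) := by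
    have hz : (w ^ (k * m))⁻¹ * f a w ∈ Z := by
      rw [← hπ, map_mul, map_inv, map_zpow, haw, inv_mul_cancel]
    set z := (w ^ (k * m))⁻¹ * f a w with hzdef
    have hwkm : w ^ (k * m) ∈ W := zpow_mem hwW _
    rw [hz0, map_commutatorElement, hay, show f a w = w ^ (k * m) * z by rw [hzdef]; group,
      commutatorElement_mul_right_eq_mul_conj, commutatorElement_eq_one_iff_mul_comm.2 (hZcentral z hz _).symm.eq,
      mul_one, mul_inv_cancel_right, commutatorElement_mul_left_eq_conj_mul,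
      commutatorElement_eq_one_iff_mul_comm.2 (hWab w' hk _ hwkm), mul_one, mul_inv_cancel, one_mul,
      hpowl y _ (hcR1 y hy _ (hWR1 hwkm)), hpowr y w (hcR1 w (hWR1 hwW) y hy), ← zpow_mul, mul_comm (k * m)]
  have hz0m : f a z0 = z0 ^ m := by
    obtain ⟨r, hr, c, hc, hdrc⟩ := hNmem d hm
    obtain ⟨t, ht⟩ := hc0 c hc
    have h2 : (f a u) ^ p = (u ^ p) ^ m * ((u ^ p) ^ t) ^ p := by
      rw [hau, hpmul, hdrc, hpmul, show r ^ p = 1 from hr, one_mul, ← ht]
      congr 1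
      rw [← zpow_natCast (u ^ m), ← zpow_mul, mul_comm, zpow_mul, zpow_natCast]
    calc f a z0 = ((f a u) ^ p) ^ s0 := by rw [← hs0, map_zpow, map_pow]
      _ = z0 ^ m * (z0 ^ p) ^ t := by
        rw [h2, ((((Commute.refl (u ^ p)).zpow_zpow m t)).pow_right p).mul_zpow, ← hs0,
          ← zpow_natCast ((u ^ p) ^ t) p, ← zpow_natCast ((u ^ p) ^ s0) p]
        simp only [← zpow_mul]
        congr 2 <;> ring
      _ = z0 ^ m := by rw [hz0p, one_zpow, mul_one]
  have hkm : ((k * (k * m) : ℤ) : ZMod p) = (m : ZMod p) :=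
    (zpowers_eq_iff hz0p hyw).1 (hz0a.symm.trans hz0m)
  have hm0 : (m : ZMod p) ≠ 0 := fun h => by
    obtain ⟨e, he⟩ := (ZMod.intCast_zmod_eq_zero_iff_dvd m p).1 h
    refine huN ?_
    have h1 : f a u ∈ N := by
      rw [hau, he, zpow_mul, zpow_natCast]
      exact mul_mem (zpow_mem hup e) hm
    have := hNi a⁻¹ _ h1
    simpa using this
  have hk2 : (k : ZMod p) ^ 2 = 1 := by
    push_cast at hkm
    exact mul_right_cancel₀ hm0 (by rw [one_mul, sq, mul_assoc]; exact hkm)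
  rcases sq_eq_one_iff.1 hk2 with hk1 | hk1
  · obtain ⟨e, he⟩ := (ZMod.intCast_eq_intCast_iff_dvd_sub (1 : ℤ) k p).1 (by rw [hk1]; norm_num)
    rw [show y⁻¹ * f a y = y ^ (k - 1) * w' by rw [hw']; group, he, zpow_mul, zpow_natCast,
      show y ^ p = 1 from hy, one_zpow, one_mul]
    exact hk
  · exfalso
    have hit : ∀ n : ℕ, (y ^ (k ^ n))⁻¹ * f (a ^ n) y ∈ W := by
      intro n
      induction n with
      | zero => simpa using one_mem W
      | succ n ih =>
        set t := (y ^ (k ^ n))⁻¹ * f (a ^ n) y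
        have h1 : f (a ^ (n + 1)) y = (y ^ k * w') ^ (k ^ n) * f a t := by
          rw [pow_succ', map_mul, MulAut.mul_apply, show f (a ^ n) y = y ^ (k ^ n) * t by simp [t],
            map_mul, map_zpow, hay]
        have h2 : QuotientGroup.mk' W ((y ^ (k ^ (n + 1)))⁻¹ * f (a ^ (n + 1)) y) = 1 := by
          rw [h1, map_mul, map_inv, map_mul, map_zpow, map_zpow, map_mul, map_zpow,
            show QuotientGroup.mk' W w' = 1 from (QuotientGroup.eq_one_iff _).2 hk,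
            show QuotientGroup.mk' W (f a t) = 1 from (QuotientGroup.eq_one_iff _).2 (hWi (f a) t ih),
            mul_one, mul_one, ← zpow_mul, ← pow_succ', inv_mul_cancel]
        exact (QuotientGroup.eq_one_iff _).1 h2
    have h3 : y ^ (1 - k ^ Nat.card A) ∈ W := by
      have := hit (Nat.card A)
      rw [pow_card_eq_one', map_one, MulAut.one_apply] at this
      rwa [zpow_sub, zpow_one, ((Commute.refl y).zpow_left _).inv_left.symm.eq]
    have h4 := hymod _ h3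
    push_cast at h4
    rw [hk1, hodd.neg_one_pow, sub_neg_eq_add] at h4
    have h5 : ((2 : ℕ) : ZMod p) = 0 := by norm_num; rw [← one_add_one_eq_two]; exact h4
    exact hp2 ((Nat.prime_dvd_prime_iff_eq hp.out Nat.prime_two).1 ((ZMod.natCast_eq_zero_iff _ _).1 h5) )

end Cfsg.Agent.Transfer.MetaCoprime
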