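import Mathlib

/-!
Irreducible modules of a group of prime order over a finite prime field, read inside a finite field.
-/

set_option autoImplicit false
set_option linter.style.haveILetI false
set_option maxHeartbeats 400000

namespace Cfsg.Agent.Transfer.Schmidt

variable (p q : ℕ) [hp : Fact p.Prime] [hq : Fact q.Prime]

/-- `q` divides `p ^ n - 1` exactly when the order of `p` modulo `q` divides `n`. -/
theorem orderOf_dvd_iff_dvd_sub (n : ℕ) :
    orderOf (p : ZMod q) ∣ n ↔ q ∣ p ^ n - 1 := by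
  rw [orderOf_dvd_iff_pow_eq_one, ← ZMod.natCast_eq_zero_iff,
    Nat.cast_sub (Nat.one_le_pow _ _ hp.out.pos), Nat.cast_pow, Nat.cast_one, sub_eq_zero]

theorem orderOf_pos (hpq : p ≠ q) : 0 < orderOf (p : ZMod q) := by
  refine Nat.pos_of_ne_zero fun h => ?_
  have hne : (p : ZMod q) ≠ 0 := fun e =>
    hpq ((Nat.prime_dvd_prime_iff_eq hq.out hp.out).1 ((ZMod.natCast_eq_zero_iff p q).1 e)).symm
  exact (orderOf_eq_zero_iff'.mp h (q - 1) (by have := hq.out.two_le; omega))
    (ZMod.pow_card_sub_one_eq_one hne)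

variable {p q}

section module

variable {V : Type*} [AddCommGroup V] [Finite V]

omit hq in
/-- In the ring generated by `T` every element is fixed by the `p ^ a`-th power map, if `T` is. -/
theorem mem_closure_pow [Nontrivial V] (hpV : ∀ v : V, p • v = 0) (T : AddMonoid.End V) (a : ℕ)
    (hT : T ^ p ^ a = T) (z : Subring.closure ({T} : Set (AddMonoid.End V))) : z ^ p ^ a = z := by
  letI : CommRing (Subring.closure ({T} : Set (AddMonoid.End V))) :=
    Subring.closureCommRingOfComm (fun x hx y hy => by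
      rw [Set.mem_singleton_iff] at hx hy; rw [hx, hy])
  haveI : CharP (Subring.closure ({T} : Set (AddMonoid.End V))) p := by
    have h0 : ((p : ℕ) : Subring.closure ({T} : Set (AddMonoid.End V))) = 0 := Subtype.ext (by
      push_cast
      exact AddMonoidHom.ext fun v => (AddMonoid.End.natCast_apply p v).trans (hpV v))
    obtain ⟨c, hc⟩ := CharP.exists (Subring.closure ({T} : Set (AddMonoid.End V)))
    have hd : c ∣ p := (CharP.cast_eq_zero_iff _ c p).mp h0
    rcases (Nat.dvd_prime hp.out).mp hd with rfl | rfl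
    · exfalso
      obtain ⟨v, hv⟩ := exists_ne (0 : V)
      have h1 : ((1 : ℕ) : Subring.closure ({T} : Set (AddMonoid.End V))) = 0 :=
        (CharP.cast_eq_zero_iff _ 1 1).mpr dvd_rfl
      rw [Nat.cast_one] at h1
      exact hv (congrArg (fun z : Subring.closure ({T} : Set (AddMonoid.End V)) => (z : AddMonoid.End V) v) h1)
    · exact hc
  obtain ⟨z, hz⟩ := z
  induction hz using Subring.closure_induction with
  | mem x hx =>
    rw [Set.mem_singleton_iff] at hx
    subst hx
    exact Subtype.ext hT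
  | zero => exact zero_pow (pow_ne_zero _ hp.out.ne_zero)
  | one => exact one_pow _
  | add x y hx hy ihx ihy =>
    rw [show (⟨x + y, _⟩ : Subring.closure ({T} : Set (AddMonoid.End V))) = ⟨x, hx⟩ + ⟨y, hy⟩ from rfl,
      add_pow_char_pow, ihx, ihy]
  | neg x hx ih =>
    have h2 := add_pow_char_pow (p := p) (n := a) (⟨x, hx⟩ : Subring.closure ({T} : Set (AddMonoid.End V))) (-⟨x, hx⟩)
    rw [add_neg_cancel, zero_pow (pow_ne_zero _ hp.out.ne_zero), ih] at h2
    exact (eq_neg_of_add_eq_zero_right h2.symm).trans rfl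
  | mul x y hx hy ihx ihy =>
    rw [show (⟨x * y, _⟩ : Subring.closure ({T} : Set (AddMonoid.End V))) = ⟨x, hx⟩ * ⟨y, hy⟩ from rfl,
      mul_pow, ihx, ihy]

/-- An irreducible fixed-point-free module of an element of order `q` is the field with `p ^ a`
elements, the element acting as a `q`-th root of unity. -/
theorem exists_field_equiv [Nontrivial V] (hpq : p ≠ q) (hpV : ∀ v : V, p • v = 0)
    (T : AddMonoid.End V) (hTq : T ^ q = 1)
    (hirr : ∀ W : AddSubgroup V, (∀ w ∈ W, T w ∈ W) → W = ⊥ ∨ W = ⊤)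
    (hfix : ∀ v, T v = v → v = 0)
    {a : ℕ} (ha : a = orderOf (p : ZMod q)) (ζ : GaloisField p a) (hζ : IsPrimitiveRoot ζ q) :
    ∃ (k : ℕ) (e : GaloisField p a ≃+ V), k.Coprime q ∧ ∀ x, e (ζ ^ k * x) = T (e x) := by
  classical
  have ha0 : a ≠ 0 := ha ▸ (orderOf_pos p q hpq).ne'
  obtain ⟨m, hm⟩ := (orderOf_dvd_iff_dvd_sub p q a).mp (dvd_of_eq ha.symm)
  have hTa : T ^ p ^ a = T := by
    have h : p ^ a = q * m + 1 := by have := Nat.one_le_pow a p hp.out.pos; omega
    rw [h, pow_succ, pow_mul, hTq, one_pow, one_mul]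
  let R := Subring.closure ({T} : Set (AddMonoid.End V))
  letI : CommRing R := Subring.closureCommRingOfComm (fun x hx y hy => by
      rw [Set.mem_singleton_iff] at hx hy; rw [hx, hy])
  have hker : ∀ z : R, z ≠ 0 → ∀ v, (z : AddMonoid.End V) v = 0 → v = 0 := by
    intro z hz v hv
    have hzT : (z : AddMonoid.End V) * T = T * z :=
      congrArg Subtype.val (mul_comm z ⟨T, Subring.subset_closure rfl⟩)
    let zh : V →+ V := (z : AddMonoid.End V)
    rcases hirr zh.ker (fun w hw => by
      rw [AddMonoidHom.mem_ker] at hw ⊢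
      show (z : AddMonoid.End V) (T w) = 0
      change (z : AddMonoid.End V) w = 0 at hw
      calc (z : AddMonoid.End V) (T w) = T ((z : AddMonoid.End V) w) := DFunLike.congr_fun hzT w
        _ = 0 := by rw [hw, map_zero]) with h | h
    · exact (AddSubgroup.eq_bot_iff_forall _).mp h v (AddMonoidHom.mem_ker.mpr hv)
    · refine absurd (Subtype.ext (AddMonoidHom.ext fun w => ?_)) hz
      exact AddMonoidHom.mem_ker.mp (h.ge (AddSubgroup.mem_top w))
  obtain ⟨v₀, hv₀⟩ := exists_ne (0 : V)
  let f : R →+ V :=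
    { toFun := fun z => (z : AddMonoid.End V) v₀, map_zero' := rfl, map_add' := fun _ _ => rfl }
  have hfinj : Function.Injective f := by
    rw [injective_iff_map_eq_zero]
    intro z hz
    by_contra h
    exact hv₀ (hker z h v₀ hz)
  have hfsurj : Function.Surjective f := by
    rw [← AddMonoidHom.range_eq_top]
    refine (hirr f.range ?_).resolve_left fun h => hv₀ ?_
    · rintro _ ⟨z, rfl⟩
      exact ⟨⟨T, Subring.subset_closure rfl⟩ * z, rfl⟩
    · exact (AddSubgroup.eq_bot_iff_forall _).mp h v₀ ⟨1, rfl⟩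
  haveI : Finite R := Finite.of_injective f hfinj
  haveI : Nontrivial R := ⟨0, 1, fun e => hv₀ (congrArg (fun z : R => (z : AddMonoid.End V) v₀) e).symm⟩
  haveI : NoZeroDivisors R := ⟨fun {x y} hxy => by
    by_contra h
    push Not at h
    refine h.2 (hfinj ?_)
    show (y : AddMonoid.End V) v₀ = 0
    exact hker x h.1 _ (congrArg (fun z : R => (z : AddMonoid.End V) v₀) hxy)⟩
  haveI : IsDomain R := NoZeroDivisors.to_isDomain R
  letI : Fintype R := Fintype.ofFinite R
  letI : Field R := Fintype.fieldOfDomain R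
  -- the order of the field
  let t : R := ⟨T, Subring.subset_closure rfl⟩
  have ht1 : t ≠ 1 := fun e => hv₀ (hfix v₀ (congrArg (fun z : R => (z : AddMonoid.End V) v₀) e))
  have htq : t ^ q = 1 := Subtype.ext hTq
  have hto : orderOf t = q := orderOf_eq_prime htq ht1
  have hRp : ∀ z : R, p • z = 0 := fun z => Subtype.ext (AddMonoidHom.ext fun v => hpV _)
  haveI : CharP R p := by
    obtain ⟨c, hc⟩ := CharP.exists R
    have hd : c ∣ p := (CharP.cast_eq_zero_iff R c p).mp (by simpa using hRp 1)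
    rcases (Nat.dvd_prime hp.out).mp hd with rfl | rfl
    · exfalso
      have h1 : ((1 : ℕ) : R) = 0 := (CharP.cast_eq_zero_iff R 1 1).mpr dvd_rfl
      rw [Nat.cast_one] at h1
      exact one_ne_zero h1
    · exact hc
  obtain ⟨d, -, hd⟩ := FiniteField.card R p
  have hle : Fintype.card R ≤ p ^ a := by
    have hnz : (Polynomial.X ^ p ^ a - Polynomial.X : Polynomial R) ≠ 0 :=
      FiniteField.X_pow_card_pow_sub_X_ne_zero R ha0 hp.out.one_lt
    have hsub : (Finset.univ : Finset R) ⊆ (Polynomial.X ^ p ^ a - Polynomial.X : Polynomial R).roots.toFinset := by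
      intro z _
      rw [Multiset.mem_toFinset, Polynomial.mem_roots hnz]
      have := mem_closure_pow hpV T a hTa z
      simp [Polynomial.IsRoot, this]
    calc Fintype.card R ≤ _ := Finset.card_le_card hsub
      _ ≤ Multiset.card _ := Multiset.toFinset_card_le _
      _ ≤ _ := Polynomial.card_roots' _
      _ = p ^ a := FiniteField.X_pow_card_pow_sub_X_natDegree_eq R ha0 hp.out.one_lt
  have hge : a ∣ (d : ℕ) := by
    rw [ha, orderOf_dvd_iff_dvd_sub, ← hd, ← hto]
    exact orderOf_dvd_of_pow_eq_one (FiniteField.pow_card_sub_one_eq_one t fun e => by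
      rw [e, zero_pow hq.out.ne_zero] at htq; exact zero_ne_one htq)
  have hcard : Fintype.card R = p ^ a := le_antisymm hle (by
    rw [hd]; exact Nat.pow_le_pow_right hp.out.pos (Nat.le_of_dvd d.pos hge))
  letI : Fintype (GaloisField p a) := Fintype.ofFinite _
  let φ : GaloisField p a ≃+* R := FiniteField.ringEquivOfCardEq (by
    rw [hcard, ← Nat.card_eq_fintype_card, GaloisField.card p a ha0])
  obtain ⟨k, hk, hkk⟩ := hζ.eq_pow_of_pow_eq_one (show φ.symm t ^ q = 1 by rw [← map_pow, htq, map_one])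
  have hkq : k.Coprime q := (hq.out.coprime_iff_not_dvd.mpr fun h => ht1 (by
    have : φ.symm t = 1 := by
      rw [← hkk]; exact hζ.pow_eq_one_iff_dvd k |>.mpr h
    exact (map_eq_one_iff φ.symm φ.symm.injective).mp this)).symm
  refine ⟨k, φ.toAddEquiv.trans (AddEquiv.ofBijective f ⟨hfinj, hfsurj⟩), hkq, fun x => ?_⟩
  show (φ (ζ ^ k * x) : AddMonoid.End V) v₀ = T ((φ x : AddMonoid.End V) v₀)
  rw [map_mul, hkk, RingEquiv.apply_symm_apply]
  rfl

end module

/-- The span of the `ζ ^ i + ζ ^ (-i)` is the field, or half of it. -/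
theorem card_trace_span (hpq : p ≠ q) {a : ℕ} (ha : a = orderOf (p : ZMod q))
    (ζ : GaloisField p a) (hζ : IsPrimitiveRoot ζ q) :
    ∃ s : ℕ, (s = a ∨ 2 * s = a) ∧
      Nat.card (AddSubgroup.closure (Set.range fun i : ℕ => ζ ^ i + (ζ ^ i)⁻¹)) = p ^ s := by
  classical
  have ha0 : a ≠ 0 := ha ▸ (orderOf_pos p q hpq).ne'
  letI : Fintype (GaloisField p a) := Fintype.ofFinite _
  set S := AddSubgroup.closure (Set.range fun i : ℕ => ζ ^ i + (ζ ^ i)⁻¹) with hS
  have hζ0 : ζ ≠ 0 := hζ.ne_zero hq.out.ne_zero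
  have hmem : ∀ i : ℕ, ζ ^ i + (ζ ^ i)⁻¹ ∈ S := fun i => AddSubgroup.subset_closure ⟨i, rfl⟩
  have hzmem : ∀ z : ℤ, ζ ^ z + (ζ ^ z)⁻¹ ∈ S := fun z => by
    obtain ⟨n, rfl | rfl⟩ := Int.eq_nat_or_neg z
    · simpa using hmem n
    · simpa [add_comm] using hmem n
  set b := ζ + ζ⁻¹ with hb
  -- `b` generates a finite field
  let L := Subring.closure ({b} : Set (GaloisField p a))
  haveI : IsDomain L := inferInstance
  letI : Fintype L := Fintype.ofFinite L
  letI : Field L := Fintype.fieldOfDomain L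
  have hbL : b ∈ L := Subring.subset_closure rfl
  have hpowL : ∀ i : ℕ, ζ ^ i + (ζ ^ i)⁻¹ ∈ L := fun i => by
    induction i using Nat.strong_induction_on with
    | _ i ih =>
      rcases i with _ | _ | i
      · simpa using add_mem (one_mem L) (one_mem L)
      · simpa using hbL
      · have e : ζ ^ (i + 2) + (ζ ^ (i + 2))⁻¹ =
            b * (ζ ^ (i + 1) + (ζ ^ (i + 1))⁻¹) - (ζ ^ i + (ζ ^ i)⁻¹) := by
          rw [hb]; field_simp; ring
        rw [e]
        exact sub_mem (mul_mem hbL (ih (i + 1) (by omega))) (ih i (by omega))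
  have hSL : ∀ x ∈ S, x ∈ L := fun x hx =>
    (AddSubgroup.closure_le (K := L.toAddSubgroup)).mpr (by rintro _ ⟨i, rfl⟩; exact hpowL i) hx
  have hbmem : ∀ x ∈ S, b * x ∈ S := fun x hx => by
    induction hx using AddSubgroup.closure_induction with
    | mem x hx =>
      obtain ⟨i, rfl⟩ := hx
      have e : b * (ζ ^ i + (ζ ^ i)⁻¹) = (ζ ^ ((i : ℤ) + 1) + (ζ ^ ((i : ℤ) + 1))⁻¹) +
          (ζ ^ ((i : ℤ) - 1) + (ζ ^ ((i : ℤ) - 1))⁻¹) := by
        rw [hb, zpow_add₀ hζ0, zpow_sub₀ hζ0, zpow_natCast, zpow_one]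
        field_simp
        ring
      rw [e]
      exact S.add_mem (hzmem _) (hzmem _)
    | zero => rw [mul_zero]; exact S.zero_mem
    | add x y _ _ hx hy => rw [mul_add]; exact S.add_mem hx hy
    | neg x _ hx => rw [mul_neg]; exact S.neg_mem hx
  have hLS : ∀ z ∈ L, ∀ x ∈ S, z * x ∈ S := by
    intro z hz
    induction hz using Subring.closure_induction with
    | mem x hx => rw [Set.mem_singleton_iff] at hx; subst hx; exact hbmem
    | zero => intro x _; rw [zero_mul]; exact S.zero_mem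
    | one => intro x hx; rw [one_mul]; exact hx
    | add x y _ _ ihx ihy => intro v hv; rw [add_mul]; exact S.add_mem (ihx v hv) (ihy v hv)
    | neg x _ ih => intro v hv; rw [neg_mul]; exact S.neg_mem (ih v hv)
    | mul x y _ _ ihx ihy => intro v hv; rw [mul_assoc]; exact ihx _ (ihy v hv)
  have hb0 : b ≠ 0 := by
    intro e
    have h2 : ζ ^ 2 = -1 := by
      have := congrArg (fun z => z * ζ) e
      simp only [hb, add_mul, inv_mul_cancel₀ hζ0, zero_mul] at this
      linear_combination this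
    have h4 : ζ ^ 4 = 1 := by linear_combination (ζ ^ 2 - 1) * h2
    have hq4 : q ∣ 2 ^ 2 := by norm_num; exact hζ.dvd_of_pow_eq_one 4 h4
    obtain rfl := (Nat.prime_dvd_prime_iff_eq hq.out Nat.prime_two).1 (hq.out.dvd_of_dvd_pow hq4)
    rw [hζ.pow_eq_one] at h2
    have h20 : ((2 : ℕ) : GaloisField p a) = 0 := by push_cast; linear_combination h2
    rw [CharP.cast_eq_zero_iff (GaloisField p a) p 2] at h20
    exact hpq ((Nat.prime_dvd_prime_iff_eq hp.out Nat.prime_two).1 h20)
  have hLSeq : ∀ x ∈ L, x ∈ S := fun x hx => by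
    obtain ⟨y, hy⟩ : ∃ y : L, y = (⟨b, hbL⟩ : L)⁻¹ := ⟨_, rfl⟩
    have h1 : (y : GaloisField p a) * b = 1 := by
      have : y * ⟨b, hbL⟩ = 1 := by
        rw [hy]; exact inv_mul_cancel₀ fun e => hb0 (congrArg Subtype.val e)
      exact congrArg Subtype.val this
    have h3 := hLS x hx _ (hLS y y.2 b (by simpa using hmem 1))
    rwa [h1, mul_one] at h3
  have hcardS : Nat.card S = Nat.card L :=
    Nat.card_congr (Equiv.subtypeEquivRight fun x => ⟨hSL x, hLSeq x⟩)
  haveI : CharP L p := (RingHom.charP_iff L.subtype Subtype.val_injective p).mpr inferInstance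
  obtain ⟨s, -, hs⟩ := FiniteField.card L p
  refine ⟨s, ?_, by rw [hcardS, Nat.card_eq_fintype_card, hs]⟩
  -- the field is spanned by `1` and `ζ` over it
  let M : Subring (GaloisField p a) :=
    { carrier := {z | ∃ x ∈ L, ∃ y ∈ L, z = x + y * ζ}
      zero_mem' := ⟨0, zero_mem L, 0, zero_mem L, by ring⟩
      one_mem' := ⟨1, one_mem L, 0, zero_mem L, by ring⟩
      add_mem' := by
        rintro _ _ ⟨x, hx, y, hy, rfl⟩ ⟨u, hu, v, hv, rfl⟩
        exact ⟨x + u, add_mem hx hu, y + v, add_mem hy hv, by ring⟩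
      neg_mem' := by
        rintro _ ⟨x, hx, y, hy, rfl⟩
        exact ⟨-x, neg_mem hx, -y, neg_mem hy, by ring⟩
      mul_mem' := by
        rintro _ _ ⟨x, hx, y, hy, rfl⟩ ⟨u, hu, v, hv, rfl⟩
        refine ⟨x * u - y * v, sub_mem (mul_mem hx hu) (mul_mem hy hv),
          x * v + y * u + y * v * b, add_mem (add_mem (mul_mem hx hv) (mul_mem hy hu))
            (mul_mem (mul_mem hy hv) hbL), ?_⟩
        rw [hb]; field_simp; ring }
  haveI : IsDomain M := inferInstance
  letI : Fintype M := Fintype.ofFinite M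
  letI : Field M := Fintype.fieldOfDomain M
  haveI : CharP M p := (RingHom.charP_iff M.subtype Subtype.val_injective p).mpr inferInstance
  obtain ⟨d, -, hd⟩ := FiniteField.card M p
  have hζM : ζ ∈ M := ⟨0, zero_mem L, 1, one_mem L, by ring⟩
  have had : a ≤ (d : ℕ) := by
    refine Nat.le_of_dvd d.pos ?_
    rw [ha, orderOf_dvd_iff_dvd_sub, ← hd]
    have h1 : (⟨ζ, hζM⟩ : M) ^ (Fintype.card M - 1) = 1 :=
      FiniteField.pow_card_sub_one_eq_one _ fun e => hζ0 (congrArg Subtype.val e)
    have h2 : ζ ^ (Fintype.card M - 1) = 1 := by simpa using congrArg Subtype.val h1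
    exact hζ.dvd_of_pow_eq_one _ h2
  have hMle : Fintype.card M ≤ Fintype.card L * Fintype.card L := by
    rw [← Fintype.card_prod]
    refine Fintype.card_le_of_surjective (fun z : L × L =>
      (⟨(z.1 : GaloisField p a) + z.2 * ζ, z.1, z.1.2, z.2, z.2.2, rfl⟩ : M)) ?_
    rintro ⟨_, x, hx, y, hy, rfl⟩
    exact ⟨(⟨x, hx⟩, ⟨y, hy⟩), rfl⟩
  letI : Algebra L (GaloisField p a) := L.subtype.toAlgebra
  have hdim := Module.card_eq_pow_finrank (K := L) (V := GaloisField p a)
  rw [← Nat.card_eq_fintype_card, GaloisField.card p a ha0, hs, ← pow_mul] at hdim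
  have hsm := Nat.pow_right_injective hp.out.two_le hdim
  rw [hd, hs, ← pow_add] at hMle
  have h2 := (Nat.pow_le_pow_iff_right hp.out.one_lt).mp hMle
  generalize Module.finrank L (GaloisField p a) = m at hsm
  have hs0 : 0 < (s : ℕ) := s.pos
  have hm2 : m ≤ 2 := by
    by_contra h
    have : (s : ℕ) * 3 ≤ (s : ℕ) * m := Nat.mul_le_mul_left _ (by omega)
    omega
  interval_cases m <;> omega

end Cfsg.Agent.Transfer.Schmidt
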