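import Cfsg.Agent.Lib.Transfer.NormOne

/-!
The configuration at the end of the odd order theorem: `p ≤ q`.
-/

set_option autoImplicit false
set_option linter.style.haveILetI false

open scoped Pointwise

universe u v

namespace Cfsg.Agent.Transfer.AppendixC

open NormOne

variable {G : Type u} [Group G] {F : Type v} [Field F] {p q : ℕ}

/-- The hypotheses. -/
structure Config (G : Type u) [Group G] (F : Type v) [Field F] (p q : ℕ) where
  P : Subgroup G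
  U : Subgroup G
  Q : Subgroup G
  f : G → F
  ψ : G → F
  y : G
  bij : Set.BijOn f (P : Set G) Set.univ
  f_mul : ∀ x ∈ P, ∀ z ∈ P, f (x * z) = f x + f z
  normalize : U ≤ Subgroup.normalizer (P : Set G)
  act : ∀ u ∈ U, ψ u ≠ 0 ∧ ∀ x ∈ P, f (u * x * u⁻¹) = ψ u * f x
  ψ_mul : ∀ u ∈ U, ∀ v ∈ U, ψ (u * v) = ψ u * ψ v
  ψ_inj : Set.InjOn ψ (U : Set G)
  card_U : Nat.card U * (p - 1) = p ^ q - 1
  Q_comm : IsMulCommutative Q
  Q_coprime : (Nat.card Q).Coprime p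
  P0_Q : ∀ x ∈ P, f x ^ p = f x → x ∈ Subgroup.normalizer (Q : Set G)
  y_mem : y ∈ Q
  P0_U : ∀ x ∈ P, f x ^ p = f x → y * x * y⁻¹ ∈ Subgroup.normalizer (U : Set G)

namespace Config

variable (C : Config G F p q)

theorem f_one : C.f 1 = 0 := by
  have := C.f_mul 1 C.P.one_mem 1 C.P.one_mem
  rw [mul_one] at this
  exact left_eq_add.1 this

theorem f_inj {x z : G} (hx : x ∈ C.P) (hz : z ∈ C.P) (h : C.f x = C.f z) : x = z := C.bij.injOn hx hz h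

theorem P_comm {x z : G} (hx : x ∈ C.P) (hz : z ∈ C.P) : x * z = z * x :=
  C.f_inj (C.P.mul_mem hx hz) (C.P.mul_mem hz hx) (by rw [C.f_mul x hx z hz, C.f_mul z hz x hx, add_comm])

theorem f_inv {x : G} (hx : x ∈ C.P) : C.f x⁻¹ = - C.f x := by
  have := C.f_mul x hx x⁻¹ (C.P.inv_mem hx)
  rw [mul_inv_cancel, C.f_one] at this
  exact eq_neg_of_add_eq_zero_right this.symm

theorem f_zpow {x : G} (hx : x ∈ C.P) (n : ℤ) : C.f (x ^ n) = (n : F) * C.f x := by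
  induction n using Int.induction_on with
  | zero => rw [zpow_zero, C.f_one, Int.cast_zero, zero_mul]
  | succ n ih => rw [zpow_add_one, C.f_mul _ (C.P.zpow_mem hx _) _ hx, ih]; push_cast; ring
  | pred n ih => rw [zpow_sub_one, C.f_mul _ (C.P.zpow_mem hx _) _ (C.P.inv_mem hx), ih, C.f_inv hx]; push_cast; ring

/-- The element with `f = 1`. -/
noncomputable def s : G := (C.bij.surjOn (Set.mem_univ (1 : F))).choose

theorem s_mem : C.s ∈ C.P := (C.bij.surjOn (Set.mem_univ (1 : F))).choose_spec.1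

theorem f_s : C.f C.s = 1 := (C.bij.surjOn (Set.mem_univ (1 : F))).choose_spec.2

theorem f_s_zpow (n : ℤ) : C.f (C.s ^ n) = (n : F) := by rw [C.f_zpow C.s_mem, C.f_s, mul_one]

theorem s_zpow_mem (n : ℤ) : C.s ^ n ∈ C.P := C.P.zpow_mem C.s_mem n

theorem ψ_one : C.ψ 1 = 1 := by
  have h := C.ψ_mul 1 C.U.one_mem 1 C.U.one_mem
  rw [mul_one] at h
  exact (mul_right_eq_self₀.1 h.symm).resolve_right (C.act 1 C.U.one_mem).1

theorem ψ_inv {u : G} (hu : u ∈ C.U) : C.ψ u⁻¹ = (C.ψ u)⁻¹ := by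
  have := C.ψ_mul u hu u⁻¹ (C.U.inv_mem hu)
  rw [mul_inv_cancel, C.ψ_one] at this
  exact eq_inv_of_mul_eq_one_right this.symm

theorem ψ_pow {u : G} (hu : u ∈ C.U) (n : ℕ) : C.ψ (u ^ n) = C.ψ u ^ n := by
  induction n with
  | zero => rw [pow_zero, pow_zero, C.ψ_one]
  | succ n ih => rw [pow_succ, C.ψ_mul _ (C.U.pow_mem hu n) _ hu, ih, pow_succ]

theorem U_comm {u v : G} (hu : u ∈ C.U) (hv : v ∈ C.U) : u * v = v * u :=
  C.ψ_inj (C.U.mul_mem hu hv) (C.U.mul_mem hv hu) (by rw [C.ψ_mul u hu v hv, C.ψ_mul v hv u hu, mul_comm])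

theorem conj_mem_P {u x : G} (hu : u ∈ C.U) (hx : x ∈ C.P) : u * x * u⁻¹ ∈ C.P :=
  (Subgroup.mem_normalizer_iff.1 (C.normalize hu) x).1 hx

theorem eq_one_of_mem {x : G} (hx : x ∈ C.P) (hu : x ∈ C.U) : x = 1 :=
  C.ψ_inj hu C.U.one_mem (by
    rw [C.ψ_one]
    have h := (C.act x hu).2 C.s C.s_mem
    rw [C.P_comm hx C.s_mem, mul_inv_cancel_right, C.f_s, mul_one] at h
    exact h.symm)

/-- Moving a prime field element across an element of `U`. -/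
theorem decomp {i n k : ℤ} {v c : G} (hv : v ∈ C.U) (hc : c ∈ C.U) (h : (i : F) + (n : F) * C.ψ v = (k : F) * C.ψ c) :
    C.s ^ i * v * C.s ^ n = c * C.s ^ k * (c⁻¹ * v) := by
  have h1 : C.s ^ i * (v * C.s ^ n * v⁻¹) = c * C.s ^ k * c⁻¹ := by
    refine C.f_inj (C.P.mul_mem (C.s_zpow_mem i) (C.conj_mem_P hv (C.s_zpow_mem n))) (C.conj_mem_P hc (C.s_zpow_mem k)) ?_
    rw [C.f_mul _ (C.s_zpow_mem i) _ (C.conj_mem_P hv (C.s_zpow_mem n)), (C.act v hv).2 _ (C.s_zpow_mem n),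
      (C.act c hc).2 _ (C.s_zpow_mem k), C.f_s_zpow, C.f_s_zpow, C.f_s_zpow, mul_comm (C.ψ v), h, mul_comm]
  calc C.s ^ i * v * C.s ^ n = C.s ^ i * (v * C.s ^ n * v⁻¹) * v := by group
    _ = _ := by rw [h1]; group

/-- The product `P U`. -/
def H : Subgroup G := C.P ⊔ C.U

theorem mem_H {h : G} (hh : h ∈ C.H) : ∃ x ∈ C.P, ∃ u ∈ C.U, h = x * u := by
  have h1 : h ∈ ((C.P ⊔ C.U : Subgroup G) : Set G) := hh
  rw [Subgroup.coe_mul_of_right_le_normalizer_left C.P C.U C.normalize] at h1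
  obtain ⟨x, hx, u, hu, rfl⟩ := Set.mem_mul.1 h1
  exact ⟨x, hx, u, hu, rfl⟩

theorem P_le_H : C.P ≤ C.H := le_sup_left

theorem U_le_H : C.U ≤ C.H := le_sup_right

section Finite

variable [Fintype F] [Finite G] [hp : Fact p.Prime] [hq : Fact q.Prime]

/-- The standing assumptions. -/
structure Std : Prop where
  card_F : Fintype.card F = p ^ q
  coprime : Nat.Coprime ((p ^ q - 1) / (p - 1)) (p - 1)
  p_ne : p ≠ 2
  q_lt : q < p

variable (hS : Std (F := F) (p := p) (q := q))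
include hS

theorem charP' : CharP F p := NormOne.charP hS.card_F hq.out.ne_zero

theorem two_ne : (2 : F) ≠ 0 := fun h => hS.p_ne (by
  haveI := charP' hS
  have h' : ((2 : ℕ) : F) = 0 := by exact_mod_cast h
  rw [CharP.cast_eq_zero_iff F p] at h'
  exact (Nat.prime_dvd_prime_iff_eq hp.out Nat.prime_two).1 h')

theorem card_U_eq : Nat.card C.U = ∑ i ∈ Finset.range q, p ^ i := by
  rw [← div_eq_geom hp.out.two_le, ← C.card_U, Nat.mul_div_cancel _ (Nat.sub_pos_of_lt hp.out.one_lt)]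

theorem ψ_root {u : G} (hu : u ∈ C.U) : C.ψ u ^ (∑ i ∈ Finset.range q, p ^ i) = 1 := by
  rw [← C.card_U_eq hS, ← C.ψ_pow hu, orderOf_dvd_iff_pow_eq_one.1 (C.U.orderOf_dvd_natCard hu), C.ψ_one]

theorem exists_ψ {z : F} (hz : z ^ (∑ i ∈ Finset.range q, p ^ i) = 1) : ∃ u ∈ C.U, C.ψ u = z := by
  classical
  set m := ∑ i ∈ Finset.range q, p ^ i with hm
  have hm0 : m ≠ 0 := by rw [hm, ← C.card_U_eq hS]; exact Nat.card_pos.ne'
  have hsub : C.ψ '' (C.U : Set G) ⊆ (roots1 F m : Set F) := by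
    rintro _ ⟨u, hu, rfl⟩
    exact Finset.mem_coe.2 (mem_roots1.2 (C.ψ_root hS hu))
  have heq := Set.eq_of_subset_of_ncard_le hsub (by
    rw [Set.ncard_coe_finset, card_roots1 hm0 (hS.card_F.symm ▸ geom_dvd), Set.ncard_image_of_injOn C.ψ_inj,
      ← Nat.card_coe_set_eq, hm, ← C.card_U_eq hS]; rfl) (Finset.finite_toSet _)
  obtain ⟨u, hu, he⟩ := (heq.ge (Finset.mem_coe.2 (mem_roots1.2 hz)) : z ∈ C.ψ '' (C.U : Set G))
  exact ⟨u, hu, he⟩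

theorem eq_one_of_fixed_root {z : F} (hz : z ^ p = z) (hr : z ^ (∑ i ∈ Finset.range q, p ^ i) = 1) : z = 1 := by
  have hz0 : z ≠ 0 := ne_zero_of_pow (Finset.sum_pos (fun i _ => pow_pos hp.out.pos i)
    (Finset.nonempty_range_iff.2 hq.out.ne_zero)).ne' hr
  have h1 : z ^ (p - 1) = 1 := by
    refine mul_left_cancel₀ hz0 ?_
    rw [← pow_succ', Nat.sub_add_cancel hp.out.one_le, hz, mul_one]
  refine orderOf_eq_one_iff.1 (Nat.eq_one_of_dvd_coprimes hS.coprime ?_ (orderOf_dvd_of_pow_eq_one h1))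
  rw [div_eq_geom hp.out.two_le]
  exact orderOf_dvd_of_pow_eq_one hr

theorem intCast_pow (k : ℤ) : (k : F) ^ p = k := by
  haveI := charP' hS
  exact map_intCast (frobenius F p) k

theorem exists_split {z : F} (hz : z ≠ 0) : ∃ k : ℤ, ∃ u ∈ C.U, (k : F) ≠ 0 ∧ z = (k : F) * C.ψ u := by
  classical
  haveI := charP' hS
  set m := ∑ i ∈ Finset.range q, p ^ i with hm
  have hfix : (z ^ m) ^ (p - 1) = 1 := by
    rw [← pow_mul, hm, ← div_eq_geom hp.out.two_le, Nat.div_mul_cancel (Nat.sub_one_dvd_pow_sub_one p q), ← hS.card_F]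
    exact FiniteField.pow_card_sub_one_eq_one z hz
  have hcop : Nat.Coprime m (p - 1) := by rw [hm, ← div_eq_geom hp.out.two_le]; exact hS.coprime
  have hp3 : 1 < p - 1 := by have := hp.out.two_le; have := hS.p_ne; omega
  obtain ⟨e, -, he⟩ := Nat.exists_mul_mod_eq_one_of_coprime hcop hp3
  set c := (z ^ m) ^ e with hc
  have hcp : c ^ p = c := by
    calc c ^ p = ((z ^ m) ^ p) ^ e := by rw [hc, ← pow_mul, mul_comm, pow_mul]
      _ = c := by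
        rw [hc]; congr 1
        rw [show p = p - 1 + 1 from (Nat.sub_add_cancel hp.out.one_le).symm, pow_succ, hfix, one_mul]
  have hcm : c ^ m = z ^ m := by
    rw [hc, ← pow_mul, mul_comm e m, ← Nat.mod_add_div (m * e) (p - 1), he, pow_add, pow_one, pow_mul, hfix, one_pow,
      mul_one]
  have hc0 : c ≠ 0 := pow_ne_zero _ (pow_ne_zero _ hz)
  have hbot : c ∈ (⊥ : Subfield F) := (Subfield.mem_bot_iff_pow_eq_self (F := F) (p := p)).2 hcp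
  rw [← ZMod.fieldRange_castHom_eq_bot p, RingHom.mem_fieldRange] at hbot
  obtain ⟨k, hk⟩ := hbot
  obtain ⟨k, rfl⟩ := ZMod.intCast_surjective k
  rw [map_intCast] at hk
  obtain ⟨u, hu, hue⟩ := C.exists_ψ hS (z := z / c) (by
    rw [← hm, div_pow, hcm, div_self (pow_ne_zero _ hz)])
  exact ⟨k, u, hu, hk ▸ hc0, by rw [hue, hk, mul_div_cancel₀ _ hc0]⟩

theorem exists_class {z : F} (hz : z ≠ 0) : ∃ k : ℤ, ∃ u ∈ C.U, (k : F) ≠ 0 ∧ z = (k : F) * C.ψ u :=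
  C.exists_split hS hz

theorem le_of_mem {K : Subgroup G} (hU : C.U ≤ K) {x : G} (hx : x ∈ C.P) (hxK : x ∈ K) (hx1 : x ≠ 1) : C.H ≤ K := by
  refine sup_le (fun z hz => ?_) hU
  by_cases hz0 : z = 1
  · rw [hz0]; exact K.one_mem
  have hfx : C.f x ≠ 0 := fun h => hx1 (C.f_inj hx C.P.one_mem (h.trans C.f_one.symm))
  have hfz : C.f z ≠ 0 := fun h => hz0 (C.f_inj hz C.P.one_mem (h.trans C.f_one.symm))
  obtain ⟨k, u, hu, -, he⟩ := C.exists_split hS (div_ne_zero hfz hfx)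
  have : z = u * x ^ k * u⁻¹ := C.f_inj hz (C.conj_mem_P hu (C.P.zpow_mem hx k)) (by
    rw [(C.act u hu).2 _ (C.P.zpow_mem hx k), C.f_zpow hx, ← mul_assoc, mul_comm (C.ψ u), ← he, div_mul_cancel₀ _ hfx])
  rw [this]
  exact K.mul_mem (K.mul_mem (hU hu) (K.zpow_mem hxK k)) (K.inv_mem (hU hu))

omit hp hq hS in
/-- `t = y s y⁻¹`. -/
noncomputable def _root_.Cfsg.Agent.Transfer.AppendixC.Config.t (C : Config G F p q) : G := C.y * C.s * C.y⁻¹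

theorem t_zpow (n : ℤ) : C.t ^ n = C.y * C.s ^ n * C.y⁻¹ := conj_zpow

theorem s_pow_p : C.s ^ (p : ℤ) = 1 := by
  haveI := charP' hS
  refine C.f_inj (C.s_zpow_mem _) C.P.one_mem ?_
  rw [C.f_s_zpow, C.f_one, Int.cast_natCast, CharP.cast_eq_zero]

theorem s_zpow_eq_one {n : ℤ} (h : (n : F) = 0) : C.s ^ n = 1 :=
  C.f_inj (C.s_zpow_mem _) C.P.one_mem (by rw [C.f_s_zpow, C.f_one, h])

theorem s_zpow_mem_normalizer (n : ℤ) : C.s ^ n ∈ Subgroup.normalizer (C.Q : Set G) :=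
  C.P0_Q _ (C.s_zpow_mem n) (by rw [C.f_s_zpow]; exact intCast_pow hS n)

theorem t_zpow_mem (n : ℤ) : C.t ^ n ∈ Subgroup.normalizer (C.U : Set G) := by
  rw [C.t_zpow hS]
  exact C.P0_U _ (C.s_zpow_mem n) (by rw [C.f_s_zpow]; exact intCast_pow hS n)

end Finite

/-- The conjugates of `y`. -/
noncomputable def yk (n : ℤ) : G := C.s ^ n * C.y * (C.s ^ n)⁻¹

/-- Conjugation by powers of `t`. -/
noncomputable def phi (n : ℤ) (u : G) : G := C.t ^ n * u * (C.t ^ n)⁻¹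

theorem phi_one (n : ℤ) : C.phi n 1 = 1 := by simp [phi]

theorem phi_zero (u : G) : C.phi 0 u = u := by simp [phi]

theorem phi_phi (a b : ℤ) (u : G) : C.phi a (C.phi b u) = C.phi (a + b) u := by simp [phi, zpow_add, mul_assoc]

theorem phi_mul (n : ℤ) (u v : G) : C.phi n (u * v) = C.phi n u * C.phi n v := by simp [phi, mul_assoc]

theorem phi_inv (n : ℤ) (u : G) : C.phi n u⁻¹ = (C.phi n u)⁻¹ := by simp [phi, mul_assoc]

theorem phi_pow (n : ℤ) (u : G) (k : ℕ) : C.phi n (u ^ k) = C.phi n u ^ k := by simp [phi, conj_pow]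

theorem phi_inj {n : ℤ} {u v : G} (h : C.phi n u = C.phi n v) : u = v := by simpa [phi] using h

section Core

variable [Fintype F] [Finite G] [hp : Fact p.Prime] [hq : Fact q.Prime]
variable (hS : Std (F := F) (p := p) (q := q))
include hS

theorem phi_mem (n : ℤ) {u : G} (hu : u ∈ C.U) : C.phi n u ∈ C.U :=
  (Subgroup.mem_normalizer_iff.1 (C.t_zpow_mem hS n) u).1 hu

theorem yk_mem (n : ℤ) : C.yk n ∈ C.Q := (Subgroup.mem_normalizer_iff.1 (C.s_zpow_mem_normalizer hS n) C.y).1 C.y_mem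

theorem yk_comm (a b : ℤ) : C.yk a * C.yk b = C.yk b * C.yk a := by
  haveI := C.Q_comm
  exact congrArg Subtype.val (mul_comm' (⟨C.yk a, C.yk_mem hS a⟩ : C.Q) ⟨C.yk b, C.yk_mem hS b⟩)

theorem ident (i j : ℤ) : C.s ^ j * C.t ^ (-(i + j)) * C.s ^ i = C.t ^ (-i) * C.s ^ (i + j) * C.t ^ (-j) := by
  have h1 : C.t ^ (-i) * C.s ^ (i + j) * C.t ^ (-j) = C.yk 0 * (C.yk (-i))⁻¹ * C.yk j * (C.yk 0)⁻¹ := by
    rw [C.t_zpow hS, C.t_zpow hS]; simp [yk]; group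
  have h2 : C.s ^ j * C.t ^ (-(i + j)) * C.s ^ i = C.yk j * (C.yk (-i))⁻¹ := by
    rw [C.t_zpow hS]; simp [yk]; group
  rw [h1, h2]
  have c1 : Commute (C.yk 0) (C.yk (-i)) := C.yk_comm hS _ _
  have c2 : Commute (C.yk 0) (C.yk j) := C.yk_comm hS _ _
  have c3 : Commute (C.yk j) (C.yk (-i)) := C.yk_comm hS _ _
  have c4 : Commute (C.yk 0) ((C.yk (-i))⁻¹ * C.yk j) := c1.inv_right.mul_right c2
  rw [mul_assoc (C.yk 0), c4.eq, mul_inv_cancel_right, c3.inv_right.eq]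

theorem U_ne_bot : ∃ u ∈ C.U, C.ψ u ≠ 1 := by
  by_contra h
  push Not at h
  have : C.U = ⊥ := eq_bot_iff.2 fun u hu => Subgroup.mem_bot.2 (C.ψ_inj hu C.U.one_mem ((h u hu).trans C.ψ_one.symm))
  have hc := C.card_U_eq hS
  rw [this, Subgroup.card_bot] at hc
  have h2 : p ^ 1 + p ^ 0 ≤ ∑ i ∈ Finset.range q, p ^ i := by
    rw [← Finset.sum_pair (f := fun i => p ^ i) (show (1 : ℕ) ≠ 0 by norm_num)]
    exact Finset.sum_le_sum_of_subset (fun i hi => by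
      have := hq.out.two_le; simp at hi; rcases hi with rfl | rfl <;> simp <;> omega)
  have := hp.out.pos
  simp at h2
  omega

theorem conj_mem_U {j : ℤ} (hj : (j : F) ≠ 0) {u : G} (hu : u ∈ C.U) (h : C.s ^ j * u * (C.s ^ j)⁻¹ ∈ C.U) : u = 1 := by
  have h1 : C.s ^ j * (u * (C.s ^ j)⁻¹ * u⁻¹) = 1 := C.eq_one_of_mem
    (C.P.mul_mem (C.s_zpow_mem j) (C.conj_mem_P hu (C.P.inv_mem (C.s_zpow_mem j)))) (by
      rw [show C.s ^ j * (u * (C.s ^ j)⁻¹ * u⁻¹) = C.s ^ j * u * (C.s ^ j)⁻¹ * u⁻¹ by group]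
      exact C.U.mul_mem h (C.U.inv_mem hu))
  have h2 := congrArg C.f h1
  rw [C.f_mul _ (C.s_zpow_mem j) _ (C.conj_mem_P hu (C.P.inv_mem (C.s_zpow_mem j))), (C.act u hu).2 _ (C.P.inv_mem (C.s_zpow_mem j)),
    C.f_inv (C.s_zpow_mem j), C.f_s_zpow, C.f_one] at h2
  refine C.ψ_inj hu C.U.one_mem ?_
  rw [C.ψ_one]
  refine mul_right_cancel₀ hj ?_
  linear_combination -h2

theorem mem_P_of_pow {h : G} (hh : h ∈ C.H) (hp' : h ^ p = 1) : h ∈ C.P := by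
  obtain ⟨x, hx, u, hu, rfl⟩ := C.mem_H hh
  have key : ∀ n : ℕ, ∃ w ∈ C.P, (x * u) ^ n = w * u ^ n := by
    intro n
    induction n with
    | zero => exact ⟨1, C.P.one_mem, by simp⟩
    | succ n ih =>
      obtain ⟨w, hw, he⟩ := ih
      exact ⟨w * (u ^ n * x * (u ^ n)⁻¹), C.P.mul_mem hw (C.conj_mem_P (C.U.pow_mem hu n) hx), by
        rw [pow_succ, he, pow_succ]; group⟩
  obtain ⟨w, hw, he⟩ := key p
  rw [hp'] at he
  have h1 : u ^ p = 1 := C.eq_one_of_mem (by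
    rw [show u ^ p = w⁻¹ by rw [eq_inv_iff_mul_eq_one]; exact mul_eq_one_comm.1 he.symm]
    exact C.P.inv_mem hw) (C.U.pow_mem hu p)
  haveI := charP' hS
  have hu1 : u = 1 := C.ψ_inj hu C.U.one_mem (by
    rw [C.ψ_one]
    refine sub_eq_zero.1 (pow_eq_zero_iff hp.out.ne_zero |>.1 ?_)
    rw [sub_pow_char, one_pow, ← C.ψ_pow hu, h1, C.ψ_one, sub_self])
  rw [hu1, mul_one]; exact hx

theorem t_pow_p : C.t ^ (p : ℤ) = 1 := by rw [C.t_zpow hS, C.s_pow_p hS, mul_one, mul_inv_cancel]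

theorem t_not_normalize : ¬ C.t ∈ Subgroup.normalizer (C.P : Set G) := fun ht => by
  haveI := charP' hS
  classical
  let g : F → G := Function.invFunOn C.f (C.P : Set G)
  have hg : ∀ z, g z ∈ C.P ∧ C.f (g z) = z := fun z =>
    ⟨Function.invFunOn_mem (C.bij.surjOn (Set.mem_univ z)), Function.invFunOn_eq (C.bij.surjOn (Set.mem_univ z))⟩
  have hgf : ∀ x ∈ C.P, g (C.f x) = x := fun x hx => C.f_inj (hg _).1 hx (hg _).2
  let τ : F → F := fun z => C.f (C.t * g z * C.t⁻¹)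
  have htP : ∀ x ∈ C.P, C.t * x * C.t⁻¹ ∈ C.P := fun x hx => (Subgroup.mem_normalizer_iff.1 ht x).1 hx
  have hτf : ∀ x ∈ C.P, τ (C.f x) = C.f (C.t * x * C.t⁻¹) := fun x hx => by simp only [τ]; rw [hgf x hx]
  have hadd : ∀ a b, τ (a + b) = τ a + τ b := fun a b => by
    rw [← (hg a).2, ← (hg b).2, ← C.f_mul _ (hg a).1 _ (hg b).1, hτf _ (C.P.mul_mem (hg a).1 (hg b).1), hτf _ (hg a).1,
      hτf _ (hg b).1, ← C.f_mul _ (htP _ (hg a).1) _ (htP _ (hg b).1)]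
    congr 1; group
  have hconj : ∀ u ∈ C.U, ∀ z, τ (C.ψ u * z) = C.ψ (C.phi 1 u) * τ z := fun u hu z => by
    rw [← (hg z).2, ← (C.act u hu).2 _ (hg z).1, hτf _ (C.conj_mem_P hu (hg z).1), hτf _ (hg z).1,
      ← (C.act _ (C.phi_mem hS 1 hu)).2 _ (htP _ (hg z).1)]
    congr 1; simp only [phi, zpow_one]; group
  let τh : F →+ F := AddMonoidHom.mk' τ hadd
  have he : τ 1 ≠ 0 := by
    intro h
    have h1 : τ 1 = C.f (C.t * C.s * C.t⁻¹) := by rw [← C.f_s]; exact hτf _ C.s_mem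
    rw [h1, ← C.f_one] at h
    have h2 := C.f_inj (htP _ C.s_mem) C.P.one_mem h
    rw [conj_eq_one_iff] at h2
    exact one_ne_zero (α := F) (by rw [← C.f_s, h2, C.f_one])
  let T : F → F := fun z => τ z / τ 1
  have hmul : ∀ a b, T (a * b) = T a * T b := by
    intro a b
    by_cases ha : a = 0
    · subst ha
      have h0 : τ 0 = 0 := map_zero τh
      simp [T, h0]
    obtain ⟨k, u, hu, -, rfl⟩ := C.exists_split hS ha
    have hk : ∀ z, τ ((k : F) * z) = (k : F) * τ z := fun z => by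
      rw [← zsmul_eq_mul, ← zsmul_eq_mul]; exact map_zsmul τh k z
    have h1 : ∀ z, τ ((k : F) * C.ψ u * z) = (k : F) * C.ψ (C.phi 1 u) * τ z := fun z => by
      rw [mul_assoc, hk, hconj u hu, mul_assoc]
    have h2 : τ ((k : F) * C.ψ u) = (k : F) * C.ψ (C.phi 1 u) * τ 1 := by rw [← h1, mul_one]
    simp only [T]
    rw [h1, h2]
    field_simp
  let Th : F →+* F :=
    { toFun := T
      map_one' := div_self he
      map_mul' := hmul
      map_zero' := by simp [T, show τ 0 = 0 from map_zero τh]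
      map_add' := fun a b => by simp only [T]; rw [hadd, add_div] }
  letI : Algebra (ZMod p) F := ZMod.algebra F p
  let Ta : F →ₐ[ZMod p] F := { Th with commutes' := fun r => congrFun (congrArg DFunLike.coe (RingHom.ext_zmod (Th.comp (algebraMap (ZMod p) F)) (algebraMap (ZMod p) F))) r }
  have hbij : Function.Bijective Ta := Finite.injective_iff_bijective.1 Th.injective
  let σ : F ≃ₐ[ZMod p] F := AlgEquiv.ofBijective Ta hbij
  have hiter : ∀ n : ℕ, ∀ z, T^[n] z = τ^[n] z / τ^[n] 1 := by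
    intro n
    induction n with
    | zero => intro z; simp
    | succ n ih =>
      intro z
      rw [Function.iterate_succ_apply', ih, show T (τ^[n] z / τ^[n] 1) = Th (τ^[n] z / τ^[n] 1) from rfl, map_div₀,
        Function.iterate_succ_apply', Function.iterate_succ_apply']
      show (τ (τ^[n] z) / τ 1) / (τ (τ^[n] 1) / τ 1) = _
      rw [div_div_div_cancel_right₀ he]
  have hτn : ∀ n : ℕ, ∀ x ∈ C.P, C.t ^ n * x * (C.t ^ n)⁻¹ ∈ C.P ∧ τ^[n] (C.f x) = C.f (C.t ^ n * x * (C.t ^ n)⁻¹) := by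
    intro n
    induction n with
    | zero => intro x hx; simpa using hx
    | succ n ih =>
      intro x hx
      obtain ⟨h1, h2⟩ := ih x hx
      have h3 : C.t ^ (n + 1) * x * (C.t ^ (n + 1))⁻¹ = C.t * (C.t ^ n * x * (C.t ^ n)⁻¹) * C.t⁻¹ := by
        rw [pow_succ']; group
      rw [h3, Function.iterate_succ_apply', h2, hτf _ h1]
      exact ⟨htP _ h1, rfl⟩
  have hτp : ∀ z, τ^[p] z = z := fun z => by
    obtain ⟨-, h2⟩ := hτn p (g z) (hg z).1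
    rw [(hg z).2] at h2
    rw [h2, ← zpow_natCast, C.t_pow_p hS, one_mul, inv_one, mul_one, (hg z).2]
  have hσp : σ ^ p = 1 := by
    refine AlgEquiv.ext fun z => ?_
    rw [AlgEquiv.coe_pow, AlgEquiv.one_apply]
    show T^[p] z = z
    rw [hiter, hτp, hτp, div_one]
  have hσq : σ ^ q = 1 := by
    have h1 : Nat.card (F ≃ₐ[ZMod p] F) = q := by
      rw [IsGalois.card_aut_eq_finrank]
      refine Nat.pow_right_injective hp.out.two_le ?_
      show p ^ Module.finrank (ZMod p) F = p ^ q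
      rw [← hS.card_F, Module.card_eq_pow_finrank (K := ZMod p) (V := F), ZMod.card]
    rw [← h1]; exact pow_card_eq_one'
  have hσ : σ = 1 := orderOf_eq_one_iff.1 (Nat.eq_one_of_dvd_coprimes
    ((Nat.coprime_primes hp.out hq.out).2 hS.q_lt.ne') (orderOf_dvd_of_pow_eq_one hσp) (orderOf_dvd_of_pow_eq_one hσq))
  have hT : ∀ z, τ z = τ 1 * z := fun z => by
    have : T z = z := congrFun (congrArg DFunLike.coe hσ) z
    simp only [T] at this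
    rw [div_eq_iff he] at this
    rw [this, mul_comm]
  have he1 : τ 1 = 1 := by
    have h1 : ∀ n : ℕ, τ^[n] 1 = τ 1 ^ n := by
      intro n
      induction n with
      | zero => simp
      | succ n ih => rw [Function.iterate_succ_apply', ih, hT, pow_succ']
    refine sub_eq_zero.1 ((pow_eq_zero_iff hp.out.ne_zero).1 ?_)
    rw [sub_pow_char, one_pow, ← h1, hτp, sub_self]
  have hts : C.t * C.s * C.t⁻¹ = C.s := C.f_inj (htP _ C.s_mem) C.s_mem (by rw [← hτf _ C.s_mem, hT, he1, one_mul])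
  have hc : Commute C.t C.s := mul_inv_eq_iff_eq_mul.1 hts
  have hq1 : C.t * C.s⁻¹ = C.yk 0 * (C.yk 1)⁻¹ := by simp [t, yk]; group
  have hpow : (C.t * C.s⁻¹) ^ p = 1 := by
    rw [(hc.inv_right).mul_pow, inv_pow, ← zpow_natCast, ← zpow_natCast, C.t_pow_p hS, C.s_pow_p hS, inv_one, mul_one]
  have hts' : C.t = C.s := by
    rw [← mul_inv_eq_one]
    refine orderOf_eq_one_iff.1 (Nat.eq_one_of_dvd_coprimes C.Q_coprime ?_ (orderOf_dvd_of_pow_eq_one hpow))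
    exact C.Q.orderOf_dvd_natCard (hq1 ▸ C.Q.mul_mem (C.yk_mem hS 0) (C.Q.inv_mem (C.yk_mem hS 1)))
  obtain ⟨u, hu, hu1⟩ := C.U_ne_bot hS
  refine hu1 ?_
  rw [C.conj_mem_U hS (j := 1) (by simp) hu (by
    rw [zpow_one, ← hts']
    have := C.phi_mem hS 1 hu
    simpa [phi] using this), C.ψ_one]

theorem inter {n : ℤ} (hn : (n : F) ≠ 0) {h : G} (hh : h ∈ C.H) (hh' : C.phi n h ∈ C.H) : h ∈ C.U := by
  set K := C.H ⊓ C.H.comap (MulAut.conj (C.t ^ n)).toMonoidHom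
  have hUK : C.U ≤ K := fun u hu => ⟨C.U_le_H hu, C.U_le_H (C.phi_mem hS n hu)⟩
  obtain ⟨x, hx, u, hu, rfl⟩ := C.mem_H hh
  by_contra hne
  have hx1 : x ≠ 1 := fun e => hne (by rw [e, one_mul]; exact hu)
  have hxK : x ∈ K := by
    have h1 : x * u ∈ K := ⟨hh, hh'⟩
    have := K.mul_mem h1 (K.inv_mem (hUK hu))
    rwa [mul_inv_cancel_right] at this
  have hle := C.le_of_mem hS hUK hx hxK hx1
  have hn' : C.t ^ n ∈ Subgroup.normalizer (C.P : Set G) := Subgroup.mem_normalizer_fintype fun z hz => by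
    refine C.mem_P_of_pow hS (hle (C.P_le_H hz)).2 ?_
    rw [conj_pow]
    have : z ^ p = 1 := C.f_inj (C.P.pow_mem hz p) C.P.one_mem (by
      haveI := charP' hS
      rw [← zpow_natCast, C.f_zpow hz, Int.cast_natCast, CharP.cast_eq_zero, zero_mul, C.f_one])
    rw [this, mul_one, mul_inv_cancel]
  refine C.t_not_normalize hS ?_
  haveI := charP' hS
  have hd : ¬ (p : ℤ) ∣ n := fun h => hn ((CharP.intCast_eq_zero_iff F p n).2 h)
  obtain ⟨a, b, hab⟩ := (((Nat.prime_iff_prime_int.1 hp.out).irreducible.coprime_iff_not_dvd).2 hd)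
  have : C.t = (C.t ^ n) ^ b := by
    conv_lhs => rw [← zpow_one C.t, ← hab, zpow_add, mul_comm a, zpow_mul, C.t_pow_p hS, one_zpow, one_mul,
      mul_comm b, zpow_mul]
  rw [this]; exact zpow_mem hn' b

theorem sidon {a b c d : ℤ} (h : C.yk a * C.yk d = C.yk b * C.yk c) : (b : F) = (a : F) ∨ (d : F) = (b : F) := by
  by_contra hne
  push Not at hne
  obtain ⟨hba, hdb⟩ := hne
  obtain ⟨u, hu, hu1⟩ := C.U_ne_bot hS
  refine hu1 ?_
  set j := d - b with hj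
  have hkey : C.t ^ (d - c) = C.s ^ (a - c) * C.t ^ (b - a) * C.s ^ j := by
    have h1 : C.yk a * (C.yk b)⁻¹ = C.yk c * (C.yk d)⁻¹ := by
      have c1 : Commute (C.yk b) (C.yk c) := C.yk_comm hS _ _
      rw [mul_inv_eq_iff_eq_mul]
      calc C.yk a = C.yk b * C.yk c * (C.yk d)⁻¹ := by rw [← h, mul_inv_cancel_right]
        _ = C.yk c * C.yk b * (C.yk d)⁻¹ := by rw [c1.eq]
        _ = _ := by
          have c2 : Commute (C.yk d) (C.yk b) := C.yk_comm hS _ _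
          rw [mul_assoc, mul_assoc, c2.inv_left.eq]
    calc C.t ^ (d - c) = C.s ^ (-c) * (C.yk c * (C.yk d)⁻¹) * C.s ^ d := by rw [C.t_zpow hS]; simp [yk]; group
      _ = C.s ^ (-c) * (C.yk a * (C.yk b)⁻¹) * C.s ^ d := by rw [h1]
      _ = _ := by rw [C.t_zpow hS, hj]; simp [yk]; group
  rw [C.conj_mem_U hS (j := j) (by rw [hj]; push_cast; exact sub_ne_zero.2 hdb) hu ?_, C.ψ_one]
  refine C.inter hS (n := b - a) (by push_cast; exact sub_ne_zero.2 hba)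
    (mul_mem (mul_mem (C.P_le_H (C.s_zpow_mem j)) (C.U_le_H hu)) (inv_mem (C.P_le_H (C.s_zpow_mem j)))) ?_
  rw [show C.phi (b - a) (C.s ^ j * u * (C.s ^ j)⁻¹) = (C.s ^ (a - c))⁻¹ * C.phi (d - c) u * C.s ^ (a - c) by
    simp only [phi]; rw [hkey]; group]
  exact mul_mem (mul_mem (inv_mem (C.P_le_H (C.s_zpow_mem _))) (C.U_le_H (C.phi_mem hS _ hu))) (C.P_le_H (C.s_zpow_mem _))

theorem phi_p (u : G) : C.phi (p : ℤ) u = u := by simp only [phi]; rw [C.t_pow_p hS, one_mul, inv_one, mul_one]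

theorem phi_neg_mul_p (u : G) (k : ℕ) : C.phi (-((k : ℤ) * p)) u = u := by
  simp only [phi]
  rw [zpow_neg, mul_comm, zpow_mul, C.t_pow_p hS, one_zpow, inv_one, one_mul, inv_one, mul_one]

/-- The basic equation. -/
theorem equation {u₁ u₂ : G} (hu₁ : u₁ ∈ C.U) (hu₂ : u₂ ∈ C.U) (hrel : 1 + C.ψ u₁ * C.ψ u₂ = 2 * C.ψ u₁) :
    C.t * (C.s ^ (2 : ℤ) * C.phi (-3) u₁ * C.s ^ (-1 : ℤ)) * C.t ^ (-2 : ℤ) *
      (C.s ^ (3 : ℤ) * C.phi (-1) u₂ * C.s ^ (-2 : ℤ)) * C.t =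
    C.s ^ (3 : ℤ) * C.phi (-2) (u₁ * u₂) * C.s ^ (-1 : ℤ) := by
  have hR : C.s ^ (1 : ℤ) * (u₁ * u₂) * C.s ^ (1 : ℤ) = u₁ * C.s ^ (2 : ℤ) * u₂ := by
    rw [C.decomp (k := 2) (c := u₁) (C.U.mul_mem hu₁ hu₂) hu₁ (by rw [C.ψ_mul _ hu₁ _ hu₂]; push_cast; rw [one_mul, hrel]),
      inv_mul_cancel_left]
  have i1 := C.ident hS 1 2
  have i2 := C.ident hS (-2) 1
  have i3 := C.ident hS 3 (-1)
  norm_num at i1 i2 i3
  calc C.t * (C.s ^ (2 : ℤ) * C.phi (-3) u₁ * C.s ^ (-1 : ℤ)) * C.t ^ (-2 : ℤ) *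
        (C.s ^ (3 : ℤ) * C.phi (-1) u₂ * C.s ^ (-2 : ℤ)) * C.t
      = C.t * (C.s ^ (2 : ℤ) * C.phi (-3) u₁ * (C.s ^ (-1 : ℤ) * C.t ^ (-2 : ℤ) * C.s ^ (3 : ℤ)) *
          C.phi (-1) u₂ * C.s ^ (-2 : ℤ)) * C.t := by group
    _ = C.t * (C.s ^ (2 : ℤ) * C.phi (-3) u₁ * (C.t ^ (-3 : ℤ) * C.s ^ (2 : ℤ) * C.t ^ (1 : ℤ)) *
          C.phi (-1) u₂ * C.s ^ (-2 : ℤ)) * C.t := by
        simp only [zpow_neg, zpow_ofNat, zpow_one, pow_one] at i3 ⊢; rw [i3]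
    _ = C.t * (C.s ^ (2 : ℤ) * C.t ^ (-3 : ℤ) * (u₁ * C.s ^ (2 : ℤ) * u₂) * C.t ^ (1 : ℤ) * C.s ^ (-2 : ℤ)) * C.t := by
        simp only [phi]; group
    _ = C.t * ((C.s ^ (2 : ℤ) * C.t ^ (-3 : ℤ) * C.s ^ (1 : ℤ)) * (u₁ * u₂) *
          (C.s ^ (1 : ℤ) * C.t ^ (1 : ℤ) * C.s ^ (-2 : ℤ))) * C.t := by rw [← hR]; group
    _ = C.t * ((C.t ^ (-1 : ℤ) * C.s ^ (3 : ℤ) * C.t ^ (-2 : ℤ)) * (u₁ * u₂) *
          (C.t ^ (2 : ℤ) * C.s ^ (-1 : ℤ) * C.t ^ (-1 : ℤ))) * C.t := by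
        simp only [zpow_neg, zpow_ofNat, zpow_one, pow_one] at i1 i2 ⊢; rw [i1, i2]
    _ = _ := by simp only [phi]; group

/-- The equation after normalising the three factors. -/
theorem word {u₁ u₂ : G} (hu₁ : u₁ ∈ C.U) (hu₂ : u₂ ∈ C.U) (hrel : 1 + C.ψ u₁ * C.ψ u₂ = 2 * C.ψ u₁)
    {α β γ : ℤ} {cA cY cX : G} (hA : cA ∈ C.U) (hY : cY ∈ C.U) (hX : cX ∈ C.U)
    (hα : 2 + -1 * C.ψ (C.phi (-3) u₁) = (α : F) * C.ψ cA) (hβ : 3 + -2 * C.ψ (C.phi (-1) u₂) = (β : F) * C.ψ cY)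
    (hγ : 3 + -1 * C.ψ (C.phi (-2) (u₁ * u₂)) = (γ : F) * C.ψ cX) :
    C.t * C.s ^ α * (cA⁻¹ * C.phi (-3) u₁ * C.phi (-2) cY) * C.t ^ (-2 : ℤ) * C.s ^ β * C.t =
      ((C.phi 1 cA)⁻¹ * cX) * C.s ^ γ * (cX⁻¹ * C.phi (-2) (u₁ * u₂) * (C.phi (-1) (cY⁻¹ * C.phi (-1) u₂))⁻¹) := by
  have h := C.equation hS hu₁ hu₂ hrel
  rw [C.decomp (k := α) (C.phi_mem hS _ hu₁) hA (by simpa using hα),
    C.decomp (k := β) (C.phi_mem hS _ hu₂) hY (by simpa using hβ),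
    C.decomp (k := γ) (C.phi_mem hS _ (C.U.mul_mem hu₁ hu₂)) hX (by simpa using hγ)] at h
  generalize C.phi (-3) u₁ = v₁ at h ⊢
  generalize C.phi (-1) u₂ = v₂ at h ⊢
  generalize C.phi (-2) (u₁ * u₂) = v₃ at h ⊢
  calc C.t * C.s ^ α * (cA⁻¹ * v₁ * C.phi (-2) cY) * C.t ^ (-2 : ℤ) * C.s ^ β * C.t
      = (C.phi 1 cA)⁻¹ * (C.t * (cA * C.s ^ α * (cA⁻¹ * v₁)) * C.t ^ (-2 : ℤ) * (cY * C.s ^ β * (cY⁻¹ * v₂)) * C.t) *
          (C.phi (-1) (cY⁻¹ * v₂))⁻¹ := by simp only [phi]; group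
    _ = _ := by rw [h]; group

theorem pow_p_eq_one {u : G} (hu : u ∈ C.U) (h : u ^ p = u) : u = 1 := by
  refine C.ψ_inj hu C.U.one_mem ?_
  rw [C.ψ_one]
  exact eq_one_of_fixed_root hS (by rw [← C.ψ_pow hu, h]) (C.ψ_root hS hu)

theorem rigid {α β γ : ℤ} (hα : (α : F) ≠ 0) (hβ : (β : F) ≠ 0) {W K₁ K₂ : G} (hW : W ∈ C.U) (h₁ : K₁ ∈ C.U) (h₂ : K₂ ∈ C.U)
    (hG : C.t * C.s ^ α * W * C.t ^ (-2 : ℤ) * C.s ^ β * C.t = K₁ * C.s ^ γ * K₂)
    (hG' : C.t * C.s ^ α * W ^ p * C.t ^ (-2 : ℤ) * C.s ^ β * C.t = K₁ ^ p * C.s ^ γ * K₂ ^ p) :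
    C.t * C.s ^ α * C.t ^ (-2 : ℤ) * C.s ^ β * C.t = C.s ^ γ := by
  set L := K₁ ^ p * K₁⁻¹ with hL
  set R := K₂⁻¹ * K₂ ^ p with hR
  set L' := C.phi (-1) L
  set R' := C.phi 1 R
  have hL' : L' ∈ C.U := C.phi_mem hS _ (C.U.mul_mem (C.U.pow_mem h₁ p) (C.U.inv_mem h₁))
  have hR' : R' ∈ C.U := C.phi_mem hS _ (C.U.mul_mem (C.U.inv_mem h₂) (C.U.pow_mem h₂ p))
  have e1 : C.t * C.s ^ α * W ^ p * C.t ^ (-2 : ℤ) * C.s ^ β * C.t =
      C.t * (L' * C.s ^ α * W * C.t ^ (-2 : ℤ) * C.s ^ β * R') * C.t := by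
    rw [hG', show C.t * (L' * C.s ^ α * W * C.t ^ (-2 : ℤ) * C.s ^ β * R') * C.t =
      L * (C.t * C.s ^ α * W * C.t ^ (-2 : ℤ) * C.s ^ β * C.t) * R by simp only [L', R', phi]; group]
    rw [hG, hL, hR]; group
  have e2 : C.s ^ α * W ^ p * C.t ^ (-2 : ℤ) * C.s ^ β = L' * C.s ^ α * W * C.t ^ (-2 : ℤ) * C.s ^ β * R' := by
    refine mul_left_cancel (a := C.t) (mul_right_cancel (b := C.t) ?_)
    rw [← e1]; group
  set h := W⁻¹ * (C.s ^ (-α) * L'⁻¹ * (C.s ^ (-α))⁻¹) * W ^ p with hh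
  have hhφ : C.phi 2 h = C.s ^ β * R' * (C.s ^ β)⁻¹ := by
    calc C.phi 2 h = C.t ^ (2 : ℤ) * (W⁻¹ * C.s ^ (-α) * L'⁻¹) * (C.s ^ α * W ^ p * C.t ^ (-2 : ℤ) * C.s ^ β) *
          (C.s ^ β)⁻¹ := by simp only [phi, hh]; group
      _ = _ := by rw [e2]; group
  have hmem : ∀ (j : ℤ) {w : G}, w ∈ C.U → C.s ^ j * w * (C.s ^ j)⁻¹ ∈ C.H := fun j w hw =>
    mul_mem (mul_mem (C.P_le_H (C.s_zpow_mem j)) (C.U_le_H hw)) (inv_mem (C.P_le_H (C.s_zpow_mem j)))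
  have hhU : h ∈ C.U := C.inter hS (n := 2) (by push_cast; exact two_ne hS)
    (mul_mem (mul_mem (inv_mem (C.U_le_H hW)) (hmem _ (C.U.inv_mem hL'))) (C.U_le_H (C.U.pow_mem hW p)))
    (hhφ ▸ hmem _ hR')
  have hL1 : L'⁻¹ = 1 := by
    refine C.conj_mem_U hS (j := -α) (by push_cast; exact neg_ne_zero.2 hα) (C.U.inv_mem hL') ?_
    rw [show C.s ^ (-α) * L'⁻¹ * (C.s ^ (-α))⁻¹ = W * h * (W ^ p)⁻¹ by rw [hh]; group]
    exact C.U.mul_mem (C.U.mul_mem hW hhU) (C.U.inv_mem (C.U.pow_mem hW p))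
  have hR1 : R' = 1 := C.conj_mem_U hS (j := β) hβ hR' (hhφ ▸ C.phi_mem hS 2 hhU)
  rw [hR1, mul_one, mul_inv_cancel, ← C.phi_one 2] at hhφ
  have hh1 := C.phi_inj hhφ
  rw [hh, hL1, mul_one, mul_inv_cancel, mul_one, inv_mul_eq_one] at hh1
  have hW1 : W = 1 := C.pow_p_eq_one hS hW hh1.symm
  have hK1 : K₁ = 1 := C.pow_p_eq_one hS h₁ (mul_inv_eq_one.1 (C.phi_inj ((inv_eq_one.1 hL1).trans (C.phi_one (-1)).symm)))
  have hK2 : K₂ = 1 := C.pow_p_eq_one hS h₂ (inv_mul_eq_one.1 (C.phi_inj (hR1.trans (C.phi_one 1).symm))).symm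
  simpa [hW1, hK1, hK2] using hG

theorem eq_one_of_fixed {e : G} {a b c d : ℤ} (he : e = C.yk a * C.yk b * (C.yk c)⁻¹ * (C.yk d)⁻¹)
    (hfix : C.s * e * C.s⁻¹ = e) : e = 1 := by
  haveI := C.Q_comm
  letI : CommGroup C.Q := { (inferInstance : Group C.Q) with mul_comm := mul_comm' }
  let Y : ℤ → C.Q := fun n => ⟨C.yk n, C.yk_mem hS n⟩
  let E : ℕ → C.Q := fun i => Y (a + i) * Y (b + i) * (Y (c + i))⁻¹ * (Y (d + i))⁻¹
  have hshift : ∀ n : ℤ, C.s * C.yk n * C.s⁻¹ = C.yk (n + 1) := fun n => by simp [yk]; group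
  have hE : ∀ i : ℕ, ((E i : C.Q) : G) = e := by
    intro i
    induction i with
    | zero => rw [he]; simp [E, Y]
    | succ i ih =>
      rw [← hfix, ← ih]
      simp only [E, Y, Subgroup.coe_mul, Subgroup.coe_inv]
      push_cast
      rw [← add_assoc, ← add_assoc, ← add_assoc, ← add_assoc, ← hshift, ← hshift, ← hshift, ← hshift]
      group
  have hper : ∀ n : ℤ, C.yk (n + p) = C.yk n := fun n => by
    simp only [yk]; rw [zpow_add, C.s_pow_p hS, mul_one]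
  have hP : ∀ k : ℤ, ∏ i ∈ Finset.range p, Y (k + 1 + i) = ∏ i ∈ Finset.range p, Y (k + i) := fun k => by
    have h1 := Finset.prod_range_succ' (fun i : ℕ => Y (k + i)) p
    rw [Finset.prod_range_succ] at h1
    have h2 : Y (k + (p : ℕ)) = Y (k + (0 : ℕ)) := Subtype.ext (by
      show C.yk _ = C.yk _; rw [hper, Nat.cast_zero, add_zero])
    rw [h2, mul_left_inj] at h1
    rw [h1]
    exact Finset.prod_congr rfl fun i _ => by push_cast; ring_nf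
  have hP' : ∀ k l : ℤ, ∏ i ∈ Finset.range p, Y (k + i) = ∏ i ∈ Finset.range p, Y (l + i) := by
    have h0 : ∀ k : ℤ, ∏ i ∈ Finset.range p, Y (k + i) = ∏ i ∈ Finset.range p, Y (0 + i) := by
      intro k
      induction k using Int.induction_on with
      | zero => rfl
      | succ n ih => rw [hP, ih]
      | pred n ih => rw [← hP, sub_add_cancel, ih]
    exact fun k l => (h0 k).trans (h0 l).symm
  have hprod : ∏ i ∈ Finset.range p, E i = 1 := by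
    simp only [E, Finset.prod_mul_distrib, Finset.prod_inv_distrib]
    rw [hP' a c, hP' b d]
    simp [mul_comm, mul_assoc]
  have h3 : e ^ p = 1 := by
    have h4 := congrArg (fun z : C.Q => (z : G)) (Finset.prod_eq_pow_card (s := Finset.range p) (f := E) (b := E 0)
      (fun i _ => Subtype.ext ((hE i).trans (hE 0).symm)))
    simp only [Finset.card_range, hprod, Subgroup.coe_one, SubmonoidClass.coe_pow, hE] at h4
    exact h4.symm
  refine orderOf_eq_one_iff.1 (Nat.eq_one_of_dvd_coprimes C.Q_coprime ?_ (orderOf_dvd_of_pow_eq_one h3))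
  exact C.Q.orderOf_dvd_natCard (hE 0 ▸ (E 0).2)

theorem eq_one_of_word {α β γ : ℤ} (hα : (α : F) ≠ 0) (hβ : (β : F) ≠ 0)
    (h : C.t * C.s ^ α * C.t ^ (-2 : ℤ) * C.s ^ β * C.t = C.s ^ γ) : (α : F) = 1 := by
  have c : ∀ a b : ℤ, Commute (C.yk a) (C.yk b) := fun a b => C.yk_comm hS a b
  set z := C.yk 0 * (C.yk 1)⁻¹ * C.yk (1 + α) * (C.yk (α - 1))⁻¹ * C.yk (α + β - 1) * (C.yk (α + β))⁻¹ with hz
  have h1 : z = C.s ^ (γ - (α + β)) := by
    rw [zpow_sub, ← h, C.t_zpow hS, hz]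
    simp [t, yk]
    group
  have hzQ : z ∈ C.Q := by
    rw [hz]
    exact C.Q.mul_mem (C.Q.mul_mem (C.Q.mul_mem (C.Q.mul_mem (C.Q.mul_mem (C.yk_mem hS _) (C.Q.inv_mem (C.yk_mem hS _)))
      (C.yk_mem hS _)) (C.Q.inv_mem (C.yk_mem hS _))) (C.yk_mem hS _)) (C.Q.inv_mem (C.yk_mem hS _))
  have hz1 : z = 1 := by
    refine orderOf_eq_one_iff.1 (Nat.eq_one_of_dvd_coprimes C.Q_coprime (C.Q.orderOf_dvd_natCard hzQ) ?_)
    refine orderOf_dvd_of_pow_eq_one ?_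
    rw [h1, ← zpow_natCast, ← zpow_mul, mul_comm, zpow_mul, C.s_pow_p hS, one_zpow]
  set e := C.yk 0 * C.yk (α + β - 1) * (C.yk (α - 1))⁻¹ * (C.yk α)⁻¹ with he
  have hshift : ∀ n : ℤ, C.s * C.yk n * C.s⁻¹ = C.yk (n + 1) := fun n => by simp [yk]; group
  have hfix : C.s * e * C.s⁻¹ = e := by
    have hse : C.s * e * C.s⁻¹ = C.yk 1 * C.yk (α + β) * (C.yk α)⁻¹ * (C.yk (1 + α))⁻¹ := by
      calc C.s * e * C.s⁻¹ = (C.s * C.yk 0 * C.s⁻¹) * (C.s * C.yk (α + β - 1) * C.s⁻¹) *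
            (C.s * C.yk (α - 1) * C.s⁻¹)⁻¹ * (C.s * C.yk α * C.s⁻¹)⁻¹ := by rw [he]; group
        _ = _ := by rw [hshift, hshift, hshift, hshift, zero_add, sub_add_cancel, sub_add_cancel, add_comm α 1]
    rw [hse]
    haveI := C.Q_comm
    letI : CommGroup C.Q := { (inferInstance : Group C.Q) with mul_comm := mul_comm' }
    let Y : ℤ → C.Q := fun n => ⟨C.yk n, C.yk_mem hS n⟩
    have hzQ' : Y 0 * (Y 1)⁻¹ * Y (1 + α) * (Y (α - 1))⁻¹ * Y (α + β - 1) * (Y (α + β))⁻¹ = 1 := Subtype.ext hz1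
    have : Y 1 * Y (α + β) * (Y α)⁻¹ * (Y (1 + α))⁻¹ = Y 0 * Y (α + β - 1) * (Y (α - 1))⁻¹ * (Y α)⁻¹ := by
      calc _ = Y 1 * Y (α + β) * (Y α)⁻¹ * (Y (1 + α))⁻¹ *
            (Y 0 * (Y 1)⁻¹ * Y (1 + α) * (Y (α - 1))⁻¹ * Y (α + β - 1) * (Y (α + β))⁻¹) := by rw [hzQ', mul_one]
        _ = _ := by
          apply Additive.ofMul.injective
          simp only [ofMul_mul, ofMul_inv]
          abel
    exact congrArg Subtype.val this
  have he1 : e = 1 := C.eq_one_of_fixed hS he hfix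
  rw [he, mul_inv_eq_one, mul_inv_eq_iff_eq_mul] at he1
  rcases C.sidon hS (a := 0) (d := α + β - 1) (b := α - 1) (c := α) (he1.trans (c _ _).eq) with h5 | h5
  · push_cast at h5; linear_combination h5
  · exfalso; refine hβ ?_
    push_cast at h5; linear_combination h5

/-- The inversion step: `a ↦ φ⁻³(a)⁻¹`. -/
theorem step {u : G} (hu : u ∈ C.U) (ha : C.ψ u ∈ pairSet F (∑ i ∈ Finset.range q, p ^ i)) :
    C.ψ (C.phi (-3) u⁻¹) ∈ pairSet F (∑ i ∈ Finset.range q, p ^ i) := by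
  set m := ∑ i ∈ Finset.range q, p ^ i
  haveI := charP' hS
  obtain ⟨u₂, hu₂, hu₂e⟩ := C.exists_ψ hS ha.2
  have hu₁ : u⁻¹ ∈ C.U := C.U.inv_mem hu
  have hu0 := (C.act u hu).1
  have hrel : 1 + C.ψ u⁻¹ * C.ψ u₂ = 2 * C.ψ u⁻¹ := by
    rw [C.ψ_inv hu, hu₂e]; field_simp; ring
  have hrel' : 1 + C.ψ (u⁻¹ ^ p) * C.ψ (u₂ ^ p) = 2 * C.ψ (u⁻¹ ^ p) := by
    have h := congrArg (· ^ p) hrel
    simp only [add_pow_char, one_pow, mul_pow] at h
    rw [C.ψ_pow hu₁, C.ψ_pow hu₂, h, show (2 : F) ^ p = 2 from map_natCast (frobenius F p) 2]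
  have hne : ∀ (k l : ℕ) {w : G}, w ∈ C.U → (l : F) ≠ 0 → (k : F) ≠ (l : F) → (k : F) + -(l : F) * C.ψ w ≠ 0 := by
    intro k l w hw hl hkl h
    have he : C.ψ w = (k : F) / (l : F) := by rw [eq_div_iff hl]; linear_combination -h
    refine hkl (div_eq_one_iff_eq hl |>.1 (eq_one_of_fixed_root hS ?_ (he ▸ C.ψ_root hS hw)))
    rw [div_pow, show (k : F) ^ p = k from map_natCast (frobenius F p) k, show (l : F) ^ p = l from map_natCast (frobenius F p) l]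
  have h2 := two_ne hS
  obtain ⟨α, cA, hcA, hα0, hα⟩ := C.exists_class hS (z := 2 + -1 * C.ψ (C.phi (-3) u⁻¹))
    (by simpa using hne 2 1 (C.phi_mem hS _ hu₁) (by simp) (fun h => one_ne_zero (α := F) (by push_cast at h; linear_combination h)))
  obtain ⟨β, cY, hcY, hβ0, hβ⟩ := C.exists_class hS (z := 3 + -2 * C.ψ (C.phi (-1) u₂))
    (by simpa using hne 3 2 (C.phi_mem hS _ hu₂) (by simpa using h2) (fun h => one_ne_zero (α := F) (by push_cast at h; linear_combination h)))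
  obtain ⟨γ, cX, hcX, -, hγ⟩ := C.exists_class hS (z := 3 + -1 * C.ψ (C.phi (-2) (u⁻¹ * u₂)))
    (by simpa using hne 3 1 (C.phi_mem hS _ (C.U.mul_mem hu₁ hu₂)) (by simp) (fun h => h2 (by push_cast at h; linear_combination h)))
  have hfrob : ∀ (a b k : ℤ) {w c : G}, w ∈ C.U → c ∈ C.U → (a : F) + (b : F) * C.ψ w = (k : F) * C.ψ c →
      (a : F) + (b : F) * C.ψ (w ^ p) = (k : F) * C.ψ (c ^ p) := by
    intro a b k w c hw hc h
    have h' := congrArg (· ^ p) h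
    simp only [add_pow_char, mul_pow, intCast_pow hS] at h'
    rwa [C.ψ_pow hw, C.ψ_pow hc]
  have hα' := hfrob 2 (-1) α (C.phi_mem hS _ hu₁) hcA (by push_cast; exact hα)
  have hβ' := hfrob 3 (-2) β (C.phi_mem hS _ hu₂) hcY (by push_cast; exact hβ)
  have hγ' := hfrob 3 (-1) γ (C.phi_mem hS _ (C.U.mul_mem hu₁ hu₂)) hcX (by push_cast; exact hγ)
  have cm : ∀ a b : G, a ∈ C.U → b ∈ C.U → Commute a b := fun a b ha hb => C.U_comm ha hb
  have hW := C.word hS hu₁ hu₂ hrel hcA hcY hcX hα hβ hγ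
  have hW' := C.word hS (C.U.pow_mem hu₁ p) (C.U.pow_mem hu₂ p) hrel' (C.U.pow_mem hcA p) (C.U.pow_mem hcY p)
    (C.U.pow_mem hcX p) (α := α) (β := β) (γ := γ) (by rw [C.phi_pow]; push_cast at hα'; exact hα')
    (by rw [C.phi_pow]; push_cast at hβ'; exact hβ')
    (by rw [← (cm _ _ hu₁ hu₂).mul_pow, C.phi_pow]; push_cast at hγ'; exact hγ')
  have m1 : ∀ {w : G} (n : ℤ), w ∈ C.U → C.phi n w ∈ C.U := fun n hw => C.phi_mem hS n hw
  have hWm : cA⁻¹ * C.phi (-3) u⁻¹ * C.phi (-2) cY ∈ C.U :=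
    C.U.mul_mem (C.U.mul_mem (C.U.inv_mem hcA) (m1 _ hu₁)) (m1 _ hcY)
  have hK₁m : (C.phi 1 cA)⁻¹ * cX ∈ C.U := C.U.mul_mem (C.U.inv_mem (m1 _ hcA)) hcX
  have hd : cY⁻¹ * C.phi (-1) u₂ ∈ C.U := C.U.mul_mem (C.U.inv_mem hcY) (m1 _ hu₂)
  have hK₂m : cX⁻¹ * C.phi (-2) (u⁻¹ * u₂) * (C.phi (-1) (cY⁻¹ * C.phi (-1) u₂))⁻¹ ∈ C.U :=
    C.U.mul_mem (C.U.mul_mem (C.U.inv_mem hcX) (m1 _ (C.U.mul_mem hu₁ hu₂))) (C.U.inv_mem (m1 _ hd))
  have e1 : (cA⁻¹ * C.phi (-3) u⁻¹ * C.phi (-2) cY) ^ p = (cA ^ p)⁻¹ * C.phi (-3) (u⁻¹ ^ p) * C.phi (-2) (cY ^ p) := by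
    rw [(cm _ _ (C.U.mul_mem (C.U.inv_mem hcA) (m1 _ hu₁)) (m1 _ hcY)).mul_pow,
      (cm _ _ (C.U.inv_mem hcA) (m1 _ hu₁)).mul_pow, inv_pow cA p, ← C.phi_pow, ← C.phi_pow]
  have e2 : ((C.phi 1 cA)⁻¹ * cX) ^ p = (C.phi 1 (cA ^ p))⁻¹ * cX ^ p := by
    rw [(cm _ _ (C.U.inv_mem (m1 _ hcA)) hcX).mul_pow, inv_pow, ← C.phi_pow]
  have e3 : (cX⁻¹ * C.phi (-2) (u⁻¹ * u₂) * (C.phi (-1) (cY⁻¹ * C.phi (-1) u₂))⁻¹) ^ p =
      (cX ^ p)⁻¹ * C.phi (-2) (u⁻¹ ^ p * u₂ ^ p) * (C.phi (-1) ((cY ^ p)⁻¹ * C.phi (-1) (u₂ ^ p)))⁻¹ := by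
    rw [(cm _ _ (C.U.mul_mem (C.U.inv_mem hcX) (m1 _ (C.U.mul_mem hu₁ hu₂))) (C.U.inv_mem (m1 _ hd))).mul_pow,
      (cm _ _ (C.U.inv_mem hcX) (m1 _ (C.U.mul_mem hu₁ hu₂))).mul_pow, inv_pow cX, inv_pow, ← C.phi_pow, ← C.phi_pow,
      (cm _ _ hu₁ hu₂).mul_pow, (cm _ _ (C.U.inv_mem hcY) (m1 _ hu₂)).mul_pow, inv_pow cY, C.phi_pow (-1) u₂]
  have hword := C.rigid hS hα0 hβ0 hWm hK₁m hK₂m hW (by rw [e1, e2, e3]; exact hW')
  rw [C.eq_one_of_word hS hα0 hβ0 hword, one_mul] at hα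
  refine ⟨C.ψ_root hS (C.phi_mem hS _ hu₁), ?_⟩
  rw [show 2 - C.ψ (C.phi (-3) u⁻¹) = C.ψ cA by rw [← hα]; ring]
  exact C.ψ_root hS hcA

include C in
theorem inv_closed {a : F} (ha : a ∈ pairSet F (∑ i ∈ Finset.range q, p ^ i)) :
    a⁻¹ ∈ pairSet F (∑ i ∈ Finset.range q, p ^ i) := by
  obtain ⟨u, hu, rfl⟩ := C.exists_ψ hS ha.1
  have h6 : ∀ j : ℕ, C.ψ (C.phi (-(6 * (j : ℤ))) u) ∈ pairSet F (∑ i ∈ Finset.range q, p ^ i) := by
    intro j
    induction j with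
    | zero => simpa [C.phi_zero] using ha
    | succ j ih =>
      have h := C.step hS (C.phi_mem hS _ (C.U.inv_mem (C.phi_mem hS _ hu))) (C.step hS (C.phi_mem hS _ hu) ih)
      rw [← C.phi_inv, inv_inv, C.phi_phi, C.phi_phi] at h
      convert h using 3
      push_cast; ring
  obtain ⟨j, hj⟩ := (hp.out.odd_of_ne_two hS.p_ne)
  have h := C.step hS (C.phi_mem hS _ hu) (h6 j)
  rw [← C.phi_inv, C.phi_phi, show (-3 : ℤ) + -(6 * (j : ℤ)) = -(((3 : ℕ) : ℤ) * p) by rw [hj]; push_cast; ring,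
    C.phi_neg_mul_p hS, C.ψ_inv hu] at h
  exact h

include C in
theorem contradiction (hq2 : q ≠ 2) : False := by
  obtain ⟨a, ha, ha1⟩ := NormOne.exists_ne_one hS.p_ne hS.card_F hq.out hq2
  exact absurd (NormOne.le_of_inv_closed hS.card_F hq.out.ne_zero (fun a ha => C.inv_closed hS ha) ha ha1) (not_le.2 hS.q_lt)

end Core

end Config

end Cfsg.Agent.Transfer.AppendixC
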