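import Mathlib

/-!
A presentation of `SL(2, 3)` as the quaternion group extended by an element of order three.
-/

set_option autoImplicit false

namespace Cfsg.Agent.Transfer.SL23

/-- Normal forms `i^s j^t a^u`. -/
abbrev Word : Type := Fin 4 × Fin 2 × Fin 3

/-- The product in the quaternion part. -/
def qmul (x y : Fin 4 × Fin 2) : Fin 4 × Fin 2 :=
  if x.2 = 0 then (x.1 + y.1, y.2) else if y.2 = 0 then (x.1 + 3 * y.1, 1) else (x.1 + 3 * y.1 + 2, 0)

/-- The powers of `j` in normal form. -/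
def jpow (s : Fin 4) : Fin 4 × Fin 2 :=
  if s = 0 then (0, 0) else if s = 1 then (0, 1) else if s = 2 then (2, 0) else (2, 1)

/-- The image of a quaternion normal form under conjugation by `a`. -/
def rot (x : Fin 4 × Fin 2) : Fin 4 × Fin 2 := qmul (jpow x.1) (if x.2 = 0 then (0, 0) else (1, 1))

/-- The product of normal forms. -/
def wmul (x y : Word) : Word :=
  let q := qmul (x.1, x.2.1) (Nat.iterate rot x.2.2.val (y.1, y.2.1))
  (q.1, q.2, x.2.2 + y.2.2)

theorem wmul_one : ∀ x : Word, wmul x (0, 0, 0) = x := by decide +kernel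

theorem wmul_surj : ∀ x y : Word, ∃ z : Word, wmul x z = y := by decide +kernel

structure Rel {Y : Type*} [Group Y] (i j a : Y) : Prop where
  i4 : i ^ 4 = 1
  jj : j * j = i * i
  ji : j * i = i⁻¹ * j
  a3 : a ^ 3 = 1
  ai : a * i * a⁻¹ = j
  aj : a * j * a⁻¹ = i * j

variable {Y : Type*} [Group Y] {i j a : Y}

/-- The element of a normal form. -/
def ev (i j a : Y) (x : Word) : Y := i ^ x.1.val * j ^ x.2.1.val * a ^ x.2.2.val

/-- The element of a quaternion normal form. -/
def qev (i j : Y) (x : Fin 4 × Fin 2) : Y := i ^ x.1.val * j ^ x.2.val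

theorem Rel.pow_add4 (h : Rel i j a) (m n : Fin 4) : i ^ (m + n).val = i ^ m.val * i ^ n.val := by
  rw [← pow_add, Fin.val_add, ← pow_eq_pow_mod _ h.i4]

theorem Rel.pow_mul4 (h : Rel i j a) (m n : Fin 4) : i ^ (m * n).val = (i ^ m.val) ^ n.val := by
  rw [← pow_mul, Fin.val_mul, ← pow_eq_pow_mod _ h.i4]

theorem Rel.j_pow (h : Rel i j a) (n : ℕ) : j * i ^ n = (i ^ 3) ^ n * j := by
  have hinv : i⁻¹ = i ^ 3 := inv_eq_of_mul_eq_one_right (by rw [← pow_succ']; exact h.i4)
  induction n with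
  | zero => simp
  | succ n ih => rw [pow_succ i n, ← mul_assoc, ih, mul_assoc, h.ji, hinv, ← mul_assoc, ← pow_succ]

theorem Rel.qev_mul (h : Rel i j a) (x y : Fin 4 × Fin 2) : qev i j x * qev i j y = qev i j (qmul x y) := by
  obtain ⟨s, t⟩ := x
  obtain ⟨s', t'⟩ := y
  have h0 : ∀ t : Fin 2, t = 0 ∨ t = 1 := by decide
  rcases h0 t with rfl | rfl <;> rcases h0 t' with rfl | rfl <;>
    simp only [qev, qmul, Fin.val_zero, Fin.val_one, pow_zero, pow_one, mul_one, if_true,
      if_neg (show (1 : Fin 2) ≠ 0 by decide)]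
  · rw [h.pow_add4]
  · rw [h.pow_add4, mul_assoc]
  · rw [h.pow_add4, h.pow_mul4, mul_assoc, h.j_pow, ← mul_assoc]; rfl
  · rw [h.pow_add4, h.pow_add4, h.pow_mul4, show (i ^ s.val * j) * (i ^ s'.val * j) = i ^ s.val * (j * i ^ s'.val) * j by
      simp only [mul_assoc], h.j_pow, ← mul_assoc, mul_assoc _ j j, h.jj]
    show _ = i ^ s.val * (i ^ 3) ^ s'.val * i ^ 2
    rw [pow_two]

theorem Rel.jpow_eq (h : Rel i j a) (s : Fin 4) : j ^ s.val = qev i j (jpow s) := by
  fin_cases s
  · simp [qev, jpow]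
  · simp [qev, jpow]
  · simp [qev, jpow, pow_two, h.jj]
  · show j ^ 3 = qev i j (jpow 3)
    simp only [qev, jpow]
    show j ^ 3 = i ^ 2 * j ^ 1
    rw [pow_one, pow_succ, pow_two, h.jj, pow_two]

theorem Rel.rot_eq (h : Rel i j a) (x : Fin 4 × Fin 2) : a * qev i j x * a⁻¹ = qev i j (rot x) := by
  obtain ⟨s, t⟩ := x
  rw [rot, ← h.qev_mul, ← h.jpow_eq]
  show a * (i ^ s.val * j ^ t.val) * a⁻¹ = _
  rw [show a * (i ^ s.val * j ^ t.val) * a⁻¹ = (a * i ^ s.val * a⁻¹) * (a * j ^ t.val * a⁻¹) by group,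
    ← conj_pow, ← conj_pow, h.ai, h.aj]
  congr 1
  fin_cases t
  · simp [qev]
  · simp [qev]

theorem Rel.rot_iter (h : Rel i j a) (n : ℕ) (x : Fin 4 × Fin 2) :
    a ^ n * qev i j x * (a ^ n)⁻¹ = qev i j (Nat.iterate rot n x) := by
  induction n generalizing x with
  | zero => simp
  | succ n ih =>
    rw [Function.iterate_succ_apply, ← ih, ← h.rot_eq, pow_succ]
    group

theorem Rel.ev_mul (h : Rel i j a) (x y : Word) : ev i j a x * ev i j a y = ev i j a (wmul x y) := by
  obtain ⟨s, t, u⟩ := x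
  obtain ⟨s', t', u'⟩ := y
  show qev i j (s, t) * a ^ u.val * (qev i j (s', t') * a ^ u'.val) =
    qev i j (qmul (s, t) (Nat.iterate rot u.val (s', t'))) * a ^ (u + u').val
  rw [← h.qev_mul, ← h.rot_iter, Fin.val_add, ← pow_eq_pow_mod _ h.a3, pow_add]
  group

theorem Rel.injective (h : Rel i j a) (h1 : ∀ x : Word, ev i j a x = 1 → x = (0, 0, 0)) :
    Function.Injective (ev i j a) := by
  intro x y hxy
  obtain ⟨z, hz⟩ := wmul_surj x y
  have hz1 : ev i j a z = 1 := by
    have := h.ev_mul x z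
    rw [hz, hxy] at this
    exact mul_eq_left.1 this
  rw [← hz, h1 z hz1, wmul_one]

theorem Rel.surjective (h : Rel i j a) (hgen : Subgroup.closure ({i, j, a} : Set Y) = ⊤) :
    Function.Surjective (ev i j a) := by
  have he : ev i j a (0, 0, 0) = 1 := by simp [ev]
  let P : Subgroup Y :=
    { carrier := Set.range (ev i j a)
      one_mem' := ⟨_, he⟩
      mul_mem' := by rintro _ _ ⟨x, rfl⟩ ⟨y, rfl⟩; exact ⟨_, (h.ev_mul x y).symm⟩
      inv_mem' := by
        rintro _ ⟨x, rfl⟩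
        obtain ⟨z, hz⟩ := wmul_surj x (0, 0, 0)
        exact ⟨z, eq_inv_of_mul_eq_one_right (by rw [h.ev_mul, hz, he])⟩ }
  intro g
  have hle : Subgroup.closure ({i, j, a} : Set Y) ≤ P := by
    rw [Subgroup.closure_le]
    rintro x (rfl | rfl | rfl)
    · exact ⟨(1, 0, 0), by simp [ev]⟩
    · exact ⟨(0, 1, 0), by simp [ev]⟩
    · exact ⟨(0, 0, 1), by simp [ev]⟩
  exact hle (hgen.ge (Subgroup.mem_top g))

local notation "SL23" => Matrix.SpecialLinearGroup (Fin 2) (ZMod 3)

/-- The first quaternion generator of `SL(2, 3)`. -/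
def gI : SL23 := ⟨!![0, 2; 1, 0], by decide⟩

/-- The second quaternion generator of `SL(2, 3)`. -/
def gJ : SL23 := ⟨!![1, 1; 1, 2], by decide⟩

/-- The element of order three of `SL(2, 3)`. -/
def gA : SL23 := ⟨!![1, 1; 0, 1], by decide⟩

theorem rel_SL : Rel gI gJ gA :=
  ⟨by decide +kernel, by decide +kernel, by decide +kernel, by decide +kernel, by decide +kernel, by decide +kernel⟩

theorem bijective_SL : Function.Bijective (ev gI gJ gA) := by
  have hinj : Function.Injective (ev gI gJ gA) := rel_SL.injective (by decide +kernel)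
  refine (Fintype.bijective_iff_injective_and_card _).2 ⟨hinj, ?_⟩
  decide +kernel

/-- A group with these relations and normal forms is `SL(2, 3)`. -/
theorem nonempty_equiv (h : Rel i j a) (h1 : ∀ x : Word, ev i j a x = 1 → x = (0, 0, 0))
    (hgen : Subgroup.closure ({i, j, a} : Set Y) = ⊤) : Nonempty (Y ≃* SL23) := by
  let e₁ := Equiv.ofBijective (ev i j a) ⟨h.injective h1, h.surjective hgen⟩
  let e₂ := Equiv.ofBijective (ev gI gJ gA) bijective_SL
  refine ⟨{ e₁.symm.trans e₂ with map_mul' := fun x y => ?_ }⟩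
  show e₂ (e₁.symm (x * y)) = e₂ (e₁.symm x) * e₂ (e₁.symm y)
  have he : e₁.symm (x * y) = wmul (e₁.symm x) (e₁.symm y) := by
    rw [Equiv.symm_apply_eq]
    show x * y = ev i j a _
    rw [← h.ev_mul]
    exact congrArg₂ (· * ·) (e₁.apply_symm_apply x).symm (e₁.apply_symm_apply y).symm
  rw [he]
  exact (rel_SL.ev_mul _ _).symm

end Cfsg.Agent.Transfer.SL23
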