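import Mathlib
import Cfsg.Agent.Lib.Grp.Real
import Cfsg.Agent.Lib.Transfer.ClassDisconnected

/-!
Groups with a single noncentral class size: `G/Z(G)` is a `p`-group (Ito), and `G` has an abelian normal
subgroup containing all `p`-th powers of its `p`-elements.
-/

set_option autoImplicit false
set_option maxHeartbeats 1000000

open scoped Pointwise

universe u

namespace Cfsg.Agent.Transfer.OneClassSize

open Cfsg Cfsg.Agent Cfsg.Agent.Transfer.ClassDisconnected

section Partition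

variable {Γ : Type u} [Group Γ] [Finite Γ] (Φ : Γ → Subgroup Γ)
  (hm : ∀ γ, γ ≠ 1 → γ ∈ Φ γ) (hu : ∀ γ, γ ≠ 1 → ∀ δ ∈ Φ γ, δ ≠ 1 → Φ δ = Φ γ)

include hm hu in
theorem orderOf_of_commute {a b : Γ} (ha : a ≠ 1) (hb : b ≠ 1) (hab : Commute a b) (hne : Φ a ≠ Φ b) :
    ∃ p : ℕ, p.Prime ∧ orderOf a = p ∧ orderOf b = p := by
  have key : ∀ a b : Γ, a ≠ 1 → b ≠ 1 → Commute a b → Φ a ≠ Φ b → orderOf b ∣ orderOf a := by
    intro a b ha hb hab hne
    refine orderOf_dvd_of_pow_eq_one ?_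
    by_contra hbn
    have hab1 : a * b ≠ 1 := fun h => hne (by
      have h1 : b = a⁻¹ := eq_inv_of_mul_eq_one_right h
      exact (hu a ha b (h1 ▸ (Φ a).inv_mem (hm a ha)) hb).symm)
    have h1 : (a * b) ^ orderOf a = b ^ orderOf a := by rw [hab.mul_pow, pow_orderOf_eq_one, one_mul]
    have h2 : Φ (a * b) = Φ b := by
      rw [← hu (a * b) hab1 _ (Subgroup.pow_mem _ (hm _ hab1) _) (h1 ▸ hbn), h1,
        hu b hb _ (Subgroup.pow_mem _ (hm b hb) _) hbn]
    have h3 : a ∈ Φ b := by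
      have := (Φ b).mul_mem (h2 ▸ hm _ hab1) ((Φ b).inv_mem (hm b hb))
      rwa [mul_inv_cancel_right] at this
    exact hne (hu b hb a h3 ha)
  have heq : orderOf a = orderOf b := Nat.dvd_antisymm (key b a hb ha hab.symm (Ne.symm hne)) (key a b ha hb hab hne)
  obtain ⟨q, hq, j, hj⟩ := Nat.exists_prime_and_dvd (n := orderOf a) (fun h => ha (orderOf_eq_one_iff.1 h))
  have hj0 : j ≠ 0 := fun h => (orderOf_pos a).ne' (by rw [hj, h, mul_zero])
  have ho : orderOf (a ^ j) = q := by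
    rw [orderOf_pow_of_dvd hj0 ⟨q, by rw [hj, mul_comm]⟩, hj, Nat.mul_div_cancel _ (Nat.pos_of_ne_zero hj0)]
  have ha1 : a ^ j ≠ 1 := fun h => hq.ne_one (by rw [← ho, h, orderOf_one])
  have h4 : Φ (a ^ j) = Φ a := hu a ha _ (Subgroup.pow_mem _ (hm a ha) j) ha1
  have h5 := Nat.dvd_antisymm (key b (a ^ j) hb ha1 (hab.pow_left j).symm (by rw [h4]; exact Ne.symm hne))
    (key (a ^ j) b ha1 hb (hab.pow_left j) (by rw [h4]; exact hne))
  exact ⟨q, hq, by rw [heq, ← h5, ho], by rw [← h5, ho]⟩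

variable (he : ∀ g γ : Γ, γ ≠ 1 → ∀ δ ∈ Φ γ, g * δ * g⁻¹ ∈ Φ (g * γ * g⁻¹))

include he in
theorem mem_normalizer {γ : Γ} (hγ : γ ≠ 1) {g : Γ} (hg : Φ (g * γ * g⁻¹) = Φ γ) :
    g ∈ Subgroup.normalizer (Φ γ : Set Γ) := by
  exact Subgroup.mem_normalizer_fintype fun δ hδ => hg ▸ he g γ hγ δ hδ

variable (hab : ∀ γ, γ ≠ 1 → ∀ u ∈ Φ γ, ∀ v ∈ Φ γ, u * v = v * u) {c : ℕ} (hc : ∀ γ, γ ≠ 1 → Nat.card (Φ γ) = c)
  (hne : ∀ γ, γ ≠ 1 → Φ γ ≠ ⊤)

include hm hc in
theorem prime_dvd_card {p : ℕ} [Fact p.Prime] (hp : p ∣ Nat.card Γ) : p ∣ c := by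
  obtain ⟨x, hx⟩ := exists_prime_orderOf_dvd_card' p hp
  have hx1 : x ≠ 1 := fun h => (Fact.out : p.Prime).ne_one (by rw [← hx, h, orderOf_one])
  rw [← hx, ← hc x hx1]
  exact Subgroup.orderOf_dvd_natCard _ (hm x hx1)

include hm hu he hc hne in
theorem not_full {p : ℕ} [Fact p.Prime] {γ : Γ} (hγ : γ ≠ 1) (hp : p ∣ Nat.card Γ) :
    c.factorization p < (Nat.card Γ).factorization p := by
  refine lt_of_le_of_ne ((Nat.factorization_le_iff_dvd (hc γ hγ ▸ Nat.card_pos.ne') Nat.card_pos.ne').2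
    (hc γ hγ ▸ Subgroup.card_subgroup_dvd_card _) p) fun heq => hne γ hγ ?_
  have full : ∀ δ : Γ, δ ≠ 1 → ∃ P : Sylow p Γ, (P : Subgroup Γ) ≤ Φ δ := by
    intro δ hδ
    obtain ⟨Q⟩ : Nonempty (Sylow p (Φ δ)) := inferInstance
    refine ⟨Sylow.ofCard ((Q : Subgroup (Φ δ)).map (Φ δ).subtype) ?_, ?_⟩
    · rw [Subgroup.card_map_of_injective (Φ δ).subtype_injective, Q.card_eq_multiplicity, hc δ hδ, heq]
    · rw [Sylow.coe_ofCard]; exact Subgroup.map_subtype_le _
  refine Grp.eq_top_of_conj_cover _ fun x => ?_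
  by_cases hx : x = 1
  · exact ⟨1, by rw [hx]; simp⟩
  obtain ⟨P, hP⟩ := full γ hγ
  obtain ⟨P', hP'⟩ := full x hx
  obtain ⟨g, hg⟩ := MulAction.exists_smul_eq Γ P' P
  obtain ⟨w, hw, hw1⟩ := (Subgroup.bot_or_exists_ne_one _).resolve_left (P'.ne_bot_of_dvd_card hp)
  have hgw : g * w * g⁻¹ ∈ (P : Subgroup Γ) := by
    rw [← hg]
    exact (Frob.mem_smul_conj_iff g _).2 (by simpa [mul_assoc] using hw)
  have hgw1 : g * w * g⁻¹ ≠ 1 := fun h => hw1 (conj_eq_one_iff.1 h)
  have e : Φ γ = Φ (g * x * g⁻¹) := by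
    rw [← hu γ hγ _ (hP hgw) hgw1,
      hu (g * x * g⁻¹) (fun h => hx (conj_eq_one_iff.1 h)) _ (he g x hx w (hP' hw)) hgw1]
  exact ⟨g, e ▸ hm _ (fun h => hx (conj_eq_one_iff.1 h))⟩

/-- No noncyclic `p`-group of commuting automorphisms acts without fixed points on the elements of order `r`. -/
theorem fpf_false {A : Type u} [CommGroup A] {p r : ℕ} (hp : p.Prime) (hr : r.Prime) (hpr : p ≠ r)
    (σ τ : MulAut A) (hστ : Commute σ τ) (hσ : σ ^ p = 1) (hτ : τ ^ p = 1)
    (hfix : ∀ i j : ℕ, i < p → j < p → (i, j) ≠ (0, 0) → ∀ u : A, u ^ r = 1 → (σ ^ i * τ ^ j) u = u → u = 1)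
    {w : A} (hw : orderOf w = r) : False := by
  have hline : ∀ ρ : MulAut A, ρ ^ p = 1 → (∀ u : A, u ^ r = 1 → ρ u = u → u = 1) →
      ∀ u : A, u ^ r = 1 → ∏ k ∈ Finset.range p, (ρ ^ k) u = 1 := by
    intro ρ hρ hf u hu
    refine hf _ ?_ ?_
    · rw [← Finset.prod_pow]
      exact Finset.prod_eq_one fun k _ => by rw [← map_pow, hu, map_one]
    · rw [map_prod]
      simp_rw [← MulAut.mul_apply, ← pow_succ']
      have h1 := Finset.prod_range_succ' (fun k => (ρ ^ k) u) p
      rw [Finset.prod_range_succ, hρ, pow_zero] at h1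
      exact mul_right_cancel h1.symm
  have hwr : w ^ r = 1 := hw ▸ pow_orderOf_eq_one w
  have hrow : ∀ i < p, ∏ k ∈ Finset.range p, ((σ ^ i * τ) ^ k) w = 1 := by
    intro i hi
    refine hline _ ?_ (fun u hu h => hfix i 1 hi hp.one_lt (by simp) u hu (by rwa [pow_one])) w hwr
    rw [(hστ.pow_left i).mul_pow, ← pow_mul, mul_comm i p, pow_mul, hσ, one_pow, one_mul, hτ]
  have hcol : ∀ k < p, k ≠ 0 → ∏ i ∈ Finset.range p, ((σ ^ i * τ) ^ k) w = 1 := by
    intro k hk hk0
    have h1 : ∀ i, ((σ ^ i * τ) ^ k) w = ((σ ^ k) ^ i) ((τ ^ k) w) := by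
      intro i
      rw [(hστ.pow_left i).mul_pow, MulAut.mul_apply, ← pow_mul, ← pow_mul, mul_comm i k]
    simp_rw [h1]
    refine hline _ (by rw [← pow_mul, mul_comm, pow_mul, hσ, one_pow])
      (fun u hu h => hfix k 0 hk hp.pos (by simp [hk0]) u hu (by rwa [pow_zero, mul_one])) _ ?_
    rw [← map_pow, hwr, map_one]
  have htot : ∏ i ∈ Finset.range p, ∏ k ∈ Finset.range p, ((σ ^ i * τ) ^ k) w = 1 :=
    Finset.prod_eq_one fun i hi => hrow i (Finset.mem_range.1 hi)
  rw [Finset.prod_comm, Finset.prod_eq_single 0 (fun k hk hk0 => hcol k (Finset.mem_range.1 hk) hk0)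
    (fun h => absurd (Finset.mem_range.2 hp.pos) h)] at htot
  simp only [pow_zero, MulAut.one_apply, Finset.prod_const, Finset.card_range] at htot
  have := orderOf_dvd_of_pow_eq_one htot
  rw [hw] at this
  exact hpr.symm ((Nat.prime_dvd_prime_iff_eq hr hp).1 this)

include hm hu he hab hc hne in
theorem isPrimePow_card (hΓ : ∃ γ : Γ, γ ≠ 1) : IsPrimePow (Nat.card Γ) := by
  obtain ⟨γ₀, hγ₀⟩ := hΓ
  have h1Γ : Nat.card Γ ≠ 1 := fun h => by
    haveI := (Nat.card_eq_one_iff_unique.1 h).1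
    exact hγ₀ (Subsingleton.elim _ _)
  have hc0 : c ≠ 0 := hc γ₀ hγ₀ ▸ Nat.card_pos.ne'
  by_contra hnpp
  -- a composite element exists in every component
  have hother : ∀ p : ℕ, p.Prime → ∃ r : ℕ, r.Prime ∧ r ≠ p ∧ r ∣ Nat.card Γ := by
    intro p hp
    by_contra h
    push Not at h
    have e := Nat.eq_prime_pow_of_unique_prime_dvd (p := p) Nat.card_pos.ne'
      (fun {r} hr hd => by_contra fun hne => h r hr hne hd)
    refine hnpp (e ▸ hp.isPrimePow.pow fun h0 => h1Γ ?_)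
    rw [e, h0, pow_zero]
  have hsyl : ∀ p : ℕ, [Fact p.Prime] → p ∣ Nat.card Γ → ∀ γ : Γ, γ ≠ 1 →
      ∃ (P : Sylow p Γ) (z : Γ), z ≠ 1 ∧ z ∈ P ∧ (∀ b ∈ P, Commute b z) ∧ orderOf z = p ∧
        ∃ v ∈ Φ γ, v ∈ P ∧ v ≠ 1 := by
    intro p hp hpd γ hγ
    have hpc : p ∣ Nat.card (Φ γ) := hc γ hγ ▸ prime_dvd_card Φ hm hc hpd
    obtain ⟨v, hv⟩ := exists_prime_orderOf_dvd_card' p hpc
    rw [← Subgroup.orderOf_coe] at hv
    obtain ⟨P, hP⟩ := (IsPGroup.of_card (n := 1) (by rw [Nat.card_zpowers, hv, pow_one]) :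
      IsPGroup p (Subgroup.zpowers (v : Γ))).exists_le_sylow
    haveI : Nontrivial (P : Subgroup Γ) := (Subgroup.nontrivial_iff_ne_bot _).2 (P.ne_bot_of_dvd_card hpd)
    haveI := IsPGroup.center_nontrivial P.isPGroup'
    have hcp : IsPGroup p (Subgroup.center (P : Subgroup Γ)) := P.isPGroup'.to_subgroup _
    obtain ⟨i, hi, hcard⟩ := (IsPGroup.nontrivial_iff_card hcp).1 inferInstance
    obtain ⟨m, hm'⟩ := exists_prime_orderOf_dvd_card' (G := Subgroup.center (P : Subgroup Γ)) p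
      (hcard ▸ dvd_pow_self p hi.ne')
    rw [← Subgroup.orderOf_coe, ← Subgroup.orderOf_coe] at hm'
    refine ⟨P, ((m : (P : Subgroup Γ)) : Γ), fun h => hp.out.ne_one (by rw [← hm', h, orderOf_one]), (m : (P : Subgroup Γ)).2,
      fun b hb => congrArg Subtype.val (Subgroup.mem_center_iff.1 m.2 ⟨b, hb⟩), hm', v, v.2, hP (Subgroup.mem_zpowers _),
      fun h => hp.out.ne_one (by rw [← hv, h, orderOf_one])⟩
  have hlow : ∀ p : ℕ, [Fact p.Prime] → p ∣ Nat.card Γ → ∀ γ : Γ, γ ≠ 1 →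
      c.factorization p + 1 ≤ (Nat.card (Subgroup.normalizer (Φ γ : Set Γ))).factorization p := by
    intro p hp hpd γ hγ
    obtain ⟨P, z, hz1, hzP, hzc, hzo, v, hvΦ, hvP, hv1⟩ := hsyl p hpd γ hγ
    set K := Φ γ with hK
    set N := Subgroup.normalizer (K : Set Γ) with hN
    by_cases hzK : z ∈ K
    · have hPN : (P : Subgroup Γ) ≤ N := by
        intro b hb
        refine mem_normalizer Φ he hγ ?_
        have h1 : b * z * b⁻¹ = z := by rw [(hzc b hb).eq, mul_inv_cancel_right]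
        have h2 := he b γ hγ z hzK
        rw [h1] at h2
        rw [← hu _ (fun h => hγ (conj_eq_one_iff.1 h)) z h2 hz1, hu γ hγ z hzK hz1]
      have h1 := (Nat.factorization_le_iff_dvd Nat.card_pos.ne' Nat.card_pos.ne').2 (Subgroup.card_dvd_of_le hPN) p
      rw [P.card_eq_multiplicity, hp.out.factorization_pow, Finsupp.single_eq_same] at h1
      have := not_full Φ hm hu he hc hne hγ hpd
      omega
    · have hzN : z ∈ N := by
        refine mem_normalizer Φ he hγ ?_
        have h1 : z * v * z⁻¹ = v := by rw [← (hzc v hvP).eq, mul_inv_cancel_right]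
        have h2 := he z γ hγ v hvΦ
        rw [h1] at h2
        rw [← hu _ (fun h => hγ (conj_eq_one_iff.1 h)) v h2 hv1, hu γ hγ v hvΦ hv1]
      haveI : (K.subgroupOf N).Normal := Subgroup.normal_in_normalizer
      have h2 : orderOf ((⟨z, hzN⟩ : N) : N ⧸ K.subgroupOf N) = p := by
        refine orderOf_eq_prime ?_ fun h => hzK ?_
        · rw [← QuotientGroup.mk_pow, QuotientGroup.eq_one_iff]
          rw [Subgroup.mem_subgroupOf, SubgroupClass.coe_pow]
          show z ^ p ∈ K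
          rw [← hzo, pow_orderOf_eq_one]
          exact K.one_mem
        · rw [QuotientGroup.eq_one_iff, Subgroup.mem_subgroupOf] at h
          exact h
      have h3 : p * c ∣ Nat.card N := by
        rw [Subgroup.card_eq_card_quotient_mul_card_subgroup (K.subgroupOf N),
          Nat.card_congr (Subgroup.subgroupOfEquivOfLe (Subgroup.le_normalizer : K ≤ N)).toEquiv, hK, hc γ hγ]
        refine mul_dvd_mul_right ?_ c
        exact h2 ▸ orderOf_dvd_natCard _
      have h4 := (Nat.factorization_le_iff_dvd (mul_ne_zero hp.out.ne_zero hc0) Nat.card_pos.ne').2 h3 p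
      rw [Nat.factorization_mul hp.out.ne_zero hc0, Finsupp.add_apply, hp.out.factorization_self] at h4
      omega
  have hup : ∀ p : ℕ, [Fact p.Prime] → p ∣ Nat.card Γ →
      (Nat.card Γ).factorization p ≤ c.factorization p + 1 := by
    intro p hp hpd
    obtain ⟨P, z, hz1, hzP, hzc, hzo, -⟩ := hsyl p hpd γ₀ hγ₀
    set K := Φ z with hK
    obtain ⟨r, hr, hrp, hrd⟩ := hother p hp.out
    haveI : Fact r.Prime := ⟨hr⟩
    obtain ⟨w, hw⟩ := exists_prime_orderOf_dvd_card' r (hc z hz1 ▸ prime_dvd_card Φ hm hc hrd : r ∣ Nat.card K)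
    letI : CommGroup K := { (inferInstance : Group K) with
      mul_comm := fun a b => Subtype.ext (hab z hz1 a a.2 b b.2) }
    have hPN : (P : Subgroup Γ) ≤ Subgroup.normalizer (K : Set Γ) := by
      intro b hb
      refine mem_normalizer Φ he hz1 ?_
      rw [(hzc b hb).eq, mul_inv_cancel_right]
    let ψ : (P : Subgroup Γ) →* MulAut K := K.normalizerMonoidHom.comp (Subgroup.inclusion hPN)
    have hψ : ∀ (b : (P : Subgroup Γ)) (u : K), ((ψ b) u : Γ) = (b : Γ) * u * (b : Γ)⁻¹ := fun b u => rfl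
    have hout : ∀ b : (P : Subgroup Γ), (b : Γ) ∉ K → orderOf (b : Γ) = p := by
      intro b hb
      have hb1 : (b : Γ) ≠ 1 := fun h => hb (h ▸ K.one_mem)
      obtain ⟨q, -, h1, h2⟩ := orderOf_of_commute Φ hm hu hb1 hz1 (hzc b b.2)
        (fun h => hb (by rw [hK, ← h]; exact hm _ hb1))
      rw [h1, ← h2, hzo]
    have hfpf : ∀ b : (P : Subgroup Γ), (b : Γ) ∉ K → ∀ u : K, u ^ r = 1 → ψ b u = u → u = 1 := by
      intro b hb u hur hbu
      by_contra hu1
      have hu1' : (u : Γ) ≠ 1 := fun h => hu1 (Subtype.ext h)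
      have hb1 : (b : Γ) ≠ 1 := fun h => hb (h ▸ K.one_mem)
      have hcomm : Commute (b : Γ) (u : Γ) := by
        have h1 := congrArg Subtype.val hbu
        rw [hψ] at h1
        exact mul_inv_eq_iff_eq_mul.1 h1
      obtain ⟨q, -, h1, h2⟩ := orderOf_of_commute Φ hm hu hb1 hu1' hcomm
        (fun h => hb (by rw [hK, ← hu z hz1 _ u.2 hu1', ← h]; exact hm _ hb1))
      refine hrp ?_
      rw [← hout b hb, h1, ← h2, Subgroup.orderOf_coe]
      exact (orderOf_eq_prime hur hu1).symm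
    set Im := ψ.range with hIm
    have hker : ψ.ker = K.subgroupOf (P : Subgroup Γ) := by
      ext b
      rw [MonoidHom.mem_ker, Subgroup.mem_subgroupOf]
      refine ⟨fun h => ?_, fun h => ?_⟩
      · by_contra hb
        have := hfpf b hb w (hw ▸ pow_orderOf_eq_one w) (by rw [h]; rfl)
        rw [this, orderOf_one] at hw
        exact hr.ne_one hw.symm
      · refine MulEquiv.ext fun u => Subtype.ext ?_
        rw [hψ, hab z hz1 _ h u u.2, mul_inv_cancel_right]
        rfl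
    have hexp : ∀ π ∈ Im, π ^ p = 1 := by
      rintro _ ⟨b, rfl⟩
      by_cases hb : (b : Γ) ∈ K
      · have : ψ b = 1 := by rw [← MonoidHom.mem_ker, hker, Subgroup.mem_subgroupOf]; exact hb
        rw [this, one_pow]
      · have h1 := pow_orderOf_eq_one (b : Γ)
        rw [hout b hb] at h1
        rw [← map_pow, show b ^ p = 1 from Subtype.ext (by rw [SubgroupClass.coe_pow, h1, OneMemClass.coe_one]), map_one]
    have hImfix : ∀ π ∈ Im, π ≠ 1 → ∀ u : K, u ^ r = 1 → π u = u → u = 1 := by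
      rintro _ ⟨b, rfl⟩ hb1
      refine hfpf b fun hb => hb1 ?_
      rw [← MonoidHom.mem_ker, hker, Subgroup.mem_subgroupOf]; exact hb
    have hcardIm : Nat.card Im ≤ p := by
      by_contra hbig
      haveI : Nontrivial Im := Finite.one_lt_card_iff_nontrivial.1 (by have := hp.out.two_le; omega)
      have hImp : IsPGroup p Im := fun π => ⟨1, Subtype.ext (by rw [SubgroupClass.coe_pow, pow_one]; exact hexp π π.2)⟩
      haveI := hImp.center_nontrivial
      obtain ⟨σ, hσ⟩ := exists_ne (1 : Subgroup.center Im)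
      have hσ1 : ((σ : Im) : MulAut K) ≠ 1 := fun h => hσ (Subtype.ext (Subtype.ext h))
      have hσo : orderOf (σ : Im) = p := orderOf_eq_prime (Subtype.ext (hexp _ (σ : Im).2))
        (fun h => hσ (Subtype.ext h))
      obtain ⟨τ, hτ⟩ : ∃ τ : Im, τ ∉ Subgroup.zpowers (σ : Im) := by
        by_contra h
        push Not at h
        refine hbig ?_
        rw [← Subgroup.card_top (G := Im), ← (eq_top_iff.2 fun x _ => h x : Subgroup.zpowers (σ : Im) = ⊤),
          Nat.card_zpowers, hσo]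
      have hcom : Commute (σ : Im) τ := (Subgroup.mem_center_iff.1 σ.2 τ).symm
      refine fpf_false hp.out hr (Ne.symm hrp) ((σ : Im) : MulAut K) (τ : MulAut K)
        (congrArg Subtype.val hcom) (hexp _ (σ : Im).2) (hexp _ τ.2) ?_ hw
      intro i j hi hj hij
      refine hImfix _ (Im.mul_mem (Im.pow_mem (σ : Im).2 i) (Im.pow_mem τ.2 j)) fun h => ?_
      have h' : (σ : Im) ^ i * τ ^ j = 1 := Subtype.ext h
      rcases Nat.eq_zero_or_pos j with rfl | hj0
      · rw [pow_zero, mul_one] at h'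
        have := orderOf_dvd_of_pow_eq_one h'
        rw [hσo] at this
        refine hij ?_
        rw [Nat.eq_zero_of_dvd_of_lt this hi]
      · have h1 : τ ^ j ∈ Subgroup.zpowers (σ : Im) := by
          rw [eq_inv_of_mul_eq_one_right h']
          exact Subgroup.inv_mem _ (Subgroup.pow_mem _ (Subgroup.mem_zpowers _) i)
        refine hτ ?_
        obtain ⟨m, hm1, hm2⟩ := Nat.chineseRemainder (hp.out.coprime_iff_not_dvd.2 (Nat.not_dvd_of_pos_of_lt hj0 hj)) 1 0
        obtain ⟨e, he'⟩ := Nat.modEq_zero_iff_dvd.1 hm2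
        have h2 : τ ^ m = τ ^ 1 := pow_eq_pow_iff_modEq.2
          (hm1.of_dvd (orderOf_dvd_of_pow_eq_one (Subtype.ext (hexp _ τ.2))))
        rw [← pow_one τ, ← h2, he', pow_mul]
        exact Subgroup.pow_mem _ h1 e
    have h5 : Nat.card (P : Subgroup Γ) ∣ Nat.card Im * c := by
      rw [← (ψ.ker).index_mul_card, Subgroup.index_ker]
      refine mul_dvd_mul_left _ ?_
      rw [hker, ← hc z hz1]
      exact Subgroup.card_comap_dvd_of_injective K _ (P : Subgroup Γ).subtype_injective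
    obtain ⟨i, hi⟩ : ∃ i, Nat.card Im = p ^ i := by
      haveI : Finite Im := inferInstance
      exact (IsPGroup.iff_card.1 (fun π => ⟨1, Subtype.ext (by rw [SubgroupClass.coe_pow, pow_one]; exact hexp π π.2)⟩))
    have hi1 : i ≤ 1 := (Nat.pow_le_pow_iff_right hp.out.one_lt).1 (by rw [pow_one, ← hi]; exact hcardIm)
    have h6 := (Nat.factorization_le_iff_dvd Nat.card_pos.ne' (mul_ne_zero Nat.card_pos.ne' hc0)).2 h5 p
    rw [P.card_eq_multiplicity, hp.out.factorization_pow, Finsupp.single_eq_same,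
      Nat.factorization_mul Nat.card_pos.ne' hc0, Finsupp.add_apply, hi, hp.out.factorization_pow,
      Finsupp.single_eq_same] at h6
    omega
  -- all components are normal
  have hnorm : ∀ γ, γ ≠ 1 → (Φ γ).Normal := by
    intro γ hγ
    rw [← Subgroup.normalizer_eq_top_iff]
    refine Subgroup.eq_top_of_le_card _ (Nat.le_of_dvd Nat.card_pos ?_)
    rw [← Nat.factorization_le_iff_dvd Nat.card_pos.ne' Nat.card_pos.ne']
    intro p
    by_cases hp : p ∈ (Nat.card Γ).primeFactors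
    · haveI : Fact p.Prime := ⟨Nat.prime_of_mem_primeFactors hp⟩
      have hpd := Nat.dvd_of_mem_primeFactors hp
      exact (hup p hpd).trans (hlow p hpd γ hγ)
    · rw [Finsupp.notMem_support_iff.1 (Nat.support_factorization _ ▸ hp)]
      exact Nat.zero_le _
  obtain ⟨δ, hδ⟩ : ∃ δ, δ ∉ Φ γ₀ := by
    by_contra h
    push Not at h
    exact hne γ₀ hγ₀ (eq_top_iff.2 fun x _ => h x)
  have hδ1 : δ ≠ 1 := fun h => hδ (h ▸ (Φ γ₀).one_mem)
  have hdis : Disjoint (Φ γ₀) (Φ δ) := by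
    rw [Subgroup.disjoint_def]
    intro x h1 h2
    by_contra hx
    exact hδ (by rw [← hu γ₀ hγ₀ x h1 hx, hu δ hδ1 x h2 hx]; exact hm δ hδ1)
  obtain ⟨p, hp, hpd⟩ := Nat.exists_prime_and_dvd (n := Nat.card Γ) h1Γ
  obtain ⟨r, hr, hrp, hrd⟩ := hother p hp
  haveI : Fact p.Prime := ⟨hp⟩
  haveI : Fact r.Prime := ⟨hr⟩
  obtain ⟨a, ha⟩ := exists_prime_orderOf_dvd_card' p (hc γ₀ hγ₀ ▸ prime_dvd_card Φ hm hc hpd : p ∣ Nat.card (Φ γ₀))
  obtain ⟨b, hb⟩ := exists_prime_orderOf_dvd_card' r (hc δ hδ1 ▸ prime_dvd_card Φ hm hc hrd : r ∣ Nat.card (Φ δ))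
  rw [← Subgroup.orderOf_coe] at ha hb
  have ha1 : (a : Γ) ≠ 1 := fun h => hp.ne_one (by rw [← ha, h, orderOf_one])
  have hb1 : (b : Γ) ≠ 1 := fun h => hr.ne_one (by rw [← hb, h, orderOf_one])
  have hcom : Commute (a : Γ) (b : Γ) :=
    Subgroup.commute_of_normal_of_disjoint _ _ (hnorm γ₀ hγ₀) (hnorm δ hδ1) hdis a b a.2 b.2
  obtain ⟨q, -, h1, h2⟩ := orderOf_of_commute Φ hm hu ha1 hb1 hcom (fun h => hδ (by
    rw [← hu γ₀ hγ₀ _ a.2 ha1, h, hu δ hδ1 _ b.2 hb1]; exact hm δ hδ1))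
  exact hrp (by rw [← hb, h2, ← h1, ha])

end Partition

section Group

variable {G : Type u} [Group G] [Finite G] {n : ℕ} (hn : 1 < n) (h : ∀ x : G, cix x = 1 ∨ cix x = n)

include hn h in
theorem cix_eq {x : G} (hx : x ∉ Subgroup.center G) : cix x = n :=
  (h x).resolve_left fun h1 => hx (cix_eq_one.1 h1)

include hn h in
theorem centralizer_eq_of_le {x w : G} (hx : x ∉ Subgroup.center G) (hw : w ∉ Subgroup.center G)
    (hle : Subgroup.centralizer ({x} : Set G) ≤ Subgroup.centralizer ({w} : Set G)) :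
    Subgroup.centralizer ({x} : Set G) = Subgroup.centralizer ({w} : Set G) := by
  refine le_antisymm hle (Subgroup.relIndex_eq_one.1 ?_)
  have h1 := Subgroup.relIndex_mul_index hle
  rw [show (Subgroup.centralizer ({w} : Set G)).index = n from cix_eq hn h hw,
    show (Subgroup.centralizer ({x} : Set G)).index = n from cix_eq hn h hx] at h1
  exact Nat.eq_of_mul_eq_mul_right (by omega : 0 < n) (by rw [h1, one_mul])

omit [Finite G] in
theorem centralizer_mul_center {x z : G} (hz : z ∈ Subgroup.center G) :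
    Subgroup.centralizer ({x * z} : Set G) = Subgroup.centralizer ({x} : Set G) := by
  ext c
  have hc : c * z = z * c := Subgroup.mem_center_iff.1 hz c
  rw [Subgroup.mem_centralizer_singleton_iff, Subgroup.mem_centralizer_singleton_iff, ← mul_assoc,
    mul_assoc x z c, ← hc, ← mul_assoc, mul_right_cancel_iff]

include hn h in
theorem eq_of_primary {x w : G} (hx : x ∉ Subgroup.center G) (hw : w ∉ Subgroup.center G) {q r i j : ℕ}
    (hq : q.Prime) (hr : r.Prime) (hqr : q ≠ r) (hxo : orderOf x = q ^ i) (hwo : orderOf w = r ^ j)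
    (hwx : w ∈ Subgroup.centralizer ({x} : Set G)) :
    Subgroup.centralizer ({x} : Set G) = Subgroup.centralizer ({w} : Set G) := by
  have hcom : Commute x w := (Subgroup.mem_centralizer_singleton_iff.1 hwx).symm
  have hco : (orderOf x).Coprime (orderOf w) := by
    rw [hxo, hwo]; exact Nat.Coprime.pow _ _ ((Nat.coprime_primes hq hr).2 hqr)
  have key : ∀ u v : G, Commute u v → (orderOf u).Coprime (orderOf v) →
      Subgroup.centralizer ({u * v} : Set G) ≤ Subgroup.centralizer ({u} : Set G) := by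
    intro u v huv hc
    obtain ⟨m, hm⟩ := Nat.chineseRemainder hc 1 0
    have hp : (u * v) ^ m = u := by
      rw [huv.mul_pow, (pow_eq_pow_iff_modEq.2 hm.1 : u ^ m = u ^ 1), (pow_eq_pow_iff_modEq.2 hm.2 : v ^ m = v ^ 0),
        pow_one, pow_zero, mul_one]
    have := centralizer_le_pow (u * v) m
    rwa [hp] at this
  have h1 := key x w hcom hco
  have h2 : Subgroup.centralizer ({x * w} : Set G) ≤ Subgroup.centralizer ({w} : Set G) := by
    rw [hcom.eq]; exact key w x hcom.symm hco.symm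
  have hxw : x * w ∉ Subgroup.center G := fun hz => hx (Subgroup.mem_center_iff.2 fun g =>
    Subgroup.mem_centralizer_singleton_iff.1 (h1 (Subgroup.center_le_centralizer _ (show g ∈ Subgroup.center G from
      absurd (cix_eq_one.2 hz) (by
        intro h3
        have h4 := Subgroup.index_dvd_of_le h1
        rw [show (Subgroup.centralizer ({x * w} : Set G)).index = 1 from h3,
          show (Subgroup.centralizer ({x} : Set G)).index = n from cix_eq hn h hx, Nat.dvd_one] at h4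
        omega)))))
  exact (centralizer_eq_of_le hn h hxw hx h1).symm.trans (centralizer_eq_of_le hn h hxw hw h2)

omit hn h in
theorem fac_lt {H : Subgroup G} (hH : Subgroup.center G ≤ H) {r j : ℕ} [Fact r.Prime] {y : G} (hy : y ∈ H)
    (hyo : orderOf y = r ^ j) (hyc : y ∉ Subgroup.center G) :
    (Nat.card (Subgroup.center G)).factorization r < (Nat.card H).factorization r := by
  obtain ⟨R⟩ : Nonempty (Sylow r (Subgroup.center G)) := inferInstance
  set R' := (R : Subgroup (Subgroup.center G)).map (Subgroup.center G).subtype with hR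
  have hR'c : R' ≤ Subgroup.center G := Subgroup.map_subtype_le _
  haveI hR'n : R'.Normal := ⟨fun c hc g => by rw [Subgroup.mem_center_iff.1 (hR'c hc) g, mul_inv_cancel_right]; exact hc⟩
  have hsup : IsPGroup r ↥(Subgroup.zpowers y ⊔ R') :=
    (IsPGroup.of_card (n := j) (by rw [Nat.card_zpowers, hyo]) : IsPGroup r (Subgroup.zpowers y)).to_sup_of_normal_right
      (R.isPGroup'.map _)
  obtain ⟨k, hk⟩ := IsPGroup.iff_card.1 hsup
  have hdvd := Subgroup.card_dvd_of_le (sup_le (Subgroup.zpowers_le.2 hy) (hR'c.trans hH) : Subgroup.zpowers y ⊔ R' ≤ H)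
  rw [hk, (Fact.out : r.Prime).pow_dvd_iff_le_factorization Nat.card_pos.ne'] at hdvd
  refine lt_of_lt_of_le ?_ hdvd
  have hlt : R' < Subgroup.zpowers y ⊔ R' := lt_of_le_of_ne le_sup_right fun he =>
    hyc (hR'c (he ▸ Subgroup.mem_sup_left (Subgroup.mem_zpowers y)))
  have hc' : Nat.card R' = r ^ (Nat.card (Subgroup.center G)).factorization r := by
    rw [hR, Subgroup.card_map_of_injective (Subgroup.center G).subtype_injective, R.card_eq_multiplicity]
  have hle := Nat.le_of_dvd Nat.card_pos (Subgroup.card_dvd_of_le hlt.le)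
  have hne : Nat.card R' ≠ Nat.card ↥(Subgroup.zpowers y ⊔ R') := fun he =>
    hlt.ne (Subgroup.eq_of_le_of_card_ge hlt.le he.ge)
  rw [hc', hk] at hle hne
  exact (Nat.pow_lt_pow_iff_right (Fact.out : r.Prime).one_lt).1 (lt_of_le_of_ne hle hne)

omit hn h in
theorem fac_le {H : Subgroup G} {r : ℕ} [Fact r.Prime]
    (hH : ∀ y ∈ H, ∀ j : ℕ, orderOf y = r ^ j → y ∈ Subgroup.center G) :
    (Nat.card H).factorization r ≤ (Nat.card (Subgroup.center G)).factorization r := by
  obtain ⟨R⟩ : Nonempty (Sylow r H) := inferInstance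
  have hle : (R : Subgroup H).map H.subtype ≤ Subgroup.center G := by
    rintro _ ⟨y, hy, rfl⟩
    obtain ⟨j, hj⟩ := (IsPGroup.iff_orderOf.1 R.isPGroup') ⟨y, hy⟩
    exact hH _ y.2 j (by rw [← hj, Subgroup.orderOf_mk]; exact Subgroup.orderOf_coe y)
  have hdvd := Subgroup.card_dvd_of_le hle
  rw [Subgroup.card_map_of_injective H.subtype_injective, R.card_eq_multiplicity,
    (Fact.out : r.Prime).pow_dvd_iff_le_factorization Nat.card_pos.ne'] at hdvd
  exact hdvd

include hn h in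
/-- Centralisers of noncentral elements are abelian unless `G/Z(G)` is a `p`-group. -/
theorem isPGroup_or_abelian :
    (∃ q : ℕ, q.Prime ∧ IsPGroup q (G ⧸ Subgroup.center G)) ∨
      ∀ x : G, x ∉ Subgroup.center G → ∀ u ∈ Subgroup.centralizer ({x} : Set G),
        ∀ v ∈ Subgroup.centralizer ({x} : Set G), u * v = v * u := by
  refine or_iff_not_imp_left.2 fun hnp x₀ hx₀ => ?_
  obtain ⟨i, q, k, hq, hxo, hxc⟩ := exists_primary_noncentral hx₀
  haveI : Fact q.Prime := ⟨hq⟩
  rw [centralizer_eq_of_le hn h hx₀ hxc (centralizer_le_pow _ _)]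
  set x := x₀ ^ i
  set C := Subgroup.centralizer ({x} : Set G) with hC
  by_contra hnab
  have hcent : ∀ r : ℕ, r.Prime → r ≠ q → ∀ w ∈ C, ∀ j : ℕ, orderOf w = r ^ j → w ∈ Subgroup.center G := by
    intro r hr hrq w hw j hwo
    by_contra hwc
    refine hnab fun u hu v hv => ?_
    have hCw := eq_of_primary hn h hxc hwc hq hr (Ne.symm hrq) hxo hwo hw
    suffices hu' : u ∈ Subgroup.centralizer (C : Set G) from ((Subgroup.mem_centralizer_iff.1 hu') v hv).symm
    refine mem_of_primary _ fun l s t hs hso => ?_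
    have hul : u ^ l ∈ C := C.pow_mem hu l
    rw [Subgroup.mem_centralizer_iff]
    intro g hg
    by_cases huc : u ^ l ∈ Subgroup.center G
    · exact Subgroup.mem_center_iff.1 huc g
    by_cases hsq : s = q
    · subst hsq
      have h1 := eq_of_primary hn h hwc huc hr hs hrq hwo hso (hCw ▸ hul)
      rw [hC, hCw, h1] at hg
      exact Subgroup.mem_centralizer_singleton_iff.1 hg
    · have h1 := eq_of_primary hn h hxc huc hq hs (Ne.symm hsq) hxo hso hul
      rw [hC, h1] at hg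
      exact Subgroup.mem_centralizer_singleton_iff.1 hg
  have hall : ∀ r : ℕ, r.Prime → r ≠ q → ∀ y : G, ∀ j : ℕ, orderOf y = r ^ j → y ∈ Subgroup.center G := by
    intro r hr hrq y j hyo
    by_contra hyc
    haveI : Fact r.Prime := ⟨hr⟩
    set D := Subgroup.centralizer ({y} : Set G) with hD
    have hcard : Nat.card C = Nat.card D := by
      have h1 := C.card_mul_index
      rw [← D.card_mul_index, show C.index = n from cix_eq hn h hxc, show D.index = n from cix_eq hn h hyc] at h1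
      exact Nat.eq_of_mul_eq_mul_right (by omega : 0 < n) h1
    have h1 := fac_lt (Subgroup.center_le_centralizer _ : Subgroup.center G ≤ D)
      (Subgroup.mem_centralizer_singleton_iff.2 rfl : y ∈ D) hyo hyc
    have h2 := fac_le (H := C) (r := r) (fun w hw j hj => hcent r hr hrq w hw j hj)
    rw [hcard, hD] at h2
    omega
  refine hnp ⟨q, hq, fun γ => ?_⟩
  obtain ⟨g, rfl⟩ := QuotientGroup.mk_surjective γ
  obtain ⟨e, m, hm, hgm⟩ := Nat.exists_eq_pow_mul_and_not_dvd (orderOf_pos g).ne' q hq.ne_one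
  refine ⟨e, ?_⟩
  rw [← QuotientGroup.mk_pow, QuotientGroup.eq_one_iff]
  refine mem_of_primary _ fun l s t hs hso => ?_
  by_cases hsq : s = q
  · subst hsq
    have h1 : ((g ^ s ^ e) ^ l) ^ m = 1 := by
      rw [← pow_mul, ← pow_mul]
      exact orderOf_dvd_iff_pow_eq_one.1 ⟨l, by rw [hgm]; ring⟩
    have h2 : orderOf ((g ^ s ^ e) ^ l) = 1 := Nat.eq_one_of_dvd_coprimes
      ((hs.coprime_iff_not_dvd.2 hm).pow_left t) hso.dvd (orderOf_dvd_of_pow_eq_one h1)
    rw [orderOf_eq_one_iff.1 h2]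
    exact Subgroup.one_mem _
  · exact hall s hs hsq _ t hso

include hn h in
/-- Ito: a single noncentral class size forces `G/Z(G)` to be a `p`-group. -/
theorem exists_prime (hex : ∃ x : G, cix x = n) :
    ∃ p : ℕ, p.Prime ∧ IsPGroup p (G ⧸ Subgroup.center G) := by
  obtain ⟨x₀, hx₀⟩ := hex
  rcases isPGroup_or_abelian hn h with h1 | hab
  · exact h1
  set f := QuotientGroup.mk' (Subgroup.center G) with hf
  have hout : ∀ γ : G ⧸ Subgroup.center G, f γ.out = γ := fun γ => QuotientGroup.out_eq' γ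
  have hnc : ∀ γ : G ⧸ Subgroup.center G, γ ≠ 1 → γ.out ∉ Subgroup.center G := fun γ hγ hz => hγ (by
    rw [← hout γ, hf, QuotientGroup.mk'_apply, QuotientGroup.eq_one_iff]; exact hz)
  have hsame : ∀ g : G, Subgroup.centralizer ({(f g).out} : Set G) = Subgroup.centralizer ({g} : Set G) := by
    intro g
    obtain ⟨z, hz⟩ := QuotientGroup.mk_out_eq_mul (Subgroup.center G) g
    show Subgroup.centralizer ({((g : G) : G ⧸ Subgroup.center G).out} : Set G) = _
    rw [hz]
    exact centralizer_mul_center z.2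
  let Φ : G ⧸ Subgroup.center G → Subgroup (G ⧸ Subgroup.center G) :=
    fun γ => (Subgroup.centralizer ({γ.out} : Set G)).map f
  have hcomap : ∀ γ, ∀ u, f u ∈ Φ γ ↔ u ∈ Subgroup.centralizer ({γ.out} : Set G) := by
    intro γ u
    rw [← Subgroup.mem_comap, Subgroup.comap_map_eq_self
      (by rw [hf, QuotientGroup.ker_mk']; exact Subgroup.center_le_centralizer _)]
  have hx₀c : x₀ ∉ Subgroup.center G := fun hz => by rw [cix_eq_one.2 hz] at hx₀; omega
  have hpp := isPrimePow_card (Γ := G ⧸ Subgroup.center G) Φ (c := Nat.card G / n / Nat.card (Subgroup.center G))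
    (fun γ _ => ⟨γ.out, Subgroup.mem_centralizer_singleton_iff.2 rfl, hout γ⟩)
    (fun γ hγ δ hδ hδ1 => by
      obtain ⟨u, hu, rfl⟩ := hδ
      show (Subgroup.centralizer _).map f = _
      have huc : u ∉ Subgroup.center G := fun hz => hδ1 (by rw [hf, QuotientGroup.mk'_apply, QuotientGroup.eq_one_iff]; exact hz)
      rw [hsame u, ← centralizer_eq_of_le hn h (hnc γ hγ) huc
        (fun v hv => Subgroup.mem_centralizer_singleton_iff.2 (hab _ (hnc γ hγ) v hv u hu))])
    (fun g γ hγ δ hδ => by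
      obtain ⟨g, rfl⟩ := QuotientGroup.mk'_surjective (Subgroup.center G) g
      obtain ⟨u, hu, rfl⟩ := hδ
      rw [← hf]
      refine ⟨g * u * g⁻¹, ?_, by rw [map_mul, map_mul, map_inv]⟩
      rw [SetLike.mem_coe] at hu ⊢
      rw [show f g * γ * (f g)⁻¹ = f (g * γ.out * g⁻¹) by rw [map_mul, map_mul, map_inv, hout]]
      rw [hsame, Subgroup.mem_centralizer_singleton_iff]
      rw [Subgroup.mem_centralizer_singleton_iff] at hu
      calc g * u * g⁻¹ * (g * γ.out * g⁻¹) = g * (u * γ.out) * g⁻¹ := by group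
        _ = g * (γ.out * u) * g⁻¹ := by rw [hu]
        _ = g * γ.out * g⁻¹ * (g * u * g⁻¹) := by group)
    (fun γ hγ u hu v hv => by
      obtain ⟨u, hu, rfl⟩ := hu
      obtain ⟨v, hv, rfl⟩ := hv
      rw [← map_mul, ← map_mul, hab _ (hnc γ hγ) u hu v hv])
    (fun γ hγ => by
      show Nat.card ((Subgroup.centralizer ({γ.out} : Set G)).map f) = _
      rw [← Subgroup.relIndex_ker, hf, QuotientGroup.ker_mk']
      set C := Subgroup.centralizer ({γ.out} : Set G)
      have h1 : Nat.card G / n = Nat.card C := by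
        rw [← C.card_mul_index, show C.index = n from cix_eq hn h (hnc γ hγ), Nat.mul_div_cancel _ (by omega)]
      rw [h1, ← Subgroup.relIndex_bot_left, ← Subgroup.relIndex_bot_left,
        ← Subgroup.relIndex_mul_relIndex ⊥ (Subgroup.center G) C bot_le (Subgroup.center_le_centralizer _),
        Nat.mul_div_cancel_left]
      rw [Subgroup.relIndex_bot_left]; exact Nat.card_pos)
    (fun γ hγ ht => hnc γ hγ (Subgroup.mem_center_iff.2 fun g => Subgroup.mem_centralizer_singleton_iff.1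
      ((hcomap γ g).1 (ht ▸ Subgroup.mem_top _))))
    ⟨f x₀, fun h1 => hx₀c ((QuotientGroup.eq_one_iff _).1 h1)⟩
  obtain ⟨p, k, hp, -, hpk⟩ := (isPrimePow_nat_iff _).1 hpp
  exact ⟨p, hp, IsPGroup.of_card hpk.symm⟩

include hn h in
/-- The abelian normal subgroup containing all `p`-th powers. -/
theorem exists_abelian_normal {p : ℕ} [hp : Fact p.Prime] (hpG : IsPGroup p (G ⧸ Subgroup.center G)) :
    ∃ A : Subgroup G, A.Normal ∧ IsMulCommutative A ∧ ∀ y : G, y ^ p ∈ A := by
  by_cases hall : ∀ y : G, y ^ p ∈ Subgroup.center G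
  · exact ⟨Subgroup.center G, inferInstance, inferInstance, hall⟩
  push Not at hall
  obtain ⟨y₀, hy₀⟩ := hall
  set f := QuotientGroup.mk' (Subgroup.center G) with hf
  have hout : ∀ γ : G ⧸ Subgroup.center G, f γ.out = γ := fun γ => QuotientGroup.out_eq' γ
  have hnc : ∀ γ : G ⧸ Subgroup.center G, γ ≠ 1 → γ.out ∉ Subgroup.center G := fun γ hγ hz => hγ (by
    rw [← hout γ, hf, QuotientGroup.mk'_apply, QuotientGroup.eq_one_iff]; exact hz)
  let K : G → Subgroup G := fun x => Subgroup.centralizer (Subgroup.centralizer ({x} : Set G) : Set G)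
  have hKc : ∀ x, K x ≤ Subgroup.centralizer ({x} : Set G) := by
    intro x v hv
    rw [Subgroup.mem_centralizer_singleton_iff]
    exact ((Subgroup.mem_centralizer_iff.1 hv) x (Subgroup.mem_centralizer_singleton_iff.2 rfl)).symm
  have hKm : ∀ x, x ∈ K x := fun x => Subgroup.mem_centralizer_iff.2 fun v hv => Subgroup.mem_centralizer_singleton_iff.1 hv
  have hsame : ∀ g : G, K ((f g).out) = K g := by
    intro g
    obtain ⟨z, hz⟩ := QuotientGroup.mk_out_eq_mul (Subgroup.center G) g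
    show Subgroup.centralizer (Subgroup.centralizer ({((g : G) : G ⧸ Subgroup.center G).out} : Set G) : Set G) = _
    rw [hz, centralizer_mul_center z.2]
  let Φ : G ⧸ Subgroup.center G → Subgroup (G ⧸ Subgroup.center G) := fun γ => (K γ.out).map f
  have hm : ∀ γ, γ ≠ 1 → γ ∈ Φ γ := fun γ _ => ⟨γ.out, hKm _, hout γ⟩
  have hu : ∀ γ, γ ≠ 1 → ∀ δ ∈ Φ γ, δ ≠ 1 → Φ δ = Φ γ := by
    intro γ hγ δ hδ hδ1
    obtain ⟨v, hv, rfl⟩ := hδ
    have hvc : v ∉ Subgroup.center G := fun hz => hδ1 (by rw [hf, QuotientGroup.mk'_apply, QuotientGroup.eq_one_iff]; exact hz)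
    show (K _).map f = _
    rw [hsame v]
    show (Subgroup.centralizer _).map f = _
    rw [← centralizer_eq_of_le hn h (hnc γ hγ) hvc fun w hw =>
      Subgroup.mem_centralizer_singleton_iff.2 ((Subgroup.mem_centralizer_iff.1 hv) w hw)]
  have he : ∀ g γ : G ⧸ Subgroup.center G, γ ≠ 1 → ∀ δ ∈ Φ γ, g * δ * g⁻¹ ∈ Φ (g * γ * g⁻¹) := by
    intro g γ hγ δ hδ
    obtain ⟨g, rfl⟩ := QuotientGroup.mk'_surjective (Subgroup.center G) g
    obtain ⟨v, hv, rfl⟩ := hδ
    rw [← hf]
    refine ⟨g * v * g⁻¹, ?_, by rw [map_mul, map_mul, map_inv]⟩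
    rw [show f g * γ * (f g)⁻¹ = f (g * γ.out * g⁻¹) by rw [map_mul, map_mul, map_inv, hout]]
    rw [SetLike.mem_coe, hsame]
    refine Subgroup.mem_centralizer_iff.2 fun w hw => ?_
    have hw' : g⁻¹ * w * g ∈ Subgroup.centralizer ({γ.out} : Set G) := by
      rw [SetLike.mem_coe, Subgroup.mem_centralizer_singleton_iff] at hw
      rw [Subgroup.mem_centralizer_singleton_iff]
      calc g⁻¹ * w * g * γ.out = g⁻¹ * (w * (g * γ.out * g⁻¹)) * g := by group
        _ = g⁻¹ * (g * γ.out * g⁻¹ * w) * g := by rw [hw]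
        _ = γ.out * (g⁻¹ * w * g) := by group
    calc w * (g * v * g⁻¹) = g * (g⁻¹ * w * g * v) * g⁻¹ := by group
      _ = g * (v * (g⁻¹ * w * g)) * g⁻¹ := by rw [(Subgroup.mem_centralizer_iff.1 hv) _ hw']
      _ = g * v * g⁻¹ * w := by group
  have hγ₀ : f y₀ ≠ 1 := fun h1 => hy₀ (Subgroup.pow_mem _ ((QuotientGroup.eq_one_iff _).1 h1) p)
  haveI : Nontrivial (G ⧸ Subgroup.center G) := ⟨f y₀, 1, hγ₀⟩
  haveI := IsPGroup.center_nontrivial hpG
  obtain ⟨i, hi, hcard⟩ := (IsPGroup.nontrivial_iff_card (hpG.to_subgroup (Subgroup.center _))).1 inferInstance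
  obtain ⟨ζ, hζ⟩ := exists_prime_orderOf_dvd_card' (G := Subgroup.center (G ⧸ Subgroup.center G)) p
    (hcard ▸ dvd_pow_self p hi.ne')
  rw [← Subgroup.orderOf_coe] at hζ
  set z : G ⧸ Subgroup.center G := (ζ : G ⧸ Subgroup.center G) with hz
  have hz1 : z ≠ 1 := fun h1 => hp.out.ne_one (by rw [← hζ, h1, orderOf_one])
  refine ⟨(Φ z).comap f, ?_, ?_, fun y => ?_⟩
  · haveI : (Φ z).Normal := ⟨fun δ hδ g => by
      have h1 := he g z hz1 δ hδ
      rwa [Subgroup.mem_center_iff.1 ζ.2 g, mul_inv_cancel_right] at h1⟩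
    exact Subgroup.normal_comap f
  · rw [Subgroup.comap_map_eq_self (by
      rw [hf, QuotientGroup.ker_mk']
      exact fun c hc => Subgroup.mem_centralizer_iff.2 fun w _ => Subgroup.mem_center_iff.1 hc w)]
    exact ⟨⟨fun a b => Subtype.ext ((Subgroup.mem_centralizer_iff.1 b.2) a (hKc _ a.2))⟩⟩
  · rw [Subgroup.mem_comap, map_pow]
    by_cases hy : f y ^ p = 1
    · rw [hy]; exact one_mem _
    refine Subgroup.pow_mem _ ?_ p
    by_contra hne
    have hy1 : f y ≠ 1 := fun h1 => hy (by rw [h1, one_pow])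
    obtain ⟨q, -, h1, h2⟩ := orderOf_of_commute Φ hm hu hy1 hz1 (Subgroup.mem_center_iff.1 ζ.2 (f y))
      (fun h1 => hne (h1 ▸ hm _ hy1))
    rw [hζ] at h2
    exact hy (by rw [h2, ← h1, pow_orderOf_eq_one])

end Group

end Cfsg.Agent.Transfer.OneClassSize
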