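import Mathlib

/-! Timmesfeld replacement for commuting unipotent actions on an abelian group. -/

set_option autoImplicit false

namespace Cfsg.Agent.Transfer.Timmesfeld

variable {W H : Type*} [AddCommGroup W] [Group H] (T : H →* AddMonoid.End W)

/-- Fixed points of a subgroup. -/
def fix (B : Subgroup H) : AddSubgroup W where
  carrier := {w | ∀ b ∈ B, T b w = w}
  add_mem' hx hy b hb := by rw [map_add, hx b hb, hy b hb]
  zero_mem' _ _ := map_zero _
  neg_mem' hx b hb := by rw [map_neg, hx b hb]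

theorem T_mul (a b : H) (w : W) : T (a * b) w = T a (T b w) := by rw [map_mul]; rfl

theorem T_inv (a : H) (w : W) : T a⁻¹ (T a w) = w := by rw [← T_mul, inv_mul_cancel, map_one]; rfl

/-- Pointwise stabilizer. -/
def stab (K : AddSubgroup W) : Subgroup H where
  carrier := {b | ∀ w ∈ K, T b w = w}
  one_mem' w _ := by rw [map_one]; rfl
  mul_mem' := fun {a b} ha hb w hw => by rw [T_mul, hb w hw, ha w hw]
  inv_mem' := fun {a} ha w hw => by nth_rewrite 1 [← ha w hw]; exact T_inv T a w

/-- `[s, H]`. -/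
def comm (s : Set W) : AddSubgroup W := AddSubgroup.closure {x | ∃ u ∈ s, ∃ a : H, x = u - T a u}

theorem le_fix_stab (K : AddSubgroup W) : K ≤ fix T (stab T K) := fun w hw _ hb => hb w hw

theorem fix_anti {B B' : Subgroup H} (h : B ≤ B') : fix T B' ≤ fix T B := fun _ hw b hb => hw b (h hb)

theorem comm_union (s t : Set W) : comm T (s ∪ t) = comm T s ⊔ comm T t := by
  rw [comm, comm, comm, ← AddSubgroup.closure_union]
  congr 1
  ext x
  constructor
  · rintro ⟨u, hu | hu, a, rfl⟩
    · exact Or.inl ⟨u, hu, a, rfl⟩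
    · exact Or.inr ⟨u, hu, a, rfl⟩
  · rintro (⟨u, hu, a, rfl⟩ | ⟨u, hu, a, rfl⟩)
    · exact ⟨u, Or.inl hu, a, rfl⟩
    · exact ⟨u, Or.inr hu, a, rfl⟩

/-- The measure. -/
noncomputable def meas (B : Subgroup H) : ℕ := Nat.card B * Nat.card (fix T B)

theorem card_sup_mul_card_inf [Finite W] (P Q : AddSubgroup W) :
    Nat.card ↥(P ⊔ Q) * Nat.card ↥(P ⊓ Q) = Nat.card P * Nat.card Q := by
  have h1 : P.relIndex (P ⊔ Q) = P.relIndex Q := by rw [sup_comm, AddSubgroup.relIndex_sup_right]
  have h2 : Nat.card P * P.relIndex (P ⊔ Q) = Nat.card ↥(P ⊔ Q) := by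
    rw [← AddSubgroup.relIndex_bot_left, ← AddSubgroup.relIndex_bot_left,
      AddSubgroup.relIndex_mul_relIndex ⊥ P (P ⊔ Q) bot_le le_sup_left]
  have h3 : Nat.card ↥(P ⊓ Q) * P.relIndex Q = Nat.card Q := by
    rw [← AddSubgroup.inf_relIndex_right, ← AddSubgroup.relIndex_bot_left, ← AddSubgroup.relIndex_bot_left,
      AddSubgroup.relIndex_mul_relIndex ⊥ (P ⊓ Q) Q bot_le inf_le_right]
  rw [← h2, h1, mul_assoc, mul_comm (P.relIndex Q), h3]

theorem relIndex_mul_card [Finite H] (P Q : Subgroup H) :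
    Nat.card ↥(P ⊓ Q) * Q.relIndex P = Nat.card P := by
  rw [← Subgroup.inf_relIndex_left, ← Subgroup.relIndex_bot_left, ← Subgroup.relIndex_bot_left,
    Subgroup.relIndex_mul_relIndex ⊥ (P ⊓ Q) P bot_le inf_le_left]

variable (hcomm : ∀ a b : H, ∀ w, T a (T b w) = T b (T a w))
include hcomm

theorem stab_single_iff (u : W) (a : H) :
    a ∈ stab T (comm T {u}) ↔ ∀ b : H, T b (u - T a u) = u - T a u := by
  have key : ∀ a b : H, T a (u - T b u) = u - T b u → T b (u - T a u) = u - T a u := by
    intro a b h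
    rw [map_sub, hcomm a b] at h
    rw [map_sub]
    linear_combination (norm := abel) h
  constructor
  · exact fun h b => key a b (h _ (AddSubgroup.subset_closure ⟨u, rfl, b, rfl⟩))
  · intro h w hw
    refine AddSubgroup.closure_induction (fun x hx => ?_) (map_zero _) (fun x y _ _ hx hy => by rw [map_add, hx, hy])
      (fun x _ hx => by rw [map_neg, hx]) hw
    obtain ⟨v, rfl, b, rfl⟩ := hx
    exact key b a (h b)

variable [Finite W] [Finite H] (hmax : ∀ B : Subgroup H, meas T B ≤ meas T ⊤)
include hmax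

theorem single (u : W) :
    meas T (stab T (comm T {u})) = meas T ⊤ ∧ fix T (stab T (comm T {u})) = comm T {u} ⊔ fix T ⊤ := by
  set S := stab T (comm T {u}) with hS
  set X := comm T {u} ⊔ fix T ⊤ with hX
  have hle : X ≤ fix T S := sup_le (le_fix_stab T _) (fix_anti T le_top)
  let f : H ⧸ S → X ⧸ (fix T ⊤).addSubgroupOf X := fun q =>
    ((⟨u - T q.out u, AddSubgroup.mem_sup_left (AddSubgroup.subset_closure ⟨u, rfl, q.out, rfl⟩)⟩ : X) : _)
  have hf : Function.Injective f := by
    intro q r h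
    have h0 := (QuotientAddGroup.eq (s := (fix T ⊤).addSubgroupOf X)).1 h
    have h1 : -(u - T q.out u) + (u - T r.out u) ∈ fix T ⊤ := h0
    rw [← q.out_eq', ← r.out_eq', QuotientGroup.eq, stab_single_iff T hcomm]
    intro b
    have h2 : T q.out (u - T (q.out⁻¹ * r.out) u) = -(u - T q.out u) + (u - T r.out u) := by
      rw [map_sub, ← T_mul, mul_inv_cancel_left]; abel
    have h3 : u - T (q.out⁻¹ * r.out) u = T q.out⁻¹ (-(u - T q.out u) + (u - T r.out u)) := by
      rw [← h2, T_inv]
    rw [h3, h1 _ trivial, h1 b trivial]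
  have h4 := Nat.card_le_card_of_injective f hf
  rw [← Subgroup.index_eq_card, ← AddSubgroup.index_eq_card, ← AddSubgroup.relIndex] at h4
  have h5 : Nat.card (fix T ⊤) * (fix T ⊤).relIndex X = Nat.card X := by
    rw [← AddSubgroup.relIndex_bot_left, ← AddSubgroup.relIndex_bot_left,
      AddSubgroup.relIndex_mul_relIndex ⊥ (fix T ⊤) X bot_le le_sup_right]
  have h6 : meas T ⊤ ≤ Nat.card S * Nat.card X := by
    rw [meas, Subgroup.card_top, ← S.card_mul_index, ← h5, mul_assoc]
    exact Nat.mul_le_mul_left _ (by rw [mul_comm]; exact Nat.mul_le_mul_left _ h4)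
  have h7 : Nat.card X ≤ Nat.card (fix T S) := AddSubgroup.card_le_of_le hle
  have h8 : meas T S = meas T ⊤ := le_antisymm (hmax S) (h6.trans (Nat.mul_le_mul_left _ h7))
  refine ⟨h8, (AddSubgroup.eq_of_le_of_card_ge hle ?_).symm⟩
  have h9 : Nat.card S * Nat.card (fix T S) ≤ Nat.card S * Nat.card X := h8.le.trans h6
  exact Nat.le_of_mul_le_mul_left h9 Nat.card_pos

theorem replacement (s : Finset W) :
    meas T (stab T (comm T (s : Set W))) = meas T ⊤ ∧
      fix T (stab T (comm T (s : Set W))) = comm T (s : Set W) ⊔ fix T ⊤ := by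
  classical
  induction s using Finset.induction_on with
  | empty =>
    have h0 : comm T ((∅ : Finset W) : Set W) = ⊥ := by simp [comm]
    have h1 : stab T (comm T ((∅ : Finset W) : Set W)) = ⊤ := by
      refine eq_top_iff.2 fun b _ w hw => ?_
      rw [h0, AddSubgroup.mem_bot] at hw
      rw [hw, map_zero]
    rw [h1, h0, bot_sup_eq]
    exact ⟨rfl, rfl⟩
  | insert u s _ ih =>
    rw [Finset.coe_insert, Set.insert_eq, comm_union]
    obtain ⟨hu, hu'⟩ := single T hcomm hmax u
    obtain ⟨hs, hs'⟩ := ih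
    set B := stab T (comm T {u})
    set C := stab T (comm T (s : Set W))
    have hstab : stab T (comm T {u} ⊔ comm T (s : Set W)) = B ⊓ C := by
      refine le_antisymm (fun b hb => ⟨fun w hw => hb w (AddSubgroup.mem_sup_left hw), fun w hw => hb w (AddSubgroup.mem_sup_right hw)⟩) ?_
      intro b hb w hw
      obtain ⟨x, hx, y, hy, rfl⟩ := AddSubgroup.mem_sup.1 hw
      rw [map_add, hb.1 x hx, hb.2 y hy]
    rw [hstab]
    set F := fix T B ⊔ fix T C with hF
    have hFle : F ≤ fix T (B ⊓ C) := sup_le (fix_anti T inf_le_left) (fix_anti T inf_le_right)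
    have hFinf : fix T B ⊓ fix T C ≤ fix T (B ⊔ C) := fun w hw b hb => by
      refine Subgroup.closure_induction (p := fun g _ => T g w = w) (fun x hx => ?_) (by rw [map_one]; rfl)
        (fun x y _ _ hx hy => by rw [T_mul, hy, hx]) (fun x _ hx => by conv_lhs => rw [← hx, T_inv T x w])
        (show b ∈ Subgroup.closure ((B : Set H) ∪ C) by rwa [Subgroup.closure_union, Subgroup.closure_eq, Subgroup.closure_eq])
      exact hx.elim (hw.1 x) (hw.2 x)
    have h1 : Nat.card B * Nat.card C ≤ Nat.card ↥(B ⊓ C) * Nat.card ↥(B ⊔ C) := by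
      have e1 := relIndex_mul_card B C
      have e2 : Nat.card C * C.relIndex (B ⊔ C) = Nat.card ↥(B ⊔ C) := by
        have := relIndex_mul_card (B ⊔ C) C
        rwa [inf_eq_right.2 le_sup_right] at this
      have e3 : C.relIndex B ≤ C.relIndex (B ⊔ C) :=
        Subgroup.relIndex_le_of_le_right le_sup_left Subgroup.index_ne_zero_of_finite
      rw [← e1, ← e2]
      calc Nat.card ↥(B ⊓ C) * C.relIndex B * Nat.card C
          ≤ Nat.card ↥(B ⊓ C) * C.relIndex (B ⊔ C) * Nat.card C :=
            Nat.mul_le_mul_right _ (Nat.mul_le_mul_left _ e3)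
        _ = _ := by ring
    have h2 : Nat.card (fix T B) * Nat.card (fix T C) ≤ Nat.card F * Nat.card (fix T (B ⊔ C)) := by
      rw [← card_sup_mul_card_inf]
      exact Nat.mul_le_mul_left _ (AddSubgroup.card_le_of_le hFinf)
    have h3 : meas T ⊤ * meas T ⊤ ≤ (Nat.card ↥(B ⊓ C) * Nat.card F) * meas T (B ⊔ C) := by
      calc meas T ⊤ * meas T ⊤ = meas T B * meas T C := by rw [hu, hs]
        _ = (Nat.card B * Nat.card C) * (Nat.card (fix T B) * Nat.card (fix T C)) := by simp only [meas]; ring
        _ ≤ _ := Nat.mul_le_mul h1 h2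
        _ = _ := by simp only [meas]; ring
    have hpos : 0 < meas T (⊤ : Subgroup H) := Nat.mul_pos Nat.card_pos Nat.card_pos
    have h4 : meas T ⊤ ≤ Nat.card ↥(B ⊓ C) * Nat.card F :=
      Nat.le_of_mul_le_mul_right (h3.trans (Nat.mul_le_mul_left _ (hmax _))) hpos
    have h5 : Nat.card F ≤ Nat.card (fix T (B ⊓ C)) := AddSubgroup.card_le_of_le hFle
    have h6 : meas T (B ⊓ C) = meas T ⊤ := le_antisymm (hmax _) (h4.trans (Nat.mul_le_mul_left _ h5))
    refine ⟨h6, ?_⟩
    rw [← AddSubgroup.eq_of_le_of_card_ge hFle (Nat.le_of_mul_le_mul_left (h6.le.trans h4) Nat.card_pos), hF, hu', hs']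
    simp only [sup_assoc, sup_comm, sup_left_comm, sup_idem]

omit hmax [Finite W] in
/-- A commuting unipotent action with `W = [W, H] + C_W(H)` is trivial. -/
theorem trivial_of_sup_eq_top {p : ℕ} [hp : Fact p.Prime] (hexp : ∀ w : W, p • w = 0)
    (hpow : ∀ a : H, T a ^ p = 1) (htop : comm T (Set.univ : Set W) ⊔ fix T ⊤ = ⊤) :
    ∀ a w, T a w = w := by
  classical
  let N : H → AddMonoid.End W := fun a => 1 - T a
  have hNapp : ∀ a w, N a w = w - T a w := fun a w => rfl
  have hNp : ∀ a, N a ^ p = 0 := by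
    intro a
    have hz : ∀ X : AddMonoid.End W, (p : AddMonoid.End W) * X = 0 := fun X => AddMonoidHom.ext fun w => by
      show (p : AddMonoid.End W) (X w) = 0
      rw [AddMonoid.End.natCast_apply, hexp]
    have h1 := (Commute.one_left (T a)).neg_right.exists_add_pow_prime_eq hp.out
    obtain ⟨r, hr⟩ := h1
    rw [← sub_eq_add_neg] at hr
    show (1 - T a) ^ p = 0
    rw [hr]
    simp only [hz, zero_mul, mul_zero, add_zero, one_pow]
    rw [neg_pow, hpow, mul_one]
    rcases hp.out.eq_two_or_odd' with rfl | hodd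
    · rw [neg_one_sq]
      have := hz 1
      rw [mul_one] at this
      rw [one_add_one_eq_two]; exact_mod_cast this
    · rw [hodd.neg_one_pow, add_neg_cancel]
  have hNc : ∀ a b w, N a (N b w) = N b (N a w) := fun a b w => by
    rw [hNapp, hNapp, hNapp, hNapp, map_sub, map_sub, hcomm a b]; abel
  have main : ∀ l : List H, ∀ P : AddSubgroup W, (∀ a, P.map (N a) ≤ P) →
      P ≤ (⨆ b ∈ l, P.map (N b)) → P = ⊥ := by
    intro l
    induction l with
    | nil => intro P _ h; simpa using h
    | cons a l ih =>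
      intro P hP h
      refine ih P hP ?_
      have hj : ∀ j : ℕ, P ≤ P.map (N a ^ j) ⊔ ⨆ b ∈ l, P.map (N b) := by
        intro j
        induction j with
        | zero => exact le_sup_of_le_left (fun w hw => ⟨w, hw, rfl⟩)
        | succ j ihj =>
          refine ihj.trans (sup_le ?_ le_sup_right)
          have h2 : P ≤ P.map (N a) ⊔ ⨆ b ∈ l, P.map (N b) := by
            refine h.trans (iSup₂_le fun b hb => ?_)
            rcases List.mem_cons.1 hb with rfl | hb
            · exact le_sup_left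
            · exact le_sup_of_le_right (le_iSup₂ (f := fun b (_ : b ∈ l) => P.map (N b)) b hb)
          refine (AddSubgroup.map_mono h2).trans ?_
          erw [AddSubgroup.map_sup]
          refine sup_le_sup ?_ ?_
          · rintro _ ⟨_, ⟨w, hw, rfl⟩, rfl⟩
            exact ⟨w, hw, by rw [pow_succ]; rfl⟩
          · erw [AddSubgroup.map_iSup]
            refine iSup_le fun b => ?_
            erw [AddSubgroup.map_iSup]
            refine iSup_le fun hb => le_trans ?_ (le_iSup₂ (f := fun b (_ : b ∈ l) => P.map (N b)) b hb)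
            rintro _ ⟨_, ⟨w, hw, rfl⟩, rfl⟩
            have hcm : ∀ j : ℕ, ∀ x, (N a ^ j) (N b x) = N b ((N a ^ j) x) ∧ (x ∈ P → (N a ^ j) x ∈ P) := by
              intro j
              induction j with
              | zero => exact fun x => ⟨rfl, id⟩
              | succ j ihp =>
                intro x
                rw [pow_succ']
                refine ⟨?_, fun hx => hP a ⟨_, (ihp x).2 hx, rfl⟩⟩
                show N a ((N a ^ j) (N b x)) = N b (N a ((N a ^ j) x))
                rw [(ihp x).1, hNc]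
            exact ⟨(N a ^ j) w, (hcm j w).2 hw, ((hcm j w).1).symm⟩
      have h3 := hj p
      rw [hNp] at h3
      refine h3.trans (sup_le ?_ le_rfl)
      rintro _ ⟨w, -, rfl⟩
      exact zero_mem _
  have hfix : ∀ a, ∀ w ∈ fix T ⊤, N a w = 0 := fun a w hw => by rw [hNapp, hw a trivial, sub_self]
  have hmem : ∀ a w, N a w ∈ comm T (Set.univ : Set W) := fun a w =>
    AddSubgroup.subset_closure ⟨w, trivial, a, hNapp a w⟩
  letI := Fintype.ofFinite H
  have h0 := main (Finset.univ : Finset H).toList (comm T Set.univ) (fun a => by rintro _ ⟨w, -, rfl⟩; exact hmem a w) (by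
    refine (AddSubgroup.closure_le _).2 ?_
    rintro _ ⟨u, -, a, rfl⟩
    obtain ⟨x, hx, y, hy, rfl⟩ := AddSubgroup.mem_sup.1 (htop.ge (AddSubgroup.mem_top u))
    rw [← hNapp, map_add, hfix a y hy, add_zero]
    exact le_iSup₂ (f := fun b (_ : b ∈ (Finset.univ : Finset H).toList) => (comm T Set.univ).map (N b)) a
      (Finset.mem_toList.2 (Finset.mem_univ a)) ⟨x, hx, rfl⟩)
  intro a w
  have h4 := hmem a w
  rw [h0, AddSubgroup.mem_bot, hNapp, sub_eq_zero] at h4
  exact h4.symm

end Cfsg.Agent.Transfer.Timmesfeld
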