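import Mathlib

/-! Counting classes of `π`-elements (Nagao's inequality). -/

set_option autoImplicit false

namespace Cfsg.Agent.Transfer.PiClasses

variable {G : Type*} [Group G] (π : Set ℕ)

/-- `x` is a `π`-element. -/
def IsPiElt (x : G) : Prop := ∀ q : ℕ, q.Prime → q ∣ orderOf x → q ∈ π

/-- The predicate on classes used in the statements. -/
def IsPiClass (C : ConjClasses G) : Prop :=
  ∀ q : ℕ, q.Prime → (∃ g : G, ConjClasses.mk g = C ∧ q ∣ orderOf g) → q ∈ π

theorem isPiClass_iff (C : ConjClasses G) {x : G} (h : ConjClasses.mk x = C) : IsPiClass π C ↔ IsPiElt π x := by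
  refine ⟨fun hC q hq hd => hC q hq ⟨x, h, hd⟩, fun hx q hq ⟨g, hg, hd⟩ => hx q hq ?_⟩
  obtain ⟨c, hc⟩ := isConj_iff.1 (ConjClasses.mk_eq_mk_iff_isConj.1 (hg.trans h.symm))
  rw [← hc, ← MulAut.conj_apply, MulEquiv.orderOf_eq]
  exact hd

/-- Existence of the decomposition into `π`- and `π'`-parts. -/
theorem exists_decomp [Finite G] (n : G) : ∃ v u : G, v ∈ Subgroup.zpowers n ∧ u ∈ Subgroup.zpowers n ∧
    v * u = n ∧ IsPiElt π v ∧ ∀ q : ℕ, q.Prime → q ∣ orderOf u → q ∉ π := by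
  classical
  set m := orderOf n with hm
  have hm0 : m ≠ 0 := (orderOf_pos n).ne'
  set m₁ := ∏ q ∈ m.primeFactors.filter (· ∈ π), q ^ m.factorization q with hm₁
  set m₂ := ∏ q ∈ m.primeFactors.filter (fun q => q ∉ π), q ^ m.factorization q with hm₂
  have hmul : m₁ * m₂ = m := by
    rw [hm₁, hm₂, Finset.prod_filter_mul_prod_filter_not]
    conv_rhs => rw [← Nat.prod_factorization_pow_eq_self hm0]
    rfl
  have key : ∀ (s : Finset ℕ), (∀ q ∈ s, q.Prime) → ∀ r : ℕ, r.Prime → r ∣ ∏ q ∈ s, q ^ m.factorization q → r ∈ s := by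
    intro s hs r hr hd
    obtain ⟨q, hq, hrq⟩ := (Prime.dvd_finsetProd_iff hr.prime _).1 hd
    rwa [(Nat.prime_dvd_prime_iff_eq hr (hs q hq)).1 (hr.dvd_of_dvd_pow hrq)]
  have h₁ : ∀ r : ℕ, r.Prime → r ∣ m₁ → r ∈ π := fun r hr hd =>
    (Finset.mem_filter.1 (key _ (fun q hq => Nat.prime_of_mem_primeFactors (Finset.mem_filter.1 hq).1) r hr hd)).2
  have h₂ : ∀ r : ℕ, r.Prime → r ∣ m₂ → r ∉ π := fun r hr hd =>
    (Finset.mem_filter.1 (key _ (fun q hq => Nat.prime_of_mem_primeFactors (Finset.mem_filter.1 hq).1) r hr hd)).2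
  have hco : m₁.Coprime m₂ := Nat.coprime_of_dvd fun r hr a b => h₂ r hr b (h₁ r hr a)
  have hb : (1 : ℤ) = m₁ * m₁.gcdA m₂ + m₂ * m₁.gcdB m₂ := by
    rw [← Nat.gcd_eq_gcd_ab, hco]; rfl
  have hord : ∀ (e : ℤ) (a b : ℕ), a * b = m → orderOf (n ^ ((b : ℤ) * e)) ∣ a := fun e a b hab => by
    apply orderOf_dvd_of_pow_eq_one
    rw [← zpow_natCast (n ^ ((b : ℤ) * e)) a, ← zpow_mul, show (b : ℤ) * e * a = (m : ℤ) * e by rw [← hab]; push_cast; ring,
      zpow_mul, zpow_natCast, hm, pow_orderOf_eq_one, one_zpow]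
  refine ⟨n ^ ((m₂ : ℤ) * m₁.gcdB m₂), n ^ ((m₁ : ℤ) * m₁.gcdA m₂), ⟨_, rfl⟩, ⟨_, rfl⟩, ?_, ?_, ?_⟩
  · rw [← zpow_add, add_comm, ← hb, zpow_one]
  · exact fun q hq hd => h₁ q hq (hd.trans (hord _ m₁ m₂ hmul))
  · exact fun q hq hd => h₂ q hq (hd.trans (hord _ m₂ m₁ (by rw [mul_comm]; exact hmul)))

/-- Uniqueness of the decomposition. -/
theorem decomp_unique [Finite G] {z u z' u' : G} (hz : IsPiElt π z) (hz' : IsPiElt π z')
    (hu : ∀ q : ℕ, q.Prime → q ∣ orderOf u → q ∉ π) (hu' : ∀ q : ℕ, q.Prime → q ∣ orderOf u' → q ∉ π)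
    (hc : Commute z u) (hc' : Commute z' u') (h : z * u = z' * u') : u = u' := by
  set K := orderOf z * orderOf z' with hK
  have hpow : u ^ K = u' ^ K := by
    have h1 := congrArg (· ^ K) h
    simp only [hc.mul_pow, hc'.mul_pow] at h1
    have e1 : z ^ K = 1 := by rw [hK, pow_mul, pow_orderOf_eq_one, one_pow]
    have e2 : z' ^ K = 1 := by rw [hK, mul_comm, pow_mul, pow_orderOf_eq_one, one_pow]
    rwa [e1, e2, one_mul, one_mul] at h1
  set L := orderOf u * orderOf u' with hL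
  have hco : K.Coprime L := Nat.coprime_of_dvd fun r hr a b => by
    rcases hr.dvd_mul.1 a with a | a <;> rcases hr.dvd_mul.1 b with b | b
    · exact hu r hr b (hz r hr a)
    · exact hu' r hr b (hz r hr a)
    · exact hu r hr b (hz' r hr a)
    · exact hu' r hr b (hz' r hr a)
  have hb : (1 : ℤ) = K * K.gcdA L + L * K.gcdB L := by
    rw [← Nat.gcd_eq_gcd_ab, hco]; rfl
  have key : ∀ w : G, w ^ L = 1 → w = (w ^ K) ^ K.gcdA L := fun w hw => by
    conv_lhs => rw [← zpow_one w, hb, zpow_add, zpow_mul, zpow_mul, zpow_natCast, zpow_natCast, hw, one_zpow, mul_one]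
  rw [key u (by rw [hL, pow_mul, pow_orderOf_eq_one, one_pow]),
    key u' (by rw [hL, mul_comm, pow_mul, pow_orderOf_eq_one, one_pow]), hpow]

/-- Orbit–stabilizer, summed over an orbit. -/
theorem card_orbit_sigma {H X : Type*} [Group H] [MulAction H X] [Finite H] (x : X) :
    Nat.card (Σ y : MulAction.orbit H x, MulAction.stabilizer H (y : X)) = Nat.card H := by
  haveI : Finite (MulAction.orbit H x) := (Set.finite_range _).to_subtype
  haveI := Fintype.ofFinite (MulAction.orbit H x)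
  rw [Nat.card_sigma]
  have hsz : ∀ y : MulAction.orbit H x, Nat.card (MulAction.stabilizer H (y : X)) =
      Nat.card (MulAction.stabilizer H x) := by
    rintro ⟨_, g, rfl⟩
    show Nat.card (MulAction.stabilizer H (g • x)) = _
    rw [MulAction.stabilizer_smul_eq_stabilizer_map_conj, Subgroup.card_map_of_injective (MulAut.conj g).injective]
  rw [Finset.sum_congr rfl (fun y _ => hsz y), Finset.sum_const, Finset.card_univ, smul_eq_mul,
    ← Nat.card_eq_fintype_card, ← (MulAction.stabilizer H x).index_mul_card, MulAction.index_stabilizer,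
    ← Nat.card_coe_set_eq]

/-- Pairs `(v, m)` with `v` a `π`-element commuting with `m`. -/
theorem card_pairs [Finite G] :
    Nat.card {t : G × G // IsPiElt π t.1 ∧ t.2 * t.1 = t.1 * t.2} =
      Nat.card {C : ConjClasses G // IsPiClass π C} * Nat.card G := by
  classical
  haveI := Fintype.ofFinite G
  haveI := Fintype.ofFinite {C : ConjClasses G // IsPiClass π C}
  let f : {t : G × G // IsPiElt π t.1 ∧ t.2 * t.1 = t.1 * t.2} → {C : ConjClasses G // IsPiClass π C} :=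
    fun t => ⟨ConjClasses.mk t.1.1, (isPiClass_iff π _ rfl).2 t.2.1⟩
  rw [← Nat.card_congr (Equiv.sigmaFiberEquiv f), Nat.card_sigma]
  have key : ∀ C, Nat.card {t // f t = C} = Nat.card G := by
    rintro ⟨C, hC⟩
    obtain ⟨x, rfl⟩ := ConjClasses.mk_surjective C
    let e : {t // f t = (⟨ConjClasses.mk x, hC⟩ : {C : ConjClasses G // IsPiClass π C})} ≃
        Σ y : {y : G // ConjClasses.mk y = ConjClasses.mk x}, Subgroup.centralizer ({(y : G)} : Set G) :=
      { toFun := fun t => ⟨⟨t.1.1.1, congrArg Subtype.val t.2⟩, ⟨t.1.1.2,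
          Subgroup.mem_centralizer_singleton_iff.2 t.1.2.2⟩⟩
        invFun := fun s => ⟨⟨(s.1.1, s.2.1), (isPiClass_iff π _ s.1.2).1 hC,
          Subgroup.mem_centralizer_singleton_iff.1 s.2.2⟩, Subtype.ext s.1.2⟩
        left_inv := fun t => rfl
        right_inv := fun s => rfl }
    rw [Nat.card_congr e, ← Nat.card_congr (ConjAct.toConjAct (G := G)).toEquiv.symm, ← card_orbit_sigma (H := ConjAct G) x]
    have horb : ∀ y : G, ConjClasses.mk y = ConjClasses.mk x ↔ y ∈ MulAction.orbit (ConjAct G) x := fun y => by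
      rw [ConjAct.mem_orbit_conjAct, ConjClasses.mk_eq_mk_iff_isConj]
    refine Nat.card_congr (Equiv.sigmaCongr (Equiv.subtypeEquivRight horb) fun y => ?_)
    refine Equiv.subtypeEquiv (ConjAct.toConjAct (G := G)).toEquiv fun g => ?_
    show g ∈ Subgroup.centralizer ({(y : G)} : Set G) ↔ ConjAct.toConjAct g • (y : G) = y
    rw [Subgroup.mem_centralizer_singleton_iff, ConjAct.smul_def, ConjAct.ofConjAct_toConjAct, mul_inv_eq_iff_eq_mul]
  rw [Finset.sum_congr rfl (fun C _ => key C), Finset.sum_const, Finset.card_univ, smul_eq_mul, ← Nat.card_eq_fintype_card]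

variable (N : Subgroup G)

/-- Pairs over one coset. -/
theorem card_coset_pairs_le [Finite G] (x : G) :
    Nat.card {t : G × N // x⁻¹ * t.1 ∈ N ∧ IsPiElt π t.1 ∧ Commute t.1 (t.2 : G)} ≤
      Nat.card {t : N × N // IsPiElt π t.1 ∧ t.2 * t.1 = t.1 * t.2} := by
  classical
  choose v u hv hu hvu hvπ huπ using fun n : N => exists_decomp π (n : G)
  have hvN : ∀ n : N, v n ∈ N := fun n => (Subgroup.zpowers_le.2 n.2) (hv n)
  have huN : ∀ n : N, u n ∈ N := fun n => (Subgroup.zpowers_le.2 n.2) (hu n)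
  let Tgt := {s : N × G // IsPiElt π (s.1 : G) ∧ x⁻¹ * s.2 ∈ N ∧ Commute s.2 (s.1 : G)}
  let f : {t : G × N // x⁻¹ * t.1 ∈ N ∧ IsPiElt π t.1 ∧ Commute t.1 (t.2 : G)} → Tgt := fun t =>
    ⟨(⟨v t.1.2, hvN _⟩, t.1.1 * u t.1.2), hvπ _, by rw [← mul_assoc]; exact N.mul_mem t.2.1 (huN _), by
      obtain ⟨i, hi⟩ := hv t.1.2
      obtain ⟨j, hj⟩ := hu t.1.2
      show Commute (t.1.1 * u t.1.2) (v t.1.2)
      rw [← hi, ← hj]
      exact (t.2.2.2.zpow_right i).mul_left ((Commute.refl _).zpow_zpow j i)⟩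
  have hf : Function.Injective f := by
    rintro ⟨⟨z, n⟩, hz⟩ ⟨⟨z', n'⟩, hz'⟩ h
    have h1 : v n = v n' := congrArg (fun s : Tgt => (s.1.1 : G)) h
    have h2 : z * u n = z' * u n' := congrArg (fun s : Tgt => s.1.2) h
    obtain ⟨i, hi⟩ := hu n
    obtain ⟨j, hj⟩ := hu n'
    have h3 : u n = u n' := decomp_unique π hz.2.1 hz'.2.1 (huπ n) (huπ n')
      (by rw [← hi]; exact hz.2.2.zpow_right i) (by rw [← hj]; exact hz'.2.2.zpow_right j) h2
    obtain rfl : n = n' := Subtype.ext (by rw [← hvu n, ← hvu n', h1, h3])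
    obtain rfl : z = z' := mul_right_cancel h2
    rfl
  refine (Nat.card_le_card_of_injective f hf).trans ?_
  have hord : ∀ y : N, IsPiElt π y ↔ IsPiElt π (y : G) := fun y => by unfold IsPiElt; rw [Subgroup.orderOf_coe]
  -- pick a base point in each nonempty fibre
  let base : N → G := fun w => if h : ∃ y : G, x⁻¹ * y ∈ N ∧ Commute y (w : G) then h.choose else 1
  have hbase : ∀ w : N, ∀ y : G, x⁻¹ * y ∈ N → Commute y (w : G) → x⁻¹ * base w ∈ N ∧ Commute (base w) (w : G) := by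
    intro w y h1 h2
    have h : ∃ y : G, x⁻¹ * y ∈ N ∧ Commute y (w : G) := ⟨y, h1, h2⟩
    simp only [base, dif_pos h]
    exact h.choose_spec
  refine Nat.card_le_card_of_injective (fun s : Tgt => (⟨(s.1.1, ⟨(base s.1.1)⁻¹ * s.1.2, by
    have := N.mul_mem (N.inv_mem (hbase _ _ s.2.2.1 s.2.2.2).1) s.2.2.1
    rwa [mul_inv_rev, inv_inv, mul_assoc, mul_inv_cancel_left] at this⟩), (hord _).2 s.2.1, Subtype.ext (by
    show (base s.1.1)⁻¹ * s.1.2 * (s.1.1 : G) = (s.1.1 : G) * ((base s.1.1)⁻¹ * s.1.2)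
    exact ((hbase _ _ s.2.2.1 s.2.2.2).2.inv_left.mul_left s.2.2.2).eq)⟩ :
      {t : N × N // IsPiElt π t.1 ∧ t.2 * t.1 = t.1 * t.2})) ?_
  rintro ⟨⟨w, y⟩, hy⟩ ⟨⟨w', y'⟩, hy'⟩ h
  have h1 : w = w' := congrArg (fun t : {t : N × N // IsPiElt π t.1 ∧ t.2 * t.1 = t.1 * t.2} => t.1.1) h
  subst h1
  have h2 : (base w)⁻¹ * y = (base w)⁻¹ * y' :=
    congrArg (fun t : {t : N × N // IsPiElt π t.1 ∧ t.2 * t.1 = t.1 * t.2} => (t.1.2 : G)) h
  obtain rfl := mul_left_cancel h2
  rfl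

/-- Nagao's inequality for classes of `π`-elements. -/
theorem nagao [Finite G] [N.Normal] :
    Nat.card {C : ConjClasses G // IsPiClass π C} ≤
      Nat.card {C : ConjClasses N // IsPiClass π C} * Nat.card {C : ConjClasses (G ⧸ N) // IsPiClass π C} := by
  classical
  let q := QuotientGroup.mk' N
  haveI := Fintype.ofFinite {C : ConjClasses G // IsPiClass π C}
  haveI := Fintype.ofFinite {C : ConjClasses (G ⧸ N) // IsPiClass π C}
  have hrep : ∀ D : {C : ConjClasses (G ⧸ N) // IsPiClass π C}, ∃ x : G, ConjClasses.mk (q x) = D.1 := fun D => by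
    obtain ⟨y, hy⟩ := ConjClasses.mk_surjective D.1
    obtain ⟨x, rfl⟩ := QuotientGroup.mk'_surjective N y
    exact ⟨x, hy⟩
  choose rep hrep using hrep
  have hlift : ∀ C : {C : ConjClasses G // IsPiClass π C}, ∃ D : {C : ConjClasses (G ⧸ N) // IsPiClass π C},
      ∃ z : G, ConjClasses.mk z = C.1 ∧ (rep D)⁻¹ * z ∈ N := by
    rintro ⟨C, hC⟩
    obtain ⟨z, rfl⟩ := ConjClasses.mk_surjective C
    have hD : IsPiClass π (ConjClasses.mk (q z)) := (isPiClass_iff π _ rfl).2 fun r hr hd =>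
      (isPiClass_iff π _ rfl).1 hC r hr (hd.trans (orderOf_map_dvd q z))
    obtain ⟨c, hc⟩ := isConj_iff.1 (ConjClasses.mk_eq_mk_iff_isConj.1 (hrep ⟨_, hD⟩).symm)
    obtain ⟨g, rfl⟩ := QuotientGroup.mk'_surjective N c
    refine ⟨⟨_, hD⟩, g * z * g⁻¹, ConjClasses.mk_eq_mk_iff_isConj.2 (isConj_comm.1 (isConj_iff.2 ⟨g, rfl⟩)), ?_⟩
    refine QuotientGroup.eq.1 ?_
    show q _ = q _
    rw [← hc, map_mul, map_mul, map_inv]
  choose D z hz hzN using hlift
  letI : MulAction N G := MulAction.compHom _ ((MulAut.conj : G →* MulAut G).comp N.subtype)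
  have hsm : ∀ (n : N) (y : G), n • y = (n : G) * y * (n : G)⁻¹ := fun n y => rfl
  let Tgt := Σ D : {C : ConjClasses (G ⧸ N) // IsPiClass π C},
    {t : G × N // (rep D)⁻¹ * t.1 ∈ N ∧ IsPiElt π t.1 ∧ Commute t.1 (t.2 : G)}
  let Src := Σ C : {C : ConjClasses G // IsPiClass π C}, Σ y : MulAction.orbit N (z C), MulAction.stabilizer N (y : G)
  have hy : ∀ (C : {C : ConjClasses G // IsPiClass π C}) (y : MulAction.orbit N (z C)),
      ConjClasses.mk (y : G) = C.1 ∧ (rep (D C))⁻¹ * (y : G) ∈ N := by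
    rintro C ⟨_, n, rfl⟩
    refine ⟨?_, ?_⟩
    · show ConjClasses.mk ((n : G) * z C * (n : G)⁻¹) = C.1
      rw [← hz C]
      exact ConjClasses.mk_eq_mk_iff_isConj.2 (isConj_comm.1 (isConj_iff.2 ⟨n, rfl⟩))
    · show (rep (D C))⁻¹ * ((n : G) * z C * (n : G)⁻¹) ∈ N
      have h1 : (rep (D C))⁻¹ * (n : G) * rep (D C) ∈ N := by
        simpa using (inferInstance : N.Normal).conj_mem _ n.2 (rep (D C))⁻¹
      have := N.mul_mem (N.mul_mem h1 (hzN C)) (N.inv_mem n.2)
      simpa [mul_assoc] using this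
  let f : Src → Tgt := fun s => ⟨D s.1, ⟨((s.2.1 : G), (s.2.2 : N)), (hy s.1 s.2.1).2,
    (isPiClass_iff π _ (hy s.1 s.2.1).1).1 s.1.2, by
      have h1 : ((s.2.2 : N) : G) * (s.2.1 : G) * ((s.2.2 : N) : G)⁻¹ = s.2.1 := (hsm _ _).symm.trans s.2.2.2
      exact (mul_inv_eq_iff_eq_mul.1 h1).symm⟩⟩
  have hf : Function.Injective f := by
    rintro ⟨C, y, n⟩ ⟨C', y', n'⟩ h
    have hyy : (y : G) = y' := congrArg (fun t : Tgt => t.2.1.1) h
    have hnn : (n : N) = n' := congrArg (fun t : Tgt => t.2.1.2) h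
    obtain rfl : C = C' := Subtype.ext ((hy C y).1.symm.trans (hyy ▸ (hy C' y').1))
    obtain rfl : y = y' := Subtype.ext hyy
    obtain rfl : n = n' := Subtype.ext hnn
    rfl
  have hle := Nat.card_le_card_of_injective f hf
  have hsrc : Nat.card Src = Nat.card {C : ConjClasses G // IsPiClass π C} * Nat.card N := by
    rw [Nat.card_sigma, Finset.sum_congr rfl (fun C _ => card_orbit_sigma (H := N) (z C)), Finset.sum_const,
      Finset.card_univ, smul_eq_mul, ← Nat.card_eq_fintype_card]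
  have htgt : Nat.card Tgt ≤ Nat.card {C : ConjClasses (G ⧸ N) // IsPiClass π C} *
      (Nat.card {C : ConjClasses N // IsPiClass π C} * Nat.card N) := by
    rw [Nat.card_sigma]
    refine (Finset.sum_le_card_nsmul _ _ _ fun D _ => (card_coset_pairs_le π N (rep D)).trans (card_pairs π).le).trans ?_
    rw [Finset.card_univ, smul_eq_mul, ← Nat.card_eq_fintype_card]
  have h := hle.trans htgt
  rw [hsrc, ← mul_assoc, mul_comm (Nat.card {C : ConjClasses (G ⧸ N) // IsPiClass π C})] at h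
  exact Nat.le_of_mul_le_mul_right h Nat.card_pos

end Cfsg.Agent.Transfer.PiClasses
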