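import Mathlib
import Cfsg.Prelude.Def_HallClasses
import Cfsg.Agent.Lib.Transfer.Frobenius
import Cfsg.Agent.Lib.Transfer.NormalComplement
import Cfsg.Agent.Lib.Transfer.Cores
import Cfsg.Agent.Lib.Transfer.Residual
import Cfsg.Agent.Lib.Transfer.Kazarin
import Cfsg.Agent.Lib.Transfer.ClassDisconnected

/-!
Wielandt: a Hall subgroup `Hs × Ht` with `Hs` nilpotent gives `D_π` as soon as `D_τ` holds.
-/

set_option autoImplicit false
set_option maxHeartbeats 1000000

open scoped Pointwise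

universe u

namespace Cfsg.Agent.Transfer.WielandtDPi

open Cfsg Cfsg.Agent

variable {G : Type u} [Group G] [Finite G]

/-- The subgroup generated by the elements of prime power order for the primes in `T`. -/
def primaryClosure (T : Set ℕ) (K : Type u) [Group K] : Subgroup K :=
  Subgroup.closure {x : K | ∃ r k : ℕ, r ∈ T ∧ r.Prime ∧ orderOf x = r ^ k}

theorem primaryClosure_normal (T : Set ℕ) (K : Type u) [Group K] : (primaryClosure T K).Normal := by
  constructor
  intro x hx g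
  have h : x ∈ (primaryClosure T K).comap (MulAut.conj g).toMonoidHom := by
    refine (Subgroup.closure_le _).2 ?_ hx
    rintro y ⟨r, k, hr, hp, hy⟩
    exact Subgroup.subset_closure ⟨r, k, hr, hp, by rw [MulEquiv.coe_toMonoidHom, MulEquiv.orderOf_eq, hy]⟩
  exact h

theorem not_dvd_primaryClosure {T : Set ℕ} {K : Type u} [Group K] [Finite K] {a : ℕ} [Fact a.Prime] (haT : a ∉ T)
    (h : HasNormalPComplement a K) : ¬ a ∣ Nat.card (primaryClosure T K) := by
  intro hd
  refine hasNormalPComplement_iff_not_dvd.1 h (hd.trans (Subgroup.card_dvd_of_le ?_))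
  rw [primaryClosure, Subgroup.closure_le]
  rintro x ⟨r, k, hr, hp, hx⟩
  refine mem_pResidual_of_coprime ?_
  rw [hx]
  exact ((Nat.coprime_primes hp (Fact.out : a.Prime)).2 fun e => haT (e ▸ hr)).pow_left k

theorem not_dvd_index_primaryClosure {T : Set ℕ} {K : Type u} [Group K] [Finite K] {a : ℕ} [Fact a.Prime] (haT : a ∈ T) :
    ¬ a ∣ (primaryClosure T K).index := by
  obtain ⟨R⟩ : Nonempty (Sylow a K) := inferInstance
  refine fun hd => R.not_dvd_index (hd.trans (Subgroup.index_dvd_of_le fun x hx => ?_))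
  obtain ⟨k, hk⟩ := IsPGroup.iff_orderOf.1 R.isPGroup' ⟨x, hx⟩
  rw [Subgroup.orderOf_mk] at hk
  exact Subgroup.subset_closure ⟨a, k, haT, Fact.out, hk⟩

/-- A `p`-subgroup of `C` has a conjugate, by an element of `C`, in a subgroup of index prime to `p`. -/
theorem exists_conj_le {C H A : Subgroup G} {a : ℕ} [Fact a.Prime] (hHC : H ≤ C) (hAC : A ≤ C) (hA : IsPGroup a A)
    (hidx : ¬ a ∣ H.relIndex C) : ∃ g ∈ C, ∀ x ∈ A, g * x * g⁻¹ ∈ H := by
  obtain ⟨R⟩ : Nonempty (Sylow a H) := inferInstance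
  set R' := ((R : Subgroup H).map H.subtype).subgroupOf C with hR'
  have hle : (R : Subgroup H).map H.subtype ≤ H := Subgroup.map_subtype_le _
  have hp : IsPGroup a R' := (R.isPGroup'.map _).comap_subtype
  have hi : ¬ a ∣ R'.index := by
    show ¬ a ∣ ((R : Subgroup H).map H.subtype).relIndex C
    rw [← Subgroup.relIndex_mul_relIndex _ H C hle hHC, (Fact.out : a.Prime).dvd_mul]
    rintro (h | h)
    · refine R.not_dvd_index ?_
      rwa [Subgroup.relIndex, ← Subgroup.comap_subtype, Subgroup.comap_map_eq_self_of_injective H.subtype_injective] at h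
    · exact hidx h
  obtain ⟨Q, hQ⟩ := (hA.comap_subtype (K := C)).exists_le_sylow
  obtain ⟨g, hg⟩ := MulAction.exists_smul_eq C Q (hp.toSylow hi)
  refine ⟨g, g.2, fun x hx => ?_⟩
  have h1 : g * ⟨x, hAC hx⟩ * g⁻¹ ∈ g • Q := by
    show g * ⟨x, hAC hx⟩ * g⁻¹ ∈ MulAut.conj g • (Q : Subgroup C)
    exact ⟨_, hQ (Subgroup.mem_subgroupOf.2 hx), rfl⟩
  rw [hg] at h1
  exact hle (Subgroup.mem_subgroupOf.1 h1)

variable {σ τ π : Set ℕ}

structure Data (σ τ π : Set ℕ) (H Hs Ht : Subgroup G) : Prop where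
  union : π = σ ∪ τ
  disj : Disjoint σ τ
  hall : IsPiHall π H
  hs : IsPiSubgroup σ Hs
  ht : IsPiSubgroup τ Ht
  nilp : Group.IsNilpotent Hs
  sup : Hs ⊔ Ht = H
  comm : ∀ a ∈ Hs, ∀ b ∈ Ht, a * b = b * a

variable {H Hs Ht : Subgroup G}

theorem Data.exists_eq_mul (D : Data σ τ π H Hs Ht) {x : G} (hx : x ∈ H) : ∃ s ∈ Hs, ∃ t ∈ Ht, x = s * t := by
  rw [← D.sup] at hx
  have hn : Hs ≤ Subgroup.normalizer (Ht : Set G) := fun s hs => Subgroup.mem_normalizer_fintype fun t ht => by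
    rw [D.comm s hs t ht, mul_inv_cancel_right]; exact ht
  rw [← SetLike.mem_coe, Subgroup.coe_mul_of_left_le_normalizer_right Hs Ht hn] at hx
  obtain ⟨s, hs, t, ht, rfl⟩ := hx
  exact ⟨s, hs, t, ht, rfl⟩

theorem Data.relIndex_dvd (D : Data σ τ π H Hs Ht) : Ht.relIndex H ∣ Nat.card Hs ∧ Hs.relIndex H ∣ Nat.card Ht := by
  have hsH : Hs ≤ H := D.sup ▸ le_sup_left
  have htH : Ht ≤ H := D.sup ▸ le_sup_right
  have key : ∀ A B : Subgroup G, A ≤ H → B ≤ H → (∀ x ∈ H, ∃ a ∈ A, ∃ b ∈ B, x = a * b) →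
      (∀ x ∈ H, ∀ b ∈ B, x * b * x⁻¹ ∈ B) → B.relIndex H ∣ Nat.card A := by
    intro A B hA hB hmul hnorm
    haveI : (B.subgroupOf H).Normal := ⟨fun b hb x => hnorm x x.2 b hb⟩
    show (B.subgroupOf H).index ∣ _
    refine Subgroup.card_dvd_of_surjective ((QuotientGroup.mk' (B.subgroupOf H)).comp (Subgroup.inclusion hA)) ?_
    intro q
    obtain ⟨x, rfl⟩ := QuotientGroup.mk'_surjective (B.subgroupOf H) q
    obtain ⟨a, ha, b, hb, hx⟩ := hmul x x.2
    refine ⟨⟨a, ha⟩, ?_⟩
    show ((Subgroup.inclusion hA ⟨a, ha⟩ : H) : H ⧸ B.subgroupOf H) = (x : H ⧸ B.subgroupOf H)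
    rw [QuotientGroup.eq, Subgroup.mem_subgroupOf]
    show a⁻¹ * (x : G) ∈ B
    rw [hx, inv_mul_cancel_left]; exact hb
  refine ⟨key Hs Ht hsH htH (fun x hx => D.exists_eq_mul hx) fun x hx b hb => ?_,
    key Ht Hs htH hsH (fun x hx => ?_) fun x hx b hb => ?_⟩
  · obtain ⟨s, hs, t, ht, rfl⟩ := D.exists_eq_mul hx
    rw [show s * t * b * (s * t)⁻¹ = s * (t * b * t⁻¹) * s⁻¹ by group,
      D.comm s hs _ (Ht.mul_mem (Ht.mul_mem ht hb) (Ht.inv_mem ht)), mul_inv_cancel_right]
    exact Ht.mul_mem (Ht.mul_mem ht hb) (Ht.inv_mem ht)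
  · obtain ⟨s, hs, t, ht, rfl⟩ := D.exists_eq_mul hx
    exact ⟨t, ht, s, hs, D.comm s hs t ht⟩
  · obtain ⟨s, hs, t, ht, rfl⟩ := D.exists_eq_mul hx
    rw [show s * t * b * (s * t)⁻¹ = s * (t * b * t⁻¹) * s⁻¹ by group, ← D.comm b hb t ht, mul_inv_cancel_right]
    exact Hs.mul_mem (Hs.mul_mem hs hb) (Hs.inv_mem hs)

/-- `Hs` is a Hall `σ`-subgroup. -/
theorem Data.not_dvd_index_hs (D : Data σ τ π H Hs Ht) {a : ℕ} (ha : a.Prime) (haσ : a ∈ σ) : ¬ a ∣ Hs.index := by
  rw [← Subgroup.relIndex_mul_index (show Hs ≤ H from D.sup ▸ le_sup_left), ha.dvd_mul]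
  rintro (h | h)
  · exact Set.disjoint_left.1 D.disj haσ (D.ht a ha (h.trans D.relIndex_dvd.2))
  · exact D.hall.2 a ha (D.union ▸ Or.inl haσ) h

theorem Data.not_dvd_index_ht (D : Data σ τ π H Hs Ht) {a : ℕ} (ha : a.Prime) (haτ : a ∈ τ) : ¬ a ∣ Ht.index := by
  rw [← Subgroup.relIndex_mul_index (show Ht ≤ H from D.sup ▸ le_sup_right), ha.dvd_mul]
  rintro (h | h)
  · exact Set.disjoint_right.1 D.disj haτ (D.hs a ha (h.trans D.relIndex_dvd.1))
  · exact D.hall.2 a ha (D.union ▸ Or.inr haτ) h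

theorem commute_of_nilpotent {x y : G} (N : Subgroup G) (hN : Group.IsNilpotent N) (hx : x ∈ N) (hy : y ∈ N)
    {a b i j : ℕ} (ha : a.Prime) (hb : b.Prime) (hab : a ≠ b) (hxo : orderOf x = a ^ i) (hyo : orderOf y = b ^ j) :
    Commute x y := by
  haveI : Fact a.Prime := ⟨ha⟩
  haveI : Fact b.Prime := ⟨hb⟩
  have key : ∀ (r : ℕ) [Fact r.Prime] (z : N) (k : ℕ), orderOf z = r ^ k → z ∈ pCore r N := by
    intro r _ z k hz
    obtain ⟨R, hR⟩ := (IsPGroup.of_card (n := k) (by rw [Nat.card_zpowers, hz]) :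
      IsPGroup r (Subgroup.zpowers z)).exists_le_sylow
    exact Grp.le_pCore (Grp.isNilpotent_iff_sylow_normal.1 hN r inferInstance R) R.isPGroup' (hR (Subgroup.mem_zpowers z))
  have h := commute_pCore hab (key a ⟨x, hx⟩ i (by rw [Subgroup.orderOf_mk, hxo]))
    (key b ⟨y, hy⟩ j (by rw [Subgroup.orderOf_mk, hyo]))
  exact congrArg Subtype.val h

/-- The centralizer of a `p`-subgroup of `G` contains Sylow subgroups for the other primes, unless both lie in `τ`. -/
theorem Data.mem_centralizer (D : Data σ τ π H Hs Ht) {a b : ℕ} (ha : a.Prime) (hb : b.Prime) (hab : a ≠ b)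
    (haπ : a ∈ π) (hbπ : b ∈ π) (hor : a ∈ σ ∨ b ∈ σ) {A : Subgroup G} (hA : IsPGroup a A) {y : G}
    (hyN : y ∈ Subgroup.normalizer (A : Set G)) {j : ℕ} (hy : orderOf y = b ^ j) :
    y ∈ Subgroup.centralizer (A : Set G) := by
  haveI : Fact a.Prime := ⟨ha⟩
  haveI : Fact b.Prime := ⟨hb⟩
  obtain ⟨g, -, hg⟩ := exists_conj_le (C := ⊤) (H := H) (A := A) le_top le_top hA
    (by rw [Subgroup.relIndex_top_right]; exact D.hall.2 a ha haπ)
  obtain ⟨R⟩ : Nonempty (Sylow b H) := inferInstance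
  set B := (R : Subgroup H).map H.subtype with hB
  have hBidx : ¬ b ∣ B.index := by
    rw [hB, Subgroup.index_map, H.range_subtype, H.ker_subtype, sup_bot_eq, hb.dvd_mul]
    rintro (h | h)
    · exact R.not_dvd_index h
    · exact D.hall.2 b hb hbπ h
  have hcomm : ∀ x ∈ A, ∀ w ∈ B, Commute (g * x * g⁻¹) w := by
    intro x hx w hw
    obtain ⟨i, hi⟩ := IsPGroup.iff_orderOf.1 hA ⟨x, hx⟩
    rw [Subgroup.orderOf_mk] at hi
    obtain ⟨w', hw', rfl⟩ := hw
    obtain ⟨l, hl⟩ := IsPGroup.iff_orderOf.1 R.isPGroup' ⟨w', hw'⟩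
    rw [Subgroup.orderOf_mk, ← Subgroup.orderOf_coe] at hl
    have hxo : orderOf (g * x * g⁻¹) = a ^ i := by rw [← hi]; exact (MulAut.conj g).orderOf_eq x
    -- components in `Hs` and `Ht`
    have split : ∀ (v : G) (r k : ℕ), r.Prime → v ∈ H → orderOf v = r ^ k → (r ∈ σ → v ∈ Hs) ∧ (r ∈ τ → v ∈ Ht) := by
      intro v r k hr hv hvo
      obtain ⟨s, hs, t, ht, rfl⟩ := D.exists_eq_mul hv
      have hco : (orderOf s).Coprime (orderOf t) := Nat.coprime_of_dvd fun q hq h1 h2 =>
        Set.disjoint_left.1 D.disj (D.hs q hq (h1.trans (Hs.orderOf_dvd_natCard hs)))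
          (D.ht q hq (h2.trans (Ht.orderOf_dvd_natCard ht)))
      have hord := (show Commute s t from D.comm s hs t ht).orderOf_mul_eq_mul_orderOf_of_coprime hco
      rw [hvo] at hord
      refine ⟨fun hrσ => ?_, fun hrτ => ?_⟩
      · have : t = 1 := by
          rw [← orderOf_eq_one_iff, Nat.eq_one_iff_not_exists_prime_dvd]
          intro q hq hqt
          have hqr := (Nat.prime_dvd_prime_iff_eq hq hr).1 (hq.dvd_of_dvd_pow (hord ▸ hqt.mul_left _))
          exact Set.disjoint_left.1 D.disj hrσ (hqr ▸ D.ht q hq (hqt.trans (Ht.orderOf_dvd_natCard ht)))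
        rw [this, mul_one]; exact hs
      · have : s = 1 := by
          rw [← orderOf_eq_one_iff, Nat.eq_one_iff_not_exists_prime_dvd]
          intro q hq hqs
          have hqr := (Nat.prime_dvd_prime_iff_eq hq hr).1 (hq.dvd_of_dvd_pow (hord ▸ hqs.mul_right _))
          exact Set.disjoint_right.1 D.disj hrτ (hqr ▸ D.hs q hq (hqs.trans (Hs.orderOf_dvd_natCard hs)))
        rw [this, one_mul]; exact ht
    obtain ⟨hxs, hxt⟩ := split _ a i ha (hg x hx) hxo
    obtain ⟨hws, hwt⟩ := split _ b l hb w'.2 hl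
    have ha' : a ∈ σ ∨ a ∈ τ := by simpa [D.union] using haπ
    have hb' : b ∈ σ ∨ b ∈ τ := by simpa [D.union] using hbπ
    rcases ha', hb' with ⟨ha' | ha', hb' | hb'⟩
    · exact commute_of_nilpotent Hs D.nilp (hxs ha') (hws hb') ha hb hab hxo hl
    · exact D.comm _ (hxs ha') _ (hwt hb')
    · exact (show Commute _ _ from D.comm _ (hws hb') _ (hxt ha')).symm
    · rcases hor with h | h
      · exact absurd ha' (Set.disjoint_left.1 D.disj h)
      · exact absurd hb' (Set.disjoint_left.1 D.disj h)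
  set B' := B.map (MulAut.conj g⁻¹).toMonoidHom with hB'
  have hB'C : B' ≤ Subgroup.centralizer (A : Set G) := by
    rintro _ ⟨w, hw, rfl⟩
    rw [Subgroup.mem_centralizer_iff]
    intro x hx
    have h := (hcomm x hx w hw).map (MulAut.conj g⁻¹).toMonoidHom
    simp only [MulEquiv.coe_toMonoidHom, MulAut.conj_apply, inv_inv] at h
    rw [show g⁻¹ * (g * x * g⁻¹) * g = x by group] at h
    simp only [MulEquiv.coe_toMonoidHom, MulAut.conj_apply, inv_inv]
    exact h.eq
  have hCidx : ¬ b ∣ (Subgroup.centralizer (A : Set G)).index := fun h => hBidx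
    ((h.trans (Subgroup.index_dvd_of_le hB'C)).trans (by
      rw [hB', Subgroup.index_map_of_bijective (MulEquiv.bijective _)]))
  -- the centralizer is normal in the normalizer
  set N := Subgroup.normalizer (A : Set G)
  set C := (Subgroup.centralizer (A : Set G)).subgroupOf N
  haveI : C.Normal := by
    refine ⟨fun c hc n => ?_⟩
    rw [Subgroup.mem_subgroupOf, Subgroup.mem_centralizer_iff] at hc ⊢
    intro x hx
    have hx' : (n : G)⁻¹ * x * (n : G) ∈ A := by
      have := (Subgroup.mem_normalizer_iff.1 (N.inv_mem n.2) x).1 hx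
      rwa [inv_inv] at this
    show x * ((n : G) * (c : G) * (n : G)⁻¹) = (n : G) * (c : G) * (n : G)⁻¹ * x
    calc x * ((n : G) * (c : G) * (n : G)⁻¹) = (n : G) * ((n : G)⁻¹ * x * (n : G) * (c : G)) * (n : G)⁻¹ := by group
      _ = (n : G) * ((c : G) * ((n : G)⁻¹ * x * (n : G))) * (n : G)⁻¹ := by rw [hc _ hx']
      _ = (n : G) * (c : G) * (n : G)⁻¹ * x := by group
  have h1 : (((⟨y, hyN⟩ : N)) : N ⧸ C) = 1 := by
    rw [← orderOf_eq_one_iff]
    refine Nat.eq_one_of_dvd_coprimes (a := b ^ j) (b := C.index) ?_ ?_ (orderOf_dvd_natCard _)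
    · refine ((hb.coprime_iff_not_dvd.2 fun h => hCidx (h.trans ?_))).pow_left j
      exact Subgroup.relIndex_dvd_index_of_le (Subgroup.centralizer_le_normalizer _)
    · rw [← hy, show orderOf y = orderOf (⟨y, hyN⟩ : N) from (Subgroup.orderOf_mk y hyN).symm]
      exact orderOf_map_dvd (QuotientGroup.mk' C) _
  exact Subgroup.mem_subgroupOf.1 ((QuotientGroup.eq_one_iff (⟨y, hyN⟩ : N)).1 h1)

theorem Data.hasNormalPComplement (D : Data σ τ π H Hs Ht) {K : Subgroup G} (hK : IsPiSubgroup π K) {a : ℕ}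
    [hp : Fact a.Prime] (haσ : a ∈ σ) : HasNormalPComplement a K := by
  obtain ⟨P⟩ : Nonempty (Sylow a K) := inferInstance
  refine (hasNormalPComplement_iff_frobeniusCondition P).2 fun Q hQ g hg hco => ?_
  refine ClassDisconnected.mem_of_primary _ fun j r k hr ho => ?_
  have hgj : g ^ j ∈ Subgroup.normalizer (Q : Set K) := Subgroup.pow_mem _ hg j
  by_cases hk : k = 0
  · rw [hk, pow_zero, orderOf_eq_one_iff] at ho
    rw [ho]; exact Subgroup.one_mem _
  have hrd : r ∣ orderOf g := (dvd_pow_self r hk).trans (ho ▸ orderOf_pow_dvd j)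
  have hra : r ≠ a := fun e => hp.out.ne_one (Nat.eq_one_of_dvd_coprimes hco (e ▸ hrd) dvd_rfl)
  have hrπ : r ∈ π := hK r hr (hrd.trans (orderOf_dvd_natCard g))
  have h1 := D.mem_centralizer hp.out hr (Ne.symm hra) (D.union ▸ Or.inl haσ) hrπ (Or.inl haσ)
    (A := Q.map K.subtype) ((P.isPGroup'.to_le hQ).map _) (y := ((g ^ j : K) : G))
    (Subgroup.mem_normalizer_fintype (S := ((Q.map K.subtype : Subgroup G) : Set G)) (by
      rintro _ ⟨q, hq, rfl⟩
      exact ⟨g ^ j * q * (g ^ j)⁻¹, (Subgroup.mem_normalizer_iff.1 hgj q).1 hq, by simp⟩))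
    (j := k) (by rw [Subgroup.orderOf_coe, ho])
  rw [Subgroup.mem_centralizer_iff] at h1 ⊢
  exact fun q hq => Subtype.ext (h1 _ ⟨q, hq, rfl⟩)

theorem Data.nilpotent_of_sigma (D : Data σ τ π H Hs Ht) {K : Subgroup G} (hK : IsPiSubgroup σ K) :
    Group.IsNilpotent K := by
  have hKπ : IsPiSubgroup π K := fun q hq hd => D.union ▸ Or.inl (hK q hq hd)
  rw [Grp.isNilpotent_iff_sylow_normal]
  intro a ha P
  set E := primaryClosure ({a} : Set ℕ) K with hE
  have hEn : E.Normal := primaryClosure_normal _ _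
  have hPE : (P : Subgroup K) ≤ E := fun x hx => by
    obtain ⟨k, hk⟩ := IsPGroup.iff_orderOf.1 P.isPGroup' ⟨x, hx⟩
    rw [Subgroup.orderOf_mk] at hk
    exact Subgroup.subset_closure ⟨a, k, rfl, ha.out, hk⟩
  have hEp : IsPGroup a E := by
    refine IsPGroup.of_card (n := _) (Nat.eq_prime_pow_of_unique_prime_dvd Nat.card_pos.ne' fun {q} hq hqd => ?_)
    by_contra hqa
    haveI : Fact q.Prime := ⟨hq⟩
    exact not_dvd_primaryClosure (T := ({a} : Set ℕ)) hqa
      (D.hasNormalPComplement hKπ (hK q hq (hqd.trans (Subgroup.card_subgroup_dvd_card _)))) hqd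
  rw [← P.is_maximal' hEp hPE]
  exact hEn

/-- Wielandt's theorem for the nilpotent Hall subgroup, inside a subgroup `C`. -/
theorem nilpotent_conj : ∀ (n : ℕ) (C N K : Subgroup G), Nat.card K ≤ n → N ≤ C → K ≤ C → Group.IsNilpotent N →
    Group.IsNilpotent K → (∀ r : ℕ, r.Prime → r ∣ Nat.card K → ¬ r ∣ N.relIndex C) →
    ∃ g ∈ C, ∀ x ∈ K, g * x * g⁻¹ ∈ N := by
  intro n
  induction n with
  | zero => intro C N K h; exact absurd h (by have := Nat.card_pos (α := K); omega)
  | succ n ih =>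
    intro C N K hn hN hK hNn hKn hidx
    by_cases hK1 : K = ⊥
    · exact ⟨1, C.one_mem, fun x hx => by
        rw [hK1, Subgroup.mem_bot] at hx; rw [hx, mul_one, mul_inv_cancel]; exact N.one_mem⟩
    obtain ⟨a, ha, had⟩ := Nat.exists_prime_and_dvd (n := Nat.card K) fun h => hK1 (Subgroup.card_eq_one.1 h)
    haveI : Fact a.Prime := ⟨ha⟩
    obtain ⟨P⟩ : Nonempty (Sylow a K) := inferInstance
    set A := (P : Subgroup K).map K.subtype with hA
    have hAK : A ≤ K := Subgroup.map_subtype_le _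
    obtain ⟨g, hg, hgA⟩ := exists_conj_le (H := N) (A := A) hN (hAK.trans hK) (P.isPGroup'.map _) (hidx a ha had)
    set T := {r : ℕ | r ≠ a}
    set K' := (primaryClosure T K).map K.subtype with hK'
    have hK'K : K' ≤ K := Subgroup.map_subtype_le _
    have hnpc : HasNormalPComplement a K := by
      refine (hasNormalPComplement_iff_frobeniusCondition P).2 fun Q hQ y hy hco => ?_
      refine Subgroup.mem_centralizer_iff.2 fun q hq => ?_
      obtain ⟨i, hi⟩ := IsPGroup.iff_orderOf.1 P.isPGroup' ⟨q, hQ hq⟩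
      rw [Subgroup.orderOf_mk] at hi
      refine ((ClassDisconnected.mem_of_primary (Subgroup.centralizer ({q} : Set K)) fun j r k hr ho => ?_) |>
        Subgroup.mem_centralizer_singleton_iff.1).symm
      by_cases hk : k = 0
      · rw [hk, pow_zero, orderOf_eq_one_iff] at ho
        rw [ho]; exact Subgroup.one_mem _
      have hra : r ≠ a := fun e => ha.ne_one (Nat.eq_one_of_dvd_coprimes hco
        (e ▸ (dvd_pow_self r hk).trans (ho ▸ orderOf_pow_dvd j)) dvd_rfl)
      refine Subgroup.mem_centralizer_singleton_iff.2 (Subtype.ext ?_)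
      exact (commute_of_nilpotent K hKn (y ^ j).2 q.2 hr ha hra (by rw [Subgroup.orderOf_coe, ho])
        (by rw [Subgroup.orderOf_coe, hi])).eq
    have hnd : ¬ a ∣ Nat.card K' := by
      rw [hK', Subgroup.card_map_of_injective K.subtype_injective]
      exact not_dvd_primaryClosure (fun h : a ≠ a => h rfl) hnpc
    have hlt : Nat.card K' ≤ n := by
      have h1 := Nat.le_of_dvd Nat.card_pos (Subgroup.card_dvd_of_le hK'K)
      have h2 : Nat.card K' ≠ Nat.card K := fun e => hnd (e ▸ had)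
      omega
    -- recurse inside the centralizer of `A`
    set A' := A.map (MulAut.conj g).toMonoidHom with hA'
    set C' := C ⊓ Subgroup.centralizer (A' : Set G) with hC'
    set M := (primaryClosure T N).map N.subtype with hM
    set L := K'.map (MulAut.conj g).toMonoidHom with hL
    have hMN : M ≤ N := Subgroup.map_subtype_le _
    have hA'p : ∀ x ∈ A', ∃ i, orderOf x = a ^ i := by
      rintro _ ⟨x, ⟨x', hx', rfl⟩, rfl⟩
      obtain ⟨i, hi⟩ := IsPGroup.iff_orderOf.1 P.isPGroup' ⟨x', hx'⟩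
      rw [Subgroup.orderOf_mk, ← Subgroup.orderOf_coe] at hi
      exact ⟨i, by rw [MulEquiv.coe_toMonoidHom, MulEquiv.orderOf_eq]; exact hi⟩
    have hA'N : A' ≤ N := by
      rintro _ ⟨x, hx, rfl⟩
      exact hgA x hx
    have hcl : ∀ {X : Subgroup G}, Group.IsNilpotent X → ∀ z ∈ (primaryClosure T X).map X.subtype, ∀ x ∈ X,
        (∃ i, orderOf x = a ^ i) → x * z = z * x := by
      intro X hXn z hz x hx hxo
      obtain ⟨i, hi⟩ := hxo
      suffices h : (primaryClosure T X).map X.subtype ≤ Subgroup.centralizer ({x} : Set G) from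
        (Subgroup.mem_centralizer_singleton_iff.1 (h hz)).symm
      rw [Subgroup.map_le_iff_le_comap, primaryClosure, Subgroup.closure_le]
      rintro w ⟨r, k, hrT, hr, hw⟩
      exact Subgroup.mem_centralizer_singleton_iff.2
        (commute_of_nilpotent X hXn w.2 hx hr ha hrT (by rw [Subgroup.orderOf_coe, hw]) hi).eq
    have hMC' : M ≤ C' := fun z hz => ⟨hN (hMN hz),
      Subgroup.mem_centralizer_iff.2 fun x hx => hcl hNn z hz x (hA'N hx) (hA'p x hx)⟩
    have hLC' : L ≤ C' := by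
      rintro _ ⟨z, hz, rfl⟩
      refine ⟨?_, Subgroup.mem_centralizer_iff.2 ?_⟩
      · exact C.mul_mem (C.mul_mem hg (hK (hK'K hz))) (C.inv_mem hg)
      · rintro _ ⟨x, hx, rfl⟩
        obtain ⟨x', hx', rfl⟩ := hx
        obtain ⟨i, hi⟩ := IsPGroup.iff_orderOf.1 P.isPGroup' ⟨x', hx'⟩
        rw [Subgroup.orderOf_mk, ← Subgroup.orderOf_coe] at hi
        rw [← map_mul, ← map_mul]
        exact congrArg _ (hcl hKn z hz _ x'.2 ⟨i, hi⟩)
    have hMnil : Group.IsNilpotent M := by
      haveI := hNn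
      exact (Group.isNilpotent_congr ((primaryClosure T N).equivMapOfInjective _ N.subtype_injective)).1
        (Subgroup.isNilpotent _)
    have hLnil : Group.IsNilpotent L := by
      haveI := hKn
      have h1 : Group.IsNilpotent K' :=
        (Group.isNilpotent_congr ((primaryClosure T K).equivMapOfInjective _ K.subtype_injective)).1
          (Subgroup.isNilpotent _)
      exact (Group.isNilpotent_congr (K'.equivMapOfInjective _ (MulEquiv.injective _))).1 h1
    have hcardL : Nat.card L = Nat.card K' := Subgroup.card_map_of_injective (MulEquiv.injective _)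
    have hidx' : ∀ r : ℕ, r.Prime → r ∣ Nat.card L → ¬ r ∣ M.relIndex C' := by
      intro r hr hrd hcon
      rw [hcardL] at hrd
      haveI : Fact r.Prime := ⟨hr⟩
      have hra : r ≠ a := fun e => hnd (e ▸ hrd)
      have h1 : r ∣ M.relIndex C := hcon.trans ⟨_, (Subgroup.relIndex_mul_relIndex M C' C hMC' inf_le_left).symm⟩
      rw [← Subgroup.relIndex_mul_relIndex M N C hMN hN, hr.dvd_mul] at h1
      rcases h1 with h1 | h1
      · rw [Subgroup.relIndex, hM, ← Subgroup.comap_subtype,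
          Subgroup.comap_map_eq_self_of_injective N.subtype_injective] at h1
        exact not_dvd_index_primaryClosure (T := T) hra h1
      · exact hidx r hr (hrd.trans (Subgroup.card_dvd_of_le hK'K)) h1
    obtain ⟨h, hhC, hh⟩ := ih C' M L (hcardL ▸ hlt) hMC' hLC' hMnil hLnil hidx'
    refine ⟨h * g, C.mul_mem hhC.1 hg, fun x hx => ?_⟩
    suffices hsub : K ≤ N.comap (MulAut.conj (h * g)).toMonoidHom from hsub hx
    intro x hx
    have key : (⟨x, hx⟩ : K) ∈ (N.comap (MulAut.conj (h * g)).toMonoidHom).subgroupOf K := by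
      refine ClassDisconnected.mem_of_primary _ fun j r k hr ho => ?_
      rw [Subgroup.mem_subgroupOf, Subgroup.mem_comap, MulEquiv.coe_toMonoidHom, MulAut.conj_apply]
      set v := (⟨x, hx⟩ : K) ^ j
      rw [show h * g * (v : G) * (h * g)⁻¹ = h * (g * (v : G) * g⁻¹) * h⁻¹ by group]
      by_cases hra : r = a
      · subst hra
        obtain ⟨R, hR⟩ := (IsPGroup.of_card (n := k) (by rw [Nat.card_zpowers, ho]) :
          IsPGroup r (Subgroup.zpowers v)).exists_le_sylow
        haveI : (P : Subgroup K).Normal := Grp.isNilpotent_iff_sylow_normal.1 hKn r inferInstance P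
        obtain ⟨c, hc⟩ := MulAction.exists_smul_eq K P R
        have hv : v ∈ (P : Subgroup K) := by
          have h1 : v ∈ R := hR (Subgroup.mem_zpowers v)
          rwa [← hc, Sylow.smul_eq_of_normal] at h1
        have hvA : g * (v : G) * g⁻¹ ∈ A' := ⟨(v : G), ⟨v, hv, rfl⟩, rfl⟩
        rw [← (Subgroup.mem_centralizer_iff.1 hhC.2) _ hvA, mul_inv_cancel_right]
        exact hA'N hvA
      · exact hMN (hh _ ⟨(v : G), ⟨v, Subgroup.subset_closure ⟨r, k, hra, hr, ho⟩, rfl⟩, rfl⟩)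
    exact key

theorem Data.conj_le (D : Data σ τ π H Hs Ht) (hD : IsDPiGroup τ G) {K : Subgroup G} (hK : IsPiSubgroup π K) :
    ∃ g : G, ∀ x ∈ K, g * x * g⁻¹ ∈ H := by
  classical
  set T := primaryClosure τ K with hT
  haveI hTn : T.Normal := primaryClosure_normal _ _
  have hTτ : ∀ r : ℕ, r.Prime → r ∣ Nat.card T → r ∈ τ := by
    intro r hr hrd
    by_contra hrτ
    haveI : Fact r.Prime := ⟨hr⟩
    have hrσ : r ∈ σ := by
      have h1 := hK r hr (hrd.trans (Subgroup.card_subgroup_dvd_card _))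
      rw [D.union] at h1
      exact h1.resolve_right hrτ
    exact not_dvd_primaryClosure hrτ (D.hasNormalPComplement hK hrσ) hrd
  have hTi : ∀ r : ℕ, r.Prime → r ∣ T.index → r ∈ σ := by
    intro r hr hrd
    haveI : Fact r.Prime := ⟨hr⟩
    have h1 := hK r hr (hrd.trans (Subgroup.index_dvd_card _))
    rw [D.union] at h1
    exact h1.resolve_right fun h => not_dvd_index_primaryClosure (T := τ) h hrd
  obtain ⟨S, hS⟩ := Subgroup.exists_right_complement'_of_coprime (N := T)
    (Nat.coprime_of_dvd fun r hr h1 h2 => Set.disjoint_right.1 D.disj (hTτ r hr h1) (hTi r hr h2))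
  set Ks := S.map K.subtype with hKs
  set Kt := T.map K.subtype with hKt
  have hKsσ : IsPiSubgroup σ Ks := by
    intro r hr hrd
    rw [hKs, Subgroup.card_map_of_injective K.subtype_injective, ← hS.symm.index_eq_card] at hrd
    exact hTi r hr hrd
  have hcomm : ∀ y ∈ Ks, ∀ z ∈ Kt, Commute z y := by
    intro _ ⟨y, hy, hye⟩ _ ⟨z, hz, hze⟩
    subst hye hze
    suffices h : z ∈ Subgroup.centralizer ({y} : Set K) from
      congrArg Subtype.val (Subgroup.mem_centralizer_singleton_iff.1 h)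
    refine Subgroup.mem_centralizer_singleton_iff.2 ?_
    refine (Subgroup.mem_centralizer_singleton_iff.1 (ClassDisconnected.mem_of_primary
      (Subgroup.centralizer ({z} : Set K)) (g := y) fun j r k hr ho => ?_)).symm
    refine Subgroup.mem_centralizer_singleton_iff.2 ?_
    by_cases hk : k = 0
    · rw [hk, pow_zero, orderOf_eq_one_iff] at ho
      rw [ho, one_mul, mul_one]
    set w := y ^ j
    have hrσ : r ∈ σ := by
      refine hTi r hr ?_
      rw [hS.symm.index_eq_card]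
      exact (dvd_pow_self r hk).trans (ho ▸ S.orderOf_dvd_natCard (S.pow_mem hy j))
    haveI : Fact r.Prime := ⟨hr⟩
    suffices hle : T ≤ Subgroup.centralizer ({w} : Set K) from
      (Subgroup.mem_centralizer_singleton_iff.1 (hle hz)).symm
    rw [← inf_eq_left]
    refine Subgroup.eq_of_le_of_card_ge inf_le_left (Nat.le_of_dvd Nat.card_pos ?_)
    rw [Nat.dvd_iff_prime_pow_dvd_dvd]
    intro b l hb hbl
    rcases Nat.eq_zero_or_pos l with rfl | hl
    · simp
    haveI : Fact b.Prime := ⟨hb⟩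
    have hbτ : b ∈ τ := hTτ b hb ((dvd_pow_self b hl.ne').trans hbl)
    have hbr : b ≠ r := fun e => Set.disjoint_left.1 D.disj hrσ (e ▸ hbτ)
    obtain ⟨P₀⟩ : Nonempty (Sylow b K) := inferInstance
    have hPT : ∀ P : Sylow b K, (P : Subgroup K) ≤ T := fun P x hx => by
      obtain ⟨i, hi⟩ := IsPGroup.iff_orderOf.1 P.isPGroup' ⟨x, hx⟩
      rw [Subgroup.orderOf_mk] at hi
      exact Subgroup.subset_closure ⟨b, i, hbτ, hb, hi⟩
    have hns : ¬ r ∣ Nat.card (Sylow b K) := by
      intro h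
      refine Set.disjoint_left.1 D.disj hrσ (hTτ r hr (h.trans ?_))
      set Nz := Subgroup.normalizer ((P₀ : Subgroup K) : Set K)
      have htop : Nz ⊔ T = ⊤ := Sylow.normalizer_sup_eq_top' P₀ (hPT P₀)
      have h2 : Nz.index = Nz.relIndex T := by
        refine Nat.dvd_antisymm ?_ (Kazarin.relIndex_dvd_index _ T)
        have e := Grp.card_sup_mul_card_inf_normal (H := Nz) (N := T)
        rw [htop, Subgroup.card_top, ← Nz.card_mul_index, mul_assoc] at e
        have e' := Nat.eq_of_mul_eq_mul_left Nat.card_pos e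
        have b' : Nat.card ↥(Nz ⊓ T) * Nz.relIndex T = Nat.card T := by
          rw [← Subgroup.inf_relIndex_right, ← Subgroup.relIndex_bot_left, ← Subgroup.relIndex_bot_left,
            Subgroup.relIndex_mul_relIndex ⊥ _ T bot_le inf_le_right]
        rw [← b', mul_comm] at e'
        exact (Nat.eq_of_mul_eq_mul_left Nat.card_pos e').dvd
      rw [Sylow.card_eq_index_normalizer P₀]
      show Nz.index ∣ _
      rw [h2]
      exact Subgroup.index_dvd_card _
    obtain ⟨P, hPfix⟩ := (IsPGroup.of_card (n := k) (by rw [Nat.card_zpowers, ho]) :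
      IsPGroup r (Subgroup.zpowers w)).nonempty_fixed_point_of_prime_not_dvd_card (Sylow b K) hns
    have hwN : w ∈ Subgroup.normalizer ((P : Subgroup K) : Set K) :=
      Sylow.smul_eq_iff_mem_normalizer.1 (hPfix ⟨w, Subgroup.mem_zpowers w⟩)
    have h1 := D.mem_centralizer hb hr hbr (D.union ▸ Or.inr hbτ) (D.union ▸ Or.inl hrσ) (Or.inr hrσ)
      (A := (P : Subgroup K).map K.subtype) (P.isPGroup'.map _) (y := (w : G))
      (Subgroup.mem_normalizer_fintype (S := (((P : Subgroup K).map K.subtype : Subgroup G) : Set G)) (by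
        rintro _ ⟨q, hq, rfl⟩
        exact ⟨w * q * w⁻¹, (Subgroup.mem_normalizer_iff.1 hwN q).1 hq, by simp⟩))
      (j := k) (by rw [Subgroup.orderOf_coe, ho])
    have hPC : (P : Subgroup K) ≤ T ⊓ Subgroup.centralizer ({w} : Set K) := fun q hq =>
      ⟨hPT P hq, Subgroup.mem_centralizer_singleton_iff.2
        (Subtype.ext ((Subgroup.mem_centralizer_iff.1 h1) _ ⟨q, hq, rfl⟩))⟩
    refine dvd_trans ?_ (Subgroup.card_dvd_of_le hPC)
    rw [P.card_eq_multiplicity]
    exact pow_dvd_pow b ((hb.pow_dvd_iff_le_factorization Nat.card_pos.ne').1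
      (hbl.trans (Subgroup.card_subgroup_dvd_card _)))
  -- move `Kt` into `Ht`
  have hKtτ : IsPiSubgroup τ Kt := by
    intro r hr hrd
    rw [hKt, Subgroup.card_map_of_injective K.subtype_injective] at hrd
    exact hTτ r hr hrd
  obtain ⟨L, hKtL, hLmax⟩ := (Set.toFinite {L : Subgroup G | IsPiSubgroup τ L}).exists_le_maximal hKtτ
  have hHtmax : Maximal (IsPiSubgroup τ) Ht := by
    refine ⟨D.ht, fun U hU hle => ?_⟩
    refine (Subgroup.relIndex_eq_one).1 ?_
    by_contra hne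
    obtain ⟨r, hr, hrd⟩ := Nat.exists_prime_and_dvd hne
    exact D.not_dvd_index_ht hr (hU r hr (hrd.trans (Subgroup.index_dvd_card _)))
      (hrd.trans (Subgroup.relIndex_dvd_index_of_le hle))
  obtain ⟨g, hg⟩ := hD L Ht hLmax hHtmax
  have hgKt : ∀ z ∈ Kt, g * z * g⁻¹ ∈ Ht := fun z hz => by rw [hg]; exact ⟨z, hKtL hz, rfl⟩
  -- Wielandt inside the centralizer
  set Kt' := Kt.map (MulAut.conj g).toMonoidHom
  set C := Subgroup.centralizer (Kt' : Set G) with hC
  have hKt'H : Kt' ≤ Ht := by rintro _ ⟨z, hz, rfl⟩; exact hgKt z hz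
  have hHsC : Hs ≤ C := fun s hs => Subgroup.mem_centralizer_iff.2 fun z hz => (D.comm s hs z (hKt'H hz)).symm
  set Ks' := Ks.map (MulAut.conj g).toMonoidHom
  have hKs'C : Ks' ≤ C := by
    rintro _ ⟨y, hy, rfl⟩
    refine Subgroup.mem_centralizer_iff.2 ?_
    rintro _ ⟨z, hz, rfl⟩
    rw [← map_mul, ← map_mul, (hcomm y hy z hz).eq]
  have hKs'σ : IsPiSubgroup σ Ks' := fun r hr hrd =>
    hKsσ r hr (by rwa [Subgroup.card_map_of_injective (MulEquiv.injective _)] at hrd)
  obtain ⟨c, hc, hcK⟩ := nilpotent_conj _ C Hs Ks' le_rfl hHsC hKs'C D.nilp (D.nilpotent_of_sigma hKs'σ)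
    fun r hr hrd h => D.not_dvd_index_hs hr (hKs'σ r hr hrd) (h.trans (Subgroup.relIndex_dvd_index_of_le hHsC))
  refine ⟨c * g, fun x hx => ?_⟩
  obtain ⟨t, ht, s, hs, hts⟩ : ∃ t ∈ T, ∃ s ∈ S, t * s = (⟨x, hx⟩ : K) := by
    obtain ⟨⟨⟨t, ht⟩, ⟨s, hs⟩⟩, h⟩ := hS.2 (⟨x, hx⟩ : K)
    exact ⟨t, ht, s, hs, h⟩
  have hxe : x = (t : G) * (s : G) := (congrArg Subtype.val hts).symm
  have htK : (MulAut.conj g).toMonoidHom (t : G) ∈ Kt' := ⟨_, ⟨t, ht, rfl⟩, rfl⟩
  have hsK : (MulAut.conj g).toMonoidHom (s : G) ∈ Ks' := ⟨_, ⟨s, hs, rfl⟩, rfl⟩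
  have h1 : c * ((MulAut.conj g).toMonoidHom (t : G)) * c⁻¹ = (MulAut.conj g).toMonoidHom (t : G) := by
    rw [← (Subgroup.mem_centralizer_iff.1 hc) _ htK, mul_inv_cancel_right]
  rw [hxe, show c * g * ((t : G) * (s : G)) * (c * g)⁻¹ =
    (c * ((MulAut.conj g).toMonoidHom (t : G)) * c⁻¹) * (c * ((MulAut.conj g).toMonoidHom (s : G)) * c⁻¹) by
      simp only [MulEquiv.coe_toMonoidHom, MulAut.conj_apply]; group, h1]
  exact H.mul_mem (D.sup ▸ Subgroup.mem_sup_right (hKt'H htK)) (D.sup ▸ Subgroup.mem_sup_left (hcK _ hsK))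

theorem Data.isDPi (D : Data σ τ π H Hs Ht) (hD : IsDPiGroup τ G) : IsDPiGroup π G := by
  have key : ∀ K : Subgroup G, Maximal (IsPiSubgroup π) K → ∃ g : G, H = K.map (MulAut.conj g).toMonoidHom := by
    intro K hK
    obtain ⟨g, hg⟩ := D.conj_le hD hK.1
    refine ⟨g, ?_⟩
    set U := H.map (MulAut.conj g⁻¹).toMonoidHom
    have hUπ : IsPiSubgroup π U := fun r hr hrd =>
      D.hall.1 r hr (by rwa [Subgroup.card_map_of_injective (MulEquiv.injective _)] at hrd)
    have hKU : K ≤ U := fun x hx => ⟨g * x * g⁻¹, hg x hx, by simp [mul_assoc]⟩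
    refine le_antisymm (fun y hy => ?_) ?_
    · exact ⟨g⁻¹ * y * g, hK.2 hUπ hKU ⟨y, hy, by simp⟩, by simp [mul_assoc]⟩
    · rintro _ ⟨x, hx, rfl⟩
      exact hg x hx
  intro K L hK hL
  obtain ⟨g, hg⟩ := key K hK
  obtain ⟨k, hk⟩ := key L hL
  refine ⟨k⁻¹ * g, ?_⟩
  have h2 : L = H.map (MulAut.conj k⁻¹).toMonoidHom := by
    rw [hk, Subgroup.map_map]
    convert (Subgroup.map_id L).symm using 2
    ext x; simp [mul_assoc]
  rw [h2, hg, Subgroup.map_map]
  congr 1
  ext x; simp [mul_assoc]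

end Cfsg.Agent.Transfer.WielandtDPi
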