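import Cfsg.Agent.Lib.Transfer.FiveEight
import Cfsg.Agent.Lib.Grp.TwoSymFour.Known
import Cfsg.Prelude.Def_Transfer
import Mathlib.GroupTheory.SchurZassenhaus

/-!
The factor of order 1344: a non-split extension of the elementary group of order eight by the linear group.
-/

set_option autoImplicit false
set_option linter.style.haveILetI false

open scoped Pointwise

namespace Cfsg.Agent.Transfer.FiveEight

theorem zmod2_unit : ∀ a b : ZMod 2, a * b = 1 → a = 1 := by decide

/-- A non-split extension of an elementary abelian group of order eight by the linear group. -/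
def Ext8 (J : Type*) [Group J] : Prop :=
  ∃ (E : Subgroup J) (_ : E.Normal), Cfsg.IsElementaryAbelian 2 E ∧ Nat.card ↥E = 8 ∧
    Nonempty (J ⧸ E ≃* Matrix.SpecialLinearGroup (Fin 3) (ZMod 2)) ∧ ∀ K : Subgroup J, ¬ E.IsComplement' K

theorem Ext8.congr {J J' : Type*} [Group J] [Group J'] (e : J ≃* J') (h : Ext8 J) : Ext8 J' := by
  obtain ⟨E, hE, ⟨hc, h2⟩, hcard, ⟨φ⟩, hns⟩ := h
  haveI := hE
  haveI hE' : (E.map (e : J →* J')).Normal := Subgroup.Normal.map hE _ e.surjective
  refine ⟨E.map (e : J →* J'), hE', ⟨⟨⟨?_⟩⟩, ?_⟩, ?_, ⟨(QuotientGroup.congr E _ e rfl).symm.trans φ⟩, fun K hK => ?_⟩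
  · rintro ⟨_, a, ha, rfl⟩ ⟨_, b, hb, rfl⟩
    refine Subtype.ext ?_
    show e a * e b = e b * e a
    rw [← map_mul, ← map_mul, show a * b = b * a from congrArg Subtype.val (hc.1.1 ⟨a, ha⟩ ⟨b, hb⟩)]
  · rintro _ ⟨a, ha, rfl⟩
    rw [← map_pow, h2 a ha, map_one]
  · rw [Subgroup.card_map_of_injective (f := (e : J →* J')) e.injective, hcard]
  · refine hns (K.comap e.toMonoidHom) ?_
    refine Subgroup.isComplement'_of_disjoint_and_mul_eq_univ ?_ ?_
    · rw [Subgroup.disjoint_def]
      intro x hx hx'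
      have := Subgroup.disjoint_def.1 hK.disjoint (Subgroup.mem_map_of_mem _ hx) hx'
      exact e.injective (this.trans (map_one e).symm)
    · refine Set.eq_univ_of_forall fun x => ?_
      obtain ⟨⟨⟨_, a, ha, rfl⟩, ⟨b, hb⟩⟩, hab⟩ := hK.surjective (e x)
      refine Set.mem_mul.2 ⟨a, ha, e.symm b, ?_, e.injective ?_⟩
      · show e (e.symm b) ∈ K
        rwa [e.apply_symm_apply]
      · rw [map_mul, e.apply_symm_apply]
        exact hab

variable {C : Type*} [Group C] (d : Data C) [Finite C]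

theorem card_zpowers_n : Nat.card ↥(Subgroup.zpowers d.n) = 5 := by
  haveI : Fact (Nat.Prime 5) := ⟨by norm_num⟩
  rw [Nat.card_zpowers, orderOf_eq_prime d.n5 d.n_ne]

theorem sq_mem_of_complement {J : Subgroup C} (hJ : (Subgroup.zpowers d.n).IsComplement' J) {x : C}
    (hx : x * x = 1) : x ∈ J := by
  obtain ⟨⟨⟨a, ha⟩, ⟨b, hb⟩⟩, hab⟩ := hJ.surjective x
  obtain ⟨i, rfl⟩ := Subgroup.mem_zpowers_iff.1 ha
  simp only at hab
  have hc : Commute b (d.n ^ i) := (show Commute b d.n from d.n_cen b).zpow_right i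
  have h1 : d.n ^ i * d.n ^ i * (b * b) = 1 := by
    rw [← hx, ← hab, mul_assoc, mul_assoc (d.n ^ i) b, ← mul_assoc b (d.n ^ i) b, hc.eq, mul_assoc (d.n ^ i) b b]
  have h2 : d.n ^ i * d.n ^ i ∈ Subgroup.zpowers d.n ⊓ J := ⟨mul_mem ha ha, by
    rw [mul_eq_one_iff_eq_inv] at h1; rw [h1]; exact J.inv_mem (J.mul_mem hb hb)⟩
  rw [hJ.disjoint.eq_bot, Subgroup.mem_bot] at h2
  have h5 : (d.n ^ i) ^ 5 = 1 := by rw [← zpow_natCast, ← zpow_mul, mul_comm, zpow_mul, zpow_natCast, d.n5, one_zpow]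
  have h0 : d.n ^ i = 1 := by
    rw [show d.n ^ i = (d.n ^ i) ^ 5 * ((d.n ^ i * d.n ^ i) * (d.n ^ i * d.n ^ i))⁻¹ by group, h5, h2]
    group
  rw [← hab, h0, one_mul]
  exact hb

/-- The factor. -/
theorem exists_complement : ∃ J : Subgroup C, Subgroup.zpowers d.n ⊓ J = ⊥ ∧ Subgroup.zpowers d.n ⊔ J = ⊤ ∧
    Ext8 ↥J := by
  classical
  haveI hNn : (Subgroup.zpowers d.n).Normal := ⟨fun x hx g => by
    obtain ⟨i, rfl⟩ := Subgroup.mem_zpowers_iff.1 hx
    rw [((show Commute g d.n from d.n_cen g).zpow_right i).eq, mul_inv_cancel_right]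
    exact Subgroup.zpow_mem_zpowers _ _⟩
  have hidx : (Subgroup.zpowers d.n).index = 1344 := by
    have h := (Subgroup.zpowers d.n).card_mul_index
    rw [card_zpowers_n d, card_C d] at h
    omega
  obtain ⟨J, hJ⟩ := Subgroup.exists_right_complement'_of_coprime (N := Subgroup.zpowers d.n)
    (by rw [card_zpowers_n d, hidx]; norm_num)
  have hcardJ : Nat.card ↥J = 1344 := by rw [← hidx, hJ.symm.index_eq_card]
  have hEJ : d.E ≤ J := fun e he => sq_mem_of_complement d hJ (E_sq d he)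
  refine ⟨J, hJ.disjoint.eq_bot, hJ.sup_eq_top, ?_⟩
  haveI := E_normal d
  let E' : Subgroup ↥J := d.E.subgroupOf J
  have hcardE' : Nat.card ↥E' = 8 := by
    rw [Nat.card_congr (Subgroup.subgroupOfEquivOfLe hEJ).toEquiv, d.cardE]
  haveI hE'n : E'.Normal := Subgroup.Normal.subgroupOf (E_normal d) J
  -- the action on the group of order eight
  haveI hcommE : IsMulCommutative ↥d.E := ⟨⟨fun a b => Subtype.ext (d.E_comm _ a.2 _ b.2)⟩⟩
  letI : CommGroup ↥d.E := { (inferInstance : Group ↥d.E) with mul_comm := fun a b => Subtype.ext (d.E_comm _ a.2 _ b.2) }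
  letI : Module (ZMod 2) (Additive ↥d.E) := AddCommGroup.zmodModule (n := 2) fun a => by
    rw [two_nsmul]
    exact Subtype.ext (E_sq d (Additive.toMul a).2)
  haveI : Fact (Nat.Prime 2) := ⟨Nat.prime_two⟩
  have hfin : Module.finrank (ZMod 2) (Additive ↥d.E) = 3 := by
    have h := Module.natCard_eq_pow_finrank (K := ZMod 2) (V := Additive ↥d.E)
    rw [Nat.card_congr Additive.toMul, d.cardE, Nat.card_zmod] at h
    exact (Nat.pow_right_injective le_rfl (h.symm.trans (by norm_num : (8 : ℕ) = 2 ^ 3))).symm ▸ rfl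
  let bas := Module.finBasisOfFinrankEq (ZMod 2) (Additive ↥d.E) hfin
  let act : C → Additive ↥d.E →ₗ[ZMod 2] Additive ↥d.E := fun g => AddMonoidHom.toZModLinearMap 2
    { toFun := fun a => Additive.ofMul ⟨g * (Additive.toMul a : ↥d.E) * g⁻¹, (E_normal d).conj_mem _ (Additive.toMul a).2 g⟩
      map_zero' := by
        refine congrArg Additive.ofMul (Subtype.ext ?_)
        simp
      map_add' := fun a b => by
        refine congrArg Additive.ofMul (Subtype.ext ?_)
        simp [mul_assoc] }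
  have act_apply : ∀ g a, act g a = Additive.ofMul
      (⟨g * (Additive.toMul a : ↥d.E) * g⁻¹, (E_normal d).conj_mem _ (Additive.toMul a).2 g⟩ : ↥d.E) := fun _ _ => rfl
  have act_mul : ∀ g h, act (g * h) = act g * act h := fun g h => LinearMap.ext fun a => by
    rw [Module.End.mul_apply, act_apply, act_apply, act_apply]
    refine congrArg Additive.ofMul (Subtype.ext ?_)
    simp [mul_assoc]
  have act_one : act 1 = 1 := LinearMap.ext fun a => by
    rw [act_apply, Module.End.one_apply]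
    refine Additive.toMul.injective (Subtype.ext ?_)
    simp
  let Mx : ↥J → Matrix (Fin 3) (Fin 3) (ZMod 2) := fun g => LinearMap.toMatrixAlgEquiv bas (act (g : C))
  have Mx_mul : ∀ g h, Mx (g * h) = Mx g * Mx h := fun g h => by
    simp only [Mx, Subgroup.coe_mul, act_mul, map_mul]
  have Mx_one : Mx 1 = 1 := by simp only [Mx, OneMemClass.coe_one, act_one, map_one]
  have hdet : ∀ g, (Mx g).det = 1 := fun g => by
    have h : (Mx g).det * (Mx g⁻¹).det = 1 := by rw [← Matrix.det_mul, ← Mx_mul, mul_inv_cancel, Mx_one, Matrix.det_one]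
    exact zmod2_unit _ _ h
  let ρ : ↥J →* Matrix.SpecialLinearGroup (Fin 3) (ZMod 2) :=
    { toFun := fun g => ⟨Mx g, hdet g⟩
      map_one' := Subtype.ext Mx_one
      map_mul' := fun g h => Subtype.ext (Mx_mul g h) }
  have hker : ρ.ker = E' := by
    ext g
    rw [MonoidHom.mem_ker, Subgroup.mem_subgroupOf]
    constructor
    · intro hg
      have h1 : act (g : C) = 1 := (LinearMap.toMatrixAlgEquiv bas).injective (by
        rw [map_one]; exact congrArg Subtype.val hg)
      obtain ⟨e, he, l, hgl⟩ := d.centE (g : C) fun e he => by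
        have h2 := congrArg Subtype.val (congrArg Additive.toMul (LinearMap.congr_fun h1 (Additive.ofMul ⟨e, he⟩)))
        rw [act_apply, Module.End.one_apply] at h2
        exact mul_inv_eq_iff_eq_mul.1 h2
      have hn : d.n ^ l ∈ Subgroup.zpowers d.n ⊓ J :=
        ⟨pow_mem (Subgroup.mem_zpowers _) _, by
          rw [show d.n ^ l = e⁻¹ * (g : C) by rw [hgl, inv_mul_cancel_left]]
          exact J.mul_mem (J.inv_mem (hEJ he)) g.2⟩
      rw [hJ.disjoint.eq_bot, Subgroup.mem_bot] at hn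
      rw [hgl, hn, mul_one]
      exact he
    · intro hg
      refine Subtype.ext ?_
      show LinearMap.toMatrixAlgEquiv bas (act (g : C)) = 1
      rw [← map_one (LinearMap.toMatrixAlgEquiv bas)]
      congr 1
      refine LinearMap.ext fun a => ?_
      rw [act_apply, Module.End.one_apply]
      refine Additive.toMul.injective (Subtype.ext ?_)
      show (g : C) * (Additive.toMul a : ↥d.E) * (g : C)⁻¹ = _
      rw [d.E_comm _ hg _ (Additive.toMul a).2, mul_inv_cancel_right]
  have hquot : Nat.card (↥J ⧸ E') = 168 := by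
    have h := Subgroup.card_eq_card_quotient_mul_card_subgroup E'
    rw [hcardJ, hcardE'] at h
    omega
  have hlift : Function.Injective (QuotientGroup.lift E' ρ hker.ge) := by
    rw [← MonoidHom.ker_eq_bot_iff, Subgroup.eq_bot_iff_forall]
    intro x hx
    obtain ⟨g, rfl⟩ := QuotientGroup.mk_surjective x
    rw [MonoidHom.mem_ker, QuotientGroup.lift_mk, ← MonoidHom.mem_ker, hker] at hx
    exact (QuotientGroup.eq_one_iff g).2 hx
  refine ⟨E', hE'n, ⟨⟨⟨fun a b => Subtype.ext (Subtype.ext (d.E_comm _ a.2 _ b.2))⟩⟩, fun a ha =>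
    Subtype.ext (by rw [SubgroupClass.coe_pow, pow_two]; exact E_sq d ha)⟩, hcardE',
    ⟨MulEquiv.ofBijective _ (hlift.bijective_of_nat_card_le (by
      rw [Cfsg.Agent.Grp.TwoSymFour.card_SL, hquot]))⟩, fun K hK => ?_⟩
  -- no complement
  have hcardK : Nat.card ↥K = 168 := by
    rw [← hK.symm.index_eq_card]
    exact hquot
  obtain ⟨P⟩ : Nonempty (Sylow 2 ↥K) := inferInstance
  have hP : Nat.card ↥(P : Subgroup ↥K) = 8 := by
    rw [P.card_eq_multiplicity, hcardK, show (168 : ℕ) = 2 ^ 3 * 21 by norm_num, Nat.factorization_mul (by norm_num)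
      (by norm_num), Finsupp.add_apply, Nat.Prime.factorization_pow Nat.prime_two, Finsupp.single_eq_same,
      Nat.factorization_eq_zero_of_not_dvd (by norm_num)]
    rfl
  haveI : Nontrivial ↥(P : Subgroup ↥K) := Finite.one_lt_card_iff_nontrivial.1 (by omega)
  haveI : Nontrivial ↥(Subgroup.center ↥(P : Subgroup ↥K)) := P.2.center_nontrivial
  obtain ⟨y, hy⟩ := exists_prime_orderOf_dvd_card' (G := ↥(Subgroup.center ↥(P : Subgroup ↥K))) 2 (by
    obtain ⟨m, hm, e⟩ := (IsPGroup.nontrivial_iff_card (P.2.to_subgroup (Subgroup.center ↥(P : Subgroup ↥K)))).1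
      inferInstance
    rw [e]
    exact dvd_pow_self 2 hm.ne')
  set k : C := ((((y : ↥(P : Subgroup ↥K)) : ↥K) : ↥J) : C) with hk
  have hko : orderOf k = 2 := by
    rw [hk, Subgroup.orderOf_coe, Subgroup.orderOf_coe, Subgroup.orderOf_coe, Subgroup.orderOf_coe, hy]
  have hk2 : k * k = 1 := TwoClass.sq_eq_one hko
  have hk1 : k ≠ 1 := fun e => by rw [e, orderOf_one] at hko; omega
  have hKE : ∀ x : ↥K, ((x : ↥J) : C) ∈ d.E → x = 1 := fun x hx => Subtype.ext (by
    have h := Subgroup.disjoint_def.1 hK.disjoint (show (x : ↥J) ∈ E' from Subgroup.mem_subgroupOf.2 hx) x.2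
    exact h)
  have hkE : k ∉ d.E := fun h => hk1 (by rw [hk, hKE _ h]; rfl)
  obtain ⟨φ, hφ, -⟩ := d.t_move k hk2 hk1 fun hz => hkE (zt_mem d hz)
  -- too many elements commute with the involution
  set D := (d.E ⊓ Subgroup.centralizer ({k} : Set C)) with hD
  have hD4 : 4 ≤ Nat.card ↥D := by
    let f : ↥d.E →* ↥D :=
      { toFun := fun e => ⟨e * (k * e * k⁻¹), mul_mem e.2 ((E_normal d).conj_mem _ e.2 k),
          Subgroup.mem_centralizer_singleton_iff.2 (by
            have h := d.E_comm _ ((E_normal d).conj_mem _ e.2 k) _ e.2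
            calc (e : C) * (k * e * k⁻¹) * k = (e : C) * k * e := by group
              _ = k * k * ((e : C) * k * e) := by rw [hk2, one_mul]
              _ = k * ((k * e * k) * e) := by group
              _ = k * ((k * e * k⁻¹) * e) := by rw [show k⁻¹ = k from inv_eq_of_mul_eq_one_right hk2]
              _ = k * (e * (k * e * k⁻¹)) := by rw [h])⟩
        map_one' := Subtype.ext (by simp)
        map_mul' := fun a b => Subtype.ext (by
          show (a : C) * b * (k * ((a : C) * b) * k⁻¹) = a * (k * a * k⁻¹) * (b * (k * b * k⁻¹))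
          have h := d.E_comm _ b.2 _ ((E_normal d).conj_mem _ a.2 k)
          calc (a : C) * b * (k * ((a : C) * b) * k⁻¹) = a * (b * (k * a * k⁻¹)) * (k * b * k⁻¹) := by group
            _ = a * ((k * a * k⁻¹) * b) * (k * b * k⁻¹) := by rw [h]
            _ = _ := by group) }
    have hker : Nat.card ↥f.ker ≤ Nat.card ↥D := by
      refine Nat.card_le_card_of_injective (fun e => (⟨(e : ↥d.E), (e : ↥d.E).2,
        Subgroup.mem_centralizer_singleton_iff.2 ?_⟩ : ↥D)) fun a b h => Subtype.ext (Subtype.ext (congrArg Subtype.val h :))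
      have h1 : ((e : ↥d.E) : C) * (k * (e : ↥d.E) * k⁻¹) = 1 := congrArg Subtype.val (MonoidHom.mem_ker.1 e.2)
      have h2 : k * (e : ↥d.E) * k⁻¹ = ((e : ↥d.E) : C) := by
        rw [← inv_eq_of_mul_eq_one_right h1, inv_eq_of_mul_eq_one_right (E_sq d (e : ↥d.E).2)]
      exact (mul_inv_eq_iff_eq_mul.1 h2).symm
    have h1 := f.ker.card_eq_card_quotient_mul_card_subgroup
    have h2 : Nat.card (↥d.E ⧸ f.ker) ≤ Nat.card ↥D := by
      rw [Nat.card_congr (QuotientGroup.quotientKerEquivRange f).toEquiv]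
      exact Subgroup.card_le_card_group _
    rw [d.cardE] at h1
    have hdvd : Nat.card ↥D ∣ 8 := d.cardE ▸ Subgroup.card_dvd_of_le inf_le_left
    have hle : 8 ≤ Nat.card ↥D * Nat.card ↥D := h1 ▸ Nat.mul_le_mul h2 hker
    have := Nat.le_of_dvd (by norm_num) hdvd
    interval_cases Nat.card ↥D <;> omega
  have hck : ∀ x : ↥(P : Subgroup ↥K), (((x : ↥K) : ↥J) : C) * k = k * (((x : ↥K) : ↥J) : C) := fun x => by
    rw [hk]
    simp only [← Subgroup.coe_mul]
    rw [Subgroup.mem_center_iff.1 y.2 x]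
  let F : ↥(Subgroup.zpowers d.n) × ↥D × ↥(P : Subgroup ↥K) → ↥(Subgroup.centralizer ({d.t} : Set C)) := fun p =>
    ⟨φ ((p.1 : C) * ((p.2.1 : C) * (((p.2.2 : ↥K) : ↥J) : C))), Subgroup.mem_centralizer_singleton_iff.2 (by
      obtain ⟨i, hi⟩ := Subgroup.mem_zpowers_iff.1 p.1.2
      have c1 : Commute (p.1 : C) k := hi ▸ ((show Commute k d.n from d.n_cen k).zpow_right i).symm
      have c2 : Commute (p.2.1 : C) k := Subgroup.mem_centralizer_singleton_iff.1 (Subgroup.mem_inf.1 p.2.1.2).2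
      rw [← hφ, ← map_mul, ← map_mul, (c1.mul_left (c2.mul_left (hck p.2.2))).eq])⟩
  have hF : Function.Injective F := by
    rintro ⟨a, b, c⟩ ⟨a', b', c'⟩ h
    have h1 := φ.injective (congrArg Subtype.val h :)
    simp only at h1
    have hbJ : ((b : C) * (((c : ↥K) : ↥J) : C)) ∈ J := mul_mem (hEJ (Subgroup.mem_inf.1 b.2).1) (SetLike.coe_mem _)
    have hbJ' : ((b' : C) * (((c' : ↥K) : ↥J) : C)) ∈ J := mul_mem (hEJ (Subgroup.mem_inf.1 b'.2).1) (SetLike.coe_mem _)
    have h2 := hJ.injective (a₁ := (⟨a, a.2⟩, ⟨_, hbJ⟩)) (a₂ := (⟨a', a'.2⟩, ⟨_, hbJ'⟩)) h1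
    simp only [Prod.mk.injEq, Subtype.mk.injEq] at h2
    have ha : a = a' := Subtype.ext h2.1
    have h3 := hK.injective (a₁ := (⟨⟨b, hEJ (Subgroup.mem_inf.1 b.2).1⟩, Subgroup.mem_subgroupOf.2 (Subgroup.mem_inf.1 b.2).1⟩,
        (c : ↥K)))
      (a₂ := (⟨⟨b', hEJ (Subgroup.mem_inf.1 b'.2).1⟩, Subgroup.mem_subgroupOf.2 (Subgroup.mem_inf.1 b'.2).1⟩, (c' : ↥K)))
      (Subtype.ext h2.2)
    simp only [Prod.mk.injEq, Subtype.mk.injEq] at h3
    subst ha
    rw [Prod.mk.injEq, Prod.mk.injEq]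
    exact ⟨rfl, Subtype.ext h3.1, Subtype.ext h3.2⟩
  have hle := Nat.card_le_card_of_injective F hF
  rw [Nat.card_prod, Nat.card_prod, card_zpowers_n d, hP] at hle
  have := d.card_t
  omega

end Cfsg.Agent.Transfer.FiveEight
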