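import Cfsg.Agent.Lib.Transfer.SevenS5

/-!
The quotient by the centre is the symmetric group of degree five, and it splits off.
-/

set_option autoImplicit false
set_option linter.style.haveILetI false

open scoped Pointwise

namespace Cfsg.Agent.Transfer.SevenS5

variable {C : Type*} [Group C] (d : Data C)

/-- The four-group of the three conjugates. -/
def V : Subgroup C where
  carrier := {x | ∃ a b, x = wD d a b false}
  one_mem' := ⟨false, false, (wD_zero d).symm⟩
  mul_mem' := by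
    rintro _ _ ⟨a, b, rfl⟩ ⟨a', b', rfl⟩
    exact ⟨xor a a', xor b b', by rw [wD_mul]; simp⟩
  inv_mem' := by
    rintro _ ⟨a, b, rfl⟩
    exact ⟨a, b, inv_eq_of_mul_eq_one_right (by rw [wD_mul, ← wD_zero d]; simp)⟩

theorem mem_V {x : C} : x ∈ V d ↔ x = 1 ∨ x = d.t ∨ x = d.t2 ∨ x = d.t * d.t2 := by
  rw [← wD_zero d]
  constructor
  · rintro ⟨a, b, rfl⟩
    cases a <;> cases b <;> simp [wD]
  · rintro (rfl | rfl | rfl | rfl)
    exacts [⟨_, _, rfl⟩, ⟨_, _, t_eq d⟩, ⟨_, _, t2_eq d⟩, ⟨_, _, t3_eq d⟩]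

variable [Finite C]

theorem mem_normalizer_V {x : C} (h1 : x * d.t * x⁻¹ ∈ V d) (h2 : x * d.t2 * x⁻¹ ∈ V d) :
    x ∈ Subgroup.normalizer (V d : Set C) := by
  have h : ∀ v ∈ V d, x * v * x⁻¹ ∈ V d := by
    intro v hv
    rcases (mem_V d).1 hv with rfl | rfl | rfl | rfl
    · simp [(V d).one_mem]
    · exact h1
    · exact h2
    · rw [show x * (d.t * d.t2) * x⁻¹ = x * d.t * x⁻¹ * (x * d.t2 * x⁻¹) by group]
      exact mul_mem h1 h2
  refine Subgroup.mem_normalizer_iff.2 fun v => ⟨h v, fun hv => ?_⟩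
  let φ : ↥(V d) → ↥(V d) := fun y => ⟨x * y * x⁻¹, h y y.2⟩
  have hinj : Function.Injective φ := fun y y' e => Subtype.ext (by simpa [φ] using congrArg Subtype.val e)
  obtain ⟨y, hy⟩ := (hinj.bijective_of_nat_card_le le_rfl).surjective ⟨_, hv⟩
  have : (y : C) = v := by simpa [φ] using congrArg Subtype.val hy
  exact this ▸ y.2

theorem cent_t_le {x : C} (hx : x ∈ Subgroup.centralizer ({d.t} : Set C)) :
    x ∈ Subgroup.normalizer (V d : Set C) := by
  have h := Subgroup.mem_centralizer_singleton_iff.1 hx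
  refine mem_normalizer_V d (by rw [h, mul_inv_cancel_right]; exact (mem_V d).2 (Or.inr (Or.inl rfl))) ?_
  obtain ⟨_, ⟨a, b, c, rfl⟩, l, rfl⟩ := (mem_cent_t d).1 hx
  have hc : d.n ^ l * d.t2 = d.t2 * d.n ^ l := ((show Commute d.t2 d.n from d.n_cen d.t2).pow_right l).symm.eq
  have e : wD d a b c * d.n ^ l * d.t2 * (wD d a b c * d.n ^ l)⁻¹ = wD d a b c * d.t2 * (wD d a b c)⁻¹ := by
    rw [mul_assoc (wD d a b c), hc]; group
  rw [e, show (wD d a b c)⁻¹ = wD d (xor a (c && b)) b c from inv_eq_of_mul_eq_one_right (by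
    rw [wD_mul, ← wD_zero d]; congr 1 <;> cases a <;> cases b <;> cases c <;> rfl)]
  conv => arg 2; rw [t2_eq d, wD_mul, wD_mul]
  exact ⟨c, true, by cases a <;> cases b <;> cases c <;> rfl⟩

theorem r_mem : d.r ∈ Subgroup.normalizer (V d : Set C) :=
  mem_normalizer_V d (by rw [d.r_t]; exact (mem_V d).2 (Or.inr (Or.inr (Or.inl rfl))))
    (by rw [d.r_t2]; exact (mem_V d).2 (Or.inr (Or.inr (Or.inr rfl))))

theorem card_normalizer : Nat.card ↥(Subgroup.normalizer (V d : Set C)) = 3 * 56 := by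
  have h0 : d.r ^ (0 : ℕ) * d.t * (d.r ^ (0 : ℕ))⁻¹ = d.t := by simp
  have h1 : d.r ^ (1 : ℕ) * d.t * (d.r ^ (1 : ℕ))⁻¹ = d.t2 := by rw [pow_one, d.r_t]
  have h2 : d.r ^ (2 : ℕ) * d.t * (d.r ^ (2 : ℕ))⁻¹ = d.t * d.t2 := by
    rw [pow_two, ← d.r_t2, ← d.r_t]; group
  have t3 : d.t * d.t2 ≠ d.t := fun e => d.t2_ne (mul_eq_left.1 e)
  have t32 : d.t * d.t2 ≠ d.t2 := fun e => d.t_ne (mul_eq_right.1 e)
  rw [← show Nat.card (Fin 3 × ↥(Subgroup.centralizer ({d.t} : Set C))) = 3 * 56 by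
    rw [Nat.card_prod, card_cent_t, Nat.card_fin]]
  refine (Nat.card_eq_of_bijective (fun p : Fin 3 × ↥(Subgroup.centralizer ({d.t} : Set C)) =>
    (⟨d.r ^ (p.1 : ℕ) * p.2, mul_mem (pow_mem (r_mem d) _) (cent_t_le d p.2.2)⟩ :
      ↥(Subgroup.normalizer (V d : Set C)))) ⟨?_, ?_⟩).symm
  · rintro ⟨i, x⟩ ⟨j, y⟩ e
    have e' : d.r ^ (i : ℕ) * (x : C) = d.r ^ (j : ℕ) * y := congrArg Subtype.val e
    have him : d.r ^ (i : ℕ) * d.t * (d.r ^ (i : ℕ))⁻¹ = d.r ^ (j : ℕ) * d.t * (d.r ^ (j : ℕ))⁻¹ := by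
      have key : ∀ (k : ℕ) (w : ↥(Subgroup.centralizer ({d.t} : Set C))),
          (d.r ^ k * (w : C)) * d.t * (d.r ^ k * (w : C))⁻¹ = d.r ^ k * d.t * (d.r ^ k)⁻¹ := fun k w => by
        rw [mul_assoc (d.r ^ k), Subgroup.mem_centralizer_singleton_iff.1 w.2]; group
      rw [← key _ x, ← key _ y, e']
    have hij : i = j := by
      fin_cases i <;> fin_cases j <;> first | rfl | (simp only [h0, h1, h2] at him; first
        | exact absurd him.symm d.t2_ne_t | exact absurd him d.t2_ne_t | exact absurd him t3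
        | exact absurd him.symm t3 | exact absurd him t32 | exact absurd him.symm t32)
    subst hij
    exact Prod.ext rfl (Subtype.ext (mul_left_cancel e'))
  · rintro ⟨x, hx⟩
    have htV : d.t ∈ V d := (mem_V d).2 (Or.inr (Or.inl rfl))
    obtain ⟨i, hi⟩ : ∃ i : Fin 3, x * d.t * x⁻¹ = d.r ^ (i : ℕ) * d.t * (d.r ^ (i : ℕ))⁻¹ := by
      rcases (mem_V d).1 ((Subgroup.mem_normalizer_iff.1 hx _).1 htV) with e | e | e | e
      · exact absurd (conj_eq_one_iff.1 e) d.t_ne
      · exact ⟨0, by rw [e]; exact h0.symm⟩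
      · exact ⟨1, by rw [e]; exact h1.symm⟩
      · exact ⟨2, by rw [e]; exact h2.symm⟩
    refine ⟨(i, ⟨(d.r ^ (i : ℕ))⁻¹ * x, Subgroup.mem_centralizer_singleton_iff.2 ?_⟩), Subtype.ext (mul_inv_cancel_left _ _)⟩
    calc (d.r ^ (i : ℕ))⁻¹ * x * d.t = (d.r ^ (i : ℕ))⁻¹ * (x * d.t * x⁻¹) * x := by group
      _ = _ := by rw [hi]; group

theorem normalCore_le :
    (Subgroup.normalizer (V d : Set C)).normalCore = Subgroup.zpowers d.n := by
  set L := Subgroup.normalizer (V d : Set C)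
  set K := L.normalCore
  have hKn : K.Normal := Subgroup.normalCore_normal L
  have hKL : K ≤ L := Subgroup.normalCore_le L
  have hnL : Subgroup.zpowers d.n ≤ L := by
    rw [Subgroup.zpowers_le]
    exact cent_t_le d (Subgroup.mem_centralizer_singleton_iff.2 (d.n_cen d.t).symm)
  have hnorm : (Subgroup.zpowers d.n).Normal := by
    constructor
    intro x hx g
    have : g * x = x * g := by
      obtain ⟨i, rfl⟩ := Subgroup.mem_zpowers_iff.1 hx
      exact ((show Commute g d.n from d.n_cen g).zpow_right i).eq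
    rwa [this, mul_inv_cancel_right]
  -- no conjugate of the first involution
  have htK : d.t ∉ K := fun ht => by
    have hmem : d.q * d.t * d.q⁻¹ ∈ K := hKn.conj_mem _ ht _
    have hq3 : d.q⁻¹ = d.q * d.q := inv_eq_of_mul_eq_one_right (by rw [← mul_assoc]; exact d.q3)
    have htq : d.q * d.t * d.q⁻¹ = d.q * d.q * d.t := by
      rw [hq3, mul_assoc d.q d.t, ← mul_assoc d.t, d.t_q, mul_assoc (d.q * d.q), d.t_q,
        show d.q * (d.q * d.q * (d.q * d.q * d.t)) = d.q * d.q * d.q * (d.q * d.q * d.t) by group, d.q3, one_mul]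
    rw [htq] at hmem
    have hqqL : d.q * d.q ∈ L := by
      have := mul_mem (hKL hmem) (inv_mem (hKL ht))
      rwa [mul_inv_cancel_right] at this
    have hqL : d.q ∈ L := by
      rw [show d.q = (d.q * d.q)⁻¹ by rw [← hq3, inv_inv]]
      exact inv_mem hqqL
    have hv := (Subgroup.mem_normalizer_iff.1 hqL d.t).1 ((mem_V d).2 (Or.inr (Or.inl rfl)))
    rw [htq] at hv
    have heq : ∀ a b : Bool, d.q * d.q * d.t = wD d a b false → False := by
      intro a b e
      have hqu : Commute (d.q * d.q * d.t) d.u :=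
        ((show Commute d.q d.u from d.q_u).mul_left d.q_u).mul_left (show Commute d.t d.u from d.u_t.symm)
      rw [e] at hqu
      have hb : b = false := by
        have h := hqu.eq
        conv_lhs at h => rw [u_eq d, wD_mul]
        conv_rhs at h => rw [u_eq d, wD_mul]
        have := (wD_inj d h).1
        revert this
        cases a <;> cases b <;> simp
      subst hb
      have he : wE d false 2 true = d.q * d.q * d.t := by simp [wE, pow_two]
      rw [← he] at e
      cases a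
      · rw [wD_zero] at e
        exact absurd (wE_eq_one d e).2.2 (by simp)
      · rw [← t_eq d, t_eq' d] at e
        exact absurd (wE_inj d e).2.1 (by decide)
    obtain ⟨a, b, e⟩ := hv
    exact heq a b e
  have hinv : ∀ x ∈ K, orderOf x ≠ 2 := fun x hx h2 => by
    rcases all_classes d x h2 with h | h
    · obtain ⟨g, hg⟩ := isConj_iff.1 h.symm
      exact htK (hg ▸ hKn.conj_mem _ hx g)
    · obtain ⟨g, hg⟩ := isConj_iff.1 h.symm
      have hu : d.u ∈ K := hg ▸ hKn.conj_mem _ hx g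
      obtain ⟨g', hg'⟩ := isConj_iff.1 (conj_tu d)
      have htu : d.t * d.u ∈ K := hg' ▸ hKn.conj_mem _ hu g'
      have := mul_mem htu hu
      rw [mul_assoc, d.uu, mul_one] at this
      exact htK this
  refine le_antisymm (fun x hx => ?_) ((Subgroup.normal_le_normalCore).2 hnL)
  have hcomm : x * d.t = d.t * x := by
    have hv : x * d.t * x⁻¹ * d.t⁻¹ ∈ V d :=
      mul_mem ((Subgroup.mem_normalizer_iff.1 (hKL hx) _).1 ((mem_V d).2 (Or.inr (Or.inl rfl))))
        (inv_mem ((mem_V d).2 (Or.inr (Or.inl rfl))))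
    have hk : x * d.t * x⁻¹ * d.t⁻¹ ∈ K := by
      rw [show x * d.t * x⁻¹ * d.t⁻¹ = x * (d.t * x⁻¹ * d.t⁻¹) by group]
      exact mul_mem hx (hKn.conj_mem _ (inv_mem hx) _)
    have h1 : x * d.t * x⁻¹ * d.t⁻¹ = 1 := by
      by_contra hne
      refine hinv _ hk (orderOf_eq_prime ?_ hne)
      rw [pow_two]
      obtain ⟨a, b, e⟩ := hv
      rw [e, wD_mul, ← wD_zero d]
      simp
    rw [mul_inv_eq_one, mul_inv_eq_iff_eq_mul] at h1
    exact h1
  obtain ⟨y, hy, l, rfl⟩ := (mem_cent_t d).1 (Subgroup.mem_centralizer_singleton_iff.2 hcomm)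
  have hnK : d.n ^ l ∈ K := (Subgroup.normal_le_normalCore).2 hnL (pow_mem (Subgroup.mem_zpowers _) l)
  have hyK : y ∈ K := by
    have := mul_mem hx (inv_mem hnK)
    rwa [mul_inv_cancel_right] at this
  obtain ⟨a, b, c, rfl⟩ := hy
  have hsq : wD d a b c * wD d a b c = 1 := by
    by_contra hne
    refine hinv _ (mul_mem hyK hyK) (orderOf_eq_prime ?_ hne)
    rw [pow_two, wD_sq, wD_mul, ← wD_zero d]
    simp
  have h1 : wD d a b c = 1 := by
    by_contra hne
    exact hinv _ hyK (orderOf_eq_prime (by rw [pow_two]; exact hsq) hne)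
  rw [h1, one_mul]
  exact pow_mem (Subgroup.mem_zpowers _) l

/-- The centre splits off with complement the symmetric group of degree five. -/
theorem exists_complement :
    ∃ I : Subgroup C, Subgroup.zpowers d.n ⊓ I = ⊥ ∧ Subgroup.zpowers d.n ⊔ I = ⊤ ∧
      Nonempty (↥I ≃* Equiv.Perm (Fin 5)) := by
  classical
  haveI hnorm : (Subgroup.zpowers d.n).Normal := by
    rw [← normalCore_le d]; exact Subgroup.normalCore_normal _
  have hidx : Nat.card (C ⧸ Subgroup.normalizer (V d : Set C)) = 5 := by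
    have h := Subgroup.card_eq_card_quotient_mul_card_subgroup (Subgroup.normalizer (V d : Set C))
    rw [card_C d, card_normalizer d] at h
    omega
  obtain ⟨e5⟩ : Nonempty (C ⧸ Subgroup.normalizer (V d : Set C) ≃ Fin 5) :=
    ⟨(Finite.equivFinOfCardEq hidx)⟩
  let φ : C →* Equiv.Perm (Fin 5) :=
    e5.permCongrHom.toMonoidHom.comp (MulAction.toPermHom C (C ⧸ Subgroup.normalizer (V d : Set C)))
  have hker : φ.ker = Subgroup.zpowers d.n := by
    rw [← normalCore_le d, Subgroup.normalCore_eq_ker]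
    ext x
    rw [MonoidHom.mem_ker, MonoidHom.mem_ker, MonoidHom.comp_apply]
    exact MulEquiv.map_eq_one_iff _
  have hcardn : Nat.card ↥(Subgroup.zpowers d.n) = 7 := by rw [Nat.card_zpowers, orderOf_n]
  have hindex : (Subgroup.zpowers d.n).index = 120 := by
    have h := (Subgroup.zpowers d.n).card_mul_index
    rw [hcardn, card_C d] at h
    omega
  obtain ⟨I, hI⟩ := Subgroup.exists_right_complement'_of_coprime (N := Subgroup.zpowers d.n)
    (by rw [hcardn, hindex]; norm_num)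
  refine ⟨I, disjoint_iff.1 hI.disjoint, hI.sup_eq_top, ?_⟩
  have hcard : Nat.card ↥I = 120 := by
    have h := hI.card_mul
    rw [hcardn, card_C d] at h
    omega
  have hinj : Function.Injective (φ.comp I.subtype) := by
    rw [← MonoidHom.ker_eq_bot_iff, Subgroup.eq_bot_iff_forall]
    intro x hx
    have h1 : (x : C) ∈ Subgroup.zpowers d.n ⊓ I := Subgroup.mem_inf.2 ⟨hker ▸ hx, x.2⟩
    rw [disjoint_iff.1 hI.disjoint, Subgroup.mem_bot] at h1
    exact Subtype.ext h1
  exact ⟨MulEquiv.ofBijective _ (hinj.bijective_of_nat_card_le (by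
    rw [hcard, Nat.card_perm, Nat.card_fin]; decide))⟩

end Cfsg.Agent.Transfer.SevenS5
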