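import Mathlib
import Cfsg.Agent.Lib.Grp.Solvable
import Cfsg.Agent.Lib.Transfer.Kazarin
import Cfsg.Agent.Lib.Transfer.CyclicSylow
import Cfsg.Agent.Lib.Fus.CaminaPairBasic
import Cfsg.Agent.S0205

/-!
A finite group with commutative Sylow 2-subgroups and a subgroup of odd order and 2-power index is
solvable.

In a minimal counterexample the core of every involution centralizer lies in all conjugates of the odd
subgroup, so centralizers of involutions are 2-closed; then no element of odd prime order of a Sylow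
normalizer is inverted by an involution, and counting involutions on the cosets of that normalizer
forces a cyclic Sylow 2-subgroup.
-/

set_option autoImplicit false

universe u

namespace Cfsg.Agent.Transfer.AbTwoFactor

variable {G : Type u} [Group G]

/-- Any two elements of a common `2`-subgroup commute. -/
def AbTwo (G : Type u) [Group G] : Prop :=
  ∀ K : Subgroup G, IsPGroup 2 K → ∀ a ∈ K, ∀ b ∈ K, a * b = b * a

theorem abTwo_of_sylow [Finite G] (h : ∀ P : Sylow 2 G, IsMulCommutative (P : Subgroup G)) : AbTwo G := by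
  intro K hK a ha b hb
  obtain ⟨P, hP⟩ := hK.exists_le_sylow
  haveI := h P
  exact congrArg Subtype.val (mul_comm' (⟨a, hP ha⟩ : (P : Subgroup G)) ⟨b, hP hb⟩)

theorem AbTwo.of_subgroup (h : AbTwo G) (N : Subgroup G) : AbTwo ↥N := fun K hK a ha b hb =>
  Subtype.ext (h (K.map N.subtype) (hK.map _) a.1 ⟨a, ha, rfl⟩ b.1 ⟨b, hb, rfl⟩)

theorem AbTwo.of_surjective [Finite G] (h : AbTwo G) {G' : Type u} [Group G'] (f : G →* G')
    (hf : Function.Surjective f) : AbTwo G' := by
  haveI : Finite G' := Finite.of_surjective f hf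
  intro K hK a ha b hb
  obtain ⟨Q, hQ⟩ := hK.exists_le_sylow
  obtain ⟨P, rfl⟩ := Sylow.mapSurjective_surjective hf 2 Q
  obtain ⟨a', ha', rfl⟩ := hQ ha
  obtain ⟨b', hb', rfl⟩ := hQ hb
  rw [← map_mul, ← map_mul, h (P : Subgroup G) P.isPGroup' a' ha' b' hb']

theorem eq_one_of_odd [Finite G] (S : Sylow 2 G) {H : Subgroup G} (hH : Odd (Nat.card H)) {x : G}
    (hxS : x ∈ (S : Subgroup G)) (hxH : x ∈ H) : x = 1 := by
  obtain ⟨k, hk⟩ := IsPGroup.iff_orderOf.1 S.isPGroup' ⟨x, hxS⟩
  rw [Subgroup.orderOf_mk] at hk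
  have h1 : orderOf x ∣ Nat.card H := by
    have h2 := orderOf_dvd_natCard (⟨x, hxH⟩ : ↥H)
    rwa [Subgroup.orderOf_mk] at h2
  rw [← orderOf_eq_one_iff]
  rcases k with _ | k
  · simpa using hk
  · exfalso
    have h3 := hH.of_dvd_nat h1
    rw [hk, pow_succ] at h3
    exact (Nat.not_odd_iff_even.2 (Even.mul_left even_two _)) h3

theorem odd_subgroupOf {H : Subgroup G} (hH : Odd (Nat.card H)) (K : Subgroup G) :
    Odd (Nat.card (H.subgroupOf K)) := by
  refine hH.of_dvd_nat ?_
  rw [← Subgroup.card_map_of_injective (K := H.subgroupOf K) K.subtype_injective]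
  exact Subgroup.card_dvd_of_le (by rintro _ ⟨x, hx, rfl⟩; exact hx)

theorem coset_factor [Finite G] (S : Sylow 2 G) {H : Subgroup G} {k : ℕ} (hk : H.index = 2 ^ k)
    (g : G) : ∃ s ∈ (S : Subgroup G), ∃ h ∈ H, g = s * h := by
  obtain ⟨s, hs, h⟩ := Kazarin.exists_sylow_mem H hk S g
  exact ⟨s, hs, _, h, by group⟩

/-- The centralizer of an involution has an odd subgroup of 2-power index. -/
theorem centralizer_factor [Finite G] (hA : AbTwo G) {H : Subgroup G} (hH : Odd (Nat.card H)) {k : ℕ}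
    (hk : H.index = 2 ^ k) (S : Sylow 2 G) {t : G} (htS : t ∈ (S : Subgroup G)) :
    (∀ g ∈ Subgroup.centralizer ({t} : Set G), ∃ s ∈ (S : Subgroup G),
      s ∈ Subgroup.centralizer ({t} : Set G) ∧ ∃ h ∈ H, h ∈ Subgroup.centralizer ({t} : Set G) ∧ g = s * h) := by
  intro g hg
  obtain ⟨s, hs, h, hh, rfl⟩ := coset_factor S hk g
  have hsC : s ∈ Subgroup.centralizer ({t} : Set G) :=
    Subgroup.mem_centralizer_singleton_iff.2 (hA _ S.isPGroup' s hs t htS)
  exact ⟨s, hs, hsC, h, hh, (Subgroup.mul_mem_cancel_left _ hsC).1 hg, rfl⟩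

theorem centralizer_index [Finite G] (hA : AbTwo G) {H : Subgroup G} (hH : Odd (Nat.card H)) {k : ℕ}
    (hk : H.index = 2 ^ k) (S : Sylow 2 G) {t : G} (htS : t ∈ (S : Subgroup G)) :
    ∃ j, (H.subgroupOf (Subgroup.centralizer ({t} : Set G))).index = 2 ^ j := by
  set C := Subgroup.centralizer ({t} : Set G) with hC
  have hf := centralizer_factor hA hH hk S htS
  obtain ⟨j, hj⟩ := IsPGroup.iff_card.1 S.isPGroup'
  refine ⟨j, ?_⟩
  rw [Subgroup.index_eq_card, ← hj]
  have hSC : (S : Subgroup G) ≤ C := fun s hs =>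
    Subgroup.mem_centralizer_singleton_iff.2 (hA _ S.isPGroup' s hs t htS)
  refine (Nat.card_eq_of_bijective (fun s : (S : Subgroup G) =>
    ((⟨s.1, hSC s.2⟩ : ↥C) : ↥C ⧸ H.subgroupOf C)) ⟨?_, ?_⟩).symm
  · intro a b hab
    have h1 := QuotientGroup.eq.1 hab
    rw [Subgroup.mem_subgroupOf] at h1
    have h2 := eq_one_of_odd S hH (mul_mem (inv_mem a.2) b.2) h1
    exact Subtype.ext (inv_mul_eq_one.1 h2)
  · intro q
    obtain ⟨⟨g, hg⟩, rfl⟩ := QuotientGroup.mk_surjective q
    obtain ⟨s, hs, -, h, hh, -, rfl⟩ := hf g hg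
    refine ⟨⟨s, hs⟩, QuotientGroup.eq.2 ?_⟩
    rw [Subgroup.mem_subgroupOf]
    simpa [mul_assoc] using hh

/-- Involution centralizers normalize their Sylow 2-subgroups. -/
theorem centralizer_le_normalizer [Finite G] (hA : AbTwo G) {H : Subgroup G} (hH : Odd (Nat.card H)) {k : ℕ}
    (hk : H.index = 2 ^ k) (hcore : H.normalCore = ⊥)
    (hsol : ∀ t : G, orderOf t = 2 → Group.IsSolvable ↥(Subgroup.centralizer ({t} : Set G)))
    (S : Sylow 2 G) {t : G} (ht : orderOf t = 2) (htS : t ∈ (S : Subgroup G)) :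
    Subgroup.centralizer ({t} : Set G) ≤ Subgroup.normalizer ((S : Subgroup G) : Set G) := by
  set C := Subgroup.centralizer ({t} : Set G) with hC
  haveI := hsol t ht
  have hf := centralizer_factor hA hH hk S htS
  have hSC : (S : Subgroup G) ≤ C := fun s hs =>
    Subgroup.mem_centralizer_singleton_iff.2 (hA _ S.isPGroup' s hs t htS)
  have hodd : ∀ W : Subgroup ↥C, W.Normal → Odd (Nat.card W) → W = ⊥ := by
    intro W hWn hW
    haveI := hWn
    set K := H.subgroupOf C with hK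
    have hKo : Odd (Nat.card K) := odd_subgroupOf hH C
    have hWK : Odd (Nat.card ↥(K ⊔ W)) := by
      have e := Cfsg.Agent.Grp.card_sup_mul_card_inf_normal (H := K) (N := W)
      exact (hKo.mul hW).of_dvd_nat ⟨_, e.symm⟩
    have hle : ∀ w ∈ W, (w : G) ∈ H := by
      intro w hw
      obtain ⟨s, hs, hsC, h, hh, hhC, e⟩ := hf w.1 w.2
      have hsE : (⟨s, hsC⟩ : ↥C) ∈ K ⊔ W := by
        have : (⟨s, hsC⟩ : ↥C) = w * (⟨h, hhC⟩ : ↥C)⁻¹ := Subtype.ext (by simp [e])
        rw [this]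
        exact mul_mem (Subgroup.mem_sup_right hw) (inv_mem (Subgroup.mem_sup_left (Subgroup.mem_subgroupOf.2 hh)))
      have hs1 : s = 1 := eq_one_of_odd S (H := (K ⊔ W).map C.subtype)
        (by rwa [Subgroup.card_map_of_injective C.subtype_injective]) hs ⟨⟨s, hsC⟩, hsE, rfl⟩
      rw [e, hs1, one_mul]; exact hh
    have hcore' : W.map C.subtype ≤ H.normalCore := by
      rintro _ ⟨w, hw, rfl⟩ g
      obtain ⟨s, hs, h, hh, e⟩ := coset_factor S hk g⁻¹
      have h1 := hle _ (hWn.conj_mem w hw (⟨s, hSC hs⟩ : ↥C)⁻¹)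
      simp only [Subgroup.coe_mul, Subgroup.coe_inv, inv_inv] at h1
      have eg : g = h⁻¹ * s⁻¹ := by rw [← inv_inv g, e, mul_inv_rev]
      rw [eg]
      have h2 := H.mul_mem (H.mul_mem (H.inv_mem hh) h1) hh
      convert h2 using 1
      simp [mul_assoc]
    rw [hcore, le_bot_iff, Subgroup.map_eq_bot_iff_of_injective W C.subtype_injective] at hcore'
    exact hcore'
  have hp' : Cfsg.pPrimeCore 2 ↥C = ⊥ :=
    hodd _ Cfsg.Agent.Grp.pPrimeCore_isNormal
      (Nat.coprime_two_right.1 Cfsg.Agent.Grp.pPrimeCore_coprime)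
  have hself := Cfsg.Agent.Grp.centralizer_pCore_le (p := 2) hp'
  set T := (S : Subgroup G).subgroupOf C with hT
  have hTp : IsPGroup 2 T := S.isPGroup'.comap_of_injective C.subtype C.subtype_injective
  haveI := Cfsg.Agent.Grp.pCore_isNormal (p := 2) (G := ↥C)
  have hO2 : Cfsg.pCore 2 ↥C ≤ T := by
    have h1 : IsPGroup 2 ((T ⊔ Cfsg.pCore 2 ↥C).map C.subtype) :=
      (hTp.to_sup_of_normal_right Cfsg.Agent.Grp.pCore_isPGroup).map _
    have h2 : (S : Subgroup G) ≤ (T ⊔ Cfsg.pCore 2 ↥C).map C.subtype := fun s hs =>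
      ⟨⟨s, hSC hs⟩, Subgroup.mem_sup_left (Subgroup.mem_subgroupOf.2 hs), rfl⟩
    intro c hc
    rw [hT, Subgroup.mem_subgroupOf]
    have h3 := S.is_maximal' h1 h2
    rw [← h3]
    exact ⟨c, Subgroup.mem_sup_right hc, rfl⟩
  have hTO : T = Cfsg.pCore 2 ↥C := le_antisymm (fun s hs => hself (Subgroup.mem_centralizer_iff.2 fun c hc =>
    Subtype.ext (hA _ S.isPGroup' c.1 (hO2 hc) s.1 hs))) hO2
  have hTn : T.Normal := hTO ▸ Cfsg.Agent.Grp.pCore_isNormal
  intro g hg
  refine Subgroup.mem_normalizer_iff.2 fun s => ⟨fun hs => ?_, fun hs => ?_⟩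
  · exact hTn.conj_mem ⟨s, hSC hs⟩ hs ⟨g, hg⟩
  · have h1 := hTn.conj_mem ⟨g * s * g⁻¹, hSC hs⟩ hs (⟨g, hg⟩ : ↥C)⁻¹
    rw [hT, Subgroup.mem_subgroupOf] at h1
    simpa [mul_assoc] using h1

/-- An involution permuting a set of elements of even cardinality, one of which it fixes, fixes another. -/
theorem exists_second_fixed {α : Type*} [Finite α] (f : α → α) (hf : ∀ a, f (f a) = a)
    (heven : Even (Nat.card α)) {a₀ : α} (h0 : f a₀ = a₀) : ∃ a, f a = a ∧ a ≠ a₀ := by
  classical
  haveI := Fintype.ofFinite α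
  by_contra hne
  push Not at hne
  have h := Equiv.Perm.card_fixedPoints_modEq (p := 2) (n := 1) (f := f) (by
    funext a
    exact hf a)
  have hu : Fintype.card (Function.fixedPoints f) = 1 := by
    rw [Fintype.card_eq_one_iff]
    exact ⟨⟨a₀, h0⟩, fun b => Subtype.ext (hne b.1 b.2)⟩
  rw [hu, ← Nat.card_eq_fintype_card] at h
  obtain ⟨m, hm⟩ := heven
  rw [hm, Nat.ModEq] at h
  omega

theorem orderOf_two_of_sq {w : G} (h1 : w ≠ 1) (h2 : w * w = 1) : orderOf w = 2 :=
  haveI : Fact (Nat.Prime 2) := ⟨Nat.prime_two⟩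
  orderOf_eq_prime (by rw [pow_two, h2]) h1

theorem mem_sylow_of_orderOf_two [Finite G] {t : G} (ht : orderOf t = 2) :
    ∃ S : Sylow 2 G, t ∈ (S : Subgroup G) := by
  obtain ⟨S, hS⟩ := (IsPGroup.of_card (n := 1) (G := Subgroup.zpowers t)
    (by rw [Nat.card_zpowers, ht, pow_one])).exists_le_sylow
  exact ⟨S, hS (Subgroup.mem_zpowers t)⟩

theorem mem_of_orderOf_two_normalizer [Finite G] (S : Sylow 2 G) {t : G} (ht : orderOf t = 2)
    (h : t ∈ Subgroup.normalizer ((S : Subgroup G) : Set G)) : t ∈ (S : Subgroup G) :=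
  haveI : Fact (Nat.Prime 2) := ⟨Nat.prime_two⟩
  CyclicSyl.mem_sylow_of_mem_normalizer S h (j := 1) (by rw [pow_one, ← ht, pow_orderOf_eq_one])

/-- No element of odd prime order normalizing a Sylow 2-subgroup is inverted by an involution. -/
theorem not_inverted [Finite G] (hA : AbTwo G) {H : Subgroup G} (hH : Odd (Nat.card H)) {k : ℕ}
    (hk : H.index = 2 ^ k)
    (hloc : ∀ (S : Sylow 2 G) (t : G), orderOf t = 2 → t ∈ (S : Subgroup G) →
      Subgroup.centralizer ({t} : Set G) ≤ Subgroup.normalizer ((S : Subgroup G) : Set G))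
    (S : Sylow 2 G) {x u : G} {p : ℕ} (hp : p.Prime) (hp2 : p ≠ 2) (hx : orderOf x = p)
    (hxN : x ∈ Subgroup.normalizer ((S : Subgroup G) : Set G)) (hu : orderOf u = 2)
    (hux : u * x * u⁻¹ = x⁻¹) : False := by
  haveI : Fact p.Prime := ⟨hp⟩
  -- `x` fixes a coset of `H`
  obtain ⟨g, hg⟩ : ∃ g : G, g⁻¹ * x * g ∈ H := by
    have hX : IsPGroup p (Subgroup.zpowers x) := IsPGroup.of_card (n := 1) (by rw [Nat.card_zpowers, hx, pow_one])
    have hnd : ¬ p ∣ Nat.card (G ⧸ H) := by
      rw [← Subgroup.index_eq_card, hk]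
      intro hd
      exact hp2 ((Nat.prime_dvd_prime_iff_eq hp Nat.prime_two).1 (hp.dvd_of_dvd_pow hd))
    obtain ⟨q, hq⟩ := hX.nonempty_fixed_point_of_prime_not_dvd_card (G ⧸ H) hnd
    induction q using QuotientGroup.induction_on with
    | H g =>
      refine ⟨g, ?_⟩
      have h1 : ((x * g : G) : G ⧸ H) = (g : G ⧸ H) := hq ⟨x, Subgroup.mem_zpowers x⟩
      rw [eq_comm, QuotientGroup.eq] at h1
      simpa [mul_assoc] using h1
  -- a nontrivial element of `S` commuting with `x`
  obtain ⟨s, hs, h, hh, e⟩ := coset_factor S hk (u * g)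
  obtain ⟨s₀, hs₀, h₀, hh₀, e₀⟩ := coset_factor S hk g
  have hgh : s₀⁻¹ * x * s₀ ∈ H := by
    have h2 := H.mul_mem (H.mul_mem hh₀ hg) (H.inv_mem hh₀)
    rw [e₀] at h2
    convert h2 using 1
    group
  have hsh : s⁻¹ * x * s ∈ H := by
    have h2 := H.mul_mem (H.mul_mem hh (H.inv_mem hg)) (H.inv_mem hh)
    have hu2 : u * u = 1 := by rw [← pow_two, ← hu, pow_orderOf_eq_one]
    have hu3 : u⁻¹ = u := inv_eq_of_mul_eq_one_right hu2
    have hux' : u⁻¹ * x * u = x⁻¹ := by rw [hu3] at hux ⊢; exact hux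
    have e2 : s = u * g * h⁻¹ := by rw [e, mul_inv_cancel_right]
    rw [show (g⁻¹ * x * g)⁻¹ = g⁻¹ * x⁻¹ * g by group, ← hux'] at h2
    rw [e2]
    convert h2 using 1
    group
  have hcomm : ∀ r ∈ (S : Subgroup G), r⁻¹ * x * r ∈ H → ∀ r' ∈ (S : Subgroup G), r'⁻¹ * x * r' ∈ H →
      Commute (r⁻¹ * r') x := by
    intro r hr hrH r' hr' hr'H
    set y := r⁻¹ * x * r with hy
    set d := r⁻¹ * r' with hd
    have hdS : d ∈ (S : Subgroup G) := mul_mem (inv_mem hr) hr'
    have hyN : y⁻¹ ∈ Subgroup.normalizer ((S : Subgroup G) : Set G) :=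
      inv_mem (mul_mem (mul_mem (inv_mem (Subgroup.le_normalizer hr)) hxN) (Subgroup.le_normalizer hr))
    have h1 : y⁻¹ * d⁻¹ * y * d ∈ (S : Subgroup G) := by
      refine mul_mem ?_ hdS
      simpa using (Subgroup.mem_normalizer_iff.1 hyN d⁻¹).1 (inv_mem hdS)
    have h2 : y⁻¹ * d⁻¹ * y * d ∈ H := by
      rw [show y⁻¹ * d⁻¹ * y * d = y⁻¹ * (r'⁻¹ * x * r') by rw [hy, hd]; group]
      exact H.mul_mem (H.inv_mem hrH) hr'H
    have h3 : d * y = y * d := by
      calc d * y = d * y * (y⁻¹ * d⁻¹ * y * d) := by rw [eq_one_of_odd S hH h1 h2, mul_one]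
        _ = y * d := by group
    have h4 : r * d = d * r := hA _ S.isPGroup' r hr d hdS
    show d * x = x * d
    have h5 : d * r⁻¹ = r⁻¹ * d := (hA _ S.isPGroup' d hdS r⁻¹ (inv_mem hr))
    calc d * x = (d * r) * y * r⁻¹ := by rw [hy]; group
      _ = r * (d * y) * r⁻¹ := by rw [← h4]; group
      _ = r * y * (d * r⁻¹) := by rw [h3]; group
      _ = x * d := by rw [h5, hy]; group
  have hne : s₀ ≠ s := by
    rintro rfl
    have h1 : g⁻¹ * u * g ∈ H := by
      have : g⁻¹ * u * g = h₀⁻¹ * h := by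
        rw [mul_assoc, e, e₀]; group
      rw [this]; exact H.mul_mem (H.inv_mem hh₀) hh
    have h2 : orderOf (g⁻¹ * u * g) = 2 := by
      rw [show g⁻¹ * u * g = MulAut.conj g⁻¹ u by simp, MulEquiv.orderOf_eq, hu]
    have h3 := orderOf_dvd_natCard (⟨_, h1⟩ : ↥H)
    rw [Subgroup.orderOf_mk, h2] at h3
    exact (Nat.not_odd_iff_even.2 (even_iff_two_dvd.2 h3)) hH
  -- an involution commuting with `x`
  obtain ⟨v, hv, hvx⟩ : ∃ v : G, orderOf v = 2 ∧ v * x = x * v := by
    have hc : s₀⁻¹ * s ≠ 1 := fun h1 => hne (inv_mul_eq_one.1 h1)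
    have hcS : s₀⁻¹ * s ∈ (S : Subgroup G) := mul_mem (inv_mem hs₀) hs
    obtain ⟨j, hj⟩ := IsPGroup.iff_orderOf.1 S.isPGroup' ⟨_, hcS⟩
    rw [Subgroup.orderOf_mk] at hj
    rcases j with _ | j
    · exact absurd (orderOf_eq_one_iff.1 (by simpa using hj)) hc
    refine ⟨(s₀⁻¹ * s) ^ 2 ^ j, ?_, ((hcomm s₀ hs₀ hgh s hs hsh).pow_left _).eq⟩
    rw [orderOf_pow_of_dvd (pow_ne_zero _ two_ne_zero) (hj ▸ pow_dvd_pow 2 (Nat.le_succ j)), hj, pow_succ,
      Nat.mul_div_cancel_left _ (by positivity)]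
  -- the involutions commuting with `x` number an odd number, so one commutes with `u`
  have huu : u * u = 1 := by rw [← pow_two, ← hu, pow_orderOf_eq_one]
  have hui : u⁻¹ = u := inv_eq_of_mul_eq_one_right huu
  set W := Subgroup.centralizer ({x} : Set G) with hW
  have hvW : v ∈ W := Subgroup.mem_centralizer_singleton_iff.2 hvx
  have hWe : Even (Nat.card W) := even_iff_two_dvd.2 (by
    have h3 := orderOf_dvd_natCard (⟨v, hvW⟩ : ↥W)
    rwa [Subgroup.orderOf_mk, hv] at h3)
  have hZ : Even (Nat.card {w : ↥W // w⁻¹ = w}) := by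
    classical
    haveI := Fintype.ofFinite ↥W
    have h1 := Equiv.Perm.card_fixedPoints_modEq (p := 2) (n := 1) (f := (fun w : ↥W => w⁻¹)) (by
      funext w
      exact inv_inv w)
    rw [← Nat.card_eq_fintype_card, ← Nat.card_eq_fintype_card] at h1
    rw [Nat.even_iff] at hWe ⊢
    rw [← hWe]
    exact h1.symm
  have huW : ∀ w ∈ W, u * w * u⁻¹ ∈ W := by
    intro w hw
    rw [hW, Subgroup.mem_centralizer_singleton_iff] at hw ⊢
    have e1 : x = u * x⁻¹ * u⁻¹ := by
      calc x = (u * x * u⁻¹)⁻¹ := by rw [hux, inv_inv]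
        _ = _ := by group
    have e2 : w * x⁻¹ = x⁻¹ * w := (Commute.inv_right hw).eq
    calc u * w * u⁻¹ * x = u * w * u⁻¹ * (u * x⁻¹ * u⁻¹) := by rw [← e1]
      _ = u * (w * x⁻¹) * u⁻¹ := by group
      _ = u * (x⁻¹ * w) * u⁻¹ := by rw [e2]
      _ = (u * x⁻¹ * u⁻¹) * (u * w * u⁻¹) := by group
      _ = x * (u * w * u⁻¹) := by rw [← e1]
  obtain ⟨⟨⟨w, hwW⟩, hw2⟩, hfix, hw1⟩ := exists_second_fixed
    (fun w : {w : ↥W // w⁻¹ = w} => (⟨⟨u * w.1.1 * u⁻¹, huW _ w.1.2⟩, Subtype.ext (by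
      have := congrArg Subtype.val w.2
      simp only [Subgroup.coe_inv] at this ⊢
      rw [mul_inv_rev, mul_inv_rev, inv_inv, this, mul_assoc])⟩ : {w : ↥W // w⁻¹ = w}))
    (fun w => Subtype.ext (Subtype.ext (by
      show u * (u * w.1.1 * u⁻¹) * u⁻¹ = w.1.1
      rw [hui]
      calc u * (u * w.1.1 * u) * u = (u * u) * w.1.1 * (u * u) := by group
        _ = _ := by rw [huu, one_mul, mul_one])))
    hZ (a₀ := ⟨1, inv_one⟩) (Subtype.ext (Subtype.ext (by simp)))
  have hwu : u * w * u⁻¹ = w := congrArg (fun a => a.1.1) hfix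
  have hw' : orderOf w = 2 := by
    refine orderOf_two_of_sq (fun e => hw1 (Subtype.ext (Subtype.ext e))) ?_
    have := congrArg Subtype.val hw2
    simp only [Subgroup.coe_inv] at this
    nth_rewrite 1 [← this]
    exact inv_mul_cancel w
  obtain ⟨S', hwS'⟩ := mem_sylow_of_orderOf_two hw'
  have huN := hloc S' w hw' hwS' (Subgroup.mem_centralizer_singleton_iff.2 (mul_inv_eq_iff_eq_mul.1 hwu))
  have hxN' := hloc S' w hw' hwS' (Subgroup.mem_centralizer_singleton_iff.2
    (Subgroup.mem_centralizer_singleton_iff.1 hwW).symm)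
  have huS' := mem_of_orderOf_two_normalizer S' hu huN
  have h1 : u * (x * u⁻¹ * x⁻¹) ∈ (S' : Subgroup G) :=
    mul_mem huS' ((Subgroup.mem_normalizer_iff.1 hxN' _).1 (inv_mem huS'))
  rw [show u * (x * u⁻¹ * x⁻¹) = (u * x * u⁻¹) * x⁻¹ by group, hux, ← mul_inv_rev, inv_mem_iff] at h1
  obtain ⟨j, hj⟩ := IsPGroup.iff_orderOf.1 S'.isPGroup' ⟨_, h1⟩
  rw [Subgroup.orderOf_mk, ← pow_two, Nat.Coprime.orderOf_pow, hx] at hj
  · rcases j with _ | j
    · exact hp.one_lt.ne' (by simpa using hj)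
    · exact hp2 ((Nat.prime_dvd_prime_iff_eq Nat.prime_two hp).1 (hj ▸ dvd_pow_self 2 j.succ_ne_zero)).symm
  · rw [hx]; exact (Nat.coprime_primes hp Nat.prime_two).2 hp2

/-- The minimal counterexample does not exist. -/
theorem false_of_simple [Finite G] (hA : AbTwo G) [IsSimpleGroup G] (hns : ¬ Group.IsSolvable G) {H : Subgroup G}
    (hH : Odd (Nat.card H)) {k : ℕ} (hk : H.index = 2 ^ k)
    (hsol : ∀ t : G, orderOf t = 2 → Group.IsSolvable ↥(Subgroup.centralizer ({t} : Set G))) : False := by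
  haveI : Fact (Nat.Prime 2) := ⟨Nat.prime_two⟩
  have hev : 2 ∣ Nat.card G := by
    by_contra h
    exact hns (Cfsg.Agent.S0205.result (Nat.odd_iff.2 (by omega)))
  have hcore : H.normalCore = ⊥ := by
    refine (Subgroup.Normal.eq_bot_or_eq_top inferInstance).resolve_right fun h => ?_
    have hHt : H = ⊤ := top_le_iff.1 (h ▸ Subgroup.normalCore_le H)
    rw [hHt, Subgroup.card_top] at hH
    exact (Nat.not_odd_iff_even.2 (even_iff_two_dvd.2 hev)) hH
  have hloc := fun S t ht htS => centralizer_le_normalizer hA hH hk hcore hsol S (t := t) ht htS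
  obtain ⟨S⟩ := (inferInstance : Nonempty (Sylow 2 G))
  set N := Subgroup.normalizer ((S : Subgroup G) : Set G) with hN
  have hSne : (S : Subgroup G) ≠ ⊥ := S.ne_bot_of_dvd_card hev
  have hNne : N ≠ ⊤ := by
    intro h
    haveI := Subgroup.normalizer_eq_top_iff.1 h
    rcases Subgroup.Normal.eq_bot_or_eq_top (H := (S : Subgroup G)) inferInstance with e | e
    · exact hSne e
    · exact hns (Group.isSolvable_of_comm fun a b =>
        hA _ S.isPGroup' a (e ▸ Subgroup.mem_top a) b (e ▸ Subgroup.mem_top b))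
  -- distinct Sylow subgroups share no involution
  have hTI : ∀ (A B : Sylow 2 G) (t : G), orderOf t = 2 → t ∈ (A : Subgroup G) → t ∈ (B : Subgroup G) → A = B := by
    intro A B t ht htA htB
    refine Sylow.ext (A.3 B.isPGroup' ?_).symm
    intro a ha
    have h1 : a ∈ Subgroup.normalizer ((B : Subgroup G) : Set G) :=
      hloc B t ht htB (Subgroup.mem_centralizer_singleton_iff.2 (hA _ A.isPGroup' a ha t htA))
    obtain ⟨j, hj⟩ := IsPGroup.iff_orderOf.1 A.isPGroup' ⟨a, ha⟩
    rw [Subgroup.orderOf_mk] at hj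
    exact CyclicSyl.mem_sylow_of_mem_normalizer B h1 (j := j) (by rw [← hj, pow_orderOf_eq_one])
  -- involutions outside `N` lie in different cosets of `N`
  have hinj : ∀ u v : G, orderOf u = 2 → orderOf v = 2 → u ∉ N → u⁻¹ * v ∈ N → u = v := by
    intro u v hu hv huN huv
    by_contra hne
    set c := u⁻¹ * v with hc
    have hu2 : u⁻¹ = u := inv_eq_of_mul_eq_one_right (by rw [← pow_two, ← hu, pow_orderOf_eq_one])
    have hv2 : v⁻¹ = v := inv_eq_of_mul_eq_one_right (by rw [← pow_two, ← hv, pow_orderOf_eq_one])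
    have hcinv : u * c * u⁻¹ = c⁻¹ := by
      rw [hc, mul_inv_cancel_left, mul_inv_rev, inv_inv, hv2, hu2]
    have hc1 : orderOf c ≠ 1 := fun h => hne (inv_mul_eq_one.1 (orderOf_eq_one_iff.1 h))
    obtain ⟨p, hp, hpd⟩ := Nat.exists_prime_and_dvd hc1
    haveI : Fact p.Prime := ⟨hp⟩
    set y := c ^ (orderOf c / p) with hy
    have hyp : orderOf y = p := orderOf_pow_orderOf_div (orderOf_pos c).ne' hpd
    have hyinv : u * y * u⁻¹ = y⁻¹ := by rw [hy, ← conj_pow, hcinv, inv_pow]
    have hyN : y ∈ N := pow_mem huv _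
    rcases eq_or_ne p 2 with rfl | hp2
    · have hyS := mem_of_orderOf_two_normalizer S hyp hyN
      refine huN (hloc S y hyp hyS (Subgroup.mem_centralizer_singleton_iff.2 ?_))
      have hy2 : y⁻¹ = y := inv_eq_of_mul_eq_one_right (by rw [← pow_two, ← hyp, pow_orderOf_eq_one])
      rw [hy2] at hyinv
      exact mul_inv_eq_iff_eq_mul.1 hyinv
    · exact not_inverted hA hH hk hloc S hp hp2 hyp hyN hu hyinv
  -- the Sylow subgroup contains a unique involution
  have huniq : ∀ a b : G, orderOf a = 2 → orderOf b = 2 → a ∈ (S : Subgroup G) → b ∈ (S : Subgroup G) → a = b := by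
    intro a b ha hb haS hbS
    by_contra hab
    have hwit : ∀ P : Sylow 2 G, ∃ e : Bool → G, Function.Injective e ∧
        ∀ i, orderOf (e i) = 2 ∧ e i ∈ (P : Subgroup G) := by
      intro P
      obtain ⟨g, rfl⟩ := MulAction.exists_smul_eq G S P
      refine ⟨fun i => MulAut.conj g (cond i a b), ?_, fun i => ⟨?_, ?_⟩⟩
      · intro i j hij
        have := (MulAut.conj g).injective hij
        revert this
        cases i <;> cases j <;> simp [hab, Ne.symm hab]
      · rw [MulEquiv.orderOf_eq]; cases i <;> assumption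
      · rw [Sylow.coe_subgroup_smul]
        exact ⟨cond i a b, by cases i <;> assumption, rfl⟩
    choose e hei heP using hwit
    have hout : ∀ P : Sylow 2 G, P ≠ S → ∀ i, e P i ∉ N := fun P hP i hi =>
      hP (hTI P S _ (heP P i).1 (heP P i).2 (mem_of_orderOf_two_normalizer S (heP P i).1 hi))
    classical
    haveI := Fintype.ofFinite (Sylow 2 G)
    haveI := Fintype.ofFinite (G ⧸ N)
    let f : {P : Sylow 2 G // P ≠ S} × Bool → {q : G ⧸ N // q ≠ ((1 : G) : G ⧸ N)} := fun x =>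
      ⟨((e x.1.1 x.2 : G) : G ⧸ N), fun h => hout x.1.1 x.1.2 x.2 (by
        have h1 := QuotientGroup.eq.1 h
        simpa using h1)⟩
    have hfinj : Function.Injective f := by
      rintro ⟨P, i⟩ ⟨Q, j⟩ h
      have h1 := hinj _ _ (heP P.1 i).1 (heP Q.1 j).1 (hout P.1 P.2 i) (QuotientGroup.eq.1 (congrArg Subtype.val h))
      have hPQ : P = Q := Subtype.ext (hTI _ _ _ (heP P.1 i).1 (heP P.1 i).2 (h1 ▸ (heP Q.1 j).2))
      subst hPQ
      rw [hei P.1 h1]
    have hle := Fintype.card_le_of_injective f hfinj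
    rw [Fintype.card_prod, Fintype.card_bool, Fintype.card_subtype_compl, Fintype.card_subtype_compl,
      Fintype.card_subtype_eq, Fintype.card_subtype_eq, ← Nat.card_eq_fintype_card, ← Nat.card_eq_fintype_card,
      ← Subgroup.index_eq_card, hN] at hle
    have h2 : Nat.card (Sylow 2 G) ≠ 1 := by
      rw [Sylow.card_eq_index_normalizer S, Ne, Subgroup.index_eq_one]
      exact hNne
    have h3 : 0 < Nat.card (Sylow 2 G) := Nat.card_pos
    have h4 : Nat.card (Sylow 2 G) = (Subgroup.normalizer ((S : Subgroup G) : Set G)).index :=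
      Sylow.card_eq_index_normalizer S
    omega
  -- hence it is cyclic, and has a normal complement
  haveI hSc : IsCyclic (S : Subgroup G) := by
    letI : CommGroup (S : Subgroup G) :=
      { (inferInstance : Group (S : Subgroup G)) with
        mul_comm := fun a b => Subtype.ext (hA _ S.isPGroup' a.1 a.2 b.1 b.2) }
    refine Cfsg.Agent.Fus.isCyclic_of_unique_order_prime (q := 2) S.isPGroup' fun a b ha hb ha1 => ?_
    rcases eq_or_ne b 1 with rfl | hb1
    · exact one_mem _
    have hab : a = b := Subtype.ext (huniq a.1 b.1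
      (by rw [Subgroup.orderOf_coe]; exact orderOf_eq_prime ha ha1)
      (by rw [Subgroup.orderOf_coe]; exact orderOf_eq_prime hb hb1) a.2 b.2)
    exact hab ▸ Subgroup.mem_zpowers a
  have hmin : (Nat.card G).minFac = 2 := (Nat.minFac_eq_two_iff _).2 hev
  have hc := IsCyclic.isComplement' hmin (P := S) hSc
  rcases Subgroup.Normal.eq_bot_or_eq_top
      (H := (MonoidHom.transferSylow S (hSc.normalizer_le_centralizer hmin)).ker) inferInstance with e | e
  · rw [e] at hc
    have := Subgroup.isComplement'_bot_left.1 hc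
    exact hNne (top_le_iff.1 (this ▸ Subgroup.le_normalizer))
  · rw [e] at hc
    exact hSne (Subgroup.isComplement'_top_left.1 hc)

theorem solvable_aux : ∀ (n : ℕ) {G : Type u} [Group G] [Finite G], Nat.card G = n → AbTwo G →
    ∀ (H : Subgroup G) (k : ℕ), Odd (Nat.card H) → H.index = 2 ^ k → Group.IsSolvable G := by
  intro n
  induction n using Nat.strong_induction_on with
  | _ n ih =>
  intro G _ _ hn hA H k hH hk
  by_contra hns
  haveI : Nontrivial G := by
    by_contra h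
    rw [not_nontrivial_iff_subsingleton] at h
    exact hns inferInstance
  haveI : IsSimpleGroup G := by
    refine ⟨fun N hN => ?_⟩
    by_contra hne
    push Not at hne
    haveI := hN
    have h1 : Group.IsSolvable ↥N := by
      have hlt : Nat.card N < n := hn ▸ lt_of_le_of_ne (Subgroup.card_le_card_group N)
        (fun e => hne.2 (Subgroup.eq_top_of_card_eq N e))
      obtain ⟨j, -, hj⟩ := (Nat.dvd_prime_pow Nat.prime_two).1 (hk ▸ Kazarin.relIndex_dvd_index H N)
      exact ih _ hlt rfl (hA.of_subgroup N) (H.subgroupOf N) j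
        (odd_subgroupOf hH N) hj
    have h2 : Group.IsSolvable (G ⧸ N) := by
      have hlt : Nat.card (G ⧸ N) < n := by
        rw [← Subgroup.index_eq_card, ← hn, ← N.card_mul_index]
        exact lt_mul_left (Nat.pos_of_ne_zero Subgroup.index_ne_zero_of_finite)
          ((Subgroup.one_lt_card_iff_ne_bot N).2 hne.1)
      have hs := QuotientGroup.mk'_surjective N
      obtain ⟨j, -, hj⟩ := (Nat.dvd_prime_pow Nat.prime_two).1 (hk ▸ H.index_map_dvd hs)
      exact ih _ hlt rfl (hA.of_surjective _ hs) (H.map (QuotientGroup.mk' N)) j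
        (hH.of_dvd_nat (H.card_map_dvd _)) hj
    haveI := h1
    haveI := h2
    exact hns (Group.isSolvable_of_ker_le_range N.subtype (QuotientGroup.mk' N)
      (by rw [QuotientGroup.ker_mk', Subgroup.range_subtype]))
  have hZ : Subgroup.center G = ⊥ := (Subgroup.Normal.eq_bot_or_eq_top inferInstance).resolve_right fun h =>
    hns (Group.isSolvable_of_comm fun a b => Subgroup.mem_center_iff.1 (h ▸ Subgroup.mem_top b) a)
  refine false_of_simple hA hns hH hk fun t ht => ?_
  haveI : Fact (Nat.Prime 2) := ⟨Nat.prime_two⟩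
  set C := Subgroup.centralizer ({t} : Set G) with hC
  have hlt : Nat.card C < n := hn ▸ lt_of_le_of_ne (Subgroup.card_le_card_group C) (fun e => by
    have hC' := Subgroup.eq_top_of_card_eq C e
    have : t ∈ Subgroup.center G := Subgroup.mem_center_iff.2 fun g =>
      Subgroup.mem_centralizer_singleton_iff.1 (hC' ▸ Subgroup.mem_top g : g ∈ C)
    rw [hZ, Subgroup.mem_bot] at this
    rw [this, orderOf_one] at ht
    exact absurd ht (by norm_num))
  obtain ⟨S, htS⟩ := mem_sylow_of_orderOf_two ht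
  obtain ⟨j, hj⟩ := centralizer_index hA hH hk S htS
  exact ih _ hlt rfl (hA.of_subgroup C) (H.subgroupOf C) j
    (odd_subgroupOf hH C) hj

/-- A group with commutative Sylow 2-subgroups and a subgroup of odd order and 2-power index is solvable. -/
theorem solvable_of_odd_twoPower_index [Finite G] (hA : AbTwo G) (H : Subgroup G) (hH : Odd (Nat.card H))
    {k : ℕ} (hk : H.index = 2 ^ k) : Group.IsSolvable G :=
  solvable_aux _ rfl hA H k hH hk

end Cfsg.Agent.Transfer.AbTwoFactor
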