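import Mathlib
import Cfsg.Prelude.Def_Transfer
import Cfsg.Agent.Lib.Grp.Frattini
import Cfsg.Agent.Lib.Fus.SupersolubleMetacyclic
import Cfsg.Agent.Lib.Transfer.MaxAbelianExponent

/-! Elementary abelian groups of order eight acting on `p`-groups, `p` odd, with few broad elements. -/

set_option autoImplicit false

open scoped commutatorElement

namespace Cfsg.Agent.Transfer.BroadTriple

universe u

variable {P : Type u} [Group P] [Finite P] {p : ℕ} [Fact p.Prime]

/-- `T` has noncyclic fixed points. -/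
def Broad (T : MulAut P) : Prop := ¬ ∃ g : P, ∀ x : P, (T x = x ↔ x ∈ Subgroup.zpowers g)

theorem eq_one_of_sq (hP : IsPGroup p P) (hp2 : p ≠ 2) {x : P} (h : x * x = 1) : x = 1 := by
  obtain ⟨k, hk⟩ := hP x
  have h2 : orderOf x ∣ 2 := orderOf_dvd_of_pow_eq_one (by rw [pow_two]; exact h)
  rw [← orderOf_eq_one_iff]
  refine Nat.eq_one_of_dvd_coprimes ?_ h2 (orderOf_dvd_of_pow_eq_one hk)
  exact Nat.Coprime.pow_right k ((Nat.coprime_primes Nat.prime_two Fact.out).2 (Ne.symm hp2))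

theorem eq_one_of_inv (hP : IsPGroup p P) (hp2 : p ≠ 2) {x : P} (h : x⁻¹ = x) : x = 1 := by
  refine eq_one_of_sq hP hp2 ?_
  conv_lhs => arg 1; rw [← h]
  exact inv_mul_cancel x

/-- Fixed points lift through a subgroup when the order is odd. -/
theorem exists_fixed_lift (hP : IsPGroup p P) (hp2 : p ≠ 2) {S : MulAut P} (hS : S * S = 1) {N : Subgroup P}
    {x : P} (hx : x⁻¹ * S x ∈ N) : ∃ y, S y = y ∧ x⁻¹ * y ∈ N := by
  set d := x⁻¹ * S x with hd
  have hSS : ∀ z, S (S z) = z := fun z => by rw [← MulAut.mul_apply, hS]; rfl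
  have hSd : S d = d⁻¹ := by rw [hd, map_mul, map_inv, hSS, mul_inv_rev, inv_inv]
  have hodd : Odd (orderOf d) := by
    obtain ⟨k, hk⟩ := hP d
    exact ((Fact.out : p.Prime).odd_of_ne_two hp2).pow.of_dvd_nat (orderOf_dvd_of_pow_eq_one hk)
  obtain ⟨m, hm⟩ := hodd
  refine ⟨x * d ^ (m + 1), ?_, ?_⟩
  · rw [map_mul, map_pow, hSd, show S x = x * d by rw [hd, mul_inv_cancel_left], inv_pow, mul_assoc]
    congr 1
    rw [mul_inv_eq_iff_eq_mul, ← pow_add, show m + 1 + (m + 1) = orderOf d + 1 by omega, pow_succ,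
      pow_orderOf_eq_one, one_mul]
  · rw [inv_mul_cancel_left]; exact pow_mem hx _

/-- An automorphism of a cyclic fixed point group of an involution is plus or minus one. -/
theorem sign_of_cyclic (hP : IsPGroup p P) (hp2 : p ≠ 2) {S T : MulAut P} (hT : T * T = 1) (hST : S * T = T * S)
    {g : P} (hg : ∀ x, S x = x ↔ x ∈ Subgroup.zpowers g) :
    (∀ x, S x = x → T x = x) ∨ (∀ x, S x = x → T x = x⁻¹) := by
  have hTg : T g ∈ Subgroup.zpowers g := by
    refine (hg _).1 ?_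
    rw [← MulAut.mul_apply, hST, MulAut.mul_apply, (hg g).2 (Subgroup.mem_zpowers g)]
  obtain ⟨r, hr⟩ := Subgroup.mem_zpowers_iff.1 hTg
  have h1 : g ^ (r * r) = g ^ (1 : ℤ) := by
    rw [zpow_one, zpow_mul, hr, ← map_zpow, hr, ← MulAut.mul_apply, hT]; rfl
  rw [zpow_eq_zpow_iff_modEq, Int.modEq_iff_dvd] at h1
  obtain ⟨k, hk⟩ := hP g
  obtain ⟨j, -, hj⟩ := (Nat.dvd_prime_pow (Fact.out : p.Prime)).1 (orderOf_dvd_of_pow_eq_one hk)
  have hpp : Prime (p : ℤ) := Nat.prime_iff_prime_int.1 Fact.out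
  have h2 : ((orderOf g : ℤ)) ∣ (1 - r) * (1 + r) := by
    rwa [show (1 - r) * (1 + r) = 1 - r * r by ring]
  rw [hj, Nat.cast_pow] at h2
  have hcase : (p : ℤ) ^ j ∣ (1 - r) ∨ (p : ℤ) ^ j ∣ (1 + r) := by
    by_cases ha : (p : ℤ) ∣ 1 - r
    · refine Or.inl ((IsCoprime.pow_left (hpp.coprime_iff_not_dvd.2 fun hb => ?_)).dvd_of_dvd_mul_right h2)
      have h3 := dvd_add ha hb
      rw [show (1 - r) + (1 + r) = ((2 : ℕ) : ℤ) by norm_num, Int.natCast_dvd_natCast] at h3
      exact hp2 ((Nat.prime_dvd_prime_iff_eq Fact.out Nat.prime_two).1 h3)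
    · exact Or.inr ((IsCoprime.pow_left (hpp.coprime_iff_not_dvd.2 ha)).dvd_of_dvd_mul_left h2)
  rcases hcase with h | h
  · left
    intro x hx
    obtain ⟨i, rfl⟩ := Subgroup.mem_zpowers_iff.1 ((hg x).1 hx)
    have : g ^ r = g ^ (1 : ℤ) := by
      rw [zpow_eq_zpow_iff_modEq, Int.modEq_iff_dvd, hj, Nat.cast_pow]; exact h
    rw [map_zpow, ← hr, this, zpow_one]
  · right
    intro x hx
    obtain ⟨i, rfl⟩ := Subgroup.mem_zpowers_iff.1 ((hg x).1 hx)
    have : g ^ r = g ^ (-1 : ℤ) := by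
      rw [zpow_eq_zpow_iff_modEq, Int.modEq_iff_dvd, hj, Nat.cast_pow,
        show (-1 : ℤ) - r = -(1 + r) by ring, dvd_neg]
      exact h
    rw [map_zpow, ← hr, this, zpow_neg_one, inv_zpow]

section Action

/-- The action on the Frattini quotient. -/
def act (T : MulAut P) : P ⧸ frattini P →* P ⧸ frattini P :=
  QuotientGroup.map (frattini P) (frattini P) T.toMonoidHom
    (Subgroup.characteristic_iff_comap_eq.1 (frattini_characteristic (G := P)) T).ge

theorem act_mk (T : MulAut P) (x : P) : act T (x : P ⧸ frattini P) = ((T x : P) : P ⧸ frattini P) := rfl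

theorem act_mul (T S : MulAut P) (v : P ⧸ frattini P) : act (T * S) v = act T (act S v) := by
  induction v using QuotientGroup.induction_on with
  | H x => rfl

theorem act_one (v : P ⧸ frattini P) : act (1 : MulAut P) v = v := by
  induction v using QuotientGroup.induction_on with
  | H x => rfl

theorem quot_comm (hP : IsPGroup p P) (v w : P ⧸ frattini P) : v * w = w * v :=
  (Subgroup.Normal.quotient_commutative_iff_commutator_le.2 (Grp.pGroup_commutator_le_frattini hP)).1.1 v w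

theorem quot_pow (hP : IsPGroup p P) (v : P ⧸ frattini P) : v ^ p = 1 := by
  induction v using QuotientGroup.induction_on with
  | H x => exact (QuotientGroup.eq_one_iff _).2 (Grp.pGroup_pow_mem_frattini hP x)

theorem mem_of_sq_mem (hP : IsPGroup p P) (hp2 : p ≠ 2) {W : Subgroup (P ⧸ frattini P)} {v : P ⧸ frattini P}
    (h : v * v ∈ W) : v ∈ W := by
  obtain ⟨m, hm⟩ := (Fact.out : p.Prime).odd_of_ne_two hp2
  have h1 := W.pow_mem h (m + 1)
  rwa [← pow_two, ← pow_mul, show 2 * (m + 1) = p + 1 by omega, pow_succ, quot_pow hP, one_mul] at h1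

variable {I : Subgroup (MulAut P)}

/-- Refinement to joint eigenvectors outside a subgroup. -/
theorem exists_joint (hP : IsPGroup p P) (hp2 : p ≠ 2) (hc : ∀ S ∈ I, ∀ T ∈ I, S * T = T * S)
    (h2 : ∀ T ∈ I, T * T = 1) (W : Subgroup (P ⧸ frattini P)) {w : P ⧸ frattini P} (hw : w ∉ W) :
    ∃ w', w' ∉ W ∧ (∀ T ∈ I, act T w' = w' ∨ act T w' = w'⁻¹) ∧
      ∀ S ∈ I, (act S w = w → act S w' = w') ∧ (act S w = w⁻¹ → act S w' = w'⁻¹) := by
  classical
  haveI := Fintype.ofFinite (MulAut P)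
  suffices H : ∀ L : Finset (MulAut P), (∀ T ∈ L, T ∈ I) → ∀ w : P ⧸ frattini P, w ∉ W →
      ∃ w', w' ∉ W ∧ (∀ T ∈ L, act T w' = w' ∨ act T w' = w'⁻¹) ∧
        ∀ S ∈ I, (act S w = w → act S w' = w') ∧ (act S w = w⁻¹ → act S w' = w'⁻¹) by
    obtain ⟨w', h1, h2', h3⟩ := H (Finset.univ.filter (· ∈ I)) (fun T hT => (Finset.mem_filter.1 hT).2) w hw
    exact ⟨w', h1, fun T hT => h2' T (by simp [hT]), h3⟩
  intro L
  induction L using Finset.induction_on with
  | empty => exact fun _ w hw => ⟨w, hw, by simp, fun S _ => ⟨id, id⟩⟩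
  | insert T L hTL ih =>
    intro hL w hw
    obtain ⟨u, hu, hu1, hu2⟩ := ih (fun S hS => hL S (Finset.mem_insert_of_mem hS)) w hw
    have hT : T ∈ I := hL T (Finset.mem_insert_self _ _)
    have hTT : act T (act T u) = u := by rw [← act_mul, h2 T hT, act_one]
    have hkeep : ∀ S ∈ I, (act S u = u → act S (act T u) = act T u) ∧ (act S u = u⁻¹ → act S (act T u) = (act T u)⁻¹) := by
      intro S hS
      have e : act S (act T u) = act T (act S u) := by rw [← act_mul, hc S hS T hT, act_mul]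
      exact ⟨fun h => by rw [e, h], fun h => by rw [e, h, map_inv]⟩
    have hor : u * act T u ∉ W ∨ u * (act T u)⁻¹ ∉ W := by
      by_contra h
      push Not at h
      refine hu (mem_of_sq_mem hP hp2 ?_)
      have h3 := W.mul_mem h.1 h.2
      rwa [mul_assoc, ← mul_assoc (act T u) u, quot_comm hP (act T u) u, mul_assoc u (act T u),
        mul_inv_cancel, mul_one] at h3
    rcases hor with h | h
    · refine ⟨_, h, ?_, fun S hS => ⟨fun e => ?_, fun e => ?_⟩⟩
      · intro S hS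
        rcases Finset.mem_insert.1 hS with rfl | hS'
        · left; rw [map_mul, hTT, quot_comm hP]
        · have hSI := hL S (Finset.mem_insert_of_mem hS')
          rcases hu1 S hS' with e | e
          · left; rw [map_mul, e, (hkeep S hSI).1 e]
          · right; rw [map_mul, e, (hkeep S hSI).2 e, mul_inv_rev, quot_comm hP]
      · rw [map_mul, (hu2 S hS).1 e, (hkeep S hS).1 ((hu2 S hS).1 e)]
      · rw [map_mul, (hu2 S hS).2 e, (hkeep S hS).2 ((hu2 S hS).2 e), mul_inv_rev, quot_comm hP]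
    · refine ⟨_, h, ?_, fun S hS => ⟨fun e => ?_, fun e => ?_⟩⟩
      · intro S hS
        rcases Finset.mem_insert.1 hS with rfl | hS'
        · right; rw [map_mul, map_inv, hTT, mul_inv_rev, inv_inv]
        · have hSI := hL S (Finset.mem_insert_of_mem hS')
          rcases hu1 S hS' with e | e
          · left; rw [map_mul, map_inv, e, (hkeep S hSI).1 e]
          · right; rw [map_mul, map_inv, e, (hkeep S hSI).2 e, mul_inv_rev, quot_comm hP]
      · rw [map_mul, map_inv, (hu2 S hS).1 e, (hkeep S hS).1 ((hu2 S hS).1 e)]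
      · rw [map_mul, map_inv, (hu2 S hS).2 e, (hkeep S hS).2 ((hu2 S hS).2 e), mul_inv_rev, quot_comm hP]

theorem quot_ne_inv (hP : IsPGroup p P) (hp2 : p ≠ 2) {v : P ⧸ frattini P} (hv : v ≠ 1) : v⁻¹ ≠ v := by
  intro h
  apply hv
  have h1 : v * v ∈ (⊥ : Subgroup (P ⧸ frattini P)) := by
    rw [Subgroup.mem_bot]; conv_lhs => arg 1; rw [← h]
    exact inv_mul_cancel v
  exact Subgroup.mem_bot.1 (mem_of_sq_mem hP hp2 h1)

theorem exists_eigen (hP : IsPGroup p P) (hp2 : p ≠ 2) (hc : ∀ S ∈ I, ∀ T ∈ I, S * T = T * S)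
    (h2 : ∀ T ∈ I, T * T = 1) {T : MulAut P} (hT : T ∈ I) (hT1 : T ≠ 1) :
    ∃ e, e ≠ 1 ∧ act T e = e⁻¹ ∧ ∀ S ∈ I, act S e = e ∨ act S e = e⁻¹ := by
  obtain ⟨x, hx⟩ : ∃ x : P, act T (x : P ⧸ frattini P) ≠ (x : P ⧸ frattini P) := by
    by_contra h
    push Not at h
    refine hT1 (Fus.SuperMeta.eq_one_of_coprime_frattini hP
      ((Nat.coprime_primes Nat.prime_two Fact.out).2 (Ne.symm hp2)) (by rw [pow_two]; exact h2 T hT) fun x => ?_)
    exact QuotientGroup.eq.1 (h x).symm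
  set v : P ⧸ frattini P := (x : P ⧸ frattini P)
  have hw : v * (act T v)⁻¹ ∉ (⊥ : Subgroup (P ⧸ frattini P)) := by
    rw [Subgroup.mem_bot, mul_inv_eq_one]; exact Ne.symm hx
  obtain ⟨e, he, he1, he2⟩ := exists_joint hP hp2 hc h2 ⊥ hw
  refine ⟨e, by simpa using he, (he2 T hT).2 ?_, he1⟩
  rw [map_mul, map_inv, show act T (act T v) = v by rw [← act_mul, h2 T hT, act_one], mul_inv_rev, inv_inv]

/-- A triple of involutions with dual eigenvectors. -/
theorem exists_triple (hP : IsPGroup p P) (hp2 : p ≠ 2) (hc : ∀ S ∈ I, ∀ T ∈ I, S * T = T * S)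
    (h2 : ∀ T ∈ I, T * T = 1) (hI8 : Nat.card I = 8) :
    ∃ a ∈ I, ∃ b ∈ I, ∃ c ∈ I, ∃ u v w : P ⧸ frattini P, u ≠ 1 ∧ v ≠ 1 ∧ w ≠ 1 ∧
      act a u = u⁻¹ ∧ act b u = u ∧ act c u = u ∧ act a v = v ∧ act b v = v⁻¹ ∧ act c v = v ∧
      act a w = w ∧ act b w = w ∧ act c w = w⁻¹ := by
  classical
  haveI := Fintype.ofFinite (MulAut P)
  have hcard : (Finset.univ.filter (· ∈ I)).card = 8 := by
    rw [← hI8, Nat.card_eq_fintype_card, Fintype.card_subtype]
  have hout : ∀ s : Finset (MulAut P), s.card < 8 → ∃ T ∈ I, T ∉ s := fun s hs => by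
    obtain ⟨T, hT, hTs⟩ := Finset.exists_mem_notMem_of_card_lt_card (t := Finset.univ.filter (· ∈ I)) (s := s) (by omega)
    exact ⟨T, (Finset.mem_filter.1 hT).2, hTs⟩
  have sq : ∀ T ∈ I, ∀ x, act T (act T x) = x := fun T hT x => by rw [← act_mul, h2 T hT, act_one]
  obtain ⟨a₀, ha₀, ha₀1⟩ := hout {1} (by simp)
  obtain ⟨u, hu, hau, hju⟩ := exists_eigen hP hp2 hc h2 ha₀ (by simpa using ha₀1)
  obtain ⟨b₀, hb₀, hb₀'⟩ := hout {1, a₀} (lt_of_le_of_lt (Finset.card_le_two) (by norm_num))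
  simp only [Finset.mem_insert, Finset.mem_singleton, not_or] at hb₀'
  obtain ⟨b₁, hb₁, hb₁1, hb₁a, hbu⟩ : ∃ b ∈ I, b ≠ 1 ∧ b ≠ a₀ ∧ act b u = u := by
    rcases hju b₀ hb₀ with h | h
    · exact ⟨b₀, hb₀, hb₀'.1, hb₀'.2, h⟩
    · refine ⟨b₀ * a₀, mul_mem hb₀ ha₀, fun e => hb₀'.2 ?_, fun e => hb₀'.1 (mul_eq_right.1 e), ?_⟩
      · have := congrArg (· * a₀) e; simpa [mul_assoc, h2 a₀ ha₀] using this
      · rw [act_mul, hau, map_inv, h, inv_inv]
  obtain ⟨v, hv, hbv, hjv⟩ := exists_eigen hP hp2 hc h2 hb₁ hb₁1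
  obtain ⟨a₁, ha₁, hau', hav, ha₁'⟩ : ∃ a ∈ I, act a u = u⁻¹ ∧ act a v = v ∧ (a = a₀ ∨ a = a₀ * b₁) := by
    rcases hjv a₀ ha₀ with h | h
    · exact ⟨a₀, ha₀, hau, h, Or.inl rfl⟩
    · exact ⟨a₀ * b₁, mul_mem ha₀ hb₁, by rw [act_mul, hbu, hau], by rw [act_mul, hbv, map_inv, h, inv_inv],
        Or.inr rfl⟩
  obtain ⟨c₀, hc₀, hc₀'⟩ := hout {1, a₁, b₁, a₁ * b₁} (lt_of_le_of_lt (Finset.card_le_four) (by norm_num))
  simp only [Finset.mem_insert, Finset.mem_singleton, not_or] at hc₀'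
  obtain ⟨hc1, hca, hcb, hcab⟩ := hc₀'
  obtain ⟨c₁, hc₁, hc₁1, hcu, hcv⟩ : ∃ c ∈ I, c ≠ 1 ∧ act c u = u ∧ act c v = v := by
    rcases hju c₀ hc₀ with h1 | h1 <;> rcases hjv c₀ hc₀ with h3 | h3
    · exact ⟨c₀, hc₀, hc1, h1, h3⟩
    · refine ⟨c₀ * b₁, mul_mem hc₀ hb₁, fun e => hcb ?_, by rw [act_mul, hbu, h1], by rw [act_mul, hbv, map_inv, h3, inv_inv]⟩
      have := congrArg (· * b₁) e; simpa [mul_assoc, h2 b₁ hb₁] using this
    · refine ⟨c₀ * a₁, mul_mem hc₀ ha₁, fun e => hca ?_, by rw [act_mul, hau', map_inv, h1, inv_inv], by rw [act_mul, hav, h3]⟩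
      have := congrArg (· * a₁) e; simpa [mul_assoc, h2 a₁ ha₁] using this
    · refine ⟨c₀ * (a₁ * b₁), mul_mem hc₀ (mul_mem ha₁ hb₁), fun e => hcab ?_,
        by rw [act_mul, act_mul, hbu, hau', map_inv, h1, inv_inv],
        by rw [act_mul, act_mul, hbv, map_inv, hav, map_inv, h3, inv_inv]⟩
      have := congrArg (· * (a₁ * b₁)) e
      simpa [mul_assoc, show a₁ * b₁ * (a₁ * b₁) = 1 by
        rw [mul_assoc, ← mul_assoc b₁, hc b₁ hb₁ a₁ ha₁, mul_assoc a₁, h2 b₁ hb₁, mul_one, h2 a₁ ha₁]] using this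
  obtain ⟨w, hw, hcw, hjw⟩ := exists_eigen hP hp2 hc h2 hc₁ hc₁1
  obtain ⟨a, ha, e1, e2, e3⟩ : ∃ a ∈ I, act a u = u⁻¹ ∧ act a v = v ∧ act a w = w := by
    rcases hjw a₁ ha₁ with h | h
    · exact ⟨a₁, ha₁, hau', hav, h⟩
    · exact ⟨a₁ * c₁, mul_mem ha₁ hc₁, by rw [act_mul, hcu, hau'], by rw [act_mul, hcv, hav],
        by rw [act_mul, hcw, map_inv, h, inv_inv]⟩
  obtain ⟨b, hb, f1, f2, f3⟩ : ∃ b ∈ I, act b u = u ∧ act b v = v⁻¹ ∧ act b w = w := by
    rcases hjw b₁ hb₁ with h | h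
    · exact ⟨b₁, hb₁, hbu, hbv, h⟩
    · exact ⟨b₁ * c₁, mul_mem hb₁ hc₁, by rw [act_mul, hcu, hbu], by rw [act_mul, hcv, hbv],
        by rw [act_mul, hcw, map_inv, h, inv_inv]⟩
  exact ⟨a, ha, b, hb, c₁, hc₁, u, v, w, hu, hv, hw, e1, f1, hcu, e2, f2, hcv, e3, f3, hcw⟩

/-- Fixed lines of an element with cyclic fixed points. -/
theorem mem_zpowers_of_fixed (hP : IsPGroup p P) (hp2 : p ≠ 2) {S : MulAut P} (hS : S * S = 1) {g : P}
    (hg : ∀ x, S x = x ↔ x ∈ Subgroup.zpowers g) {u v : P ⧸ frattini P} (hu : u ≠ 1) (hSu : act S u = u)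
    (hSv : act S v = v) : v ∈ Subgroup.zpowers u := by
  set q : P ⧸ frattini P := (g : P ⧸ frattini P)
  have hmem : ∀ x : P ⧸ frattini P, act S x = x → x ∈ Subgroup.zpowers q := by
    intro x hx
    induction x using QuotientGroup.induction_on with
    | H x =>
      obtain ⟨y, hy, hxy⟩ := exists_fixed_lift hP hp2 hS (QuotientGroup.eq.1 hx.symm)
      obtain ⟨i, hi⟩ := Subgroup.mem_zpowers_iff.1 ((hg y).1 hy)
      rw [QuotientGroup.eq.2 hxy]
      exact ⟨i, by rw [← hi]; rfl⟩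
  have hq : q ≠ 1 := fun e => hu (by
    have := hmem u hSu
    rw [e, Subgroup.zpowers_one_eq_bot] at this
    exact Subgroup.mem_bot.1 this)
  have heq : Subgroup.zpowers u = Subgroup.zpowers q := Subgroup.eq_of_le_of_card_ge
    (Subgroup.zpowers_le.2 (hmem u hSu)) (by
      rw [Nat.card_zpowers, Nat.card_zpowers, orderOf_eq_prime (quot_pow hP u) hu, orderOf_eq_prime (quot_pow hP q) hq])
  rw [heq]; exact hmem v hSv

end Action

/-- The main lemma, with the triple given. -/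
theorem main (hP : IsPGroup p P) (hp2 : p ≠ 2) (I : Subgroup (MulAut P)) (hc : ∀ S ∈ I, ∀ T ∈ I, S * T = T * S)
    (h2 : ∀ T ∈ I, T * T = 1) (hI8 : Nat.card I = 8) (I₀ : Subgroup (MulAut P)) (hI₀ : I₀ < I)
    (hdisj : ∀ T ∈ I₀, T ≠ 1 → ¬ Broad T)
    (hprod : ∀ T ∈ I, ∀ T' ∈ I, T ≠ 1 → T' ≠ 1 → Broad T → Broad T' → T * T' ∈ I₀) :
    IsMulCommutative P ∧ (∃ a b c : P, Subgroup.closure {a, b, c} = ⊤) ∧
      (¬ ∃ a b : P, Subgroup.closure {a, b} = ⊤) ∧
      Nat.card {T : MulAut P // T ∈ I ∧ T ≠ 1 ∧ Broad T} = 3 ∧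
      Subgroup.closure {T : MulAut P | T ∈ I ∧ T ≠ 1 ∧ Broad T} = I ∧
      (I₀ : Set (MulAut P)) = {S : MulAut P | ∃ T T' : MulAut P, T ∈ I ∧ T' ∈ I ∧ T ≠ 1 ∧ T' ≠ 1 ∧
        Broad T ∧ Broad T' ∧ S = T * T'} := by
  classical
  obtain ⟨a, ha, b, hb, c, hcI, u, v, w, hu, hv, hw, au, bu, cu, av, bv, cv, aw, bw, cw⟩ :=
    exists_triple hP hp2 hc h2 hI8
  have hne := fun {x : P ⧸ frattini P} (hx : x ≠ 1) => quot_ne_inv hP hp2 hx
  -- the eight elements
  let f : Bool × Bool × Bool → MulAut P := fun t =>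
    (if t.1 then a else 1) * (if t.2.1 then b else 1) * (if t.2.2 then c else 1)
  have hfI : ∀ t, f t ∈ I := fun t => mul_mem (mul_mem (by split_ifs <;> [exact ha; exact one_mem _])
    (by split_ifs <;> [exact hb; exact one_mem _])) (by split_ifs <;> [exact hcI; exact one_mem _])
  have hfu : ∀ t, act (f t) u = if t.1 then u⁻¹ else u := by
    rintro ⟨i, j, k⟩; cases i <;> cases j <;> cases k <;> simp [f, act_mul, act_one, au, bu, cu]
  have hfv : ∀ t, act (f t) v = if t.2.1 then v⁻¹ else v := by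
    rintro ⟨i, j, k⟩; cases i <;> cases j <;> cases k <;> simp [f, act_mul, act_one, av, bv, cv]
  have hfw : ∀ t, act (f t) w = if t.2.2 then w⁻¹ else w := by
    rintro ⟨i, j, k⟩; cases i <;> cases j <;> cases k <;> simp [f, act_mul, act_one, aw, bw, cw]
  have hinj : Function.Injective f := by
    have hb' : ∀ (x : P ⧸ frattini P), x ≠ 1 → ∀ i j : Bool, (if i then x⁻¹ else x) = (if j then x⁻¹ else x) → i = j := by
      intro x hx i j h
      cases i <;> cases j <;> simp_all [hne hx, (hne hx).symm]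
    intro s t h
    have h1 := hb' u hu _ _ (((hfu s).symm.trans (by rw [h])).trans (hfu t))
    have h3 := hb' v hv _ _ (((hfv s).symm.trans (by rw [h])).trans (hfv t))
    have h4 := hb' w hw _ _ (((hfw s).symm.trans (by rw [h])).trans (hfw t))
    exact Prod.ext h1 (Prod.ext h3 h4)
  have hsurj : ∀ T ∈ I, ∃ t, f t = T := by
    have hbij := Function.Injective.bijective_of_nat_card_le (f := fun t => (⟨f t, hfI t⟩ : I))
      (fun s t h => hinj (congrArg Subtype.val h)) (by rw [hI8, Nat.card_eq_fintype_card]; rfl)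
    intro T hT
    obtain ⟨t, ht⟩ := hbij.2 ⟨T, hT⟩
    exact ⟨t, congrArg Subtype.val ht⟩
  have hf1 : f (false, false, false) = 1 := by simp [f]
  have hfa : f (true, false, false) = a := by simp [f]
  have hfb : f (false, true, false) = b := by simp [f]
  have hfc : f (false, false, true) = c := by simp [f]
  have hne1 : ∀ t, t ≠ (false, false, false) → f t ≠ 1 := fun t ht e => ht (hinj (e.trans hf1.symm))
  -- the three are broad
  have hbroad : ∀ (T : MulAut P), T ∈ I → ∀ (x y : P ⧸ frattini P) (S : MulAut P), x ≠ 1 → y ≠ 1 →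
      act T x = x → act T y = y → act S x = x → act S y = y⁻¹ → Broad T := by
    rintro T hT x y S hx hy hTx hTy hSx hSy ⟨g, hg⟩
    obtain ⟨i, hi⟩ := Subgroup.mem_zpowers_iff.1 (mem_zpowers_of_fixed hP hp2 (h2 T hT) hg hx hTx hTy)
    rw [← hi, map_zpow, hSx] at hSy
    exact hne (hi ▸ hy) hSy.symm
  have hBa : Broad a := hbroad a ha v w c hv hw av aw cv cw
  have hBb : Broad b := hbroad b hb u w c hu hw bu bw cu cw
  have hBc : Broad c := hbroad c hcI u v b hu hv cu cv bu bv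
  have ha1 : a ≠ 1 := hfa ▸ hne1 _ (by simp)
  have hb1 : b ≠ 1 := hfb ▸ hne1 _ (by simp)
  have hc1 : c ≠ 1 := hfc ▸ hne1 _ (by simp)
  have hab := hprod a ha b hb ha1 hb1 hBa hBb
  have hac := hprod a ha c hcI ha1 hc1 hBa hBc
  have hbc := hprod b hb c hcI hb1 hc1 hBb hBc
  have hna : a ∉ I₀ := fun h => hdisj a h ha1 hBa
  have hnb : b ∉ I₀ := fun h => hdisj b h hb1 hBb
  have hnc : c ∉ I₀ := fun h => hdisj c h hc1 hBc
  have hnabc : a * b * c ∉ I₀ := fun h => hnc (by
    have := I₀.mul_mem (I₀.inv_mem hab) h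
    rwa [inv_mul_cancel_left] at this)
  have hI₀mem : ∀ T ∈ I₀, T = 1 ∨ T = a * b ∨ T = a * c ∨ T = b * c := by
    intro T hT
    obtain ⟨⟨i, j, k⟩, rfl⟩ := hsurj T (hI₀.le hT)
    cases i <;> cases j <;> cases k <;> simp [f] at hT ⊢
    all_goals contradiction
  obtain ⟨g₃, hg₃⟩ := not_not.1 (hdisj _ hab (by
    have : a * b = f (true, true, false) := by simp [f]
    rw [this]; exact hne1 _ (by simp)))
  obtain ⟨g₂, hg₂⟩ := not_not.1 (hdisj _ hac (by
    have : a * c = f (true, false, true) := by simp [f]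
    rw [this]; exact hne1 _ (by simp)))
  obtain ⟨g₁, hg₁⟩ := not_not.1 (hdisj _ hbc (by
    have : b * c = f (false, true, true) := by simp [f]
    rw [this]; exact hne1 _ (by simp)))
  have habI := mul_mem ha hb
  have hacI := mul_mem ha hcI
  have hbcI := mul_mem hb hcI
  -- the quotient is generated by the three vectors
  set W := Subgroup.closure ({u, v, w} : Set (P ⧸ frattini P)) with hW
  have hWtop : W = ⊤ := by
    rw [eq_top_iff]
    intro x _
    by_contra hx
    obtain ⟨e, he, hje, -⟩ := exists_joint hP hp2 hc h2 W hx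
    apply he
    have hin : ∀ z, z ∈ ({u, v, w} : Set (P ⧸ frattini P)) → Subgroup.zpowers z ≤ W := fun z hz =>
      Subgroup.zpowers_le.2 (Subgroup.subset_closure hz)
    have e3 : act (a * b) e = e → e ∈ W := fun h => hin w (by simp)
      (mem_zpowers_of_fixed hP hp2 (h2 _ habI) hg₃ hw (by rw [act_mul, bw, aw]) h)
    have e2 : act (a * c) e = e → e ∈ W := fun h => hin v (by simp)
      (mem_zpowers_of_fixed hP hp2 (h2 _ hacI) hg₂ hv (by rw [act_mul, cv, av]) h)
    have e1 : act (b * c) e = e → e ∈ W := fun h => hin u (by simp)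
      (mem_zpowers_of_fixed hP hp2 (h2 _ hbcI) hg₁ hu (by rw [act_mul, cu, bu]) h)
    rcases hje a ha with ea | ea <;> rcases hje b hb with eb | eb <;> rcases hje c hcI with ec | ec
    all_goals first
      | (refine e3 ?_; rw [act_mul, eb, ea]; done)
      | (refine e3 ?_; rw [act_mul, eb, map_inv, ea, inv_inv]; done)
      | (refine e2 ?_; rw [act_mul, ec, ea]; done)
      | (refine e2 ?_; rw [act_mul, ec, map_inv, ea, inv_inv]; done)
      | (refine e1 ?_; rw [act_mul, ec, eb]; done)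
      | (refine e1 ?_; rw [act_mul, ec, map_inv, eb, inv_inv]; done)
  -- exact lifts
  have lift : ∀ (S : MulAut P) (g : P), S ∈ I → (∀ x, S x = x ↔ x ∈ Subgroup.zpowers g) →
      ∀ e : P ⧸ frattini P, e ≠ 1 → act S e = e → ∃ y : P, (y : P ⧸ frattini P) = e ∧ S y = y ∧
        ∀ T ∈ I, (act T e = e → ∀ x, S x = x → T x = x) ∧ (act T e = e⁻¹ → ∀ x, S x = x → T x = x⁻¹) := by
    intro S g hS hg e he hSe
    induction e using QuotientGroup.induction_on with
    | H x =>
      obtain ⟨y, hy, hxy⟩ := exists_fixed_lift hP hp2 (h2 S hS) (QuotientGroup.eq.1 hSe.symm)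
      have hq : (x : P ⧸ frattini P) = y := QuotientGroup.eq.2 hxy
      refine ⟨y, hq.symm, hy, fun T hT => ?_⟩
      rcases sign_of_cyclic hP hp2 (h2 T hT) (hc S hS T hT) hg with h | h
      · refine ⟨fun _ => h, fun h' => absurd ?_ (hne he).symm⟩
        rw [← h', hq, act_mk, h y hy]
      · refine ⟨fun h' => absurd ?_ (hne he), fun _ => h⟩
        conv_rhs => rw [← h']
        rw [hq, act_mk, h y hy]; rfl
  obtain ⟨x, hxu, hxS, hxT⟩ := lift _ g₁ hbcI hg₁ u hu (by rw [act_mul, cu, bu])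
  obtain ⟨y, hyv, hyS, hyT⟩ := lift _ g₂ hacI hg₂ v hv (by rw [act_mul, cv, av])
  obtain ⟨z, hzw, hzS, hzT⟩ := lift _ g₃ habI hg₃ w hw (by rw [act_mul, bw, aw])
  have ax := (hxT a ha).2 au x hxS
  have bx := (hxT b hb).1 bu x hxS
  have cx := (hxT c hcI).1 cu x hxS
  have ay := (hyT a ha).1 av y hyS
  have by' := (hyT b hb).2 bv y hyS
  have cy := (hyT c hcI).1 cv y hyS
  have az := (hzT a ha).1 aw z hzS
  have bz := (hzT b hb).1 bw z hzS
  have cz := (hzT c hcI).2 cw z hzS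
  have hgen : Subgroup.closure ({x, y, z} : Set P) = ⊤ := by
    refine frattini_nongenerating (eq_top_iff.2 ?_)
    intro d _
    have h1 : (d : P ⧸ frattini P) ∈ (Subgroup.closure ({x, y, z} : Set P)).map (QuotientGroup.mk' (frattini P)) := by
      have hmap : W ≤ (Subgroup.closure ({x, y, z} : Set P)).map (QuotientGroup.mk' (frattini P)) := by
        rw [hW, Subgroup.closure_le]
        rintro q (rfl | rfl | rfl)
        · exact ⟨x, Subgroup.subset_closure (by simp), hxu⟩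
        · exact ⟨y, Subgroup.subset_closure (by simp), hyv⟩
        · exact ⟨z, Subgroup.subset_closure (by simp), hzw⟩
      exact hmap (hWtop ▸ Subgroup.mem_top _)
    obtain ⟨s, hs, e⟩ := h1
    have h3 : s⁻¹ * d ∈ frattini P := QuotientGroup.eq.1 e
    have := Subgroup.mul_mem_sup hs h3
    rwa [mul_inv_cancel_left] at this
  -- commutativity
  have hcomm : ∀ d e : P, d * e = e * d := by
    haveI : Group.IsNilpotent P := hP.isNilpotent
    set D : Subgroup P := ⁅(⊤ : Subgroup P), (⊤ : Subgroup P)⁆ with hD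
    by_contra hnc
    have hDne : D ≠ ⊥ := fun h => hnc fun d e => by
      have h1 : ⁅d, e⁆ ∈ D := Subgroup.commutator_mem_commutator (Subgroup.mem_top d) (Subgroup.mem_top e)
      rw [h, Subgroup.mem_bot] at h1
      exact commutatorElement_eq_one_iff_mul_comm.1 h1
    set N : Subgroup P := ⁅D, (⊤ : Subgroup P)⁆ with hN
    have hND : N < D := MaxAbelianExponent.commutator_lt_of_normal hDne
    refine hND.not_ge ?_
    have hNaut : ∀ (T : MulAut P), ∀ d ∈ N, T d ∈ N := by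
      intro T d hd
      have hsurjT : ((⊤ : Subgroup P).map T.toMonoidHom) = ⊤ := Subgroup.map_top_of_surjective _ T.surjective
      have : N.map T.toMonoidHom = N := by rw [hN, Subgroup.map_commutator, hD, Subgroup.map_commutator, hsurjT]
      rw [← this]; exact ⟨d, hd, rfl⟩
    let F : P →* P ⧸ N := QuotientGroup.mk' N
    have hcen : ∀ d ∈ D, ∀ q : P, F d * F q = F q * F d := by
      intro d hd q
      rw [← commutatorElement_eq_one_iff_mul_comm, ← map_commutatorElement]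
      exact (QuotientGroup.eq_one_iff _).2 (Subgroup.commutator_mem_commutator hd (Subgroup.mem_top q))
    have key : ∀ (s t : P) (S T : MulAut P) (g : P), S ∈ I → T ∈ I → (∀ r, S r = r ↔ r ∈ Subgroup.zpowers g) →
        S s = s⁻¹ → S t = t⁻¹ → T s = s → T t = t → (∀ r, S r = r → T r = r⁻¹) → F s * F t = F t * F s := by
      intro s t S T g hS hT hg hSs hSt hTs hTt hTinv
      set d := ⁅s, t⁆ with hd
      have hdD : d ∈ D := Subgroup.commutator_mem_commutator (Subgroup.mem_top s) (Subgroup.mem_top t)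
      have hFd : F (S d) = F d := by
        rw [hd, show S ⁅s, t⁆ = ⁅s⁻¹, t⁻¹⁆ by rw [← hSs, ← hSt]; exact map_commutatorElement S.toMonoidHom s t,
          map_commutatorElement, map_commutatorElement, map_inv, map_inv]
        have hc1 : ∀ q, ⁅F s, F t⁆ * F q = F q * ⁅F s, F t⁆ := fun q => by
          rw [← map_commutatorElement]; exact hcen _ hdD q
        have h1 : F s * F t = ⁅F s, F t⁆ * (F t * F s) := by rw [commutatorElement_def]; group
        calc ⁅(F s)⁻¹, (F t)⁻¹⁆ = (F t * F s)⁻¹ * (F s * F t) := by rw [commutatorElement_def]; group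
          _ = (F t * F s)⁻¹ * (⁅F s, F t⁆ * (F t * F s)) := by rw [← h1]
          _ = ⁅F s, F t⁆ := by rw [← map_mul, hc1, inv_mul_cancel_left]
      obtain ⟨r, hr, hdr⟩ := exists_fixed_lift hP hp2 (h2 S hS) (N := N) (x := d) (QuotientGroup.eq.1 hFd.symm)
      have hFdr : F d = F r := QuotientGroup.eq.2 hdr
      have hTd : T d = d := by
        show T.toMonoidHom ⁅s, t⁆ = ⁅s, t⁆
        rw [map_commutatorElement]; show ⁅T s, T t⁆ = ⁅s, t⁆; rw [hTs, hTt]
      have hTr : F (T r) = F r := by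
        rw [← hFdr]
        refine (QuotientGroup.eq.2 ?_).symm
        have := hNaut T _ hdr
        rwa [map_mul, map_inv, hTd] at this
      rw [hTinv r hr, map_inv] at hTr
      have hr1 : F r = 1 := eq_one_of_inv (hP.to_quotient N) hp2 hTr
      rw [← commutatorElement_eq_one_iff_mul_comm, ← map_commutatorElement, ← hd, hFdr, hr1]
    have kab := key x y (a * b) c g₃ habI hcI hg₃ (by rw [MulAut.mul_apply, bx, ax])
      (by rw [MulAut.mul_apply, by', map_inv, ay]) cx cy ((hzT c hcI).2 cw)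
    have kac := key x z (a * c) b g₂ hacI hb hg₂ (by rw [MulAut.mul_apply, cx, ax])
      (by rw [MulAut.mul_apply, cz, map_inv, az]) bx bz ((hyT b hb).2 bv)
    have kbc := key y z (b * c) a g₁ hbcI ha hg₁ (by rw [MulAut.mul_apply, cy, by'])
      (by rw [MulAut.mul_apply, cz, map_inv, bz]) ay az ((hxT a ha).2 au)
    have hall : ∀ d e : P, F d * F e = F e * F d := by
      intro d e
      have hd : d ∈ Subgroup.closure ({x, y, z} : Set P) := hgen ▸ Subgroup.mem_top d
      have he : e ∈ Subgroup.closure ({x, y, z} : Set P) := hgen ▸ Subgroup.mem_top e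
      induction hd, he using Subgroup.closure_induction₂ with
      | mem s t hs ht =>
        rcases hs with rfl | rfl | rfl <;> rcases ht with rfl | rfl | rfl <;>
          first | rfl | exact kab | exact kac | exact kbc | exact kab.symm | exact kac.symm | exact kbc.symm
      | one_left s hs => simp
      | one_right s hs => simp
      | mul_left s t r _ _ _ h h' => rw [map_mul]; exact (Commute.mul_left h h')
      | mul_right s t r _ _ _ h h' => rw [map_mul]; exact (Commute.mul_right h h')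
      | inv_left s t _ _ h => rw [map_inv]; exact Commute.inv_left h
      | inv_right s t _ _ h => rw [map_inv]; exact Commute.inv_right h
    rw [hD, Subgroup.commutator_le]
    intro d _ e _
    rw [← QuotientGroup.eq_one_iff]
    show F ⁅d, e⁆ = 1
    rw [map_commutatorElement, commutatorElement_eq_one_iff_mul_comm]
    exact hall d e
  -- the product of all three inverts
  have hall_inv : ∀ d : P, (a * b * c) d = d⁻¹ := by
    intro d
    have hd : d ∈ Subgroup.closure ({x, y, z} : Set P) := hgen ▸ Subgroup.mem_top d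
    induction hd using Subgroup.closure_induction with
    | mem s hs =>
      rcases hs with rfl | rfl | rfl
      · rw [MulAut.mul_apply, MulAut.mul_apply, cx, bx, ax]
      · rw [MulAut.mul_apply, MulAut.mul_apply, cy, by', map_inv, ay]
      · rw [MulAut.mul_apply, MulAut.mul_apply, cz, map_inv, bz, map_inv, az]
    | one => simp
    | mul s t _ _ h h' => rw [map_mul, h, h', mul_inv_rev, hcomm]
    | inv s _ h => rw [map_inv, h]
  have hbroad_iff : ∀ T, (T ∈ I ∧ T ≠ 1 ∧ Broad T) ↔ T = a ∨ T = b ∨ T = c := by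
    intro T
    refine ⟨fun ⟨hT, hT1, hTB⟩ => ?_, ?_⟩
    · obtain ⟨⟨i, j, k⟩, rfl⟩ := hsurj T hT
      cases i <;> cases j <;> cases k <;> simp [f] at hT1 hTB ⊢
      · exact absurd hTB (not_not.2 ⟨g₁, hg₁⟩)
      · exact absurd hTB (not_not.2 ⟨g₂, hg₂⟩)
      · exact absurd hTB (not_not.2 ⟨g₃, hg₃⟩)
      · refine absurd hTB (not_not.2 ⟨1, fun d => ?_⟩)
        rw [Subgroup.zpowers_one_eq_bot, Subgroup.mem_bot, hall_inv]
        exact ⟨eq_one_of_inv hP hp2, by rintro rfl; simp⟩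
    · rintro (rfl | rfl | rfl)
      exacts [⟨ha, ha1, hBa⟩, ⟨hb, hb1, hBb⟩, ⟨hcI, hc1, hBc⟩]
  refine ⟨⟨⟨hcomm⟩⟩, ⟨x, y, z, hgen⟩, ?_, ?_, ?_, ?_⟩
  · rintro ⟨s, t, hst⟩
    haveI := Fintype.ofFinite (P ⧸ frattini P)
    set S : P ⧸ frattini P := (s : P ⧸ frattini P)
    set T : P ⧸ frattini P := (t : P ⧸ frattini P)
    haveI : NeZero p := ⟨(Fact.out : p.Prime).ne_zero⟩
    have hpw : ∀ (q : P ⧸ frattini P) (m n : ℕ), m % p = n % p → q ^ m = q ^ n := fun q m n h => by
      rw [← Nat.mod_add_div m p, ← Nat.mod_add_div n p, pow_add, pow_add, pow_mul, pow_mul, quot_pow hP, one_pow,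
        one_pow, h]
    have hsurjQ : Function.Surjective fun ij : Fin p × Fin p => S ^ (ij.1 : ℕ) * T ^ (ij.2 : ℕ) := by
      intro q
      induction q using QuotientGroup.induction_on with
      | H q =>
        have hq : q ∈ Subgroup.closure ({s, t} : Set P) := hst ▸ Subgroup.mem_top q
        induction hq using Subgroup.closure_induction with
        | mem r hr =>
          have hp1 : 1 % p = 1 := Nat.mod_eq_of_lt (Fact.out : p.Prime).one_lt
          rcases hr with rfl | rfl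
          · exact ⟨(1, 0), by simp [S, hp1]⟩
          · exact ⟨(0, 1), by simp [T, hp1]⟩
        | one => exact ⟨(0, 0), by simp⟩
        | mul r r' _ _ h h' =>
          obtain ⟨⟨i, j⟩, e⟩ := h
          obtain ⟨⟨i', j'⟩, e'⟩ := h'
          refine ⟨(i + i', j + j'), ?_⟩
          dsimp only at e e' ⊢
          rw [QuotientGroup.mk_mul, ← e, ← e', hpw S ((i + i' : Fin p) : ℕ) (i + i') (by simp [Fin.val_add]),
            hpw T ((j + j' : Fin p) : ℕ) (j + j') (by simp [Fin.val_add]), pow_add, pow_add,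
            mul_assoc, ← mul_assoc (S ^ (i' : ℕ)), quot_comm hP (S ^ (i' : ℕ)) (T ^ (j : ℕ))]
          group
        | inv r _ h =>
          obtain ⟨⟨i, j⟩, e⟩ := h
          refine ⟨(-i, -j), ?_⟩
          dsimp only at e ⊢
          rw [QuotientGroup.mk_inv, ← e, mul_inv_rev, quot_comm hP]
          congr 1
          · rw [eq_inv_iff_mul_eq_one, ← pow_add, hpw T _ 0 (by
              rw [← Fin.val_add, neg_add_cancel]; simp), pow_zero]
          · rw [eq_inv_iff_mul_eq_one, ← pow_add, hpw S _ 0 (by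
              rw [← Fin.val_add, neg_add_cancel]; simp), pow_zero]
    have hle := Fintype.card_le_of_surjective _ hsurjQ
    let G3 : Fin p × Fin p × Fin p → P ⧸ frattini P := fun t => u ^ (t.1 : ℕ) * v ^ (t.2.1 : ℕ) * w ^ (t.2.2 : ℕ)
    have hG3 : Function.Injective G3 := by
      have hsep : ∀ (T : MulAut P) (e f g : P ⧸ frattini P) (i i' j j' k k' : ℕ), act T e = e⁻¹ → act T f = f → act T g = g →
          e ^ i * (f ^ j * g ^ k) = e ^ i' * (f ^ j' * g ^ k') → e ^ i = e ^ i' := by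
        intro T e f g i i' j j' k k' he hf hg h
        have h' := congrArg (act T) h
        simp only [map_mul, map_pow, he, hf, hg] at h'
        have h3 : e ^ i * e ^ i = e ^ i' * e ^ i' := by
          calc e ^ i * e ^ i = e ^ i * (f ^ j * g ^ k) * (((e⁻¹) ^ i) * (f ^ j * g ^ k))⁻¹ := by group
            _ = e ^ i' * (f ^ j' * g ^ k') * (((e⁻¹) ^ i') * (f ^ j' * g ^ k'))⁻¹ := by rw [h, h']
            _ = e ^ i' * e ^ i' := by group
        have h4 : e ^ i * (e ^ i')⁻¹ * (e ^ i * (e ^ i')⁻¹) ∈ (⊥ : Subgroup (P ⧸ frattini P)) := by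
          rw [Subgroup.mem_bot, mul_assoc, ← mul_assoc ((e ^ i')⁻¹), quot_comm hP ((e ^ i')⁻¹) (e ^ i),
            mul_assoc (e ^ i), ← mul_assoc, h3]
          group
        exact mul_inv_eq_one.1 (Subgroup.mem_bot.1 (mem_of_sq_mem hP hp2 h4))
      have hfin : ∀ (e : P ⧸ frattini P), e ≠ 1 → ∀ i i' : Fin p, e ^ (i : ℕ) = e ^ (i' : ℕ) → i = i' := by
        intro e he i i' h
        rw [pow_eq_pow_iff_modEq, orderOf_eq_prime (quot_pow hP e) he] at h
        exact Fin.ext (Nat.ModEq.eq_of_lt_of_lt h i.2 i'.2)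
      rintro ⟨i, j, k⟩ ⟨i', j', k'⟩ h
      simp only [G3] at h
      have h1 := hfin u hu _ _ (hsep a u v w i i' j j' k k' au av aw (by rw [← mul_assoc, ← mul_assoc]; exact h))
      have h3 := hfin v hv _ _ (hsep b v u w j j' i i' k k' bv bu bw (by
        rw [← mul_assoc, ← mul_assoc, quot_comm hP (v ^ (j : ℕ)), quot_comm hP (v ^ (j' : ℕ))]; exact h))
      have h4 := hfin w hw _ _ (hsep c w u v k k' i i' j j' cw cu cv (by
        rw [quot_comm hP (w ^ (k : ℕ)), quot_comm hP (w ^ (k' : ℕ))]; exact h))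
      rw [h1, h3, h4]
    have hge := Fintype.card_le_of_injective _ hG3
    have := (Fintype.card_le_of_injective _ hG3).trans hle
    simp only [Fintype.card_prod, Fintype.card_fin] at this
    have := (Fact.out : p.Prime).two_le
    nlinarith [Nat.mul_le_mul this (Nat.mul_le_mul this this)]
  · rw [Nat.card_congr (Equiv.subtypeEquivRight hbroad_iff)]
    have : {T : MulAut P | T = a ∨ T = b ∨ T = c} = ({a, b, c} : Set (MulAut P)) := rfl
    rw [show Nat.card {T : MulAut P // T = a ∨ T = b ∨ T = c} = ({a, b, c} : Set (MulAut P)).ncard from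
      (Nat.card_coe_set_eq _).symm ▸ rfl]
    have d1 : a ≠ b := fun e => absurd (hinj ((hfa.trans e).trans hfb.symm)) (by simp)
    have d2 : a ≠ c := fun e => absurd (hinj ((hfa.trans e).trans hfc.symm)) (by simp)
    have d3 : b ≠ c := fun e => absurd (hinj ((hfb.trans e).trans hfc.symm)) (by simp)
    rw [Set.ncard_insert_of_notMem (by simp [d1, d2]), Set.ncard_pair d3]
  · refine le_antisymm ((Subgroup.closure_le I).2 fun T hT => hT.1) fun T hT => ?_
    obtain ⟨t, rfl⟩ := hsurj T hT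
    have hm : ∀ T, (T = a ∨ T = b ∨ T = c) → T ∈ Subgroup.closure {T : MulAut P | T ∈ I ∧ T ≠ 1 ∧ Broad T} :=
      fun T h => Subgroup.subset_closure ((hbroad_iff T).2 h)
    refine mul_mem (mul_mem ?_ ?_) ?_ <;> split_ifs
    all_goals first | exact one_mem _ | exact hm _ (by simp)
  · ext S
    refine ⟨fun hS => ?_, ?_⟩
    · rcases hI₀mem S hS with rfl | rfl | rfl | rfl
      exacts [⟨a, a, ha, ha, ha1, ha1, hBa, hBa, (h2 a ha).symm⟩, ⟨a, b, ha, hb, ha1, hb1, hBa, hBb, rfl⟩,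
        ⟨a, c, ha, hcI, ha1, hc1, hBa, hBc, rfl⟩, ⟨b, c, hb, hcI, hb1, hc1, hBb, hBc, rfl⟩]
    · rintro ⟨T, T', hT, hT', hT1, hT'1, hB, hB', rfl⟩
      exact hprod T hT T' hT' hT1 hT'1 hB hB'

end Cfsg.Agent.Transfer.BroadTriple
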