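import Mathlib
import Cfsg.Agent.Lib.Grp.Frattini

/-!
Free actions of automorphism groups of a `p`-group on generating tuples.
-/

set_option autoImplicit false

namespace Cfsg.Agent.Transfer.BurnsideBasis

variable {P : Type*} [Group P]

/-- A group of automorphisms permuting generating tuples has order dividing their number. -/
theorem card_dvd_of_generating [Finite P] {ι : Type*} [Finite ι] (A : Subgroup (MulAut P)) (B : Set (ι → P))
    (hB : ∀ α ∈ A, ∀ y ∈ B, (fun i => α (y i)) ∈ B) (hgen : ∀ y ∈ B, Subgroup.closure (Set.range y) = ⊤) :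
    Nat.card A ∣ Nat.card B := by
  let _ : MulAction A B :=
    { smul := fun α y => ⟨fun i => (α : MulAut P) ((y : ι → P) i), hB α α.2 y y.2⟩
      one_smul := fun y => rfl
      mul_smul := fun α β y => rfl }
  have hfree : ∀ y : B, MulAction.stabilizer A y = ⊥ := by
    intro y
    rw [eq_bot_iff]
    intro α hα
    have hα' : ∀ i, (α : MulAut P) ((y : ι → P) i) = (y : ι → P) i := fun i => congrFun (congrArg Subtype.val hα) i
    rw [Subgroup.mem_bot]
    apply Subtype.ext
    have h : (α : MulAut P).toMonoidHom = MonoidHom.id P :=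
      MonoidHom.eq_of_eqOn_dense (hgen y y.2) (by rintro _ ⟨i, rfl⟩; exact hα' i)
    exact MulEquiv.ext fun x => DFunLike.congr_fun h x
  rw [Nat.card_congr (MulAction.selfEquivSigmaOrbits A B)]
  have horb : ∀ ω : MulAction.orbitRel.Quotient A B, Nat.card (MulAction.orbit A ω.out) = Nat.card A := fun ω => by
    rw [Nat.card_congr (MulAction.orbitEquivQuotientStabilizer A _), hfree, ← Subgroup.index_eq_card, Subgroup.index_bot]
  have : Finite B := inferInstance
  have : Fintype (MulAction.orbitRel.Quotient A B) := Fintype.ofFinite _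
  rw [Nat.card_sigma, Finset.sum_congr rfl fun ω _ => horb ω, Finset.sum_const, smul_eq_mul]
  exact dvd_mul_left _ _

/-- Tuples generating modulo the Frattini subgroup generate. -/
theorem closure_eq_top_of_modFrattini [Finite P] {ι : Type*} {y b : ι → P}
    (hb : Subgroup.closure (Set.range b) = ⊤) (hy : ∀ i, (b i)⁻¹ * y i ∈ frattini P) :
    Subgroup.closure (Set.range y) = ⊤ := by
  refine frattini_nongenerating (top_le_iff.1 ?_)
  rw [← hb, Subgroup.closure_le]
  rintro _ ⟨i, rfl⟩
  have h1 : y i * ((b i)⁻¹ * y i)⁻¹ ∈ Subgroup.closure (Set.range y) ⊔ frattini P :=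
    mul_mem (Subgroup.mem_sup_left (Subgroup.subset_closure ⟨i, rfl⟩)) (Subgroup.mem_sup_right (inv_mem (hy i)))
  simpa [mul_assoc] using h1

/-- A basis of an elementary abelian group generates it. -/
theorem closure_of_linearIndependent {Q : Type*} [CommGroup Q] [Finite Q] {p r : ℕ} [Fact p.Prime]
    [Module (ZMod p) (Additive Q)] (s : Fin r → Q) (hs : LinearIndependent (ZMod p) fun i => Additive.ofMul (s i))
    (hfin : Module.finrank (ZMod p) (Additive Q) = r) : Subgroup.closure (Set.range s) = ⊤ := by
  have : FiniteDimensional (ZMod p) (Additive Q) := Module.Finite.of_finite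
  have hspan := hs.span_eq_top_of_card_eq_finrank' ((Fintype.card_fin r).trans hfin.symm)
  rw [eq_top_iff]
  intro x _
  have hsub : ∀ z ∈ Submodule.span (ZMod p) (Set.range fun i => Additive.ofMul (s i)),
      z ∈ (Subgroup.closure (Set.range s)).toAddSubgroup := by
    intro z hz
    induction hz using Submodule.span_induction with
    | mem z hz =>
      obtain ⟨i, rfl⟩ := hz
      show s i ∈ Subgroup.closure (Set.range s)
      exact Subgroup.subset_closure ⟨i, rfl⟩
    | zero => exact (Subgroup.closure (Set.range s)).toAddSubgroup.zero_mem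
    | add z w _ _ hz hw => exact (Subgroup.closure (Set.range s)).toAddSubgroup.add_mem hz hw
    | smul c z _ hz =>
      rw [← ZMod.natCast_zmod_val c, Nat.cast_smul_eq_nsmul]
      exact (Subgroup.closure (Set.range s)).toAddSubgroup.nsmul_mem hz _
  exact hsub (Additive.ofMul x) (by rw [hspan]; trivial)

/-- The generating tuples of a `p`-group of minimal length. -/
theorem exists_tuples [Finite P] {p n r : ℕ} [hp : Fact p.Prime] (hP : Nat.card P = p ^ n)
    (hr : (frattini P).index = p ^ r) :
    ∃ B : Set (Fin r → P), B.Nonempty ∧ Nat.card B = p ^ (r * (n - r)) * ∏ i ∈ Finset.range r, (p ^ r - p ^ i) ∧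
      Nat.card (frattini P) = p ^ (n - r) ∧
      (∀ α : MulAut P, ∀ y ∈ B, (fun i => α (y i)) ∈ B) ∧ ∀ y ∈ B, Subgroup.closure (Set.range y) = ⊤ := by
  classical
  have hpg : IsPGroup p P := IsPGroup.of_card hP
  have hrn : r ≤ n := by
    have h := (frattini P).index_dvd_card
    rw [hr, hP] at h
    exact (Nat.pow_dvd_pow_iff_le_right hp.out.one_lt).1 h
  have hΦ : Nat.card (frattini P) = p ^ (n - r) := by
    have h := (frattini P).card_mul_index
    rw [hr, hP, show n = (n - r) + r by omega, pow_add] at h
    exact Nat.eq_of_mul_eq_mul_right (pow_pos hp.out.pos r) h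
  have : IsMulCommutative (P ⧸ frattini P) :=
    (Subgroup.Normal.quotient_commutative_iff_commutator_le).2 (Grp.pGroup_commutator_le_frattini hpg)
  let _ : CommGroup (P ⧸ frattini P) :=
    { (inferInstance : Group (P ⧸ frattini P)) with mul_comm := this.is_comm.comm }
  let _ : Module (ZMod p) (Additive (P ⧸ frattini P)) := AddCommGroup.zmodModule fun x => by
    obtain ⟨x, rfl⟩ := Additive.ofMul.surjective x
    obtain ⟨x, rfl⟩ := QuotientGroup.mk'_surjective (frattini P) x
    rw [← ofMul_pow, ← map_pow]
    exact congrArg Additive.ofMul ((QuotientGroup.eq_one_iff _).2 (Grp.pGroup_pow_mem_frattini hpg x))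
  let _ : Fintype (Additive (P ⧸ frattini P)) := Fintype.ofFinite _
  let π : P → Additive (P ⧸ frattini P) := fun x => Additive.ofMul (x : P ⧸ frattini P)
  have hfin : Module.finrank (ZMod p) (Additive (P ⧸ frattini P)) = r := by
    have h := FiniteField.pow_finrank_eq_natCard p (Additive (P ⧸ frattini P))
    rw [Nat.card_congr Additive.toMul, ← Subgroup.index_eq_card, hr] at h
    exact Nat.pow_right_injective hp.out.two_le h
  set B : Set (Fin r → P) := {y | LinearIndependent (ZMod p) fun i => π (y i)} with hB
  have hcardB : Nat.card B = p ^ (r * (n - r)) * ∏ i ∈ Finset.range r, (p ^ r - p ^ i) := by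
    let g : B → {s : Fin r → Additive (P ⧸ frattini P) // LinearIndependent (ZMod p) s} :=
      fun y => ⟨fun i => π ((y : Fin r → P) i), y.2⟩
    have hfib : ∀ s, Nat.card {y : B // g y = s} = p ^ (r * (n - r)) := by
      intro s
      choose b hb using fun i => QuotientGroup.mk'_surjective (frattini P) (s.1 i).toMul
      let e : {y : B // g y = s} ≃ (Fin r → frattini P) :=
        { toFun := fun y i => ⟨(b i)⁻¹ * (y.1 : Fin r → P) i, QuotientGroup.eq.1 ((hb i).trans
            (congrArg Additive.toMul (congrFun (congrArg Subtype.val y.2) i)).symm)⟩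
          invFun := fun f =>
            have hf : (fun i => π (b i * f i)) = s.1 := funext fun i => by
              apply Additive.toMul.injective
              show ((b i * f i : P) : P ⧸ frattini P) = _
              rw [← hb i]
              exact QuotientGroup.eq.2 (by simp)
            ⟨⟨fun i => b i * f i, by
              show LinearIndependent (ZMod p) fun i => π (b i * f i)
              rw [hf]; exact s.2⟩, Subtype.ext hf⟩
          left_inv := fun y => Subtype.ext (Subtype.ext (funext fun i => mul_inv_cancel_left _ _))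
          right_inv := fun f => funext fun i => Subtype.ext (inv_mul_cancel_left _ _) }
      rw [Nat.card_congr e, Nat.card_fun, hΦ, Nat.card_fin, ← pow_mul, mul_comm]
    have hfinS : Fintype {s : Fin r → Additive (P ⧸ frattini P) // LinearIndependent (ZMod p) s} := Fintype.ofFinite _
    rw [Nat.card_congr (Equiv.sigmaFiberEquiv g).symm, Nat.card_sigma, Finset.sum_congr rfl fun s _ => hfib s,
      Finset.sum_const, smul_eq_mul, Finset.card_univ, ← Nat.card_eq_fintype_card,
      card_linearIndependent hfin.ge, mul_comm, hfin, ZMod.card, Fin.prod_univ_eq_prod_range (fun i => p ^ r - p ^ i)]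
  refine ⟨B, ?_, hcardB, hΦ, fun α y hy => ?_, fun y hy => ?_⟩
  · have hpos : 0 < Nat.card B := by
      rw [hcardB]
      refine Nat.mul_pos (pow_pos hp.out.pos _) (Finset.prod_pos fun i hi => ?_)
      have := Nat.pow_lt_pow_right hp.out.one_lt (Finset.mem_range.1 hi)
      omega
    obtain ⟨⟨y, hy⟩⟩ := (Nat.card_pos_iff.1 hpos).1
    exact ⟨y, hy⟩
  · let αq : P ⧸ frattini P ≃* P ⧸ frattini P := QuotientGroup.congr _ _ α
      (Subgroup.characteristic_iff_map_eq.1 frattini_characteristic α)
    let L : Additive (P ⧸ frattini P) →ₗ[ZMod p] Additive (P ⧸ frattini P) :=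
      (MonoidHom.toAdditive αq.toMonoidHom).toZModLinearMap p
    exact LinearIndependent.map' hy L (LinearMap.ker_eq_bot.2 fun a b h => αq.injective h)
  · apply frattini_nongenerating (K := Subgroup.closure (Set.range y))
    rw [eq_top_iff]
    intro x _
    have h1 := closure_of_linearIndependent (fun i => (y i : P ⧸ frattini P)) hy hfin
    have h2 : (x : P ⧸ frattini P) ∈ (Subgroup.closure (Set.range y)).map (QuotientGroup.mk' (frattini P)) := by
      rw [MonoidHom.map_closure, ← Set.range_comp]
      show (x : P ⧸ frattini P) ∈ Subgroup.closure (Set.range fun i => (y i : P ⧸ frattini P))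
      rw [h1]
      trivial
    obtain ⟨h, hh, hhx⟩ := h2
    rw [show x = h * (h⁻¹ * x) by group]
    exact Subgroup.mul_mem_sup hh (QuotientGroup.eq.1 hhx)

end Cfsg.Agent.Transfer.BurnsideBasis
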