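import Cfsg.Agent.Lib.Grp.TwoClassCount
import Cfsg.Agent.Lib.Transfer.Fusion

/-!
# Exactly half as many classes of 2-elements as elements of a Sylow 2-subgroup

If a group without nontrivial normal subgroup of odd order has exactly `|P| / 2` classes of 2-elements, then
fused elements of a Sylow 2-subgroup differ in a subgroup of order four, so the derived group meets it in at
most four elements.
-/

set_option autoImplicit false
set_option linter.style.haveILetI false
set_option linter.unusedSectionVars false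

namespace Cfsg.Agent.Transfer.HalfClasses

open Subgroup Grp.TwoCount
open scoped Pointwise
open Cfsg.Agent.Grp (PClass pClassMk pClassMk_surjective mem_smul_conj card_conj_smul)

universe u

variable {G : Type u} [Group G] [Finite G]

instance : Fact (Nat.Prime 2) := ⟨Nat.prime_two⟩

/-- The classes of the Sylow subgroup map onto the classes of 2-elements. -/
def classMap (P : Sylow 2 G) : ConjClasses (P : Subgroup G) → PClass 2 G :=
  Quotient.lift (pClassMk (P : Subgroup G) P.isPGroup') fun a b hab => by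
    refine Subtype.ext (ConjClasses.mk_eq_mk_iff_isConj.mpr ?_)
    obtain ⟨g, hg⟩ := isConj_iff.mp hab
    exact isConj_iff.mpr ⟨g, congrArg Subtype.val hg⟩

theorem classMap_surjective (P : Sylow 2 G) : Function.Surjective (classMap P) := fun c => by
  obtain ⟨x, hx⟩ := pClassMk_surjective P c
  exact ⟨Quotient.mk _ x, hx⟩

theorem classMap_eq {P : Sylow 2 G} {a b : (P : Subgroup G)} {t : G} (h : t * (a : G) * t⁻¹ = b) :
    classMap P (ConjClasses.mk a) = classMap P (ConjClasses.mk b) :=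
  Subtype.ext (ConjClasses.mk_eq_mk_iff_isConj.mpr (isConj_iff.mpr ⟨t, h⟩))

theorem min_divisor (P : Sylow 2 G) (d : ℕ) (hd : d ∣ Nat.card (P : Subgroup G)) (h1 : d ≠ 1) : 2 ≤ d := by
  have : d ≠ 0 := fun e => by subst e; exact Nat.card_pos.ne' (Nat.eq_zero_of_zero_dvd hd)
  omega

theorem two_mul_classes_le (P : Sylow 2 G) :
    2 * Nat.card (ConjClasses (P : Subgroup G)) ≤
      Nat.card (P : Subgroup G) + Nat.card (center (P : Subgroup G)) := by
  have := Grp.AutOrb.mul_card_classes_le (min_divisor P) one_le_two Set.univ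
    (Set.univ : Set (ConjClasses (P : Subgroup G))) fun _ _ => Set.subset_univ _
  rwa [Nat.card_univ, Nat.card_univ, show (2 : ℕ) - 1 = 1 from rfl, one_mul] at this

theorem card_commutator_le (P : Sylow 2 G)
    (h : Nat.card (P : Subgroup G) ≤ 2 * Nat.card (ConjClasses (P : Subgroup G))) :
    Nat.card (commutator (P : Subgroup G)) ≤ 2 := by
  have h1 := Grp.AutOrb.sq_mul_card_conjClasses_le (min_divisor P)
  have h2 := (commutator (P : Subgroup G)).card_mul_index
  obtain ⟨j, hj⟩ := IsPGroup.iff_card.1 (P.isPGroup'.to_subgroup (commutator (P : Subgroup G)))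
  by_contra h3
  push Not at h3
  rcases j with _ | _ | j
  · omega
  · omega
  · have h4 : 4 ≤ Nat.card (commutator (P : Subgroup G)) := by
      rw [hj]
      exact (show (2 : ℕ) ^ 2 ≤ 2 ^ (j + 1 + 1) from Nat.pow_le_pow_right two_pos (by omega))
    have h5 := Nat.mul_le_mul_right (commutator (P : Subgroup G)).index h4
    have h6 : 0 < (commutator (P : Subgroup G)).index := Nat.pos_of_ne_zero Subgroup.index_ne_zero_of_finite
    omega

theorem div_mem_commutator {T : Type u} [Group T] {a b : T} (h : IsConj a b) : b * a⁻¹ ∈ commutator T := by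
  obtain ⟨t, rfl⟩ := isConj_iff.mp h
  exact commutator_mem_commutator (mem_top t) (mem_top a)

theorem eq_of_commutator_le_two {T : Type u} [Group T] [Finite T] (hc : Nat.card (commutator T) ≤ 2) {a b : T}
    (ha : a ∈ commutator T) (hb : b ∈ commutator T) (ha1 : a ≠ 1) (hb1 : b ≠ 1) : a = b := by
  by_contra hne
  letI := Fintype.ofFinite (commutator T)
  have h3 : 2 < Nat.card (commutator T) := by
    rw [Nat.card_eq_fintype_card, ← Finset.card_univ]
    exact Finset.two_lt_card.mpr ⟨⟨a, ha⟩, Finset.mem_univ _, ⟨b, hb⟩, Finset.mem_univ _, 1, Finset.mem_univ _,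
      fun e => hne (congrArg Subtype.val e), fun e => ha1 (congrArg Subtype.val e),
      fun e => hb1 (congrArg Subtype.val e)⟩
  omega

theorem size_two {T : Type u} [Group T] [Finite T] (hc : Nat.card (commutator T) ≤ 2) {a b c : T}
    (hb : IsConj a b) (hc' : IsConj a c) : a = b ∨ a = c ∨ b = c := by
  by_cases h1 : b * a⁻¹ = 1
  · exact Or.inl (mul_inv_eq_one.1 h1).symm
  by_cases h2 : c * a⁻¹ = 1
  · exact Or.inr (Or.inl (mul_inv_eq_one.1 h2).symm)
  exact Or.inr (Or.inr (mul_right_cancel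
    (eq_of_commutator_le_two hc (div_mem_commutator hb) (div_mem_commutator hc') h1 h2)))

theorem card_lt_classes {T : Type u} [Group T] [Finite T] (hc : Nat.card (commutator T) ≤ 2) :
    Nat.card T < 2 * Nat.card (ConjClasses T) := by
  classical
  haveI := Fintype.ofFinite T
  haveI := Fintype.ofFinite (ConjClasses T)
  have h1 : (Finset.univ.erase (1 : T)).card ≤ 2 * ((Finset.univ.erase (1 : T)).image ConjClasses.mk).card := by
    refine Finset.card_le_mul_card_image _ 2 fun c _ => ?_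
    by_contra hgt
    push Not at hgt
    obtain ⟨a, ha, b, hb, d, hd, hab, had, hbd⟩ := Finset.two_lt_card.mp hgt
    simp only [Finset.mem_filter] at ha hb hd
    rcases size_two hc (ConjClasses.mk_eq_mk_iff_isConj.mp (ha.2.trans hb.2.symm))
      (ConjClasses.mk_eq_mk_iff_isConj.mp (ha.2.trans hd.2.symm)) with e | e | e
    exacts [hab e, had e, hbd e]
  have h2 : ((Finset.univ.erase (1 : T)).image ConjClasses.mk).card + 1 ≤ Nat.card (ConjClasses T) := by
    have hnot : ConjClasses.mk (1 : T) ∉ (Finset.univ.erase (1 : T)).image ConjClasses.mk := by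
      intro hm
      obtain ⟨a, ha, e⟩ := Finset.mem_image.mp hm
      exact (Finset.mem_erase.mp ha).1 (isConj_one_right.mp (ConjClasses.mk_eq_mk_iff_isConj.mp e).symm)
    rw [Nat.card_eq_fintype_card, ← Finset.card_univ, ← Finset.card_insert_of_notMem hnot]
    exact Finset.card_le_univ _
  rw [Finset.card_erase_of_mem (Finset.mem_univ _), Finset.card_univ] at h1
  rw [Nat.card_eq_fintype_card (α := T)]
  omega

/-- An odd-order element moves a subgroup between the centre and a Sylow subgroup. -/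
structure Mover (P : Sylow 2 G) (Q : Subgroup G) (h : G) : Prop where
  le : Q ≤ (P : Subgroup G)
  center_le : (center (P : Subgroup G)).map (P : Subgroup G).subtype ≤ Q
  norm : h ∈ normalizer (Q : Set G)
  odd : Odd (orderOf h)
  moved : ∃ q ∈ Q, h * q ≠ q * h

variable {P : Sylow 2 G} {Q : Subgroup G} {h : G}

/-- The fixed subgroup. -/
def fixed (Q : Subgroup G) (h : G) : Subgroup G := Q ⊓ centralizer ({h} : Set G)

theorem mem_fixed {x : G} : x ∈ fixed Q h ↔ x ∈ Q ∧ h * x = x * h := by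
  rw [fixed, mem_inf, mem_centralizer_singleton_iff]
  exact and_congr_right fun _ => eq_comm

theorem conj_mem_of_norm (hN : h ∈ normalizer (Q : Set G)) (n : ℕ) {x : G} (hx : x ∈ Q) :
    h ^ n * x * (h ^ n)⁻¹ ∈ Q := (mem_normalizer_iff.1 (pow_mem hN n) x).1 hx

theorem Mover.conj_mem (M : Mover P Q h) {x : G} (hx : x ∈ Q) : h * x * h⁻¹ ∈ Q :=
  (mem_normalizer_iff.1 M.norm x).1 hx

theorem Mover.conj_mem_two (M : Mover P Q h) {x : G} (hx : x ∈ Q) : h ^ 2 * x * (h ^ 2)⁻¹ ∈ Q :=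
  conj_mem_of_norm M.norm 2 hx

/-- A difference fixed by the mover is trivial. -/
theorem eq_one_of_fixed_diff {x : G} (ho : Odd (orderOf h)) (hc : Commute h (x⁻¹ * (h * x * h⁻¹)))
    (hp : ∃ i : ℕ, (x⁻¹ * (h * x * h⁻¹)) ^ 2 ^ i = 1) : x⁻¹ * (h * x * h⁻¹) = 1 := by
  set u := x⁻¹ * (h * x * h⁻¹) with hu
  have hiter : ∀ i : ℕ, h ^ i * x * (h ^ i)⁻¹ = x * u ^ i := by
    intro i
    induction i with
    | zero => simp
    | succ i ih =>
      calc h ^ (i + 1) * x * (h ^ (i + 1))⁻¹ = h * (h ^ i * x * (h ^ i)⁻¹) * h⁻¹ := by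
            rw [pow_succ']; group
        _ = h * x * h⁻¹ * (h * u ^ i * h⁻¹) := by rw [ih]; group
        _ = x * u * u ^ i := by rw [(hc.pow_right i).eq, mul_inv_cancel_right, hu]; group
        _ = _ := by rw [pow_succ']; group
  have h1 := hiter (orderOf h)
  rw [pow_orderOf_eq_one, one_mul, inv_one, mul_one, left_eq_mul] at h1
  obtain ⟨i, hi⟩ := hp
  exact orderOf_eq_one_iff.mp (Nat.eq_one_of_dvd_coprimes ((Nat.coprime_two_left.mpr ho).pow_left i)
    (orderOf_dvd_of_pow_eq_one hi) (orderOf_dvd_of_pow_eq_one h1))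

theorem Mover.four_mul_fixed (M : Mover P Q h) : 4 * Nat.card (fixed Q h) ≤ Nat.card Q := by
  obtain ⟨q₀, hq₀, hne₀⟩ := M.moved
  have hQp : IsPGroup 2 Q := P.isPGroup'.to_le M.le
  set C' := (fixed Q h).subgroupOf Q with hC'
  obtain ⟨e, he⟩ := hQp.index C'
  have hC'card : Nat.card C' = Nat.card (fixed Q h) :=
    Nat.card_congr (Subgroup.subgroupOfEquivOfLe inf_le_left).toEquiv
  have hcmi := C'.card_mul_index
  rw [hC'card, he] at hcmi
  rcases e with _ | _ | e
  · exfalso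
    rw [pow_zero, index_eq_one] at he
    exact hne₀ (mem_fixed.1 (show (⟨q₀, hq₀⟩ : Q) ∈ C' from he ▸ mem_top _)).2
  · exfalso
    have hq1 : h * q₀ * h⁻¹ ∈ Q := M.conj_mem hq₀
    have hne1 : h * (h * q₀ * h⁻¹) ≠ h * q₀ * h⁻¹ * h := fun e' => hne₀ (by
      rw [inv_mul_cancel_right] at e'
      exact mul_inv_eq_iff_eq_mul.mp (mul_left_cancel e'))
    have hmem : ((⟨q₀, hq₀⟩ : Q)⁻¹ * ⟨_, hq1⟩) ∈ C' := by
      rw [Subgroup.mul_mem_iff_of_index_two he, inv_mem_iff]
      exact iff_of_false (fun hm => hne₀ (mem_fixed.1 hm).2) (fun hm => hne1 (mem_fixed.1 hm).2)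
    obtain ⟨i, hi⟩ := hQp ((⟨q₀, hq₀⟩ : Q)⁻¹ * ⟨_, hq1⟩)
    have hu := eq_one_of_fixed_diff M.odd (mem_fixed.1 hmem).2 ⟨i, congrArg Subtype.val hi⟩
    rw [inv_mul_eq_one] at hu
    exact hne₀ (mul_inv_eq_iff_eq_mul.mp hu.symm)
  · rw [← hcmi, pow_succ, pow_succ]
    have := Nat.one_le_two_pow (n := e)
    nlinarith

/-- The classes of the moved elements. -/
noncomputable def movedClasses (P : Sylow 2 G) (Q : Subgroup G) (h : G) : Set (ConjClasses (P : Subgroup G)) :=
  {c | ∃ a : (P : Subgroup G), (a : G) ∈ Q ∧ (a : G) ∉ fixed Q h ∧ ConjClasses.mk a = c}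

theorem eq_of_central_class {a b : (P : Subgroup G)} (ha : a ∈ center (P : Subgroup G))
    (e : ConjClasses.mk a = ConjClasses.mk b) : a = b := by
  obtain ⟨t, ht⟩ := isConj_iff.mp (ConjClasses.mk_eq_mk_iff_isConj.mp e)
  rwa [mem_center_iff.mp ha t, mul_inv_cancel_right] at ht

/-- The number of moved classes. -/
theorem Mover.moved_count (M : Mover P Q h) (hc : Nat.card (commutator (P : Subgroup G)) ≤ 2) :
    Nat.card Q + Nat.card (center (P : Subgroup G)) ≤
      2 * Nat.card (movedClasses P Q h) + 2 * Nat.card (fixed Q h) := by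
  classical
  haveI := Fintype.ofFinite G
  let Qf : Finset G := Finset.univ.filter (fun x => x ∈ Q)
  let Zf : Finset G := Finset.univ.filter (fun x => x ∈ (center (P : Subgroup G)).map (P : Subgroup G).subtype)
  let Cf : Finset G := Finset.univ.filter (fun x => x ∈ fixed Q h)
  have card_filter : ∀ H : Subgroup G, Nat.card H = (Finset.univ.filter (fun x => x ∈ H)).card := fun H => by
    rw [← Fintype.card_subtype, ← Nat.card_eq_fintype_card]
  let Z0 := Zf \ Cf
  let O0 := (Qf \ Cf) \ Zf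
  let mk : G → ConjClasses (P : Subgroup G) := fun x =>
    if hx : x ∈ (P : Subgroup G) then ConjClasses.mk ⟨x, hx⟩ else ConjClasses.mk 1
  have hmk : ∀ (x : G) (hx : x ∈ Q), mk x = ConjClasses.mk ⟨x, M.le hx⟩ := fun x hx => dif_pos (M.le hx)
  have hZQ : ∀ x, x ∈ Zf → x ∈ Q := fun x hx => M.center_le (Finset.mem_filter.1 hx).2
  have hZc : ∀ x, x ∈ Zf → ∀ hx : x ∈ Q, (⟨x, M.le hx⟩ : (P : Subgroup G)) ∈ center (P : Subgroup G) := by
    intro x hx hxQ
    obtain ⟨w, hw, rfl⟩ := (Finset.mem_filter.1 hx).2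
    exact hw
  have hQ0 : ∀ x, x ∈ O0 → x ∈ Q ∧ x ∉ fixed Q h ∧ x ∉ Zf := fun x hx => by
    simp only [O0, Qf, Cf, Finset.mem_sdiff, Finset.mem_filter, Finset.mem_univ, true_and] at hx
    exact ⟨hx.1.1, hx.1.2, hx.2⟩
  have hZ0 : ∀ x, x ∈ Z0 → x ∈ Q ∧ x ∉ fixed Q h ∧ x ∈ Zf := fun x hx => by
    simp only [Z0, Cf, Finset.mem_sdiff, Finset.mem_filter, Finset.mem_univ, true_and] at hx
    exact ⟨hZQ x hx.1, hx.2, hx.1⟩
  have hcard : Nat.card Q + Nat.card (center (P : Subgroup G)) ≤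
      Z0.card + (Z0.card + O0.card) + 2 * Nat.card (fixed Q h) := by
    rw [← Subgroup.card_map_of_injective (K := center (P : Subgroup G)) (P : Subgroup G).subtype_injective, card_filter Q, card_filter (fixed Q h),
      card_filter ((center (P : Subgroup G)).map (P : Subgroup G).subtype)]
    show Qf.card + Zf.card ≤ Z0.card + (Z0.card + O0.card) + 2 * Cf.card
    have h1 : Zf.card ≤ Z0.card + Cf.card := by
      refine (Finset.card_le_card (fun x hx => ?_)).trans (Finset.card_union_le _ _)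
      by_cases hxc : x ∈ Cf
      · exact Finset.mem_union_right _ hxc
      · exact Finset.mem_union_left _ (Finset.mem_sdiff.2 ⟨hx, hxc⟩)
    have h2 : Qf.card ≤ O0.card + Z0.card + Cf.card := by
      refine (Finset.card_le_card (fun x hx => ?_)).trans ((Finset.card_union_le (O0 ∪ Z0) Cf).trans
        (Nat.add_le_add_right (Finset.card_union_le _ _) _))
      by_cases hxc : x ∈ Cf
      · exact Finset.mem_union_right _ hxc
      · refine Finset.mem_union_left _ ?_
        by_cases hxz : x ∈ Zf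
        · exact Finset.mem_union_right _ (Finset.mem_sdiff.2 ⟨hxz, hxc⟩)
        · exact Finset.mem_union_left _ (Finset.mem_sdiff.2 ⟨Finset.mem_sdiff.2 ⟨hx, hxc⟩, hxz⟩)
    omega
  have hZim : (Z0.image mk).card = Z0.card := Finset.card_image_of_injOn fun a ha b hb e => by
    obtain ⟨haQ, -, haZ⟩ := hZ0 a ha
    obtain ⟨hbQ, -, -⟩ := hZ0 b hb
    rw [hmk a haQ, hmk b hbQ] at e
    exact congrArg Subtype.val (eq_of_central_class (hZc a haZ haQ) e)
  have hOim : O0.card ≤ 2 * (O0.image mk).card := by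
    refine Finset.card_le_mul_card_image O0 2 fun c _ => ?_
    by_contra hgt
    push Not at hgt
    obtain ⟨a, ha, b, hb, d, hd, hab, had, hbd⟩ := Finset.two_lt_card.mp hgt
    simp only [Finset.mem_filter] at ha hb hd
    have e1 := ha.2.trans hb.2.symm
    have e2 := ha.2.trans hd.2.symm
    rw [hmk a (hQ0 a ha.1).1, hmk b (hQ0 b hb.1).1] at e1
    rw [hmk a (hQ0 a ha.1).1, hmk d (hQ0 d hd.1).1] at e2
    rcases size_two hc (ConjClasses.mk_eq_mk_iff_isConj.mp e1) (ConjClasses.mk_eq_mk_iff_isConj.mp e2) with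
      e | e | e
    · exact hab (congrArg Subtype.val e)
    · exact had (congrArg Subtype.val e)
    · exact hbd (congrArg Subtype.val e)
  have himg : (Z0.image mk).card + (O0.image mk).card ≤ Nat.card (movedClasses P Q h) := by
    rw [← Finset.card_union_of_disjoint]
    · have hsub : ∀ c ∈ Z0.image mk ∪ O0.image mk, c ∈ movedClasses P Q h := by
        intro c hc
        rcases Finset.mem_union.1 hc with hc | hc <;> obtain ⟨a, ha, rfl⟩ := Finset.mem_image.1 hc
        · exact ⟨⟨a, M.le (hZ0 a ha).1⟩, (hZ0 a ha).1, (hZ0 a ha).2.1, (hmk a (hZ0 a ha).1).symm⟩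
        · exact ⟨⟨a, M.le (hQ0 a ha).1⟩, (hQ0 a ha).1, (hQ0 a ha).2.1, (hmk a (hQ0 a ha).1).symm⟩
      rw [← Nat.card_eq_finsetCard]
      exact Nat.card_le_card_of_injective (fun c => (⟨c.1, hsub _ c.2⟩ : movedClasses P Q h))
        fun c d e => Subtype.ext (congrArg Subtype.val e :)
    · rw [Finset.disjoint_left]
      intro c hc1 hc2
      obtain ⟨a, ha, rfl⟩ := Finset.mem_image.mp hc1
      obtain ⟨b, hb, e⟩ := Finset.mem_image.mp hc2
      rw [hmk b (hQ0 b hb).1, hmk a (hZ0 a ha).1] at e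
      have := congrArg Subtype.val (eq_of_central_class (hZc a (hZ0 a ha).2.2 (hZ0 a ha).1) e.symm)
      exact (hQ0 b hb).2.2 (by rw [← show a = b from this]; exact (hZ0 a ha).2.2)
  omega

/-- Every moved class shares its fibre with `j` classes. -/
theorem Mover.frac (j : ℕ) (hj : 1 ≤ j)
    (hC : ∀ c ∈ movedClasses P Q h, ∃ s : Finset (ConjClasses (P : Subgroup G)), s.card = j ∧
      ∀ d ∈ s, classMap P d = classMap P c) :
    j * Nat.card (PClass 2 G) + (j - 1) * Nat.card (movedClasses P Q h) ≤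
      j * Nat.card (ConjClasses (P : Subgroup G)) := by
  classical
  have hb := card_le_frac (classMap P) (classMap_surjective P) (movedClasses P Q h)ᶜ j hj
    fun c hc => hC c (not_not.1 hc)
  have e : Nat.card ↥(movedClasses P Q h)ᶜ + Nat.card (movedClasses P Q h) =
      Nat.card (ConjClasses (P : Subgroup G)) := by
    rw [Nat.card_coe_set_eq, Nat.card_coe_set_eq, Nat.add_comm]
    exact Set.ncard_add_ncard_compl _
  obtain ⟨i, rfl⟩ : ∃ i, j = i + 1 := ⟨j - 1, by omega⟩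
  rw [Nat.add_sub_cancel] at hb ⊢
  have e' := congrArg (i * ·) e
  simp only [mul_add] at e'
  rw [add_mul, one_mul] at hb ⊢
  rw [add_mul, one_mul]
  omega

theorem Mover.conj_distinct (M : Mover P Q h) {a : (P : Subgroup G)} (haQ : (a : G) ∈ Q)
    (ha : (a : G) ∉ fixed Q h) : h * (a : G) ≠ a * h := fun e => ha (mem_fixed.2 ⟨haQ, e⟩)

/-- A central mover. -/
theorem Mover.central_eq (M : Mover P Q h) (hc : Nat.card (commutator (P : Subgroup G)) ≤ 2)
    (hk : 2 * Nat.card (PClass 2 G) = Nat.card (P : Subgroup G))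
    (hQ : ∀ a : (P : Subgroup G), (a : G) ∈ Q → a ∈ center (P : Subgroup G)) :
    Nat.card Q = Nat.card (center (P : Subgroup G)) ∧ 4 * Nat.card (fixed Q h) = Nat.card Q := by
  have hz : Nat.card Q = Nat.card (center (P : Subgroup G)) := by
    rw [← Subgroup.card_map_of_injective (K := center (P : Subgroup G)) (P : Subgroup G).subtype_injective]
    refine congrArg (fun H : Subgroup G => Nat.card H) (le_antisymm (fun x hx => ?_) M.center_le)
    exact ⟨⟨x, M.le hx⟩, hQ _ hx, rfl⟩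
  classical
  have hb := Mover.frac (P := P) (Q := Q) (h := h) 3 (by norm_num) fun c hc' => by
    obtain ⟨a, haQ, hanf, rfl⟩ := hc'
    obtain ⟨d1, d2, d3⟩ := three_distinct M.odd (M.conj_distinct haQ hanf)
    let b1 : (P : Subgroup G) := ⟨_, M.le (M.conj_mem haQ)⟩
    let b2 : (P : Subgroup G) := ⟨_, M.le (M.conj_mem_two haQ)⟩
    have hne : ∀ b b' : (P : Subgroup G), b ∈ center (P : Subgroup G) → (b : G) ≠ b' →
        ConjClasses.mk b ≠ ConjClasses.mk b' := fun b b' hb hne e =>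
      hne (congrArg Subtype.val (eq_of_central_class hb e))
    refine ⟨{ConjClasses.mk a, ConjClasses.mk b1, ConjClasses.mk b2}, Finset.card_eq_three.mpr ⟨_, _, _,
      hne a b1 (hQ a haQ) (Ne.symm d1), hne a b2 (hQ a haQ) (Ne.symm d2),
      hne b1 b2 (hQ b1 (M.conj_mem haQ)) (Ne.symm d3), rfl⟩, fun y hy => ?_⟩
    simp only [Finset.mem_insert, Finset.mem_singleton] at hy
    rcases hy with rfl | rfl | rfl
    · rfl
    · exact (classMap_eq (a := a) (b := b1) rfl).symm
    · exact (classMap_eq (a := a) (b := b2) rfl).symm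
  have h1 := M.moved_count hc
  have h2 := two_mul_classes_le P
  have h3 := M.four_mul_fixed
  refine ⟨hz, ?_⟩
  omega

/-- A non-central mover. -/
theorem Mover.noncentral_eq (M : Mover P Q h) (hc : Nat.card (commutator (P : Subgroup G)) ≤ 2)
    (hk : 2 * Nat.card (PClass 2 G) = Nat.card (P : Subgroup G))
    (hQ : ∃ a : (P : Subgroup G), (a : G) ∈ Q ∧ a ∉ center (P : Subgroup G)) :
    Nat.card Q = 2 * Nat.card (center (P : Subgroup G)) ∧ 4 * Nat.card (fixed Q h) = Nat.card Q ∧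
      ∃ a b : (P : Subgroup G), (a : G) ∈ Q ∧ IsConj a b ∧ a ≠ b ∧
        ((b : G) = h * a * h⁻¹ ∨ (b : G) = h ^ 2 * a * (h ^ 2)⁻¹) := by
  classical
  have h1 := M.moved_count hc
  have h2 := two_mul_classes_le P
  have h3 := M.four_mul_fixed
  have h4 : 2 * Nat.card (center (P : Subgroup G)) ≤ Nat.card Q := by
    have hlt : (center (P : Subgroup G)).map (P : Subgroup G).subtype < Q := by
      refine lt_of_le_of_ne M.center_le fun e => ?_
      obtain ⟨a, haQ, ha⟩ := hQ
      obtain ⟨w, hw, hwa⟩ := (e.symm ▸ haQ : (a : G) ∈ (center (P : Subgroup G)).map (P : Subgroup G).subtype)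
      exact ha ((Subtype.ext hwa : w = a) ▸ hw)
    obtain ⟨t, ht⟩ := Subgroup.card_dvd_of_le hlt.le
    have h5 : Nat.card ((center (P : Subgroup G)).map (P : Subgroup G).subtype) < Nat.card Q :=
      lt_of_le_of_ne (card_le_of_le hlt.le) fun e => hlt.ne (eq_of_le_of_card_ge hlt.le e.ge)
    rw [Subgroup.card_map_of_injective (P : Subgroup G).subtype_injective] at ht h5
    have : 2 ≤ t := by
      by_contra hlt2
      interval_cases t <;> omega
    calc 2 * Nat.card (center (P : Subgroup G)) ≤ t * Nat.card (center (P : Subgroup G)) :=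
          Nat.mul_le_mul_right _ this
      _ = Nat.card Q := by rw [ht, mul_comm]
  have hb := Mover.frac (P := P) (Q := Q) (h := h) 2 one_le_two fun c hc' => by
    obtain ⟨a, haQ, hanf, rfl⟩ := hc'
    obtain ⟨d1, d2, d3⟩ := three_distinct M.odd (M.conj_distinct haQ hanf)
    let b1 : (P : Subgroup G) := ⟨_, M.le (M.conj_mem haQ)⟩
    let b2 : (P : Subgroup G) := ⟨_, M.le (M.conj_mem_two haQ)⟩
    by_cases e1 : ConjClasses.mk b1 = ConjClasses.mk a
    · refine ⟨{ConjClasses.mk a, ConjClasses.mk b2}, Finset.card_pair fun e2 => ?_, fun y hy => ?_⟩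
      · rcases size_two hc (ConjClasses.mk_eq_mk_iff_isConj.mp e1).symm
          (ConjClasses.mk_eq_mk_iff_isConj.mp e2) with e | e | e
        · exact d1 (congrArg Subtype.val e).symm
        · exact d2 (congrArg Subtype.val e).symm
        · exact d3 (congrArg Subtype.val e).symm
      · simp only [Finset.mem_insert, Finset.mem_singleton] at hy
        rcases hy with rfl | rfl
        · rfl
        · exact (classMap_eq (a := a) (b := b2) rfl).symm
    · refine ⟨{ConjClasses.mk a, ConjClasses.mk b1}, Finset.card_pair (Ne.symm e1), fun y hy => ?_⟩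
      simp only [Finset.mem_insert, Finset.mem_singleton] at hy
      rcases hy with rfl | rfl
      · rfl
      · exact (classMap_eq (a := a) (b := b1) rfl).symm
  refine ⟨by omega, by omega, ?_⟩
  -- otherwise the fibres have three classes
  by_contra hno
  push Not at hno
  have hb3 := Mover.frac (P := P) (Q := Q) (h := h) 3 (by norm_num) fun c hc' => by
    obtain ⟨a, haQ, hanf, rfl⟩ := hc'
    obtain ⟨d1, d2, d3⟩ := three_distinct M.odd (M.conj_distinct haQ hanf)
    let b1 : (P : Subgroup G) := ⟨_, M.le (M.conj_mem haQ)⟩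
    let b2 : (P : Subgroup G) := ⟨_, M.le (M.conj_mem_two haQ)⟩
    have n1 : ConjClasses.mk a ≠ ConjClasses.mk b1 := fun e =>
      (hno a b1 haQ (ConjClasses.mk_eq_mk_iff_isConj.mp e) fun e' => d1 (congrArg Subtype.val e').symm).1 rfl
    have n2 : ConjClasses.mk a ≠ ConjClasses.mk b2 := fun e =>
      (hno a b2 haQ (ConjClasses.mk_eq_mk_iff_isConj.mp e) fun e' => d2 (congrArg Subtype.val e').symm).2 rfl
    have n3 : ConjClasses.mk b1 ≠ ConjClasses.mk b2 := fun e =>
      (hno b1 b2 (M.conj_mem haQ) (ConjClasses.mk_eq_mk_iff_isConj.mp e)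
        fun e' => d3 (congrArg Subtype.val e').symm).1 (by
          show h ^ 2 * (a : G) * (h ^ 2)⁻¹ = h * (h * a * h⁻¹) * h⁻¹
          rw [sq]; group)
    refine ⟨{ConjClasses.mk a, ConjClasses.mk b1, ConjClasses.mk b2},
      Finset.card_eq_three.mpr ⟨_, _, _, n1, n2, n3, rfl⟩, fun y hy => ?_⟩
    simp only [Finset.mem_insert, Finset.mem_singleton] at hy
    rcases hy with rfl | rfl | rfl
    · rfl
    · exact (classMap_eq (a := a) (b := b1) rfl).symm
    · exact (classMap_eq (a := a) (b := b2) rfl).symm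
  have := Nat.card_pos (α := center (P : Subgroup G))
  omega

/-- Without the bound on the classes there is a mover. -/
theorem exists_mover (P₀ : Sylow 2 G) (hk : 2 * Nat.card (PClass 2 G) = Nat.card (P₀ : Subgroup G)) :
    ∃ (P : Sylow 2 G) (Q : Subgroup G) (h : G), Mover P Q h ∧ Nat.card (commutator (P : Subgroup G)) ≤ 2 ∧
      2 * Nat.card (PClass 2 G) = Nat.card (P : Subgroup G) := by
  have hd : ∀ P : Sylow 2 G, Nat.card (commutator (P : Subgroup G)) ≤ 2 ∧
      2 * Nat.card (PClass 2 G) = Nat.card (P : Subgroup G) := fun P => by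
    have h1 : 2 * Nat.card (PClass 2 G) = Nat.card (P : Subgroup G) := by
      rw [hk, P₀.card_eq_multiplicity, P.card_eq_multiplicity]
    exact ⟨card_commutator_le P (h1 ▸ Nat.mul_le_mul_left 2
      (Nat.card_le_card_of_surjective _ (classMap_surjective P))), h1⟩
  have hn : ¬ Cfsg.HasNormalPComplement 2 G := fun hN => by
    have h1 := card_lt_classes (hd P₀).1
    rw [← card_pClass_eq_classes P₀ hN] at h1
    omega
  obtain ⟨P, Q, h, h1, h2, h3, h4, h5⟩ := exists_moved hn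
  exact ⟨P, Q, h, ⟨h1, h2, h3, h4, h5⟩, hd P⟩

/-- A central mover lifts to the normalizer of the Sylow subgroup. -/
theorem Mover.lift (M : Mover P Q h) (hQ : ∀ a : (P : Subgroup G), (a : G) ∈ Q → a ∈ center (P : Subgroup G)) :
    ∃ n : G, Mover P (P : Subgroup G) n := by
  set C := centralizer (Q : Set G) with hC
  have hPC : (P : Subgroup G) ≤ C := fun x hx => mem_centralizer_iff.mpr fun q hq =>
    (congrArg Subtype.val (mem_center_iff.mp (hQ ⟨q, M.le hq⟩ hq) ⟨x, hx⟩)).symm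
  have hPh : ((h • P : Sylow 2 G) : Subgroup G) ≤ C := fun x hx => by
    rw [Sylow.coe_subgroup_smul, mem_smul_conj] at hx
    refine mem_centralizer_iff.mpr fun q hq => ?_
    have hq' : h⁻¹ * q * h ∈ Q := by
      have := (mem_normalizer_iff.1 (inv_mem M.norm) q).1 hq
      rwa [inv_inv] at this
    have := mem_centralizer_iff.mp (hPC hx) _ hq'
    calc q * x = h * (h⁻¹ * q * h * (h⁻¹ * x * h)) * h⁻¹ := by group
      _ = x * q := by rw [this]; group
  obtain ⟨c, hc⟩ := MulAction.exists_smul_eq C ((h • P : Sylow 2 G).subtype hPh) (P.subtype hPC)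
  rw [Sylow.smul_subtype] at hc
  have hcP : (c : G) • h • P = P := Sylow.subtype_injective hc
  set n := (c : G) * h with hn
  have hnP : n ∈ normalizer ((P : Subgroup G) : Set G) := by
    exact Sylow.smul_eq_iff_mem_normalizer.mp (by rw [hn, mul_smul, hcP])
  have hnk : ∀ (k : ℕ), ∀ q ∈ Q, n ^ k * q * (n ^ k)⁻¹ = h ^ k * q * (h ^ k)⁻¹ := by
    intro k
    induction k with
    | zero => simp
    | succ k ih =>
      intro q hq
      have h1 : n * q * n⁻¹ = h * q * h⁻¹ := by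
        have := mem_centralizer_iff.mp c.2 _ (M.conj_mem hq)
        calc n * q * n⁻¹ = (c : G) * (h * q * h⁻¹) * (c : G)⁻¹ := by rw [hn]; group
          _ = _ := by rw [← this]; group
      calc n ^ (k + 1) * q * (n ^ (k + 1))⁻¹ = n ^ k * (n * q * n⁻¹) * (n ^ k)⁻¹ := by
            rw [pow_succ]; group
        _ = h ^ k * (h * q * h⁻¹) * (h ^ k)⁻¹ := by rw [h1, ih _ (M.conj_mem hq)]
        _ = _ := by rw [pow_succ]; group
  set e := (orderOf n).factorization 2
  refine ⟨n ^ 2 ^ e, le_rfl, map_subtype_le _, pow_mem hnP _, ?_, ?_⟩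
  · exact Odd.of_dvd_nat (Nat.odd_iff.mpr (Nat.two_dvd_ne_zero.mp
      (Nat.not_dvd_ordCompl Nat.prime_two (orderOf_pos n).ne')))
      (orderOf_dvd_of_pow_eq_one (by
        rw [← pow_mul, Nat.mul_div_cancel' (Nat.ordProj_dvd _ _), pow_orderOf_eq_one]))
  · obtain ⟨q, hq, hne⟩ := M.moved
    refine ⟨q, M.le hq, fun e' => hne ?_⟩
    have h1 : h ^ 2 ^ e * q * (h ^ 2 ^ e)⁻¹ = q := by
      rw [← hnk _ q hq]; exact mul_inv_eq_iff_eq_mul.mpr e'
    obtain ⟨i, hi⟩ := mem_zpowers_iff.mp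
      (mem_zpowers_pow_of_coprime ((Nat.coprime_two_right.mpr M.odd).pow_right e))
    have h2 : Commute (h ^ 2 ^ e) q := mul_inv_eq_iff_eq_mul.mp h1
    rw [← hi]
    exact h2.zpow_left i

/-- The commutators of the mover on an abelian subgroup. -/
theorem Mover.exists_klein (M : Mover P Q h) (hab : ∀ x ∈ Q, ∀ y ∈ Q, x * y = y * x)
    (h4 : 4 * Nat.card (fixed Q h) = Nat.card Q) :
    ∃ V : Subgroup G, V ≤ Q ∧ Nat.card V = 4 ∧ (∀ v ∈ V, v ∈ fixed Q h → v = 1) ∧
      ∀ q ∈ Q, h * q * h⁻¹ * q⁻¹ ∈ V := by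
  let φ : Q →* G := MonoidHom.mk' (fun q => h * (q : G) * h⁻¹ * (q : G)⁻¹) fun q r => by
    have := hab _ (mul_mem (M.conj_mem r.2) (inv_mem r.2)) _ (inv_mem q.2)
    calc h * ((q * r : Q) : G) * h⁻¹ * ((q * r : Q) : G)⁻¹
        = h * q * h⁻¹ * ((h * r * h⁻¹ * (r : G)⁻¹) * (q : G)⁻¹) := by rw [coe_mul]; group
      _ = _ := by rw [this]; group
  refine ⟨φ.range, ?_, ?_, ?_, fun q hq => ⟨⟨q, hq⟩, rfl⟩⟩
  · rintro _ ⟨q, rfl⟩
    exact mul_mem (M.conj_mem q.2) (inv_mem q.2)
  · have hker : φ.ker = (fixed Q h).subgroupOf Q := by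
      ext q
      rw [MonoidHom.mem_ker, mem_subgroupOf, mem_fixed]
      show h * (q : G) * h⁻¹ * (q : G)⁻¹ = 1 ↔ _
      rw [mul_inv_eq_one, mul_inv_eq_iff_eq_mul, and_iff_right q.2]
    have h1 := φ.ker.card_mul_index
    have hle : fixed Q h ≤ Q := inf_le_left
    rw [Subgroup.index_ker, hker, Nat.card_congr (Subgroup.subgroupOfEquivOfLe hle).toEquiv, ← h4,
      mul_comm 4] at h1
    exact Nat.eq_of_mul_eq_mul_left Nat.card_pos h1
  · rintro _ ⟨q, rfl⟩ hf
    have e : φ q = (q : G)⁻¹ * (h * q * h⁻¹) := (hab _ (inv_mem q.2) _ (M.conj_mem q.2)).symm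
    obtain ⟨i, hi⟩ := P.isPGroup'.to_le M.le (⟨φ q, (mem_fixed.mp hf).1⟩ : Q)
    have hc : h * φ q = φ q * h := (mem_fixed.mp hf).2
    rw [e] at hc ⊢
    exact eq_one_of_fixed_diff M.odd hc ⟨i, e ▸ congrArg Subtype.val hi⟩

/-- Fused elements differ in `V` when a set of classes may be avoided. -/
theorem fusion_mem (P : Sylow 2 G) (V : Subgroup G) (B : Set (ConjClasses (P : Subgroup G)))
    (hV : ∀ w ∈ commutator (P : Subgroup G), (w : G) ∈ V)
    (hB : ∀ c ∈ B, ∃ x a : (P : Subgroup G), ConjClasses.mk x = c ∧ ConjClasses.mk a ∉ B ∧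
      classMap P (ConjClasses.mk a) = classMap P c ∧ (x : G)⁻¹ * a ∈ V)
    (hcard : Nat.card ↥Bᶜ ≤ Nat.card (PClass 2 G)) :
    ∀ x ∈ (P : Subgroup G), ∀ t : G, t * x * t⁻¹ ∈ (P : Subgroup G) → x⁻¹ * (t * x * t⁻¹) ∈ V := by
  have hconj : ∀ a b : (P : Subgroup G), ConjClasses.mk a = ConjClasses.mk b → (a : G)⁻¹ * b ∈ V :=
    fun a b e => by
      have h1 := (inferInstance : (commutator (P : Subgroup G)).Normal).conj_mem _
        (div_mem_commutator (ConjClasses.mk_eq_mk_iff_isConj.mp e)) a⁻¹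
      have h2 := hV _ h1
      have e' : a⁻¹ * (b * a⁻¹) * a⁻¹⁻¹ = a⁻¹ * b := by group
      rw [e'] at h2
      exact h2
  have hrep : ∀ x : (P : Subgroup G), ∃ a : (P : Subgroup G), ConjClasses.mk a ∉ B ∧
      classMap P (ConjClasses.mk a) = classMap P (ConjClasses.mk x) ∧ (x : G)⁻¹ * a ∈ V := by
    intro x
    by_cases hx : ConjClasses.mk x ∈ B
    · obtain ⟨y, a, hy, ha, hcl, hya⟩ := hB _ hx
      refine ⟨a, ha, hcl, ?_⟩
      rw [show (x : G)⁻¹ * a = ((x : G)⁻¹ * y) * ((y : G)⁻¹ * a) by group]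
      exact mul_mem (hconj x y hy.symm) hya
    · exact ⟨x, hx, rfl, by rw [inv_mul_cancel]; exact one_mem V⟩
  let f : ↥Bᶜ → PClass 2 G := fun c => classMap P c.1
  have hfs : Function.Surjective f := fun d => by
    obtain ⟨c, hc⟩ := classMap_surjective P d
    obtain ⟨x, rfl⟩ := ConjClasses.mk_surjective c
    obtain ⟨a, ha, hcl, -⟩ := hrep x
    exact ⟨⟨_, ha⟩, hcl.trans hc⟩
  have hinj : Function.Injective f := ((Nat.bijective_iff_surjective_and_card f).mpr
    ⟨hfs, le_antisymm hcard (Nat.card_le_card_of_surjective f hfs)⟩).1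
  intro x hx t ht
  obtain ⟨a, ha, hca, hxa⟩ := hrep ⟨x, hx⟩
  obtain ⟨b, hb, hcb, hyb⟩ := hrep ⟨_, ht⟩
  have e : (⟨_, ha⟩ : ↥Bᶜ) = ⟨_, hb⟩ := hinj (hca.trans ((classMap_eq (t := t) rfl).trans hcb.symm))
  have e' : x⁻¹ * (t * x * t⁻¹) = (x⁻¹ * (a : G)) * ((a : G)⁻¹ * b) * ((t * x * t⁻¹)⁻¹ * (b : G))⁻¹ := by
    group
  rw [e']
  exact mul_mem (mul_mem hxa (hconj a b (congrArg Subtype.val e))) (inv_mem hyb)

theorem fixed_cancel {V : Subgroup G} (hVf : ∀ v ∈ V, v ∈ fixed Q h → v = 1) {c c' v v' : G}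
    (hc : c ∈ fixed Q h) (hc' : c' ∈ fixed Q h) (hv : v ∈ V) (hv' : v' ∈ V)
    (hab : v⁻¹ * c⁻¹ = c⁻¹ * v⁻¹) (hcv : v' * c⁻¹ = c⁻¹ * v')
    (hd : c' * v' * (c * v)⁻¹ ∈ V) : c' = c := by
  refine mul_inv_eq_one.mp (hVf _ ?_ (mul_mem hc' (inv_mem hc)))
  have e : c' * v' * (c * v)⁻¹ = c' * c⁻¹ * (v' * v⁻¹) := by
    calc c' * v' * (c * v)⁻¹ = c' * (v' * (v⁻¹ * c⁻¹)) := by group
      _ = c' * ((v' * c⁻¹) * v⁻¹) := by rw [hab, mul_assoc]
      _ = _ := by rw [hcv]; group
  rw [e] at hd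
  have := mul_mem hd (inv_mem (mul_mem hv' (inv_mem hv)))
  rwa [mul_inv_cancel_right] at this

/-- Fused elements differ in a subgroup of order four: non-central movers. -/
theorem Mover.fusion_noncentral (M : Mover P Q h) (hc : Nat.card (commutator (P : Subgroup G)) ≤ 2)
    (hk : 2 * Nat.card (PClass 2 G) = Nat.card (P : Subgroup G))
    (hQ : ∃ a : (P : Subgroup G), (a : G) ∈ Q ∧ a ∉ center (P : Subgroup G)) :
    ∃ V : Subgroup G, Nat.card V = 4 ∧
      ∀ x ∈ (P : Subgroup G), ∀ t : G, t * x * t⁻¹ ∈ (P : Subgroup G) → x⁻¹ * (t * x * t⁻¹) ∈ V := by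
  obtain ⟨hQz, h4, a, b, haQ, hab', hne, hb⟩ := M.noncentral_eq hc hk hQ
  set Z := ((center (P : Subgroup G)).map (P : Subgroup G).subtype).subgroupOf Q with hZ
  have hZi : Z.index = 2 := by
    have h1 := Z.card_mul_index
    rw [Nat.card_congr (Subgroup.subgroupOfEquivOfLe M.center_le).toEquiv,
      Subgroup.card_map_of_injective (P : Subgroup G).subtype_injective, hQz, mul_comm 2] at h1
    exact Nat.eq_of_mul_eq_mul_left Nat.card_pos h1
  have hZc : ∀ x : Q, x ∈ Z → ∀ y ∈ Q, (x : G) * y = y * x := by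
    intro x hx y hy
    obtain ⟨w, hw, hwx⟩ := hx
    have h1 : y * (w : G) = w * y := congrArg Subtype.val (mem_center_iff.mp hw ⟨y, M.le hy⟩)
    rw [show (w : G) = (x : G) from hwx] at h1
    exact h1.symm
  have hab : ∀ x ∈ Q, ∀ y ∈ Q, x * y = y * x := by
    intro x hx y hy
    by_cases h1 : (⟨x, hx⟩ : Q) ∈ Z
    · exact hZc _ h1 y hy
    by_cases h2 : (⟨y, hy⟩ : Q) ∈ Z
    · exact (hZc _ h2 x hx).symm
    have h3 : (⟨x, hx⟩ : Q) * (⟨y, hy⟩ : Q)⁻¹ ∈ Z := by
      rw [Subgroup.mul_mem_iff_of_index_two hZi, inv_mem_iff]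
      exact iff_of_false h1 h2
    have h4' : x * y⁻¹ * y = y * (x * y⁻¹) := hZc _ h3 y hy
    rw [inv_mul_cancel_right] at h4'
    calc x * y = y * (x * y⁻¹) * y := by rw [← h4']
      _ = y * x := by group
  obtain ⟨V, hVQ, hV4, hVf, hVd⟩ := M.exists_klein hab h4
  have hVh : ∀ v ∈ V, h * v * h⁻¹ ∈ V := fun v hv => by
    have := mul_mem (hVd v (hVQ hv)) hv
    rwa [inv_mul_cancel_right] at this
  -- the generator of the derived subgroup
  set z : (P : Subgroup G) := b * a⁻¹ with hz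
  have hz1 : z ≠ 1 := fun e => hne (mul_inv_eq_one.mp e).symm
  have hzc : z ∈ commutator (P : Subgroup G) := div_mem_commutator hab'
  have hzV : (z : G) ∈ V := by
    show (b : G) * (a : G)⁻¹ ∈ V
    rcases hb with e | e <;> rw [e]
    · exact hVd _ haQ
    · have e' : h ^ 2 * (a : G) * (h ^ 2)⁻¹ * (a : G)⁻¹ =
          h * (h * a * h⁻¹) * h⁻¹ * (h * a * h⁻¹)⁻¹ * (h * a * h⁻¹ * (a : G)⁻¹) := by rw [sq]; group
      rw [e']
      exact mul_mem (hVd _ (M.conj_mem haQ)) (hVd _ haQ)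
  have hcomm : ∀ w ∈ commutator (P : Subgroup G), w = 1 ∨ w = z := fun w hw =>
    (em (w = 1)).imp_right fun hw1 => eq_of_commutator_le_two hc hw hzc hw1 hz1
  have hPV : ∀ w ∈ commutator (P : Subgroup G), (w : G) ∈ V := fun w hw => by
    rcases hcomm w hw with rfl | rfl
    exacts [one_mem V, hzV]
  have hv1 : h * (z : G) * h⁻¹ ∈ V := hVh _ hzV
  have hzne : h * (z : G) ≠ z * h := fun e => hz1 (Subtype.ext (hVf _ hzV (mem_fixed.mpr ⟨hVQ hzV, e⟩)))
  obtain ⟨d1, -, -⟩ := three_distinct M.odd hzne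
  have hmem : ∀ c : fixed Q h, ∀ v ∈ V, (c : G) * v ∈ (P : Subgroup G) := fun c v hv =>
    M.le (mul_mem c.2.1 (hVQ hv))
  let F : ∀ v ∈ V, fixed Q h → ConjClasses (P : Subgroup G) := fun v hv c =>
    ConjClasses.mk ⟨(c : G) * v, hmem c v hv⟩
  have hF : ∀ v, ∀ hv : v ∈ V, ∀ v', ∀ hv' : v' ∈ V, ∀ c c' : fixed Q h, F v hv c = F v' hv' c' →
      c' = c ∧ (v' * v⁻¹ = 1 ∨ v' * v⁻¹ = z) := by
    intro v hv v' hv' c c' e
    have h1 := div_mem_commutator (ConjClasses.mk_eq_mk_iff_isConj.mp e)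
    have hc' : (c' : G) = c := fixed_cancel hVf c.2 c'.2 hv hv'
      (hab _ (inv_mem (hVQ hv)) _ (inv_mem c.2.1)) (hab _ (hVQ hv') _ (inv_mem c.2.1)) (hPV _ h1)
    refine ⟨Subtype.ext hc', ?_⟩
    have h2 : (c' : G) * v' * ((c : G) * v)⁻¹ = v' * v⁻¹ := by
      rw [hc']
      calc (c : G) * v' * ((c : G) * v)⁻¹ = (c : G) * (v' * v⁻¹) * (c : G)⁻¹ := by group
        _ = _ := by rw [hab _ c.2.1 _ (mul_mem (hVQ hv') (inv_mem (hVQ hv))), mul_inv_cancel_right]
    rcases hcomm _ h1 with e1 | e1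
    · exact Or.inl (h2.symm.trans (congrArg Subtype.val e1))
    · exact Or.inr (h2.symm.trans (congrArg Subtype.val e1))
  refine ⟨V, hV4, fusion_mem P V (Set.range (F _ hv1)) hPV ?_ ?_⟩
  · rintro _ ⟨c, rfl⟩
    refine ⟨⟨_, hmem c _ hv1⟩, ⟨_, hmem c _ hzV⟩, rfl, ?_, classMap_eq (t := h) ?_, ?_⟩
    · rintro ⟨c', e⟩
      obtain ⟨-, e1 | e1⟩ := hF _ hv1 _ hzV c' c e
      · exact d1 (mul_inv_eq_one.mp e1).symm
      · rw [mul_eq_left, inv_eq_one, conj_eq_one_iff] at e1
        exact hz1 (Subtype.ext e1)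
    · show h * ((c : G) * z) * h⁻¹ = c * (h * z * h⁻¹)
      calc h * ((c : G) * z) * h⁻¹ = h * (c : G) * (z * h⁻¹) := by group
        _ = _ := by rw [(mem_fixed.mp c.2).2]; group
    · show ((c : G) * (h * z * h⁻¹))⁻¹ * ((c : G) * z) ∈ V
      rw [show ((c : G) * (h * z * h⁻¹))⁻¹ * ((c : G) * z) = (h * z * h⁻¹)⁻¹ * z by group]
      exact mul_mem (inv_mem hv1) hzV
  · have h1 := Set.ncard_add_ncard_compl (Set.range (F _ hv1))
    rw [← Nat.card_coe_set_eq, ← Nat.card_coe_set_eq, Nat.card_range_of_injective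
      (fun c c' e => (hF _ hv1 _ hv1 c c' e).1.symm)] at h1
    have h2 := two_mul_classes_le P
    omega

/-- Fused elements differ in a subgroup of order four: abelian Sylow subgroups. -/
theorem Mover.fusion_abelian (M : Mover P Q h) (hc : Nat.card (commutator (P : Subgroup G)) ≤ 2)
    (hk : 2 * Nat.card (PClass 2 G) = Nat.card (P : Subgroup G))
    (hP : ∀ a : (P : Subgroup G), a ∈ center (P : Subgroup G)) :
    ∃ V : Subgroup G, Nat.card V = 4 ∧
      ∀ x ∈ (P : Subgroup G), ∀ t : G, t * x * t⁻¹ ∈ (P : Subgroup G) → x⁻¹ * (t * x * t⁻¹) ∈ V := by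
  obtain ⟨hQz, h4⟩ := M.central_eq hc hk fun a _ => hP a
  have hzP : Nat.card (center (P : Subgroup G)) = Nat.card (P : Subgroup G) := by
    rw [(eq_top_iff.mpr fun a _ => hP a : center (P : Subgroup G) = ⊤), card_top]
  have hab : ∀ x ∈ Q, ∀ y ∈ Q, x * y = y * x := fun x hx y hy =>
    congrArg Subtype.val (mem_center_iff.mp (hP ⟨y, M.le hy⟩) ⟨x, M.le hx⟩)
  have heq : ∀ a b : (P : Subgroup G), ConjClasses.mk a = ConjClasses.mk b → a = b := fun a b =>
    eq_of_central_class (hP a)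
  obtain ⟨V, hVQ, hV4, hVf, hVd⟩ := M.exists_klein hab h4
  have hVh : ∀ v ∈ V, h * v * h⁻¹ ∈ V := fun v hv => by
    have := mul_mem (hVd v (hVQ hv)) hv
    rwa [inv_mul_cancel_right] at this
  have hPV : ∀ w ∈ commutator (P : Subgroup G), (w : G) ∈ V := by
    have hb : commutator (P : Subgroup G) = ⊥ := by
      rw [commutator_def, commutator_eq_bot_iff_le_centralizer]
      exact fun x _ => mem_centralizer_iff.mpr fun y _ => mem_center_iff.mp (hP x) y
    intro w hw
    rw [hb, mem_bot] at hw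
    rw [hw]; exact one_mem V
  obtain ⟨⟨v, hv⟩, hv'⟩ : ∃ v : V, v ≠ 1 := by
    have : Nontrivial V := Finite.one_lt_card_iff_nontrivial.mp (by omega)
    exact exists_ne 1
  have hvne : h * v ≠ v * h := fun e => hv' (Subtype.ext (hVf _ hv (mem_fixed.mpr ⟨hVQ hv, e⟩)))
  obtain ⟨d1, d2, d3⟩ := three_distinct M.odd hvne
  have hv1 : h * v * h⁻¹ ∈ V := hVh _ hv
  have hv2 : h ^ 2 * v * (h ^ 2)⁻¹ ∈ V := by
    rw [show h ^ 2 * v * (h ^ 2)⁻¹ = h * (h * v * h⁻¹) * h⁻¹ by rw [sq]; group]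
    exact hVh _ hv1
  have hmem : ∀ c : fixed Q h, ∀ w ∈ V, (c : G) * w ∈ (P : Subgroup G) := fun c w hw =>
    M.le (mul_mem c.2.1 (hVQ hw))
  let F : ∀ w ∈ V, fixed Q h → ConjClasses (P : Subgroup G) := fun w hw c =>
    ConjClasses.mk ⟨(c : G) * w, hmem c w hw⟩
  have hF : ∀ w, ∀ hw : w ∈ V, ∀ w', ∀ hw' : w' ∈ V, ∀ c c' : fixed Q h, F w hw c = F w' hw' c' →
      c' = c ∧ w' = w := by
    intro w hw w' hw' c c' e
    have e1 : (c : G) * w = c' * w' := congrArg Subtype.val (heq _ _ e)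
    have hc' : (c' : G) = c := fixed_cancel hVf c.2 c'.2 hw hw'
      (hab _ (inv_mem (hVQ hw)) _ (inv_mem c.2.1)) (hab _ (hVQ hw') _ (inv_mem c.2.1))
      (by rw [← e1, mul_inv_cancel]; exact one_mem V)
    rw [hc'] at e1
    exact ⟨Subtype.ext hc', (mul_left_cancel e1).symm⟩
  let F₂ := Sum.elim (F _ hv1) (F _ hv2)
  have hF₂ : Function.Injective F₂ := by
    rintro (c | c) (c' | c') e
    · exact congrArg Sum.inl (hF _ hv1 _ hv1 c c' e).1.symm
    · exact absurd (hF _ hv1 _ hv2 c c' e).2 d3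
    · exact absurd (hF _ hv2 _ hv1 c c' e).2.symm d3
    · exact congrArg Sum.inr (hF _ hv2 _ hv2 c c' e).1.symm
  refine ⟨V, hV4, fusion_mem P V (Set.range F₂) hPV ?_ ?_⟩
  · rintro _ ⟨c, rfl⟩
    have hnot : ∀ c : fixed Q h, ConjClasses.mk (⟨_, hmem c v hv⟩ : (P : Subgroup G)) ∉ Set.range F₂ := by
      rintro c ⟨c' | c', e⟩
      · exact d1 (hF _ hv1 _ hv c' c e).2.symm
      · exact d2 (hF _ hv2 _ hv c' c e).2.symm
    rcases c with c | c
    · refine ⟨⟨_, hmem c _ hv1⟩, ⟨_, hmem c _ hv⟩, rfl, hnot c, classMap_eq (t := h) ?_, ?_⟩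
      · show h * ((c : G) * v) * h⁻¹ = c * (h * v * h⁻¹)
        calc h * ((c : G) * v) * h⁻¹ = h * (c : G) * (v * h⁻¹) := by group
          _ = _ := by rw [(mem_fixed.mp c.2).2]; group
      · show ((c : G) * (h * v * h⁻¹))⁻¹ * ((c : G) * v) ∈ V
        rw [show ((c : G) * (h * v * h⁻¹))⁻¹ * ((c : G) * v) = (h * v * h⁻¹)⁻¹ * v by group]
        exact mul_mem (inv_mem hv1) hv
    · refine ⟨⟨_, hmem c _ hv2⟩, ⟨_, hmem c _ hv⟩, rfl, hnot c, classMap_eq (t := h ^ 2) ?_, ?_⟩
      · show h ^ 2 * ((c : G) * v) * (h ^ 2)⁻¹ = c * (h ^ 2 * v * (h ^ 2)⁻¹)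
        have hc2 : Commute (h ^ 2) (c : G) := (show Commute h (c : G) from (mem_fixed.mp c.2).2).pow_left 2
        calc h ^ 2 * ((c : G) * v) * (h ^ 2)⁻¹ = h ^ 2 * (c : G) * (v * (h ^ 2)⁻¹) := by group
          _ = _ := by rw [hc2.eq]; group
      · show ((c : G) * (h ^ 2 * v * (h ^ 2)⁻¹))⁻¹ * ((c : G) * v) ∈ V
        rw [show ((c : G) * (h ^ 2 * v * (h ^ 2)⁻¹))⁻¹ * ((c : G) * v) =
          (h ^ 2 * v * (h ^ 2)⁻¹)⁻¹ * v by group]
        exact mul_mem (inv_mem hv2) hv
  · have h1 := Set.ncard_add_ncard_compl (Set.range F₂)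
    rw [← Nat.card_coe_set_eq, ← Nat.card_coe_set_eq, Nat.card_range_of_injective hF₂, Nat.card_sum] at h1
    have h2 := two_mul_classes_le P
    omega

/-- The derived group has Sylow 2-subgroups of order at most four. -/
theorem not_eight_dvd_commutator (P₀ : Sylow 2 G)
    (hk : 2 * Nat.card (PClass 2 G) = Nat.card (P₀ : Subgroup G)) :
    ¬ 8 ∣ Nat.card (commutator G) := by
  obtain ⟨P, Q, h, M, hc, hkP⟩ := exists_mover P₀ hk
  obtain ⟨V, hV, hfus⟩ : ∃ V : Subgroup G, Nat.card V = 4 ∧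
      ∀ x ∈ (P : Subgroup G), ∀ t : G, t * x * t⁻¹ ∈ (P : Subgroup G) → x⁻¹ * (t * x * t⁻¹) ∈ V := by
    by_cases hP : ∀ a : (P : Subgroup G), a ∈ center (P : Subgroup G)
    · exact M.fusion_abelian hc hkP hP
    by_cases hQ : ∃ a : (P : Subgroup G), (a : G) ∈ Q ∧ a ∉ center (P : Subgroup G)
    · exact M.fusion_noncentral hc hkP hQ
    push Not at hQ hP
    obtain ⟨n, hn⟩ := M.lift hQ
    obtain ⟨a, ha⟩ := hP
    exact hn.fusion_noncentral hc hkP ⟨a, a.2, ha⟩
  have hle := Transfer.commutator_inf_sylow_le P hfus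
  intro h8
  obtain ⟨S, hS⟩ := Sylow.exists_subgroup_card_pow_prime 2 (n := 3) (G := commutator G) (by simpa using h8)
  have hSp : IsPGroup 2 (S.map (commutator G).subtype) :=
    IsPGroup.of_card (n := 3) (by rw [Subgroup.card_map_of_injective (commutator G).subtype_injective, hS])
  obtain ⟨R, hR⟩ := hSp.exists_le_sylow
  obtain ⟨g, hg⟩ := MulAction.exists_smul_eq G R P
  have h1 : MulAut.conj g • S.map (commutator G).subtype ≤ V := by
    refine le_trans (le_inf (fun y hy => ?_) (fun y hy => ?_)) hle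
    · rw [mem_smul_conj] at hy
      have := (inferInstance : (commutator G).Normal).conj_mem _ (map_subtype_le _ hy) g
      simpa [mul_assoc] using this
    · rw [← hg, Sylow.coe_subgroup_smul]
      exact Subgroup.pointwise_smul_le_pointwise_smul_iff.mpr hR hy
  have h2 := card_le_of_le h1
  rw [card_conj_smul, Subgroup.card_map_of_injective (commutator G).subtype_injective, hS, hV] at h2
  omega

end Cfsg.Agent.Transfer.HalfClasses
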