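import Mathlib
import Cfsg.Agent.Lib.Transfer.FrobeniusFormula
import Cfsg.Agent.Lib.Grp.Coprime
import Cfsg.Agent.Lib.Grp.SameOrderConj

/-!
For a `p`-group `P` acting coprimely on `H`:
`(∏ x ∈ P, |C_H(x)|) ^ p * |C_H(P)| ^ |P| ≤ |H| ^ |P| * |C_H(P)| ^ (p * |P|)`.
-/

set_option autoImplicit false
set_option maxHeartbeats 1000000

namespace Cfsg.Agent.Transfer.CentProd

open scoped Pointwise
open Finset

universe u v

section abelian

variable {A : Type u} [Group A] {V : Type v} [CommGroup V] (φ : A →* MulAut V)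

/-- The fixed points of `x`. -/
def fix (x : A) : Subgroup V where
  carrier := {v | φ x v = v}
  one_mem' := map_one _
  mul_mem' {a b} ha hb := show φ x (a * b) = a * b by rw [map_mul, ha, hb]
  inv_mem' {a} ha := show φ x a⁻¹ = a⁻¹ by rw [map_inv, ha]

theorem mem_fix {x : A} {v : V} : v ∈ fix φ x ↔ φ x v = v := Iff.rfl

/-- The common fixed points. -/
def fixAll : Subgroup V := ⨅ x : A, fix φ x

theorem mem_fixAll {v : V} : v ∈ fixAll φ ↔ ∀ x : A, φ x v = v := by
  simp [fixAll, Subgroup.mem_iInf, mem_fix]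

theorem fix_pow {x : A} {v : V} {w : V} (h : φ x v = w) (hw : φ x w = w) (n : ℕ) : φ (x ^ (n + 1)) v = w := by
  induction n with
  | zero => simpa using h
  | succ n ih => rw [pow_succ', map_mul, MulAut.mul_apply, ih, hw]

theorem aux (p : ℕ) [hp : Fact p.Prime] :
    ∀ (n : ℕ) {A : Type u} [Group A] [Fintype A] {V : Type v} [CommGroup V] [Finite V] (φ : A →* MulAut V),
      Nat.card A = n → IsPGroup p A → (Nat.card V).Coprime p →
        (∏ x : A, Nat.card (fix φ x)) ^ p * Nat.card (fixAll φ) ^ Nat.card A ≤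
          Nat.card V ^ Nat.card A * Nat.card (fixAll φ) ^ (p * Nat.card A) := by
  intro n
  induction n using Nat.strong_induction_on with
  | _ n ih =>
  intro A _ _ V _ _ φ hn hA hcop
  classical
  rcases subsingleton_or_nontrivial A with hs | hnt
  · have h1 : Nat.card A = 1 := Nat.card_eq_one_iff_unique.2 ⟨hs, ⟨1⟩⟩
    have h2 : ∀ x : A, fix φ x = fixAll φ := fun x => le_antisymm (fun v hv => (mem_fixAll φ).2 fun y => by
      rw [Subsingleton.elim y x]; exact hv) (iInf_le _ x)
    have h3 : fixAll φ = ⊤ := top_unique fun v _ => (mem_fixAll φ).2 fun y => by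
      rw [Subsingleton.elim y 1, map_one]; rfl
    simp only [h2, prod_const, card_univ, ← Nat.card_eq_fintype_card, h1, pow_one, mul_one, h3, Subgroup.card_top]
    rw [mul_comm]
  -- a central element of order `p`
  haveI := hA.center_nontrivial
  obtain ⟨z', hz'⟩ := exists_prime_orderOf_dvd_card' p (G := Subgroup.center A) (by
    obtain ⟨k, hk⟩ := IsPGroup.iff_card.1 (hA.to_subgroup (Subgroup.center A))
    rcases k with _ | k
    · exact absurd hk (by rw [pow_zero]; exact (Finite.one_lt_card).ne')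
    · exact hk ▸ dvd_pow_self p (Nat.succ_ne_zero k))
  let z : A := z'
  have hz : orderOf z = p := by rw [show z = (z' : A) from rfl, Subgroup.orderOf_coe]; exact hz'
  let Z := Subgroup.zpowers z
  have hZc : ∀ w ∈ Z, ∀ a : A, a * w = w * a := fun w hw a =>
    Subgroup.mem_center_iff.1 ((Subgroup.zpowers_le.2 z'.2) hw) a
  haveI : Z.Normal := ⟨fun w hw a => by rw [hZc w hw a, mul_inv_cancel_right]; exact hw⟩
  have hZcard : Nat.card Z = p := by rw [Nat.card_zpowers, hz]
  let C := fix φ z
  -- the norm map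
  let N : V →* V :=
    { toFun := fun v => ∏ w : Z, φ w v
      map_one' := by simp
      map_mul' := fun a b => by simp [prod_mul_distrib] }
  have hN_apply : ∀ v : V, N v = ∏ w : Z, φ w v := fun v => rfl
  have hzfix : ∀ v ∈ C, ∀ w ∈ Z, φ w v = v := by
    intro v hv w hw
    have h : Z ≤ Subgroup.comap φ (MulAction.stabilizer (MulAut V) v) := Subgroup.zpowers_le.2 hv
    exact h hw
  have hNC : ∀ v, N v ∈ C := fun v => by
    show φ z (N v) = N v
    rw [hN_apply, map_prod]
    refine Fintype.prod_equiv (Equiv.mulLeft ⟨z, Subgroup.mem_zpowers z⟩) _ _ fun w => ?_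
    show φ z (φ w v) = φ (z * (w : A)) v
    rw [map_mul, MulAut.mul_apply]
  have hNpow : ∀ v ∈ C, N v = v ^ p := fun v hv => by
    rw [hN_apply, prod_congr rfl (fun (w : Z) _ => hzfix v hv w w.2), prod_const, card_univ, ← Nat.card_eq_fintype_card, hZcard]
  have hcomm : ∀ (a : A) (v : V), φ a (N v) = N (φ a v) := fun a v => by
    rw [hN_apply, hN_apply, map_prod]
    refine prod_congr rfl fun w _ => ?_
    rw [← MulAut.mul_apply, ← MulAut.mul_apply, ← map_mul, ← map_mul, hZc w w.2 a]
  let D := N.ker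
  have hsplit : ∀ a : A, Nat.card (fix φ a) = Nat.card (fix φ a ⊓ C : Subgroup V) * Nat.card (fix φ a ⊓ D : Subgroup V) := by
    intro a
    have h := Subgroup.card_mul_index (N.comp (fix φ a).subtype).ker
    rw [Subgroup.index_ker] at h
    have e1 : (N.comp (fix φ a).subtype).range = fix φ a ⊓ C := by
      refine le_antisymm ?_ ?_
      · rintro _ ⟨v, rfl⟩
        exact ⟨show φ a (N v.1) = N v.1 by rw [hcomm, v.2], hNC _⟩
      · rintro v ⟨hv1, hv2⟩
        obtain ⟨m, hm⟩ : ∃ m : ℕ, (v ^ m) ^ p = v := by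
          obtain ⟨m, hm⟩ := exists_pow_eq_self_of_coprime (x := v) (n := p)
            (Nat.Coprime.coprime_dvd_right (orderOf_dvd_natCard v) hcop.symm)
          exact ⟨m, by rw [← pow_mul, mul_comm, pow_mul]; exact hm⟩
        refine ⟨⟨v ^ m, pow_mem hv1 m⟩, ?_⟩
        show N (v ^ m) = v
        rw [hNpow _ (pow_mem hv2 m), hm]
    have e2 : Nat.card (N.comp (fix φ a).subtype).ker = Nat.card (fix φ a ⊓ D : Subgroup V) :=
      Nat.card_congr
        { toFun := fun v => ⟨v.1.1, ⟨v.1.2, v.2⟩⟩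
          invFun := fun v => ⟨⟨v.1, v.2.1⟩, v.2.2⟩
          left_inv := fun _ => rfl
          right_inv := fun _ => rfl }
    rw [e1, e2] at h
    rw [← h, mul_comm]
  -- the part centralised by `z`
  have hCA : ∀ (a : A), ∀ v ∈ C, φ a v ∈ C := fun a v hv => by
    show φ z (φ a v) = φ a v
    rw [← MulAut.mul_apply, ← map_mul, ← hZc z (Subgroup.mem_zpowers z) a, map_mul, MulAut.mul_apply, hv]
  let ψ : A →* MulAut C :=
    { toFun := fun a =>
        { toFun := fun v => ⟨φ a v.1, hCA a v.1 v.2⟩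
          invFun := fun v => ⟨φ a⁻¹ v.1, hCA _ v.1 v.2⟩
          left_inv := fun v => Subtype.ext (show φ a⁻¹ (φ a v.1) = v.1 by rw [← MulAut.mul_apply, ← map_mul, inv_mul_cancel, map_one]; rfl)
          right_inv := fun v => Subtype.ext (show φ a (φ a⁻¹ v.1) = v.1 by rw [← MulAut.mul_apply, ← map_mul, mul_inv_cancel, map_one]; rfl)
          map_mul' := fun v w => Subtype.ext (map_mul (φ a) v.1 w.1) }
      map_one' := MulEquiv.ext fun v => Subtype.ext (by show φ 1 v.1 = v.1; rw [map_one]; rfl)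
      map_mul' := fun a b => MulEquiv.ext fun v => Subtype.ext (by
        show φ (a * b) v.1 = φ a (φ b v.1)
        rw [map_mul, MulAut.mul_apply]) }
  let χ : A ⧸ Z →* MulAut C := QuotientGroup.lift Z ψ fun w hw =>
    MulEquiv.ext fun v => Subtype.ext (hzfix v.1 v.2 w hw)
  have hlt : Nat.card (A ⧸ Z) < n := by
    rw [← hn, ← Subgroup.index_eq_card, ← Subgroup.card_mul_index Z, hZcard]
    exact lt_mul_left (Nat.pos_of_ne_zero Subgroup.index_ne_zero_of_finite) hp.out.one_lt
  have hIH := ih _ hlt χ rfl (hA.to_quotient Z) (hcop.coprime_dvd_left (Subgroup.card_subgroup_dvd_card C))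
  have hfixC : ∀ a : A, Nat.card (fix φ a ⊓ C : Subgroup V) = Nat.card (fix χ (a : A ⧸ Z)) := fun a =>
    Nat.card_congr
      { toFun := fun v => ⟨⟨v.1, v.2.2⟩, Subtype.ext v.2.1⟩
        invFun := fun v => ⟨v.1.1, ⟨congrArg Subtype.val v.2, v.1.2⟩⟩
        left_inv := fun _ => rfl
        right_inv := fun _ => rfl }
  have hfixall : Nat.card (fixAll φ) = Nat.card (fixAll χ) :=
    Nat.card_congr
      { toFun := fun v => ⟨⟨v.1, (mem_fixAll φ).1 v.2 z⟩, (mem_fixAll χ).2 fun q => by
          obtain ⟨a, rfl⟩ := QuotientGroup.mk_surjective q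
          exact Subtype.ext ((mem_fixAll φ).1 v.2 a)⟩
        invFun := fun v => ⟨v.1.1, (mem_fixAll φ).2 fun a =>
          congrArg Subtype.val ((mem_fixAll χ).1 v.2 (a : A ⧸ Z))⟩
        left_inv := fun _ => rfl
        right_inv := fun _ => rfl }
  have hPC : ∏ a : A, Nat.card (fix φ a ⊓ C : Subgroup V) = (∏ q : A ⧸ Z, Nat.card (fix χ q)) ^ p := by
    rw [← prod_pow, ← Fintype.prod_fiberwise (fun a : A => (a : A ⧸ Z))]
    refine prod_congr rfl fun q _ => ?_
    obtain ⟨a, rfl⟩ := QuotientGroup.mk_surjective q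
    rw [prod_congr rfl (fun b _ => (hfixC b.1).trans (by rw [b.2]) : ∀ b ∈ (univ : Finset {b : A // (b : A ⧸ Z) = (a : A ⧸ Z)}), _ = Nat.card (fix χ (a : A ⧸ Z))),
      prod_const, card_univ, ← Nat.card_eq_fintype_card]
    congr 1
    refine Eq.trans ?_ hZcard
    exact Nat.card_congr
      { toFun := fun b => ⟨a⁻¹ * b.1, QuotientGroup.eq.1 b.2.symm⟩
        invFun := fun w => ⟨a * w.1, QuotientGroup.eq.2 (by
          rw [mul_inv_rev]
          simpa [mul_assoc] using Z.inv_mem w.2)⟩
        left_inv := fun b => Subtype.ext (mul_inv_cancel_left a b.1)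
        right_inv := fun w => Subtype.ext (inv_mul_cancel_left a w.1) }
  -- the part moved by `z`
  have hD : ∀ a : A, ∏ w : Z, Nat.card (fix φ (a * w) ⊓ D : Subgroup V) ≤ Nat.card D := by
    intro a
    rw [← Nat.card_pi]
    refine Nat.card_le_card_of_injective
      (fun v => (⟨∏ w : Z, (v w).1, Subgroup.prod_mem _ fun w _ => (v w).2.2⟩ : D)) ?_
    have hker : ∀ v : (w : Z) → (fix φ (a * w) ⊓ D : Subgroup V), (∏ w : Z, (v w).1) = 1 → ∀ k, (v k).1 = 1 := by
      intro v hv k
      have hvw : ∀ (w : Z) (j : ℕ), φ (a ^ j) (v w).1 = φ ((w : A) ^ j)⁻¹ (v w).1 := by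
        intro w j
        have h1 : φ (a * w) (v w).1 = (v w).1 := (v w).2.1
        have h2 : ∀ j : ℕ, φ ((a * w) ^ j) (v w).1 = (v w).1 := fun j => by
          induction j with
          | zero => rw [pow_zero, map_one]; rfl
          | succ j ihj => rw [pow_succ', map_mul, MulAut.mul_apply, ihj, h1]
        have hc : Commute a (w : A) := hZc w w.2 a
        conv_rhs => rw [← h2 j, hc.mul_pow, ← MulAut.mul_apply, ← map_mul]
        rw [show ((w : A) ^ j)⁻¹ * (a ^ j * (w : A) ^ j) = a ^ j by
          rw [(hc.pow_pow j j).eq, inv_mul_cancel_left]]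
      have hj : ∀ j : ℕ, ∏ w : Z, φ (((k : A) * (w : A)⁻¹) ^ j) (v w).1 = 1 := by
        intro j
        have h := congrArg (φ ((k : A) ^ j * a ^ j)) hv
        rw [map_prod, map_one] at h
        refine (prod_congr rfl fun w _ => ?_).trans h
        rw [map_mul φ ((k : A) ^ j), MulAut.mul_apply, hvw, ← MulAut.mul_apply, ← map_mul]
        congr 2
        rw [Commute.mul_pow (hZc _ (inv_mem w.2) (k : A)), inv_pow]
      have h2 : ∏ w : Z, ∏ j ∈ range p, φ (((k : A) * (w : A)⁻¹) ^ j) (v w).1 = 1 := by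
        rw [prod_comm]
        exact prod_eq_one fun j _ => hj j
      rw [prod_eq_single k] at h2
      · have h3 : (v k).1 ^ p = 1 := by
          simpa [mul_inv_cancel, one_pow, map_one, prod_const, card_range] using h2
        exact orderOf_eq_one_iff.1 (Nat.dvd_one.1 (hcop ▸ Nat.dvd_gcd (orderOf_dvd_natCard _) (orderOf_dvd_of_pow_eq_one h3)))
      · intro w _ hwk
        let u : A := (k : A) * (w : A)⁻¹
        have hu : u ∈ Z := mul_mem k.2 (inv_mem w.2)
        have hu1 : u ≠ 1 := fun e => hwk (Subtype.ext (mul_inv_eq_one.1 e)).symm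
        have huo : orderOf u = p := by
          have h := orderOf_dvd_natCard (⟨u, hu⟩ : Z)
          rw [hZcard, ← Subgroup.orderOf_coe] at h
          exact (hp.out.eq_one_or_self_of_dvd _ h).resolve_left (fun e => hu1 (orderOf_eq_one_iff.1 e))
        refine Eq.trans ?_ (show N (v w).1 = 1 from (v w).2.2)
        rw [hN_apply, ← Fin.prod_univ_eq_prod_range (fun j => φ (u ^ j) (v w).1) p]
        refine Fintype.prod_bijective (fun j : Fin p => (⟨u ^ (j : ℕ), pow_mem hu _⟩ : Z)) ?_ _ _ fun j => rfl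
        rw [Fintype.bijective_iff_injective_and_card]
        refine ⟨fun i j e => Fin.ext ?_, by rw [Fintype.card_fin, ← Nat.card_eq_fintype_card, hZcard]⟩
        exact pow_injOn_Iio_orderOf (huo.symm ▸ i.2) (huo.symm ▸ j.2) (congrArg Subtype.val e)
      · exact fun h => absurd (mem_univ k) h
    intro v v' e
    have e' : ∏ w : Z, (v w).1 = ∏ w : Z, (v' w).1 := congrArg Subtype.val e
    funext k
    refine Subtype.ext ?_
    have h := hker (fun w => v w * (v' w)⁻¹) (by
      simp only [Subgroup.coe_mul, Subgroup.coe_inv, prod_mul_distrib, prod_inv_distrib, e', mul_inv_cancel]) k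
    exact mul_inv_eq_one.1 h
  have hPD : (∏ a : A, Nat.card (fix φ a ⊓ D : Subgroup V)) ^ p ≤ Nat.card D ^ Nat.card A := by
    have h1 : (∏ a : A, Nat.card (fix φ a ⊓ D : Subgroup V)) ^ p =
        ∏ a : A, ∏ w : Z, Nat.card (fix φ (a * w) ⊓ D : Subgroup V) := by
      have h2 : ∀ w : Z, ∏ a : A, Nat.card (fix φ (a * w) ⊓ D : Subgroup V) = ∏ a : A, Nat.card (fix φ a ⊓ D : Subgroup V) :=
        fun w => Equiv.prod_comp (Equiv.mulRight (w : A)) (fun a => Nat.card (fix φ a ⊓ D : Subgroup V))
      rw [prod_comm, prod_congr rfl (fun (w : Z) _ => h2 w),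
        prod_const, card_univ, ← Nat.card_eq_fintype_card, hZcard]
    rw [h1]
    refine (prod_le_prod' fun a _ => hD a).trans ?_
    rw [prod_const, card_univ, ← Nat.card_eq_fintype_card]
  -- conclusion
  have hV : Nat.card V = Nat.card C * Nat.card D := by
    have h := hsplit 1
    have h1 : fix φ (1 : A) = ⊤ := top_unique fun v _ => show φ 1 v = v by rw [map_one]; rfl
    rwa [h1, top_inf_eq, top_inf_eq, Subgroup.card_top] at h
  have hcardA : Nat.card A = p * Nat.card (A ⧸ Z) := by
    rw [← Subgroup.index_eq_card, ← hZcard, Subgroup.card_mul_index]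
  rw [prod_congr rfl (fun a _ => hsplit a), prod_mul_distrib, hPC, hV, hfixall]
  rw [mul_pow, mul_pow, mul_right_comm, mul_right_comm (Nat.card C ^ Nat.card A)]
  refine Nat.mul_le_mul ?_ hPD
  refine le_trans (le_of_eq ?_) (le_trans (Nat.pow_le_pow_left hIH p) (le_of_eq ?_))
  · rw [mul_pow, ← pow_mul (Nat.card (fixAll χ)), mul_comm (Nat.card (A ⧸ Z)) p, ← hcardA]
  · rw [mul_pow, ← pow_mul, ← pow_mul, hcardA]
    congr 2 <;> ring

end abelian

section groups

variable {X : Type u} [Group X] [Finite X]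

open scoped Classical in
/-- The inequality to prove. -/
def Ineq (p : ℕ) (H P : Subgroup X) : Prop :=
  ∀ [Fintype P],
    (∏ x : P, Nat.card ↥(H ⊓ Subgroup.centralizer (Subgroup.zpowers (x : X) : Set X))) ^ p *
        Nat.card ↥(H ⊓ Subgroup.centralizer (P : Set X)) ^ Nat.card P ≤
      Nat.card H ^ Nat.card P * Nat.card ↥(H ⊓ Subgroup.centralizer (P : Set X)) ^ (p * Nat.card P)

theorem mem_centralizer_zpowers {a v : X} :
    v ∈ Subgroup.centralizer (Subgroup.zpowers a : Set X) ↔ a * v = v * a := by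
  refine ⟨fun h => Subgroup.mem_centralizer_iff.1 h a (Subgroup.mem_zpowers a), fun h => ?_⟩
  refine Subgroup.mem_centralizer_iff.2 fun b hb => ?_
  obtain ⟨k, rfl⟩ := hb
  exact (Commute.zpow_left h k).eq

theorem ineq_abelian {p : ℕ} [Fact p.Prime] (H P : Subgroup X) (hH : IsMulCommutative H)
    (hn : P ≤ Subgroup.normalizer (H : Set X)) (hP : IsPGroup p P) (hcop : (Nat.card H).Coprime p) : Ineq p H P := by
  intro inst
  letI : CommGroup H := { (inferInstance : Group H) with mul_comm := mul_comm' }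
  let φ : P →* MulAut H :=
    { toFun := fun a =>
        { toFun := fun v => ⟨a * v * (a : X)⁻¹, (Subgroup.mem_normalizer_iff.1 (hn a.2) v).1 v.2⟩
          invFun := fun v => ⟨(a : X)⁻¹ * v * a, by
            simpa using (Subgroup.mem_normalizer_iff.1 (inv_mem (hn a.2)) v).1 v.2⟩
          left_inv := fun v => Subtype.ext (by simp [mul_assoc])
          right_inv := fun v => Subtype.ext (by simp [mul_assoc])
          map_mul' := fun v w => Subtype.ext (by simp [mul_assoc]) }
      map_one' := MulEquiv.ext fun v => Subtype.ext (by simp)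
      map_mul' := fun a b => MulEquiv.ext fun v => Subtype.ext (by simp [mul_assoc]) }
  have h1 : ∀ x : P, Nat.card ↥(H ⊓ Subgroup.centralizer (Subgroup.zpowers (x : X) : Set X)) = Nat.card (fix φ x) := fun x =>
    Nat.card_congr
      { toFun := fun v => ⟨⟨v.1, v.2.1⟩, Subtype.ext (mul_inv_eq_iff_eq_mul.2 (mem_centralizer_zpowers.1 v.2.2))⟩
        invFun := fun v => ⟨v.1.1, ⟨v.1.2, mem_centralizer_zpowers.2 (mul_inv_eq_iff_eq_mul.1 (congrArg Subtype.val v.2))⟩⟩
        left_inv := fun _ => rfl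
        right_inv := fun _ => rfl }
  have h2 : Nat.card ↥(H ⊓ Subgroup.centralizer (P : Set X)) = Nat.card (fixAll φ) :=
    Nat.card_congr
      { toFun := fun v => ⟨⟨v.1, v.2.1⟩, (mem_fixAll φ).2 fun x => Subtype.ext
          (mul_inv_eq_iff_eq_mul.2 (Subgroup.mem_centralizer_iff.1 v.2.2 x x.2))⟩
        invFun := fun v => ⟨v.1.1, ⟨v.1.2, Subgroup.mem_centralizer_iff.2 fun x hx =>
          mul_inv_eq_iff_eq_mul.1 (congrArg Subtype.val ((mem_fixAll φ).1 v.2 ⟨x, hx⟩))⟩⟩
        left_inv := fun _ => rfl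
        right_inv := fun _ => rfl }
  rw [prod_congr rfl (fun x _ => h1 x), h2]
  exact aux p _ φ rfl hP hcop

theorem coprime_card_of_pgroup {p : ℕ} [Fact p.Prime] {A : Subgroup X} (hA : IsPGroup p A) {n : ℕ} (h : n.Coprime p) :
    n.Coprime (Nat.card A) := by
  obtain ⟨k, hk⟩ := IsPGroup.iff_card.1 hA
  rw [hk]
  exact h.pow_right k

theorem ineq_quotient {p : ℕ} [Fact p.Prime] (H P V : Subgroup X) [V.Normal] (hVH : V ≤ H)
    (hVab : IsMulCommutative V) (hP : IsPGroup p P) (hcop : (Nat.card H).Coprime p)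
    (hq : Ineq p (H.map (QuotientGroup.mk' V)) (P.map (QuotientGroup.mk' V))) : Ineq p H P := by
  intro inst
  classical
  haveI := hVab
  letI : CommGroup V := { (inferInstance : Group V) with mul_comm := mul_comm' }
  have hVcop : (Nat.card V).Coprime p := hcop.coprime_dvd_left (Subgroup.card_dvd_of_le hVH)
  have hcard : ∀ S : Subgroup X, S ≤ P → Nat.card ↥(H ⊓ Subgroup.centralizer (S : Set X)) =
      Nat.card ↥(H.map (QuotientGroup.mk' V) ⊓ Subgroup.centralizer (S.map (QuotientGroup.mk' V) : Set (X ⧸ V))) *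
        Nat.card ↥(V ⊓ Subgroup.centralizer (S : Set X)) := fun S hS =>
    (FrobFix.card_inf_centralizer_quotient V (coprime_card_of_pgroup (hP.to_le hS) hVcop) (Group.isSolvable_of_comm mul_comm') hVH).symm
  have hV := ineq_abelian V P hVab (fun a _ => by rw [Subgroup.normalizer_eq_top V]; trivial) hP hVcop
  let P' := P.map (QuotientGroup.mk' V)
  let e : P → P' := fun x => ⟨QuotientGroup.mk' V x, x, x.2, rfl⟩
  have hP' : Nat.card P' = Nat.card P := FrobFix.card_map_of_coprime V (coprime_card_of_pgroup hP hVcop)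
  letI : Fintype P' := Fintype.ofFinite _
  have he : Function.Bijective e := by
    rw [Fintype.bijective_iff_surjective_and_card]
    refine ⟨fun y => ?_, by rw [← Nat.card_eq_fintype_card, ← Nat.card_eq_fintype_card, hP']⟩
    obtain ⟨_, x, hx, rfl⟩ := y
    exact ⟨⟨x, hx⟩, rfl⟩
  have hprod : ∏ x : P, Nat.card ↥(H.map (QuotientGroup.mk' V) ⊓ Subgroup.centralizer (Subgroup.zpowers (QuotientGroup.mk' V (x : X)) : Set (X ⧸ V))) =
      ∏ y : P', Nat.card ↥(H.map (QuotientGroup.mk' V) ⊓ Subgroup.centralizer (Subgroup.zpowers (y : X ⧸ V) : Set (X ⧸ V))) :=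
    Fintype.prod_bijective e he _ _ fun x => rfl
  have hq' := @hq (Fintype.ofFinite _)
  have hH : Nat.card H = Nat.card (H.map (QuotientGroup.mk' V)) * Nat.card V := by
    rw [← Grp.SameOrder.card_map_mk V H, inf_of_le_left hVH]
  rw [prod_congr rfl (fun (x : P) _ => hcard _ (Subgroup.zpowers_le.2 x.2)), prod_mul_distrib, hcard P le_rfl, hH]
  simp only [MonoidHom.map_zpowers]
  rw [hprod]
  have h3 := Nat.mul_le_mul hq' hV
  rw [hP'] at h3
  refine le_trans (le_of_eq ?_) (le_trans h3 (le_of_eq ?_))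
  · ring
  · ring

theorem centralizer_subgroupOf' {A B T : Subgroup X} (hA : A ≤ T) (hB : B ≤ T) :
    Nat.card ↥(A.subgroupOf T ⊓ Subgroup.centralizer (B.subgroupOf T : Set T)) =
      Nat.card ↥(A ⊓ Subgroup.centralizer (B : Set X)) := by
  rw [← FrobFix.inf_centralizer_subgroupOf hB, FrobFix.card_subgroupOf_of_le (inf_le_left.trans hA)]

theorem ineq_qgroup (p q : ℕ) [Fact p.Prime] [hq : Fact q.Prime] :
    ∀ (n : ℕ) {X : Type u} [Group X] [Finite X] (H P : Subgroup X), Nat.card H = n → IsPGroup q H →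
      P ≤ Subgroup.normalizer (H : Set X) → IsPGroup p P → (Nat.card H).Coprime p → Ineq p H P := by
  intro n
  induction n using Nat.strong_induction_on with
  | _ n ih =>
  intro X _ _ H P hn hHq hN hP hcop
  by_cases hab : IsMulCommutative H
  · exact ineq_abelian H P hab hN hP hcop
  classical
  haveI : Nontrivial H := by
    by_contra h
    rw [not_nontrivial_iff_subsingleton] at h
    exact hab ⟨⟨fun a b => Subsingleton.elim _ _⟩⟩
  haveI := hHq.center_nontrivial
  let T := H ⊔ P
  have hHT : H ≤ T := le_sup_left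
  have hPT : P ≤ T := le_sup_right
  haveI : (H.subgroupOf T).Normal :=
    (Subgroup.normal_subgroupOf_iff_le_normalizer hHT).2 (sup_le Subgroup.le_normalizer hN)
  let H' := H.subgroupOf T
  let P' := P.subgroupOf T
  let V : Subgroup T := (Subgroup.center H').map H'.subtype
  haveI : V.Normal := inferInstance
  have hVab : IsMulCommutative V := inferInstance
  have hH'card : Nat.card H' = Nat.card H := FrobFix.card_subgroupOf_of_le hHT
  haveI : Nontrivial H' := (Subgroup.subgroupOfEquivOfLe hHT).toEquiv.nontrivial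
  have hH'q : IsPGroup q H' := hHq.comap_subtype
  haveI := hH'q.center_nontrivial
  have hVH : V ≤ H' := Subgroup.map_subtype_le _
  have hlt : Nat.card (H'.map (QuotientGroup.mk' V)) < n := by
    have h := Grp.SameOrder.card_map_mk V H'
    rw [inf_of_le_left hVH] at h
    have hV1 : 1 < Nat.card V := by
      rw [Subgroup.card_map_of_injective H'.subtype_injective]
      exact Finite.one_lt_card
    rw [← hn, ← hH'card, ← h]
    exact lt_mul_right Nat.card_pos hV1
  have hcop' : (Nat.card H').Coprime p := by rw [hH'card]; exact hcop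
  have hP'p : IsPGroup p P' := hP.comap_subtype
  letI : Fintype P' := Fintype.ofFinite _
  have h := ineq_quotient H' P' V hVH hVab hP'p hcop' (ih _ hlt _ _ rfl (hH'q.map _)
    (le_trans (Subgroup.map_mono (FrobFix.normalizer_subgroupOf_le hN)) (Subgroup.le_normalizer_map _)) (hP'p.map _)
    (hcop'.coprime_dvd_left (Subgroup.card_map_dvd H' _)))
  have h' := h
  have hprod : ∏ x : P', Nat.card ↥(H' ⊓ Subgroup.centralizer (Subgroup.zpowers (x : T) : Set T)) =
      ∏ x : P, Nat.card ↥(H ⊓ Subgroup.centralizer (Subgroup.zpowers (x : X) : Set X)) := by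
    refine Fintype.prod_equiv (Subgroup.subgroupOfEquivOfLe hPT).toEquiv _ _ fun x => ?_
    show _ = Nat.card ↥(H ⊓ Subgroup.centralizer (Subgroup.zpowers ((x : T) : X) : Set X))
    rw [← centralizer_subgroupOf' hHT (Subgroup.zpowers_le.2 (x : T).2)]
    congr 5
    rw [Subgroup.subgroupOf, ← Subgroup.comap_map_eq_self_of_injective T.subtype_injective (Subgroup.zpowers (x : T)),
      MonoidHom.map_zpowers]
    rfl
  rw [hprod, centralizer_subgroupOf' hHT hPT, hH'card, FrobFix.card_subgroupOf_of_le hPT] at h'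
  exact h'

/-- The fixed points of `S ≤ P` on `H` have their Sylow part in an invariant Sylow subgroup. -/
theorem factorization_inf_centralizer {p q : ℕ} [Fact p.Prime] [Fact q.Prime] (H P Q S : Subgroup X)
    (hN : P ≤ Subgroup.normalizer (H : Set X)) (hP : IsPGroup p P) (hcop : (Nat.card H).Coprime p)
    (hQ : Grp.IsSylowIn q Q H) (hQP : P ≤ Subgroup.normalizer (Q : Set X)) (hS : S ≤ P) :
    q ^ (Nat.card ↥(H ⊓ Subgroup.centralizer (S : Set X))).factorization q =
      Nat.card ↥(Q ⊓ Subgroup.centralizer (S : Set X)) := by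
  set K := H ⊓ Subgroup.centralizer (S : Set X)
  obtain ⟨R, hR⟩ := Grp.exists_isSylowIn q K
  have hSsol : Group.IsSolvable S := by
    haveI := (hP.to_le hS).isNilpotent
    infer_instance
  have hcS : (Nat.card S).Coprime (Nat.card H) := (coprime_card_of_pgroup (hP.to_le hS) hcop).symm
  have hRS : S ≤ Subgroup.normalizer (R : Set X) := fun s hs => by
    refine Subgroup.mem_normalizer_fintype fun v hv => ?_
    have h := Subgroup.mem_centralizer_iff.1 (hR.1 hv).2 s hs
    rw [h, mul_inv_cancel_right]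
    exact hv
  obtain ⟨Y, hY, hYS, hRY⟩ := Grp.exists_invariant_sylow_ge S H (hS.trans hN) hcS (Or.inl hSsol) (hR.1.trans inf_le_left) hR.2.1 hRS
  obtain ⟨c, hc, hcY⟩ := Grp.invariant_sylow_conj S H (hS.trans hN) hcS (Or.inl hSsol) hY hQ hYS (hS.trans hQP)
  have hle : MulAut.conj c • R ≤ Q ⊓ Subgroup.centralizer (S : Set X) := by
    refine le_inf (hcY ▸ Subgroup.pointwise_smul_le_pointwise_smul_iff.2 hRY) ?_
    rintro _ ⟨v, hv, rfl⟩
    exact mul_mem (mul_mem hc.2 (hR.1 hv).2) (inv_mem hc.2)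
  rw [← hR.card]
  refine le_antisymm ?_ ?_
  · refine le_of_eq_of_le ?_ (Subgroup.card_le_of_le hle)
    exact Nat.card_congr (Subgroup.equivSMul _ _).toEquiv
  · obtain ⟨W, hW⟩ : ∃ W : Subgroup X, W = Q ⊓ Subgroup.centralizer (S : Set X) := ⟨_, rfl⟩
    rw [← hW]
    obtain ⟨j, hj⟩ := IsPGroup.iff_card.1 (hQ.2.1.to_le (hW.le.trans inf_le_left))
    have hd : Nat.card W ∣ Nat.card K := Subgroup.card_dvd_of_le (hW.le.trans (inf_le_inf_right _ hQ.1))
    rw [hj] at hd ⊢
    rw [hR.card]
    exact Nat.pow_le_pow_right (Fact.out (p := q.Prime)).pos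
      (((Fact.out (p := q.Prime)).pow_dvd_iff_le_factorization Nat.card_pos.ne').1 hd)

/-- The product inequality for coprime action of a `p`-group. -/
theorem ineq_general {p : ℕ} [Fact p.Prime] (H P : Subgroup X) (hN : P ≤ Subgroup.normalizer (H : Set X))
    (hP : IsPGroup p P) (hcop : (Nat.card H).Coprime p) : Ineq p H P := by
  intro inst
  classical
  have hPsol : Group.IsSolvable P := by
    haveI := hP.isNilpotent
    infer_instance
  have hcop' : (Nat.card P).Coprime (Nat.card H) := (coprime_card_of_pgroup hP hcop).symm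
  have hQ : ∀ q : {q // q ∈ (Nat.card H).primeFactors}, ∃ Q : Subgroup X, Grp.IsSylowIn q.1 Q H ∧ P ≤ Subgroup.normalizer (Q : Set X) := fun q => by
    haveI := Fact.mk (Nat.prime_of_mem_primeFactors q.2)
    exact Grp.exists_invariant_sylow P H hN hcop' (Or.inl hPsol) q.1
  choose Q hQs hQn using hQ
  have hsplit : ∀ S : Subgroup X, S ≤ P → Nat.card ↥(H ⊓ Subgroup.centralizer (S : Set X)) =
      ∏ q : {q // q ∈ (Nat.card H).primeFactors}, Nat.card ↥(Q q ⊓ Subgroup.centralizer (S : Set X)) := by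
    intro S hS
    set K := H ⊓ Subgroup.centralizer (S : Set X)
    have h0 : Nat.card K ≠ 0 := Nat.card_pos.ne'
    rw [prod_congr rfl (fun q _ => by
      haveI := Fact.mk (Nat.prime_of_mem_primeFactors q.2)
      exact (factorization_inf_centralizer H P (Q q) S hN hP hcop (hQs q) (hQn q) hS).symm),
      prod_coe_sort (s := (Nat.card H).primeFactors) (f := fun q => q ^ (Nat.card K).factorization q)]
    conv_lhs => rw [← Nat.prod_factorization_pow_eq_self h0]
    rw [Finsupp.prod, Nat.support_factorization]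
    refine prod_subset (Nat.primeFactors_mono (Subgroup.card_dvd_of_le inf_le_left) Nat.card_pos.ne') fun q _ hq => ?_
    rw [← Nat.support_factorization, Finsupp.notMem_support_iff] at hq
    rw [hq, pow_zero]
  have hH : Nat.card H = ∏ q : {q // q ∈ (Nat.card H).primeFactors}, Nat.card (Q q) := by
    rw [prod_congr rfl (fun q _ => by
      haveI := Fact.mk (Nat.prime_of_mem_primeFactors q.2)
      exact (hQs q).card),
      prod_coe_sort (s := (Nat.card H).primeFactors) (f := fun q => q ^ (Nat.card H).factorization q)]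
    conv_lhs => rw [← Nat.prod_factorization_pow_eq_self (Nat.card_pos.ne' : Nat.card H ≠ 0)]
    rw [Finsupp.prod, Nat.support_factorization]
  rw [prod_congr rfl (fun (x : P) _ => hsplit _ (Subgroup.zpowers_le.2 x.2)), prod_comm, hsplit P le_rfl]
  refine le_trans ?_ (le_of_eq (congrArg (fun t => t ^ _ * _) hH.symm))
  rw [← prod_pow, ← prod_pow, ← prod_pow, ← prod_pow, ← prod_mul_distrib, ← prod_mul_distrib]
  refine prod_le_prod' fun q _ => ?_
  haveI := Fact.mk (Nat.prime_of_mem_primeFactors q.2)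
  exact ineq_qgroup p q.1 _ (Q q) P rfl (hQs q).2.1 (hQn q) hP (hcop.coprime_dvd_left (Subgroup.card_dvd_of_le (hQs q).1))

end groups

end Cfsg.Agent.Transfer.CentProd
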