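import Cfsg.Agent.Lib.Transfer.OffenderFailure
import Cfsg.Agent.Lib.Transfer.Thompson
import Cfsg.Agent.Lib.Grp.Cores
import Cfsg.Agent.Lib.Grp.PSolvable
import Cfsg.Agent.Lib.Grp.Coprime

/-!
In a `p`-solvable group whose `p`-core contains its centraliser, a prime `q` dividing the order acts
nontrivially on some characteristic subgroup of a Sylow `p`-subgroup, unless `{p, q} = {2, 3}`.
-/

set_option autoImplicit false
set_option maxHeartbeats 1000000
set_option linter.unusedSectionVars false

namespace Cfsg.Agent.Transfer.CharAutomizer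

open Subgroup

universe u

theorem sl2_two : ∃ g : Matrix.SpecialLinearGroup (Fin 2) (ZMod 2), orderOf g = 3 :=
  ⟨⟨!![0, -1; 1, -1], by decide⟩, orderOf_eq_prime (hp := ⟨Nat.prime_three⟩) (Subtype.ext (by decide)) (fun h => absurd (congrArg Subtype.val h) (by decide))⟩

theorem sl2_three : ∃ g : Matrix.SpecialLinearGroup (Fin 2) (ZMod 3), orderOf g = 2 :=
  ⟨⟨!![-1, 0; 0, -1], by decide⟩, orderOf_eq_prime (hp := ⟨Nat.prime_two⟩) (Subtype.ext (by decide)) (fun h => absurd (congrArg Subtype.val h) (by decide))⟩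

variable {p : ℕ} [hp : Fact p.Prime]

/-- `K` is invariant under all automorphisms of `T`. -/
def CharIn {G : Type u} [Group G] (T K : Subgroup G) : Prop :=
  K ≤ T ∧ ∀ e : MulAut T, ∀ x : T, (x : G) ∈ K → ((e x : T) : G) ∈ K

/-- Some `q`-element normalises but does not centralise some characteristic subgroup of `T`. -/
def Detects {G : Type u} [Group G] (q : ℕ) (T : Subgroup G) : Prop :=
  ∃ K : Subgroup G, CharIn T K ∧ ∃ g : G, g ∈ normalizer (K : Set G) ∧ g ∉ centralizer (K : Set G) ∧
    ∃ n : ℕ, orderOf g = q ^ n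

theorem CharIn.normalizer_le {G : Type u} [Group G] [Finite G] {T K : Subgroup G} (h : CharIn T K) :
    normalizer (T : Set G) ≤ normalizer (K : Set G) := fun g hg => by
  refine Subgroup.mem_normalizer_fintype fun k hk => ?_
  exact h.2 (normalizerMonoidHom T ⟨g, hg⟩) ⟨k, h.1 hk⟩ hk

theorem charIn_self {G : Type u} [Group G] (T : Subgroup G) : CharIn T T :=
  ⟨le_rfl, fun _ _ _ => SetLike.coe_mem _⟩

/-- `Ω₁(Z(T))`. -/
def omegaZ (p : ℕ) {G : Type u} [Group G] (T : Subgroup G) : Subgroup G :=
  Cfsg.omegaOne p (T ⊓ centralizer (T : Set G))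

theorem omegaZ_le {G : Type u} [Group G] (T : Subgroup G) : omegaZ p T ≤ T ⊓ centralizer (T : Set G) :=
  (closure_le _).2 fun _ hx => hx.1

theorem pow_eq_one_of_mem_omegaZ {G : Type u} [Group G] {T : Subgroup G} {x : G} (hx : x ∈ omegaZ p T) :
    x ^ p = 1 := by
  refine closure_induction (p := fun y _ => y ^ p = 1) (fun y hy => hy.2) (one_pow _)
    (fun a b ha hb h1 h2 => ?_) (fun a _ h => by rw [inv_pow, h, inv_one]) hx
  have hc : a * b = b * a := mem_centralizer_iff.1 ((omegaZ_le T) hb).2 a ((omegaZ_le T) ha).1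
  rw [Commute.mul_pow (hc : Commute a b), h1, h2, one_mul]

theorem omegaZ_charIn {G : Type u} [Group G] (T : Subgroup G) : CharIn T (omegaZ p T) := by
  refine ⟨(omegaZ_le T).trans inf_le_left, fun e x hx => ?_⟩
  have h1 := omegaZ_le (p := p) T hx
  refine subset_closure ⟨⟨(e x).2, mem_centralizer_iff.2 fun y hy => ?_⟩, ?_⟩
  · obtain ⟨z, hz⟩ := e.surjective ⟨y, hy⟩
    have h2 : z * x = x * z := Subtype.ext (mem_centralizer_iff.1 h1.2 z z.2)
    have h3 := congrArg Subtype.val (congrArg e h2)
    rw [map_mul, map_mul, hz] at h3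
    exact h3
  · have h2 : x ^ p = 1 := Subtype.ext (pow_eq_one_of_mem_omegaZ hx)
    rw [← SubgroupClass.coe_pow, ← map_pow, h2, map_one, OneMemClass.coe_one]

theorem omegaZ_ne_bot {G : Type u} [Group G] [Finite G] {T : Subgroup G} (hT : IsPGroup p T) (h : T ≠ ⊥) :
    omegaZ p T ≠ ⊥ := by
  haveI : Nontrivial T := (nontrivial_iff_ne_bot _).2 h
  haveI := IsPGroup.center_nontrivial hT
  have hcp : IsPGroup p (center T) := hT.to_subgroup _
  obtain ⟨i, hi, hcard⟩ := (IsPGroup.nontrivial_iff_card hcp).1 inferInstance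
  obtain ⟨m, hm⟩ := exists_prime_orderOf_dvd_card' (G := center T) p (hcard ▸ dvd_pow_self p hi.ne')
  intro e
  have hmem : ((m : T) : G) ∈ omegaZ p T := subset_closure
    ⟨⟨(m : T).2, mem_centralizer_iff.2 fun y hy => congrArg Subtype.val (mem_center_iff.1 m.2 ⟨y, hy⟩)⟩, by
      rw [← SubgroupClass.coe_pow, ← SubgroupClass.coe_pow, ← hm, pow_orderOf_eq_one]; rfl⟩
  rw [e, mem_bot] at hmem
  have h1 : m = 1 := Subtype.ext (Subtype.ext hmem)
  rw [h1, orderOf_one] at hm
  exact hp.out.ne_one hm.symm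

/-- `J(T)` is invariant under automorphisms of `T`. -/
theorem thompsonOf_charIn {G : Type u} [Group G] [Finite G] (T : Subgroup G) :
    CharIn T (Cfsg.thompsonSubgroupOf p T) := by
  refine ⟨map_subtype_le _, fun e x hx => ?_⟩
  obtain ⟨y, hy, hyx⟩ := hx
  obtain rfl : y = x := Subtype.ext hyx
  haveI := Thompson.characteristic_thompsonSubgroup (p := p) (G := T)
  exact ⟨e y, (Subgroup.characteristic_iff_le_comap.1 inferInstance e) hy, rfl⟩

theorem psolvable_subgroup {G : Type u} [Group G] [Finite G] (hG : Cfsg.IsPSolvable p G) (T : Subgroup G) :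
    Cfsg.IsPSolvable p T := by
  obtain ⟨n, H, h0, hl, hm, hn, hi⟩ := hG
  refine ⟨n, fun i => (H i).subgroupOf T, ?_, ?_, fun i j hij => Subgroup.comap_mono (hm hij),
    fun i => (hn i).subgroupOf T, fun i => ?_⟩
  · show (H 0).subgroupOf T = ⊥
    rw [h0, Subgroup.bot_subgroupOf]
  · show (H (Fin.last n)).subgroupOf T = ⊤
    rw [hl, Subgroup.top_subgroupOf]
  have hd : ((H i.castSucc).subgroupOf T).relIndex ((H i.succ).subgroupOf T) ∣
      (H i.castSucc).relIndex (H i.succ) := by
    rw [← Subgroup.inf_subgroupOf_right (H i.succ) T,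
      Subgroup.relIndex_subgroupOf (inf_le_right : H i.succ ⊓ T ≤ T)]
    exact Grp.relIndex_dvd_of_normal_le (hn _) inf_le_left
  rcases hi i with ⟨m, hm'⟩ | hc
  · rw [hm'] at hd
    obtain ⟨j, -, hj⟩ := (Nat.dvd_prime_pow hp.out).mp hd
    exact Or.inl ⟨j, hj⟩
  · exact Or.inr (hc.coprime_dvd_left hd)

/-- A `q`-element lifts to a `q`-element. -/
theorem exists_qpart {G Q : Type*} [Group G] [Finite G] [Group Q] (f : G →* Q) {q : ℕ} [hq : Fact q.Prime]
    (g : G) {n : ℕ} (hg : orderOf (f g) = q ^ n) :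
    ∃ k : ℕ, f (g ^ k) = f g ∧ ∃ m : ℕ, orderOf (g ^ k) = q ^ m := by
  obtain ⟨a, m, hm, hord⟩ := Nat.exists_eq_pow_mul_and_not_dvd (orderOf_pos g).ne' q hq.out.ne_one
  have hcop : m.Coprime (q ^ n) := ((hq.out.coprime_iff_not_dvd.2 hm).symm).pow_right n
  have h1 := Nat.gcd_eq_gcd_ab m (q ^ n)
  rw [Nat.Coprime.gcd_eq_one hcop] at h1
  obtain ⟨u, hu⟩ : ∃ u : ℕ, (u : ℤ) ≡ Nat.gcdA m (q ^ n) [ZMOD (q ^ n : ℕ)] :=
    ⟨(Nat.gcdA m (q ^ n) % (q ^ n : ℕ)).toNat, by
      rw [Int.toNat_of_nonneg (Int.emod_nonneg _ (by exact_mod_cast (pow_pos hq.out.pos n).ne'))]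
      exact Int.mod_modEq _ _⟩
  refine ⟨m * u, ?_, ?_⟩
  · rw [map_pow]
    conv_rhs => rw [← pow_one (f g)]
    rw [pow_eq_pow_iff_modEq, hg]
    have h2 : ((m * u : ℕ) : ℤ) ≡ 1 [ZMOD (q ^ n : ℕ)] := by
      push_cast
      refine (hu.mul_left _).trans ?_
      rw [Int.modEq_iff_dvd]
      refine ⟨Nat.gcdB m (q ^ n), ?_⟩
      push_cast at h1 ⊢
      linarith
    exact_mod_cast h2
  · obtain ⟨i, -, hi⟩ := (Nat.dvd_prime_pow hq.out).1 (orderOf_dvd_of_pow_eq_one (x := g ^ (m * u)) (n := q ^ a) (by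
      rw [← pow_mul, show m * u * q ^ a = q ^ a * m * u by ring, pow_mul, ← hord, pow_orderOf_eq_one, one_pow]))
    exact ⟨i, hi⟩

theorem detects_subgroup {G : Type u} [Group G] {q : ℕ} {T Y : Subgroup G} (hTY : T ≤ Y)
    (h : Detects q (T.subgroupOf Y)) : Detects q T := by
  obtain ⟨K, hK, g, hgN, hgC, n, hn⟩ := h
  have hKT : K.map Y.subtype ≤ T := by
    rintro _ ⟨k, hk, rfl⟩
    exact hK.1 hk
  refine ⟨K.map Y.subtype, ⟨hKT, fun e x hx => ?_⟩, g, ?_, fun hc => hgC ?_, n, by rw [Subgroup.orderOf_coe, hn]⟩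
  · set ι := subgroupOfEquivOfLe hTY
    obtain ⟨k, hk, hkx⟩ := hx
    have h1 := hK.2 ((ι.trans e).trans ι.symm) (ι.symm x) (by
      have : ((ι.symm x : T.subgroupOf Y) : Y) = k := Subtype.ext hkx.symm
      rw [this]
      exact hk)
    refine ⟨_, h1, ?_⟩
    simp only [MulEquiv.trans_apply, MulEquiv.apply_symm_apply]
    rfl
  · exact Subgroup.le_normalizer_map Y.subtype ⟨g, hgN, rfl⟩
  · exact mem_centralizer_iff.2 fun k hk => Subtype.ext (mem_centralizer_iff.1 hc _ ⟨k, hk, rfl⟩)

theorem detects_quotient {G : Type u} [Group G] [Finite G] {q : ℕ} [Fact q.Prime] {T Z : Subgroup G} [Z.Normal]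
    (hZ : CharIn T Z) (h : Detects q (T.map (QuotientGroup.mk' Z))) : Detects q T := by
  obtain ⟨Kb, hKb, gb, hgN, hgC, n, hn⟩ := h
  set π := QuotientGroup.mk' Z with hπ
  set K := Kb.comap π ⊓ T with hKd
  have hKmap : K.map π = Kb := by
    refine le_antisymm (map_le_iff_le_comap.2 inf_le_left) fun z hz => ?_
    obtain ⟨t, ht, rfl⟩ := hKb.1 hz
    exact ⟨t, ⟨hz, ht⟩, rfl⟩
  have hZK : Z ≤ K := fun z hz => ⟨by
    show π z ∈ Kb
    rw [show π z = 1 from (QuotientGroup.eq_one_iff z).2 hz]
    exact one_mem _, hZ.1 hz⟩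
  have hKb' : Kb.comap π = K := by
    rw [← hKmap, comap_map_eq, QuotientGroup.ker_mk']
    exact sup_eq_left.2 hZK
  refine ⟨K, ⟨inf_le_right, fun e x hx => ⟨?_, (e x).2⟩⟩, ?_⟩
  · -- the induced automorphism of the image
    set f : T →* T.map π := π.subgroupMap T with hf
    have hfs : Function.Surjective f := π.subgroupMap_surjective T
    have hker : ∀ (e : MulAut T) (t : T), f t = 1 → f (e t) = 1 := fun e t ht =>
      Subtype.ext ((QuotientGroup.eq_one_iff _).2 (hZ.2 e t ((QuotientGroup.eq_one_iff _).1 (congrArg Subtype.val ht))))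
    set fe : T →* T.map π := f.comp e.toMonoidHom
    have hle : f.ker ≤ fe.ker := fun t ht => hker e t ht
    set eb : T.map π →* T.map π := f.liftOfSurjective hfs ⟨fe, hle⟩
    have heb : ∀ t, eb (f t) = f (e t) := fun t => f.liftOfRightInverse_comp_apply _ _ ⟨fe, hle⟩ t
    have hsur : Function.Surjective eb := fun z => by
      obtain ⟨t, rfl⟩ := hfs z
      exact ⟨f (e.symm t), by rw [heb, MulEquiv.apply_symm_apply]⟩
    let e' : MulAut (T.map π) := MulEquiv.ofBijective eb ⟨Finite.injective_iff_surjective.2 hsur, hsur⟩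
    have h1 : ((e' (f x) : T.map π) : G ⧸ Z) ∈ Kb := hKb.2 e' (f x) hx.1
    rw [show e' (f x) = eb (f x) from rfl, heb] at h1
    exact h1
  · obtain ⟨g, rfl⟩ := QuotientGroup.mk'_surjective Z gb
    obtain ⟨k, hk, m, hm⟩ := exists_qpart π g hn
    refine ⟨g ^ k, Subgroup.mem_normalizer_fintype fun y hy => ?_, fun hc => hgC ?_, m, hm⟩
    · have h1 : π (g ^ k * y * (g ^ k)⁻¹) ∈ Kb := by
        rw [map_mul, map_mul, map_inv, hk]
        exact (mem_normalizer_iff.1 hgN _).1 hy.1
      rw [SetLike.mem_coe, ← hKb']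
      exact h1
    · rw [← hk]
      refine mem_centralizer_iff.2 fun z hz => ?_
      rw [← hKmap] at hz
      obtain ⟨y, hy, rfl⟩ := hz
      rw [← map_mul, ← map_mul, mem_centralizer_iff.1 hc y hy]

/-- All `q`-elements and a Sylow `p`-subgroup generate a group whose order only involves `p` and `q`. -/
theorem eq_top_of_pq {G : Type u} [Group G] [Finite G] {q : ℕ} [hq : Fact q.Prime]
    (hpq : ∀ r : ℕ, r.Prime → r ∣ Nat.card G → r = p ∨ r = q) (T : Sylow p G) {H : Subgroup G}
    (hT : (T : Subgroup G) ≤ H) (hQ : ∀ g : G, (∃ n : ℕ, orderOf g = q ^ n) → g ∈ H) : H = ⊤ := by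
  refine Subgroup.index_eq_one.1 (Nat.eq_one_iff_not_exists_prime_dvd.2 fun r hr hd => ?_)
  obtain ⟨P⟩ : Nonempty (Sylow r G) := inferInstance
  haveI := Fact.mk hr
  rcases hpq r hr (hd.trans H.index_dvd_card) with rfl | rfl
  · exact T.not_dvd_index (hd.trans (Subgroup.index_dvd_of_le hT))
  · refine P.not_dvd_index (hd.trans (Subgroup.index_dvd_of_le fun g hg => hQ g ?_))
    obtain ⟨n, hn⟩ := (IsPGroup.iff_orderOf.1 P.isPGroup') ⟨g, hg⟩
    exact ⟨n, by rw [← hn, ← Subgroup.orderOf_coe]⟩

theorem exists_qelement {G : Type u} [Group G] [Finite G] {q : ℕ} [Fact q.Prime] {H : Subgroup G}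
    (h : q ∣ Nat.card H) : ∃ g ∈ H, g ≠ 1 ∧ ∃ n : ℕ, orderOf g = q ^ n := by
  obtain ⟨x, hx⟩ := exists_prime_orderOf_dvd_card' (G := H) q h
  refine ⟨x, x.2, fun e => (Fact.out : q.Prime).ne_one ?_, 1, by rw [Subgroup.orderOf_coe, hx, pow_one]⟩
  rw [← hx, ← Subgroup.orderOf_coe, e, orderOf_one]

theorem sl2_card_dvd {p : ℕ} [Fact p.Prime] (h : p = 2 ∨ p = 3) :
    ∃ g : Matrix.SpecialLinearGroup (Fin 2) (ZMod p), orderOf g = if p = 2 then 3 else 2 := by
  rcases h with rfl | rfl
  · exact sl2_two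
  · exact sl2_three

/-- The main lemma. -/
theorem detects {q : ℕ} [hq : Fact q.Prime] (hpq : p ≠ q) (h23 : ¬ ((p = 2 ∧ q = 3) ∨ (p = 3 ∧ q = 2))) :
    ∀ (N : ℕ) (X : Type u) [Group X] [Finite X], Nat.card X ≤ N → Cfsg.IsPSolvable p X →
      centralizer (Cfsg.pCore p X : Set X) ≤ Cfsg.pCore p X → q ∣ Nat.card X →
      ∀ T : Sylow p X, Detects q (T : Subgroup X) := by
  intro N
  induction N with
  | zero => intro X _ _ hX; exact absurd hX (not_le.2 Nat.card_pos)
  | succ N ih =>
  intro X _ _ hX hps hC hqd T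
  set R := Cfsg.pCore p X with hR
  haveI : R.Normal := Grp.pCore_isNormal
  have hRp : IsPGroup p R := Grp.pCore_isPGroup
  have hRT : R ≤ (T : Subgroup X) := Grp.pCore_le_sylow T
  have hqp : Nat.Coprime q p := (Nat.coprime_primes hq.out hp.out).2 (Ne.symm hpq)
  have hqT : ∀ {H : Subgroup X}, IsPGroup p H → ¬ q ∣ Nat.card H := fun hH hd => by
    obtain ⟨k, hk⟩ := IsPGroup.iff_card.1 hH
    exact hq.out.ne_one (Nat.eq_one_of_dvd_coprimes (hqp.pow_right k) dvd_rfl (hk ▸ hd))
  -- proper subgroups containing `T`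
  have hrec : ∀ Y : Subgroup X, (T : Subgroup X) ≤ Y → Y ≠ ⊤ → q ∣ Nat.card Y → Detects q (T : Subgroup X) := by
    intro Y hTY hY hqY
    have hlt : Nat.card Y < Nat.card X := lt_of_le_of_ne (Nat.le_of_dvd Nat.card_pos (card_subgroup_dvd_card Y))
      fun e => hY (Subgroup.eq_top_of_card_eq Y e)
    refine detects_subgroup hTY ?_
    have := ih Y (by omega) (psolvable_subgroup hps Y) ?_ hqY (T.subtype hTY)
    · exact this
    · have hR' : R.subgroupOf Y ≤ Cfsg.pCore p Y := Grp.le_pCore inferInstance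
        (hRp.comap_subtype (K := Y))
      intro y hy
      refine hR' ?_
      show (y : X) ∈ R
      refine hC (mem_centralizer_iff.2 fun r hr => ?_)
      exact congrArg Subtype.val (mem_centralizer_iff.1 hy ⟨r, hTY (hRT hr)⟩ (hR' hr))
  have hOp : Cfsg.pPrimeCore p X = ⊥ := by
    haveI : (Cfsg.pPrimeCore p X).Normal := Grp.pPrimeCore_isNormal
    have hd : Disjoint (Cfsg.pPrimeCore p X) R := disjoint_iff.2 (by
      refine Subgroup.card_eq_one.1 ?_
      obtain ⟨k, hk⟩ := IsPGroup.iff_card.1 hRp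
      exact Nat.eq_one_of_dvd_coprimes ((Grp.pPrimeCore_coprime (p := p) (G := X)).pow_right k)
        (card_dvd_of_le inf_le_left) (hk ▸ card_dvd_of_le inf_le_right))
    have hle : Cfsg.pPrimeCore p X ≤ R := le_trans (fun g hg => mem_centralizer_iff.2 fun r hr =>
      (Subgroup.commute_of_normal_of_disjoint _ _ inferInstance inferInstance hd g r hg hr).symm) hC
    exact le_bot_iff.1 ((le_inf le_rfl hle).trans hd.le_bot)
  by_cases hpqX : ∀ r : ℕ, r.Prime → r ∣ Nat.card X → r = p ∨ r = q
  · -- only `p` and `q`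
    set J := Cfsg.thompsonSubgroup p X with hJ
    set V := Offender.zGen p X with hV
    obtain ⟨hVn, hVe, hVc⟩ := Offender.zGen_data hps hOp
    haveI := hVn
    have hJV : J ≤ centralizer (V : Set X) := by
      by_contra hne
      obtain ⟨h2or3, E, -, -, -, _, ⟨iso⟩⟩ := Offender.exists_SL2_quotient hVe hps hVc hne
      obtain ⟨w, hw⟩ := sl2_card_dvd (p := p) h2or3
      obtain ⟨v, hv⟩ := QuotientGroup.mk'_surjective _ (iso.symm w)
      have hd : (if p = 2 then 3 else 2) ∣ Nat.card X := by
        refine dvd_trans ?_ (card_subgroup_dvd_card E)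
        rw [← hw, ← iso.symm.orderOf_eq w, ← hv]
        exact (orderOf_map_dvd _ v).trans (orderOf_dvd_natCard v)
      rcases h2or3 with rfl | rfl
      · norm_num at hd
        rcases hpqX 3 Nat.prime_three hd with h | h
        · norm_num at h
        · exact h23 (Or.inl ⟨rfl, h.symm⟩)
      · norm_num at hd
        rcases hpqX 2 Nat.prime_two hd with h | h
        · norm_num at h
        · exact h23 (Or.inr ⟨rfl, h.symm⟩)
    set Z := omegaZ p (T : Subgroup X) with hZ
    -- if every `q`-element centralises `Z`, divide by it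
    have hcase : (∀ g : X, (∃ n : ℕ, orderOf g = q ^ n) → g ∈ centralizer (Z : Set X)) →
        Detects q (T : Subgroup X) := by
      intro hall
      have htop : centralizer (Z : Set X) = ⊤ := eq_top_of_pq hpqX T
        (le_centralizer_iff.1 ((omegaZ_le _).trans inf_le_right)) hall
      have hZc : Z ≤ center X := fun z hz => mem_center_iff.2 fun g =>
        (mem_centralizer_iff.1 (htop.ge (mem_top g)) z hz).symm
      haveI : Z.Normal := ⟨fun z hz g => by
        rw [mem_center_iff.1 (hZc hz) g, mul_inv_cancel_right]; exact hz⟩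
      have hTne : (T : Subgroup X) ≠ ⊥ := by
        intro e
        have hR1 : R = ⊥ := le_bot_iff.1 (hRT.trans e.le)
        obtain ⟨g, -, hg1, -⟩ := exists_qelement (q := q) (H := (⊤ : Subgroup X)) (by rwa [Subgroup.card_top])
        refine hg1 (mem_bot.1 (hR1 ▸ hC (mem_centralizer_iff.2 fun r hr => ?_)))
        rw [SetLike.mem_coe, hR1, mem_bot] at hr
        simp [hr]
      have hZ1 : Z ≠ ⊥ := omegaZ_ne_bot T.isPGroup' hTne
      have hlt : Nat.card (X ⧸ Z) < Nat.card X := by
        rw [Subgroup.card_eq_card_quotient_mul_card_subgroup Z]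
        exact lt_mul_of_one_lt_right Nat.card_pos (Subgroup.one_lt_card_iff_ne_bot Z |>.2 hZ1)
      refine detects_quotient (omegaZ_charIn (p := p) _) ?_
      set π := QuotientGroup.mk' Z with hπ
      haveI : (Cfsg.pCore p (X ⧸ Z)).Normal := Grp.pCore_isNormal
      have hZR : Z ≤ R := fun z hz => hC (mem_centralizer_iff.2 fun r _ => mem_center_iff.1 (hZc hz) r)
      have hCb : centralizer (Cfsg.pCore p (X ⧸ Z) : Set (X ⧸ Z)) ≤ Cfsg.pCore p (X ⧸ Z) := by
        have hRb : R.map π ≤ Cfsg.pCore p (X ⧸ Z) :=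
          Grp.le_pCore (Subgroup.Normal.map inferInstance π (QuotientGroup.mk'_surjective Z)) (hRp.map π)
        set W := (centralizer (R.map π : Set (X ⧸ Z))).comap π with hW
        haveI : (R.map π).Normal := Subgroup.Normal.map inferInstance π (QuotientGroup.mk'_surjective Z)
        haveI : W.Normal := (Subgroup.normal_centralizer).comap π
        have hWp : IsPGroup p W := by
          refine IsPGroup.iff_orderOf.2 fun w => ?_
          obtain ⟨a, m, hm, hord⟩ := Nat.exists_eq_pow_mul_and_not_dvd (orderOf_pos (w : X)).ne' p hp.out.ne_one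
          -- the `p'`-part centralises `R`
          set v := (w : X) ^ p ^ a with hv
          have hvm : v ^ m = 1 := by rw [hv, ← pow_mul, ← hord, pow_orderOf_eq_one]
          have hvW : v ∈ W := W.pow_mem w.2 _
          have hvR : v ∈ centralizer (R : Set X) := mem_centralizer_iff.2 fun r hr => by
            have hc : v * r * v⁻¹ * r⁻¹ ∈ Z := by
              rw [← QuotientGroup.eq_one_iff]
              have h1 := mem_centralizer_iff.1 (hvW : π v ∈ centralizer (R.map π : Set (X ⧸ Z))) (π r) ⟨r, hr, rfl⟩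
              show π (v * r * v⁻¹ * r⁻¹) = 1
              rw [map_mul, map_mul, map_mul, map_inv, map_inv, ← h1, mul_inv_cancel_right, mul_inv_cancel]
            set c := v * r * v⁻¹ * r⁻¹
            have hcc : ∀ g : X, g * c = c * g := fun g => mem_center_iff.1 (hZc hc) g
            have key : ∀ i : ℕ, v ^ i * r * (v ^ i)⁻¹ = c ^ i * r := by
              intro i
              induction i with
              | zero => simp
              | succ i ih =>
                calc v ^ (i + 1) * r * (v ^ (i + 1))⁻¹ = v * (v ^ i * r * (v ^ i)⁻¹) * v⁻¹ := by rw [pow_succ']; group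
                  _ = c ^ i * (v * r * v⁻¹) := by
                    rw [ih, ← mul_assoc v, ((Commute.pow_right (hcc v) i).eq : v * c ^ i = c ^ i * v)]; group
                  _ = c ^ (i + 1) * r := by rw [pow_succ]; simp only [c]; group
            have h3 := key m
            rw [hvm, one_mul, inv_one, mul_one, right_eq_mul] at h3
            have h4 : c = 1 := by
              obtain ⟨k, hk⟩ := IsPGroup.iff_orderOf.1 (hRp.to_le hZR) ⟨c, hc⟩
              rw [← Subgroup.orderOf_coe] at hk
              exact orderOf_eq_one_iff.1 (Nat.eq_one_of_dvd_coprimes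
                ((hp.out.coprime_iff_not_dvd.2 hm).pow_left k) (hk ▸ dvd_rfl) (orderOf_dvd_of_pow_eq_one h3))
            exact (mul_inv_eq_iff_eq_mul.1 (mul_inv_eq_one.1 h4)).symm
          obtain ⟨k, hk⟩ := IsPGroup.iff_orderOf.1 hRp ⟨v, hC hvR⟩
          rw [← Subgroup.orderOf_coe] at hk
          refine ⟨a, ?_⟩
          rw [← Subgroup.orderOf_coe]
          have hv1 : v = 1 := orderOf_eq_one_iff.1 (Nat.eq_one_of_dvd_coprimes
            ((hp.out.coprime_iff_not_dvd.2 hm).pow_left k) (hk ▸ dvd_rfl) (orderOf_dvd_of_pow_eq_one hvm))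
          obtain ⟨j, hj, hj'⟩ := (Nat.dvd_prime_pow hp.out).1 (orderOf_dvd_of_pow_eq_one hv1)
          rw [hord] at hj' ⊢
          have hm1 : m ∣ p ^ j := hj' ▸ dvd_mul_left m _
          rw [Nat.eq_one_of_dvd_coprimes ((hp.out.coprime_iff_not_dvd.2 hm).symm.pow_right j) dvd_rfl hm1, mul_one]
        intro y hy
        obtain ⟨w, rfl⟩ := QuotientGroup.mk'_surjective Z y
        exact hRb ⟨w, Grp.le_pCore inferInstance hWp (show π w ∈ centralizer (R.map π : Set (X ⧸ Z)) from
          centralizer_le hRb hy), rfl⟩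
      have := ih (X ⧸ Z) (by omega) (Grp.isPSolvable_map hps π (QuotientGroup.mk'_surjective Z)) hCb ?_
        (T.mapSurjective (f := π) (QuotientGroup.mk'_surjective Z))
      · exact this
      · have h1 := hqd
        rw [Subgroup.card_eq_card_quotient_mul_card_subgroup Z] at h1
        exact (hq.out.dvd_mul.1 h1).resolve_right (hqT (hRp.to_le hZR))
    -- the centraliser of `V`
    set CV := centralizer (V : Set X) with hCV
    haveI : CV.Normal := Subgroup.normal_centralizer
    by_cases hallV : ∀ g : X, (∃ n : ℕ, orderOf g = q ^ n) → g ∈ CV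
    · exact hcase fun g hg => centralizer_le (le_iSup (fun S : Sylow p X => Cfsg.omegaOne p
        ((S : Subgroup X) ⊓ centralizer ((S : Subgroup X) : Set X))) T) (hallV g hg)
    push Not at hallV
    obtain ⟨g, hg, hgV⟩ := hallV
    have hVtop : CV ⊔ (T : Subgroup X) ≠ ⊤ := fun e => hgV (by
      have h1 : CV.index ∣ Nat.card (T : Subgroup X) := by
        show _ ∣ _
        rw [← Subgroup.relIndex_top_right, ← e, sup_comm, Subgroup.relIndex_sup_right]
        exact Subgroup.relIndex_dvd_card _ _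
      obtain ⟨k, hk⟩ := IsPGroup.iff_card.1 T.isPGroup'
      obtain ⟨n, hn⟩ := hg
      rw [← QuotientGroup.eq_one_iff, ← orderOf_eq_one_iff]
      refine Nat.eq_one_of_dvd_coprimes (hqp.pow n k) ((orderOf_map_dvd (QuotientGroup.mk' CV) g).trans hn.dvd) ?_
      exact (_root_.orderOf_dvd_natCard _).trans (hk ▸ Subgroup.index_eq_card CV ▸ h1))
    by_cases hqV : q ∣ Nat.card CV
    · exact hrec _ le_sup_right hVtop (hqV.trans (card_dvd_of_le le_sup_left))
    have hCVp : IsPGroup p CV := IsPGroup.iff_orderOf.2 fun w => by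
      refine ⟨(orderOf w).factorization p, Nat.eq_pow_of_factorization_eq_single (orderOf_pos w).ne' ?_⟩
      ext r
      by_cases hrp : r = p
      · subst hrp; rw [Finsupp.single_eq_same]
      rw [Finsupp.single_eq_of_ne hrp]
      by_contra hne
      have hr : r.Prime := Nat.prime_of_mem_primeFactors (Nat.support_factorization _ ▸ Finsupp.mem_support_iff.2 hne)
      have hrd : r ∣ orderOf w := Nat.dvd_of_factorization_pos hne
      rcases hpqX r hr (hrd.trans ((orderOf_dvd_natCard w).trans (card_subgroup_dvd_card CV))) with h | h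
      · exact hrp h
      · exact hqV (h ▸ hrd.trans (orderOf_dvd_natCard w))
    have hJR : J ≤ R := hJV.trans (Grp.le_pCore inferInstance hCVp)
    have hJT : J ≤ (T : Subgroup X) := hJR.trans hRT
    have hJc : CharIn (T : Subgroup X) J := by
      rw [hJ, ← Thompson.thompsonSubgroupOf_eq hJT]
      exact thompsonOf_charIn _
    haveI : J.Normal := by
      haveI := Thompson.characteristic_thompsonSubgroup (p := p) (G := X)
      exact inferInstance
    by_cases hallJ : ∀ g : X, (∃ n : ℕ, orderOf g = q ^ n) → g ∈ centralizer (J : Set X)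
    · refine hcase fun g hg => mem_centralizer_iff.2 fun z hz => mem_centralizer_iff.1 (hallJ g hg) z ?_
      have hz1 := omegaZ_le (p := p) (T : Subgroup X) hz
      obtain ⟨A, hA⟩ := Thompson.exists_max (p := p) (G := X)
      exact Thompson.le_thompsonSubgroup hA (Thompson.mem_of_commute hA (pow_eq_one_of_mem_omegaZ hz)
        fun a ha => (mem_centralizer_iff.1 hz1.2 a (hJT (Thompson.le_thompsonSubgroup hA ha))).symm)
    push Not at hallJ
    obtain ⟨g', hg', hgJ⟩ := hallJ
    exact ⟨J, hJc, g', by rw [Subgroup.normalizer_eq_top]; exact mem_top g', hgJ, hg'⟩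
  · -- another prime: find a proper subgroup
    set π := QuotientGroup.mk' R with hπ
    have hπs : Function.Surjective π := QuotientGroup.mk'_surjective R
    set Mb := Cfsg.pPrimeCore p (X ⧸ R) with hMb
    haveI : Mb.Normal := Grp.pPrimeCore_isNormal
    set Tb := (T : Subgroup X).map π with hTb
    have hTbp : IsPGroup p Tb := T.isPGroup'.map π
    have hMcop : (Nat.card Mb).Coprime p := Grp.pPrimeCore_coprime
    have hcomap : ∀ H : Subgroup (X ⧸ R), Nat.card (H.comap π) = Nat.card R * Nat.card H := by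
      intro H
      have h1 : R ≤ H.comap π := fun r hr => by
        show π r ∈ H
        rw [show π r = 1 from (QuotientGroup.eq_one_iff r).2 hr]
        exact one_mem _
      rw [← Grp.card_mul_relIndex h1]
      congr 1
      have h2 := Subgroup.relIndex_comap (⊥ : Subgroup (X ⧸ R)) π (H.comap π)
      rwa [MonoidHom.comap_bot, QuotientGroup.ker_mk', map_comap_eq_self_of_surjective hπs,
        Subgroup.relIndex_bot_left] at h2
    by_cases hqM : q ∣ Nat.card Mb
    · obtain ⟨Qb, hQb, hTQ⟩ := Grp.exists_invariant_sylow Tb Mb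
        (by rw [Subgroup.normalizer_eq_top]; exact le_top)
        (by obtain ⟨k, hk⟩ := IsPGroup.iff_card.1 hTbp; rw [hk]; exact hMcop.symm.pow_left k)
        (Or.inl (by
          haveI := hTbp.isNilpotent
          infer_instance)) q
      set Y := (Qb ⊔ Tb).comap π with hY
      have hQ1 : q ∣ Nat.card Qb := by
        by_contra hnd
        rw [← Grp.card_mul_relIndex hQb.1] at hqM
        exact (hq.out.dvd_mul.1 hqM).elim hnd hQb.2.2
      refine hrec Y (le_trans (le_comap_map π _) (comap_mono le_sup_right)) (fun e => hpqX fun r hr hd => ?_) ?_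
      · rw [← Subgroup.card_top, ← e, hY, hcomap] at hd
        rcases hr.dvd_mul.1 hd with h | h
        · left
          obtain ⟨k, hk⟩ := IsPGroup.iff_card.1 hRp
          exact (Nat.prime_dvd_prime_iff_eq hr hp.out).1 (hr.dvd_of_dvd_pow (hk ▸ h))
        · have h1 : Nat.card ↥(Tb ⊔ Qb) ∣ Nat.card Tb * Nat.card Qb :=
            Dvd.intro _ (Grp.card_sup_mul_card_inf (H := Tb) (N := Qb) hTQ)
          rw [sup_comm] at h
          rcases hr.dvd_mul.1 (h.trans h1) with h2 | h2
          · left
            obtain ⟨k, hk⟩ := IsPGroup.iff_card.1 hTbp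
            exact (Nat.prime_dvd_prime_iff_eq hr hp.out).1 (hr.dvd_of_dvd_pow (hk ▸ h2))
          · right
            obtain ⟨k, hk⟩ := IsPGroup.iff_card.1 hQb.2.1
            exact (Nat.prime_dvd_prime_iff_eq hr hq.out).1 (hr.dvd_of_dvd_pow (hk ▸ h2))
      · rw [hY, hcomap]
        exact dvd_mul_of_dvd_right (hQ1.trans (card_dvd_of_le le_sup_left)) _
    · -- a Frattini argument
      set π₂ := QuotientGroup.mk' Mb with hπ₂
      set P2 := Cfsg.pCore p ((X ⧸ R) ⧸ Mb) with hP2
      haveI : P2.Normal := Grp.pCore_isNormal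
      set L := (P2.comap π₂).comap π with hL
      haveI : L.Normal := (Subgroup.Normal.comap inferInstance π₂).comap π
      have hcardL : Nat.card L = Nat.card R * (Nat.card Mb * Nat.card P2) := by
        rw [hL, hcomap]
        congr 1
        have h1 : Mb ≤ P2.comap π₂ := fun m hm => by
          show π₂ m ∈ P2
          rw [show π₂ m = 1 from (QuotientGroup.eq_one_iff m).2 hm]
          exact one_mem _
        rw [← Grp.card_mul_relIndex h1]
        congr 1
        have h2 := Subgroup.relIndex_comap (⊥ : Subgroup ((X ⧸ R) ⧸ Mb)) π₂ (P2.comap π₂)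
        rwa [MonoidHom.comap_bot, QuotientGroup.ker_mk', map_comap_eq_self_of_surjective (QuotientGroup.mk'_surjective Mb),
          Subgroup.relIndex_bot_left] at h2
      have hqL : ¬ q ∣ Nat.card L := by
        rw [hcardL]
        intro hd
        rcases hq.out.dvd_mul.1 hd with h | h
        · exact hqT hRp h
        rcases hq.out.dvd_mul.1 h with h | h
        · exact hqM h
        · obtain ⟨k, hk⟩ := IsPGroup.iff_card.1 (Grp.pCore_isPGroup (p := p) (G := (X ⧸ R) ⧸ Mb))
          exact hq.out.ne_one (Nat.eq_one_of_dvd_coprimes (hqp.pow_right k) dvd_rfl (hk ▸ h))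
      have hP2ne : P2 ≠ ⊥ := by
        intro e
        have h2 : Cfsg.pPrimeCore p ((X ⧸ R) ⧸ Mb) = ⊥ := Grp.pPrimeCore_quotient_eq_bot
        have h3 := Grp.isPSolvable_eq_top_of_cores (Grp.isPSolvable_map
          (Grp.isPSolvable_map hps π hπs) π₂ (QuotientGroup.mk'_surjective Mb)) e h2
        have h4 : L = ⊤ := by
          refine eq_top_iff.2 fun g _ => ?_
          show π₂ (π g) ∈ P2
          rw [e]
          exact h3.le (mem_top _)
        exact hqL (by rw [h4, Subgroup.card_top]; exact hqd)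
      set T1 := (T : Subgroup X) ⊓ L with hT1
      set Ny := normalizer (T1 : Set X) with hNy
      have hTN : (T : Subgroup X) ≤ Ny := fun t ht => by
        refine Subgroup.mem_normalizer_fintype fun a ha => ⟨?_, Subgroup.Normal.conj_mem inferInstance a ha.2 t⟩
        exact (T : Subgroup X).mul_mem ((T : Subgroup X).mul_mem ht ha.1) ((T : Subgroup X).inv_mem ht)
      -- `T₁` is a Sylow subgroup of `L`
      have hT1p : IsPGroup p (T1.subgroupOf L) := (T.isPGroup'.to_le (inf_le_left : T1 ≤ _)).comap_subtype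
      have hT1i : ¬ p ∣ (T1.subgroupOf L).index := by
        show ¬ p ∣ T1.relIndex L
        rw [hT1, Subgroup.inf_relIndex_right]
        exact Grp.sylow_inf_normal_relIndex T L
      set P1 : Sylow p L := hT1p.toSylow hT1i
      have hfr := Sylow.normalizer_sup_eq_top P1
      rw [show ((P1 : Subgroup L).map L.subtype : Subgroup X) = T1 from by
        show (T1.subgroupOf L).map L.subtype = T1
        rw [Subgroup.subgroupOf_map_subtype]; exact inf_eq_left.2 inf_le_right] at hfr
      refine hrec Ny hTN (fun e => hP2ne ?_) ?_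
      · haveI : T1.Normal := Subgroup.normalizer_eq_top_iff.1 e
        have hT1R : T1 ≤ R := Grp.le_pCore inferInstance (T.isPGroup'.to_le inf_le_left)
        have hcop : (Nat.card ((P2.comap π₂) : Subgroup (X ⧸ R))).Coprime p := by
          refine (hp.out.coprime_iff_not_dvd.2 fun hd => ?_).symm
          have h1 : Nat.card R * Nat.card (P2.comap π₂ : Subgroup (X ⧸ R)) = Nat.card L := (hcomap _).symm
          have hRL : R ≤ L := fun r hr => by
            show π₂ (π r) ∈ P2
            rw [show π r = 1 from (QuotientGroup.eq_one_iff r).2 hr, map_one]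
            exact one_mem _
          rw [← Grp.card_mul_relIndex hRL] at h1
          have h3 : T1 = R := le_antisymm hT1R (le_inf hRT hRL)
          exact hT1i (by
            show p ∣ T1.relIndex L
            rw [h3, ← Nat.eq_of_mul_eq_mul_left Nat.card_pos h1]
            exact hd)
        have h5 := Grp.le_pPrimeCore (Subgroup.Normal.comap inferInstance π₂) hcop
        refine le_bot_iff.1 fun z hz => ?_
        obtain ⟨m, rfl⟩ := QuotientGroup.mk'_surjective Mb z
        exact (QuotientGroup.eq_one_iff m).2 (h5 hz)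
      · by_contra hnd
        have h6 := hqd
        rw [← Subgroup.card_top, ← hfr] at h6
        have h7 : Nat.card ↥(Ny ⊔ L) ∣ Nat.card Ny * Nat.card L :=
          Dvd.intro _ (Grp.card_sup_mul_card_inf_normal (H := Ny) (N := L))
        exact (hq.out.dvd_mul.1 (h6.trans h7)).elim hnd hqL

end Cfsg.Agent.Transfer.CharAutomizer
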