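import Mathlib
import Cfsg.Agent.Lib.Grp.Real

/-!
Centreless groups with equal class-size sets, one with disconnected prime graph, have equal orders.
-/

set_option autoImplicit false

namespace Cfsg.Agent.ClassSizes

open Subgroup
open scoped Pointwise

/-- index of the centraliser -/
noncomputable def idx {G : Type*} [Group G] (x : G) : ℕ := (Subgroup.centralizer ({x} : Set G)).index

/-- order of the centraliser -/
noncomputable def cc {G : Type*} [Group G] (x : G) : ℕ := Nat.card (Subgroup.centralizer ({x} : Set G))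

theorem fac_split {G : Type*} [Group G] [Finite G] (x : G) (p : ℕ) :
    (Nat.card G).factorization p = (idx x).factorization p + (cc x).factorization p := by
  rw [← (Subgroup.centralizer ({x} : Set G)).card_mul_index, Nat.factorization_mul Nat.card_pos.ne'
    Subgroup.index_ne_zero_of_finite]
  exact add_comm _ _

theorem idx_ne_zero {G : Type*} [Group G] [Finite G] (x : G) : idx x ≠ 0 := Subgroup.index_ne_zero_of_finite

/-- full part on a set of primes -/
def Full (n N : ℕ) (S : Set ℕ) : Prop := ∀ p : ℕ, p.Prime → p ∈ S → n.factorization p = N.factorization p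

variable {M : Type*} [Group M] [Finite M]

theorem dvd_cc_of_orderOf {G : Type*} [Group G] [Finite G] (m : G) : orderOf m ∣ cc m := by
  have := orderOf_dvd_natCard (⟨m, Subgroup.mem_centralizer_singleton_iff.mpr rfl⟩ : Subgroup.centralizer ({m} : Set G))
  rwa [Subgroup.orderOf_mk] at this

theorem exists_prime_ne_full {m : M} {S : Set ℕ} (h : ¬ Full (idx m) (Nat.card M) S) :
    ∃ p : ℕ, p.Prime ∧ p ∈ S ∧ p ∣ cc m := by
  simp only [Full, not_forall] at h
  obtain ⟨p, hp, hpS, hne⟩ := h
  refine ⟨p, hp, hpS, Nat.dvd_of_factorization_pos fun h0 => hne ?_⟩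
  rw [fac_split m p, h0, add_zero]

theorem dichotomy (A : Set ℕ)
    (hno : ∀ a ∈ A, ∀ b ∉ A, a.Prime → b.Prime → a ∣ Nat.card M → b ∣ Nat.card M → ¬ ∃ x : M, orderOf x = a * b)
    {m : M} (hm : m ≠ 1) : Full (idx m) (Nat.card M) A ∨ Full (idx m) (Nat.card M) Aᶜ := by
  by_contra h
  rw [not_or] at h
  obtain ⟨p, hp, hpA, hpd⟩ := exists_prime_ne_full h.1
  obtain ⟨q, hq, hqA, hqd⟩ := exists_prime_ne_full h.2
  obtain ⟨r, hr, hrd⟩ := Nat.exists_prime_and_dvd (fun e => hm (orderOf_eq_one_iff.mp e))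
  haveI := Fact.mk hp; haveI := Fact.mk hq; haveI := Fact.mk hr
  set m' := m ^ (orderOf m / r) with hm'
  have hor : orderOf m' = r := orderOf_pow_orderOf_div (orderOf_pos m).ne' hrd
  have hrM : r ∣ Nat.card M := hor ▸ orderOf_dvd_natCard m'
  have key : ∀ s : ℕ, s.Prime → s ∣ cc m → s ≠ r → ∃ x : M, orderOf x = r * s := by
    intro s hs hsd hsr
    haveI := Fact.mk hs
    obtain ⟨v, hv⟩ := exists_prime_orderOf_dvd_card' s hsd
    have hc : Commute m' (v : M) :=
      (Commute.pow_left (Subgroup.mem_centralizer_singleton_iff.mp v.2).symm _)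
    refine ⟨m' * (v : M), ?_⟩
    rw [hc.orderOf_mul_eq_mul_orderOf_of_coprime, hor, Subgroup.orderOf_coe, hv]
    rw [hor, Subgroup.orderOf_coe, hv]
    exact (Nat.coprime_primes hr hs).mpr hsr.symm
  by_cases hrA : r ∈ A
  · exact hno r hrA q hqA hr hq hrM (hqd.trans (Subgroup.card_subgroup_dvd_card _))
      (key q hq hqd (fun e => hqA (e ▸ hrA)))
  · obtain ⟨x, hx⟩ := key p hp hpd (fun e => hrA (e ▸ hpA))
    exact hno p hpA r hrA hp hr (hpd.trans (Subgroup.card_subgroup_dvd_card _)) hrM ⟨x, by rw [hx, mul_comm]⟩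

theorem not_both (A : Set ℕ) {m : M} (hm : m ≠ 1)
    (h1 : Full (idx m) (Nat.card M) A) (h2 : Full (idx m) (Nat.card M) Aᶜ) : False := by
  obtain ⟨r, hr, hrd⟩ := Nat.exists_prime_and_dvd (fun e => hm (orderOf_eq_one_iff.mp e))
  have hpos : 0 < (cc m).factorization r :=
    hr.factorization_pos_of_dvd Nat.card_pos.ne' (hrd.trans (dvd_cc_of_orderOf m))
  have hs := fac_split m r
  rcases (em (r ∈ A)) with hA | hA
  · rw [h1 r hr hA] at hs; omega
  · rw [h2 r hr hA] at hs; omega

variable {G : Type*} [Group G] [Finite G]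

theorem exists_same_idx (hZG : Subgroup.center G = ⊥)
    (h : Set.range (idx : G → ℕ) = Set.range (idx : M → ℕ)) {x : G} (hx : x ≠ 1) :
    ∃ m : M, m ≠ 1 ∧ idx m = idx x := by
  obtain ⟨m, hm⟩ : idx x ∈ Set.range (idx : M → ℕ) := h ▸ ⟨x, rfl⟩
  refine ⟨m, fun e => hx ?_, hm⟩
  subst e
  have h1 : idx x = 1 := by
    rw [← hm, idx, Subgroup.index_eq_one, Subgroup.centralizer_eq_top_iff_subset, Set.singleton_subset_iff]
    exact Subgroup.one_mem _
  rw [idx, Subgroup.index_eq_one, Subgroup.centralizer_eq_top_iff_subset, Set.singleton_subset_iff] at h1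
  exact (Subgroup.mem_bot).mp (hZG ▸ h1)

theorem fac_le_of_element (h : Set.range (idx : G → ℕ) = Set.range (idx : M → ℕ)) {m : M} {p : ℕ}
    (hp : (idx m).factorization p = (Nat.card M).factorization p) :
    (Nat.card M).factorization p ≤ (Nat.card G).factorization p := by
  obtain ⟨x, hx⟩ : idx m ∈ Set.range (idx : G → ℕ) := h ▸ ⟨m, rfl⟩
  rw [← hp, ← hx, fac_split x p]
  exact Nat.le_add_right _ _

theorem exists_center_elt {q : ℕ} [Fact q.Prime] {H : Subgroup G} (hH : IsPGroup q H) (hne : H ≠ ⊥) :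
    ∃ z ∈ H, z ≠ 1 ∧ ∀ u ∈ H, u * z = z * u := by
  haveI := (Subgroup.nontrivial_iff_ne_bot H).mpr hne
  haveI := hH.center_nontrivial
  obtain ⟨z, hz⟩ := exists_ne (1 : Subgroup.center H)
  refine ⟨((z : H) : G), (z : H).2, fun e => hz ?_, fun u hu => ?_⟩
  · ext; exact e
  · exact congrArg Subtype.val (Subgroup.mem_center_iff.mp z.2 ⟨u, hu⟩)

theorem fac_idx_eq_zero {q : ℕ} [Fact q.Prime] (Q : Sylow q G) {z : G}
    (hz : ∀ u ∈ (Q : Subgroup G), u * z = z * u) : (idx z).factorization q = 0 :=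
  Nat.factorization_eq_zero_of_not_dvd fun hd =>
    Q.not_dvd_index (hd.trans (Subgroup.index_dvd_of_le fun u hu =>
      Subgroup.mem_centralizer_singleton_iff.mpr (hz u hu)))

theorem eq_of_mem (S : Set ℕ) (hZG : Subgroup.center G = ⊥) (hb : ∃ b ∉ S, b.Prime ∧ b ∣ Nat.card M)
    (hle : ∀ p, (Nat.card M).factorization p ≤ (Nat.card G).factorization p)
    (hdic : ∀ x : G, x ≠ 1 → Full (idx x) (Nat.card M) S ∨ Full (idx x) (Nat.card M) Sᶜ)
    (hnot : ∀ x : G, x ≠ 1 → Full (idx x) (Nat.card M) S → Full (idx x) (Nat.card M) Sᶜ → False)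
    (hbd : ∀ (x : G) (p : ℕ), (idx x).factorization p ≤ (Nat.card M).factorization p)
    {p : ℕ} (hp : p.Prime) (hpS : p ∈ S) :
    (Nat.card G).factorization p = (Nat.card M).factorization p := by
  haveI := Fact.mk hp
  refine le_antisymm ?_ (hle p)
  by_contra hlt
  rw [not_le] at hlt
  have hpG : p ∣ Nat.card G := Nat.dvd_of_factorization_pos (by omega)
  rcases Nat.eq_zero_or_pos ((Nat.card M).factorization p) with h0 | hpos
  · -- every element centralises a Sylow p-subgroup
    obtain ⟨P⟩ : Nonempty (Sylow p G) := inferInstance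
    have hcov : Subgroup.centralizer ((P : Subgroup G) : Set G) = ⊤ := by
      refine Grp.eq_top_of_conj_cover _ fun x => ?_
      obtain ⟨R⟩ : Nonempty (Sylow p (Subgroup.centralizer ({x} : Set G))) := inferInstance
      set R' := (R : Subgroup _).map (Subgroup.centralizer ({x} : Set G)).subtype with hR'
      have hcard : Nat.card R' = p ^ (Nat.card G).factorization p := by
        rw [hR', Nat.card_congr (Subgroup.equivMapOfInjective _ _ (Subgroup.subtype_injective _)).symm.toEquiv,
          Sylow.card_eq_multiplicity, fac_split x p]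
        have := hbd x p
        rw [show (idx x).factorization p = 0 by omega, zero_add]
        rfl
      obtain ⟨g, hg⟩ := MulAction.exists_smul_eq G (Sylow.ofCard R' hcard) P
      refine ⟨g, Subgroup.mem_centralizer_iff.mpr fun u hu => ?_⟩
      rw [← hg] at hu
      obtain ⟨r, hr, rfl⟩ : ∃ r ∈ R', u = g * r * g⁻¹ := by
        change u ∈ (MulAut.conj g • R' : Subgroup G) at hu
        obtain ⟨r, hr, rfl⟩ := hu
        exact ⟨r, hr, rfl⟩
      obtain ⟨⟨r', hr'⟩, -, rfl⟩ := hr
      have := Subgroup.mem_centralizer_singleton_iff.mp hr'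
      show g * r' * g⁻¹ * (g * x * g⁻¹) = g * x * g⁻¹ * (g * r' * g⁻¹)
      simp only [mul_assoc, inv_mul_cancel_left]
      rw [← mul_assoc r', this, mul_assoc]
    have hbot : (P : Subgroup G) = ⊥ := le_bot_iff.mp (hZG ▸ fun u hu => Subgroup.mem_center_iff.mpr fun y =>
      ((Subgroup.mem_centralizer_iff.mp (hcov ▸ Subgroup.mem_top y)) u hu).symm)
    exact P.ne_bot_of_dvd_card hpG hbot
  · obtain ⟨q, hqS, hq, hqM⟩ := hb
    haveI := Fact.mk hq
    have hqpos : 0 < (Nat.card M).factorization q := hq.factorization_pos_of_dvd Nat.card_pos.ne' hqM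
    have hqG : q ∣ Nat.card G := Nat.dvd_of_factorization_pos (by have := hle q; omega)
    obtain ⟨Q⟩ : Nonempty (Sylow q G) := inferInstance
    obtain ⟨y, hyQ, hy1, hyc⟩ := exists_center_elt Q.isPGroup' (Q.ne_bot_of_dvd_card hqG)
    have hyS : Full (idx y) (Nat.card M) S := (hdic y hy1).resolve_right fun hf => by
      have h' := hf q hq hqS
      rw [fac_idx_eq_zero Q hyc] at h'
      omega
    obtain ⟨e, he⟩ := (IsPGroup.iff_orderOf.mp Q.isPGroup') ⟨y, hyQ⟩
    rw [Subgroup.orderOf_mk] at he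
    have hpq : p ≠ q := fun e' => hqS (e' ▸ hpS)
    -- a nontrivial p-element commuting with y has full S-part
    have key : ∀ u : G, u ≠ 1 → (∃ k, orderOf u = p ^ k) → Commute u y → Full (idx u) (Nat.card M) S := by
      intro u hu ⟨k, hk⟩ hc
      refine (hdic u hu).resolve_right fun hf => ?_
      have hcop : (orderOf u).Coprime (orderOf y) := by
        rw [hk, he]; exact Nat.Coprime.pow _ _ ((Nat.coprime_primes hp hq).mpr hpq)
      obtain ⟨i, hi⟩ := exists_pow_eq_self_of_coprime hcop.symm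
      obtain ⟨j, hj⟩ := exists_pow_eq_self_of_coprime hcop
      have hu' : ((u * y) ^ orderOf y) ^ i = u := by rw [hc.mul_pow, pow_orderOf_eq_one, mul_one, hi]
      have hy' : ((u * y) ^ orderOf u) ^ j = y := by rw [hc.mul_pow, pow_orderOf_eq_one, one_mul, hj]
      have hne : u * y ≠ 1 := fun h1 => hu (by rw [← hu', h1, one_pow, one_pow])
      have hle1 : Subgroup.centralizer ({u * y} : Set G) ≤ Subgroup.centralizer ({u} : Set G) := fun g hg => by
        rw [Subgroup.mem_centralizer_singleton_iff] at hg ⊢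
        rw [← hu']
        exact ((Commute.pow_right hg _).pow_right _)
      have hle2 : Subgroup.centralizer ({u * y} : Set G) ≤ Subgroup.centralizer ({y} : Set G) := fun g hg => by
        rw [Subgroup.mem_centralizer_singleton_iff] at hg ⊢
        rw [← hy']
        exact ((Commute.pow_right hg _).pow_right _)
      refine hnot (u * y) hne (fun r hr hrS => le_antisymm (hbd _ r) ?_) (fun r hr hrS => le_antisymm (hbd _ r) ?_)
      · rw [← hyS r hr hrS]
        exact (Nat.factorization_le_iff_dvd (idx_ne_zero y) (idx_ne_zero _)).mpr (Subgroup.index_dvd_of_le hle2) r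
      · rw [← hf r hr hrS]
        exact (Nat.factorization_le_iff_dvd (idx_ne_zero u) (idx_ne_zero _)).mpr (Subgroup.index_dvd_of_le hle1) r
    set C := Subgroup.centralizer ({y} : Set G) with hC
    obtain ⟨R⟩ : Nonempty (Sylow p C) := inferInstance
    set R' := (R : Subgroup C).map C.subtype with hR'
    have hccy : (cc y).factorization p = (Nat.card G).factorization p - (Nat.card M).factorization p := by
      have := fac_split y p; have := hyS p hp hpS; omega
    have hcardR : Nat.card R' = p ^ (cc y).factorization p := by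
      rw [hR', Nat.card_congr (Subgroup.equivMapOfInjective _ _ (Subgroup.subtype_injective _)).symm.toEquiv,
        Sylow.card_eq_multiplicity]
      rfl
    have hR'p : IsPGroup p R' := R.isPGroup'.map _
    have hR'ne : R' ≠ ⊥ := fun hb' => by
      rw [hb', Subgroup.card_bot] at hcardR
      have := (Nat.pow_eq_one.mp hcardR.symm).resolve_left hp.ne_one
      omega
    have hR'C : R' ≤ C := Subgroup.map_subtype_le _
    obtain ⟨w, hwR, hw1, hwc⟩ := exists_center_elt hR'p hR'ne
    have pelt : ∀ u ∈ R', ∃ k, orderOf u = p ^ k := fun u hu => by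
      obtain ⟨k, hk⟩ := (IsPGroup.iff_orderOf.mp hR'p) ⟨u, hu⟩
      exact ⟨k, by rwa [Subgroup.orderOf_mk] at hk⟩
    have hwS := key w hw1 (pelt w hwR) (Subgroup.mem_centralizer_singleton_iff.mp (hR'C hwR))
    obtain ⟨P, hP⟩ := hR'p.exists_le_sylow
    obtain ⟨z, hzP, hz1, hzc⟩ := exists_center_elt P.isPGroup' (P.ne_bot_of_dvd_card hpG)
    set T := R' ⊔ Subgroup.zpowers z with hT
    have hTP : T ≤ P := sup_le hP (Subgroup.zpowers_le.mpr hzP)
    have hTw : T ≤ Subgroup.centralizer ({w} : Set G) := sup_le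
      (fun u hu => Subgroup.mem_centralizer_singleton_iff.mpr (hwc u hu))
      (Subgroup.zpowers_le.mpr (Subgroup.mem_centralizer_singleton_iff.mpr (hzc w (hP hwR)).symm))
    obtain ⟨t, ht⟩ := (IsPGroup.iff_card.mp (P.isPGroup'.to_le hTP))
    have ht' : t ≤ (cc w).factorization p :=
      (hp.pow_dvd_iff_le_factorization Nat.card_pos.ne').mp (ht ▸ Subgroup.card_dvd_of_le hTw)
    have hccw : (cc w).factorization p = (cc y).factorization p := by
      have := fac_split w p; have := hwS p hp hpS; omega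
    have hTR : R' = T := Subgroup.eq_of_le_of_card_ge le_sup_left (by
      rw [ht, hcardR]
      exact Nat.pow_le_pow_right hp.pos (hccw ▸ ht'))
    have hzR : z ∈ R' := hTR ▸ Subgroup.mem_sup_right (Subgroup.mem_zpowers z)
    have hzS := key z hz1 (pelt z hzR) (Subgroup.mem_centralizer_singleton_iff.mp (hR'C hzR))
    have h' := hzS p hp hpS
    rw [fac_idx_eq_zero P hzc] at h'
    omega

theorem card_eq (hZG : Subgroup.center G = ⊥)
    (h : Set.range (idx : G → ℕ) = Set.range (idx : M → ℕ)) (A : Set ℕ)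
    (ha : ∃ a ∈ A, a.Prime ∧ a ∣ Nat.card M) (hb : ∃ b ∉ A, b.Prime ∧ b ∣ Nat.card M)
    (hno : ∀ a ∈ A, ∀ b ∉ A, a.Prime → b.Prime → a ∣ Nat.card M → b ∣ Nat.card M → ¬ ∃ x : M, orderOf x = a * b) :
    Nat.card G = Nat.card M := by
  have other : ∀ (S : Set ℕ), (∀ m : M, m ≠ 1 → Full (idx m) (Nat.card M) S ∨ Full (idx m) (Nat.card M) Sᶜ) →
      (∃ b ∉ S, b.Prime ∧ b ∣ Nat.card M) → ∃ m : M, Full (idx m) (Nat.card M) S := by
    intro S hd ⟨b, hbS, hbp, hbM⟩
    haveI := Fact.mk hbp
    obtain ⟨m, hm⟩ := exists_prime_orderOf_dvd_card' b hbM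
    have hm1 : m ≠ 1 := fun e => hbp.ne_one (by rw [← hm, e, orderOf_one])
    refine ⟨m, (hd m hm1).resolve_right fun hf => ?_⟩
    have := fac_split m b
    have := hf b hbp hbS
    have := hbp.factorization_pos_of_dvd (n := cc m) Nat.card_pos.ne' (hm ▸ dvd_cc_of_orderOf m)
    omega
  have hdM : ∀ m : M, m ≠ 1 → Full (idx m) (Nat.card M) A ∨ Full (idx m) (Nat.card M) Aᶜ := fun m hm => dichotomy A hno hm
  have hle : ∀ p, (Nat.card M).factorization p ≤ (Nat.card G).factorization p := by
    intro p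
    by_cases hp : p.Prime
    · by_cases hpA : p ∈ A
      · obtain ⟨m, hm⟩ := other A hdM hb
        exact fac_le_of_element h (hm p hp hpA)
      · obtain ⟨m, hm⟩ := other Aᶜ (fun m hm => by rw [compl_compl]; exact (hdM m hm).symm)
          (by obtain ⟨a, haA, h1, h2⟩ := ha; exact ⟨a, not_not_intro haA, h1, h2⟩)
        exact fac_le_of_element h (hm p hp hpA)
    · simp [Nat.factorization_eq_zero_of_not_prime _ hp]
  have hbd : ∀ (x : G) (p : ℕ), (idx x).factorization p ≤ (Nat.card M).factorization p := by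
    intro x p
    obtain ⟨m, hm⟩ : idx x ∈ Set.range (idx : M → ℕ) := h ▸ ⟨x, rfl⟩
    rw [← hm, fac_split m p]
    exact Nat.le_add_right _ _
  have hdG : ∀ x : G, x ≠ 1 → Full (idx x) (Nat.card M) A ∨ Full (idx x) (Nat.card M) Aᶜ := fun x hx => by
    obtain ⟨m, hm, he⟩ := exists_same_idx hZG h hx
    exact he ▸ hdM m hm
  have hnG : ∀ x : G, x ≠ 1 → Full (idx x) (Nat.card M) A → Full (idx x) (Nat.card M) Aᶜ → False := fun x hx => by
    obtain ⟨m, hm, he⟩ := exists_same_idx hZG h hx
    exact he ▸ not_both A hm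
  refine Nat.eq_of_factorization_eq Nat.card_pos.ne' Nat.card_pos.ne' fun p => ?_
  by_cases hp : p.Prime
  · by_cases hpA : p ∈ A
    · exact eq_of_mem A hZG hb hle hdG hnG hbd hp hpA
    · refine eq_of_mem Aᶜ hZG ?_ hle (fun x hx => by rw [compl_compl]; exact (hdG x hx).symm)
        (fun x hx h1 h2 => hnG x hx (by rwa [compl_compl] at h2) h1) hbd hp hpA
      obtain ⟨a, haA, h1, h2⟩ := ha
      exact ⟨a, not_not_intro haA, h1, h2⟩
  · simp [Nat.factorization_eq_zero_of_not_prime _ hp]

end Cfsg.Agent.ClassSizes
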