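import Mathlib

/-! Normalizers of prime cycles in small even permutation groups. -/

set_option autoImplicit false

namespace Cfsg.Agent.Transfer.CycleLocal

open Equiv Equiv.Perm

variable {α : Type*} [Fintype α] [DecidableEq α]

theorem mem_support_pow_comm {g c : Perm α} (h : c * g = g * c) {s : α} (hs : s ∈ g.support) :
    c s ∈ g.support := by
  rw [Equiv.Perm.mem_support] at hs ⊢
  intro e
  apply hs
  apply c.injective
  rw [← Equiv.Perm.mul_apply, h, Equiv.Perm.mul_apply, e]

/-- An even permutation commuting with an even cycle that moves all but at most two points. -/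
theorem commute_cycle_even {g c : Perm α} (hg : g.IsCycle) (hcard : g.supportᶜ.card ≤ 2)
    (hge : sign g = 1) (hce : sign c = 1) (h : c * g = g * c) : c ∈ Subgroup.zpowers g := by
  obtain ⟨s₀, hs₀⟩ := hg.nonempty_support
  obtain ⟨i, hi⟩ : g.SameCycle s₀ (c s₀) := hg.sameCycle (Equiv.Perm.mem_support.mp hs₀)
    (Equiv.Perm.mem_support.mp (mem_support_pow_comm h hs₀))
  set d := c * g ^ (-i) with hd
  have hdS : ∀ s ∈ g.support, d s = s := by
    intro s hs
    obtain ⟨j, rfl⟩ : g.SameCycle s₀ s := hg.sameCycle (Equiv.Perm.mem_support.mp hs₀)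
      (Equiv.Perm.mem_support.mp hs)
    have hc : Commute c g := h
    rw [hd, ← Equiv.Perm.mul_apply, mul_assoc, ← zpow_add, ← (hc.zpow_right _).eq.symm,
      Equiv.Perm.mul_apply, ← hi, ← Equiv.Perm.mul_apply, ← zpow_add]
    congr 2; abel
  have hsub : d.support ⊆ g.supportᶜ := fun x hx => Finset.mem_compl.mpr fun hxs =>
    Equiv.Perm.mem_support.mp hx (hdS x hxs)
  have hde : sign d = 1 := by rw [hd, map_mul, map_zpow, hge, hce, one_zpow, one_mul]
  have hd1 : d = 1 := by
    have h2 := (Finset.card_le_card hsub).trans hcard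
    rw [← Equiv.Perm.support_eq_empty_iff, ← Finset.card_eq_zero]
    by_contra h0
    have h1 : d.support.card ≠ 1 := Equiv.Perm.card_support_ne_one d
    have h3 : d.support.card = 2 := by omega
    have := (Equiv.Perm.card_support_eq_two.mp h3).sign_eq
    rw [hde] at this
    exact absurd this (by decide)
  exact ⟨i, by
    show g ^ i = c
    rw [hd, zpow_neg, mul_inv_eq_one] at hd1
    exact hd1.symm⟩

theorem sign_prime_order_cycle {g : Perm α} (hg : g.IsCycle) {p : ℕ} (hp : g.support.card = p)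
    (hodd : p % 2 = 1) : sign g = 1 := by
  rw [hg.sign, hp, Odd.neg_one_pow (Nat.odd_iff.mpr hodd), neg_neg]

/-- No even involution supported on the support of a `p`-cycle, `p ≡ 3 mod 4`, normalizes it without
centralizing it. -/
theorem commute_of_even_involution {g u : Perm α} (hg : g.IsCycle) {p : ℕ} (hp : p.Prime)
    (hgp : g.support.card = p) (h4 : p % 4 = 3) (hu2 : u * u = 1) (hue : sign u = 1)
    (hus : ∀ x, x ∉ g.support → u x = x) (hn : u * g * u⁻¹ ∈ Subgroup.zpowers g) :
    u * g = g * u := by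
  have hu : u⁻¹ = u := inv_eq_of_mul_eq_one_left hu2
  obtain ⟨i, hi⟩ := hn
  change g ^ i = u * g * u⁻¹ at hi
  by_contra hne
  have hog : orderOf g = p := hg.orderOf.trans hgp
  -- `i ≡ -1`
  have hii : g ^ (i * i) = g := by
    rw [zpow_mul, hi, conj_zpow, hi, hu]
    calc u * (u * g * u) * u = (u * u) * g * (u * u) := by group
      _ = g := by rw [hu2]; group
  have hdvd : (p : ℤ) ∣ (i - 1) * (i + 1) := by
    rw [← hog, orderOf_dvd_iff_zpow_eq_one, show (i - 1) * (i + 1) = i * i + -1 by ring, zpow_add,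
      hii, zpow_neg_one, mul_inv_cancel]
  have hip : (p : ℤ) ∣ i + 1 := by
    rcases (Int.Prime.dvd_mul' hp hdvd) with h | h
    · exfalso
      apply hne
      rw [← hog, orderOf_dvd_iff_zpow_eq_one, zpow_sub, zpow_one, mul_inv_eq_one, hi] at h
      calc u * g = u * g * u⁻¹ * u := by group
        _ = g * u := by rw [h]
    · exact h
  have hinv : u * g * u⁻¹ = g⁻¹ := by
    rw [← hi]
    rw [← hog, orderOf_dvd_iff_zpow_eq_one, zpow_add, zpow_one] at hip
    exact eq_inv_of_mul_eq_one_left hip
  have hconj : ∀ k : ℤ, ∀ s, u ((g ^ k) s) = (g ^ (-k)) (u s) := fun k s => by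
    have h1 : u * g ^ k = g ^ (-k) * u := by
      calc u * g ^ k = u * g ^ k * u⁻¹ * u := by group
        _ = g ^ (-k) * u := by rw [← conj_zpow, hinv, inv_zpow']
    rw [← Equiv.Perm.mul_apply, h1, Equiv.Perm.mul_apply]
  -- at most one fixed point on the support
  have hone : ∀ s ∈ g.support, ∀ t ∈ g.support, u s = s → u t = t → s = t := by
    intro s hs t ht hus' hut
    obtain ⟨k, rfl⟩ : g.SameCycle s t := hg.sameCycle (Equiv.Perm.mem_support.mp hs)
      (Equiv.Perm.mem_support.mp ht)
    rw [hconj, hus'] at hut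
    have h2 : (g ^ (2 * k)) s = s := by
      rw [two_mul, zpow_add, Equiv.Perm.mul_apply]
      rw [← hut]
      rw [← Equiv.Perm.mul_apply, ← zpow_add, add_neg_cancel, zpow_zero, Equiv.Perm.one_apply]
    have h3 : g ^ (2 * k) = 1 := by
      ext t
      by_cases ht' : t ∈ g.support
      · obtain ⟨j, rfl⟩ : g.SameCycle s t := hg.sameCycle (Equiv.Perm.mem_support.mp hs)
          (Equiv.Perm.mem_support.mp ht')
        rw [← Equiv.Perm.mul_apply, ← zpow_add, add_comm, zpow_add, Equiv.Perm.mul_apply, h2,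
          Equiv.Perm.one_apply]
      · rw [Equiv.Perm.zpow_apply_eq_self_of_apply_eq_self (Equiv.Perm.notMem_support.mp ht'),
          Equiv.Perm.one_apply]
    rw [← orderOf_dvd_iff_zpow_eq_one, hog] at h3
    rcases Int.Prime.dvd_mul' hp h3 with h4' | h4'
    · have := Int.natCast_dvd_natCast.mp h4'
      have := Nat.le_of_dvd two_pos this
      have := hp.two_le
      omega
    · rw [← hog, orderOf_dvd_iff_zpow_eq_one] at h4'
      rw [h4', Equiv.Perm.one_apply]
  have hsub : u.support ⊆ g.support := fun x hx => by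
    by_contra h
    exact Equiv.Perm.mem_support.mp hx (hus x h)
  have hcardfix : (g.support \ u.support).card ≤ 1 := by
    refine Finset.card_le_one.mpr fun s hs t ht => ?_
    rw [Finset.mem_sdiff] at hs ht
    exact hone s hs.1 t ht.1 (Equiv.Perm.notMem_support.mp hs.2) (Equiv.Perm.notMem_support.mp ht.2)
  rw [Finset.card_sdiff_of_subset hsub, hgp] at hcardfix
  have hle : u.support.card ≤ p := hgp ▸ Finset.card_le_card hsub
  -- the cycle type of `u`
  have hu1 : u ≠ 1 := fun e => hne (by rw [e, one_mul, mul_one])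
  obtain ⟨m, hm⟩ := Equiv.Perm.cycleType_prime_order (σ := u) (by
    rw [orderOf_eq_prime (p := 2) (by rw [pow_two]; exact hu2) hu1]; exact Nat.prime_two)
  rw [orderOf_eq_prime (p := 2) (by rw [pow_two]; exact hu2) hu1] at hm
  have hsc : u.support.card = (m + 1) * 2 := by
    rw [← Equiv.Perm.sum_cycleType, hm, Multiset.sum_replicate, smul_eq_mul]
  have hsgn := Equiv.Perm.sign_of_cycleType u
  rw [hue, hm, Multiset.sum_replicate, Multiset.card_replicate, smul_eq_mul] at hsgn
  have hev : Even ((m + 1) * 2 + (m + 1)) := by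
    by_contra h
    rw [Odd.neg_one_pow (Nat.not_even_iff_odd.mp h)] at hsgn
    exact absurd hsgn (by decide)
  rw [Nat.even_iff] at hev
  omega

/-- A subgroup of order prime to `p`, supported on the support of a `p`-cycle normalizing it, is trivial. -/
theorem eq_bot_of_normalized {g : Perm α} (hg : g.IsCycle) {p : ℕ} (hp : p.Prime)
    (hgp : g.support.card = p) (L : Subgroup (Perm α)) (hn : g ∈ Subgroup.normalizer (L : Set (Perm α)))
    (hL : ∀ l ∈ L, ∀ x, x ∉ g.support → l x = x) (hc : ¬ p ∣ Nat.card L) : L = ⊥ := by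
  classical
  refine (Subgroup.eq_bot_iff_forall _).mpr fun l hl => Equiv.ext fun s => ?_
  by_cases hs : s ∈ g.support
  swap
  · exact hL l hl s hs
  rw [Equiv.Perm.one_apply]
  by_contra hne
  set O : Set α := MulAction.orbit L s
  have hOS : ∀ t ∈ O, t ∈ g.support := by
    rintro t ⟨⟨m, hm⟩, rfl⟩
    change m s ∈ g.support
    by_contra h
    have h1 := hL m⁻¹ (L.inv_mem hm) _ h
    change m⁻¹ (m s) = m s at h1
    rw [Equiv.Perm.inv_def, Equiv.symm_apply_apply] at h1
    rw [← h1] at h
    exact h hs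
  have himg : ∀ (k : ℕ) (t : α), MulAction.orbit L ((g ^ k) t) = (g ^ k) '' MulAction.orbit L t := by
    intro k t
    have hk : (g ^ k) ∈ Subgroup.normalizer (L : Set (Perm α)) := pow_mem hn k
    ext z
    constructor
    · rintro ⟨⟨m, hm⟩, rfl⟩
      refine ⟨((g ^ k)⁻¹ * m * g ^ k) t, ⟨⟨(g ^ k)⁻¹ * m * g ^ k, ?_⟩, rfl⟩, ?_⟩
      · exact (Subgroup.mem_normalizer_iff''.mp hk m).mp hm
      · show (g ^ k) (((g ^ k)⁻¹ * m * g ^ k) t) = m ((g ^ k) t)
        rw [← Equiv.Perm.mul_apply, ← Equiv.Perm.mul_apply]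
        congr 1
        group
    · rintro ⟨-, ⟨⟨m, hm⟩, rfl⟩, rfl⟩
      refine ⟨⟨g ^ k * m * (g ^ k)⁻¹, (Subgroup.mem_normalizer_iff.mp hk m).mp hm⟩, ?_⟩
      show (g ^ k * m * (g ^ k)⁻¹) ((g ^ k) t) = (g ^ k) (m t)
      rw [← Equiv.Perm.mul_apply, ← Equiv.Perm.mul_apply]
      congr 1
      group
  have hog : orderOf g = p := hg.orderOf.trans hgp
  have hdis : ∀ k, k < p → k ≠ 0 → (g ^ k) s ∉ O := by
    intro k hk hk0 hmem
    have heq : (g ^ k) '' O = O := by rw [← himg]; exact MulAction.orbit_eq_iff.mpr hmem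
    have hiter : ∀ j : ℕ, ((g ^ k) ^ j) s ∈ O := by
      intro j
      induction j with
      | zero => exact MulAction.mem_orbit_self s
      | succ j ih =>
        rw [pow_succ', Equiv.Perm.mul_apply, ← heq]
        exact ⟨_, ih, rfl⟩
    have hall : (g.support : Set α) ⊆ O := by
      intro t ht
      obtain ⟨i, -, rfl⟩ := Equiv.Perm.SameCycle.exists_pow_eq' (hg.sameCycle
        (Equiv.Perm.mem_support.mp hs) (Equiv.Perm.mem_support.mp ht))
      obtain ⟨j, hj⟩ := exists_pow_eq_self_of_coprime (x := g) (n := k) (by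
        rw [hog]
        exact ((hp.coprime_iff_not_dvd).mpr fun h => by
          have := Nat.le_of_dvd (by omega) h
          omega).symm)
      rw [← hj, ← pow_mul]
      exact hiter _
    have hOeq : O = (g.support : Set α) := Set.Subset.antisymm hOS hall
    apply hc
    have := MulAction.card_orbit_mul_card_stabilizer_eq_card_group L s
    rw [← Nat.card_eq_fintype_card, ← Nat.card_eq_fintype_card, ← Nat.card_eq_fintype_card,
      Nat.card_congr (Equiv.setCongr (hOeq : MulAction.orbit L s = _))] at this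
    rw [← this]
    refine dvd_mul_of_dvd_left ?_ _
    rw [Nat.card_coe_set_eq, Set.ncard_coe_finset, hgp]
  have hne2 : l s ∈ O := ⟨⟨l, hl⟩, rfl⟩
  obtain ⟨i, hi, he⟩ := Equiv.Perm.SameCycle.exists_pow_eq' (hg.sameCycle
    (Equiv.Perm.mem_support.mp hs) (Equiv.Perm.mem_support.mp (hOS _ hne2)))
  rw [hog] at hi
  rcases Nat.eq_zero_or_pos i with rfl | hpos
  · rw [pow_zero, Equiv.Perm.one_apply] at he
    exact hne he.symm
  · exact hdis i hi hpos.ne' (he ▸ hne2)

end Cfsg.Agent.Transfer.CycleLocal
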