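import Mathlib
import Cfsg.Prelude.Def_Transfer
import Cfsg.Agent.Lib.Transfer.TwoByCyclic

/-! The irreducible `𝔽₂`-modules of `3² : D₈`. -/

set_option autoImplicit false

namespace Cfsg.Agent.Transfer.D8OnNine

/-- Generators of `3² : D₈`. -/
structure Frame (S : Type*) [Group S] where
  r : S
  s : S
  b₁ : S
  b₂ : S
  r4 : r ^ 4 = 1
  s2 : s * s = 1
  sr : s * r = r ^ 3 * s
  b1 : b₁ ^ 3 = 1
  b2 : b₂ ^ 3 = 1
  comm : b₁ * b₂ = b₂ * b₁
  rb1 : r * b₁ = b₂ * r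
  rb2 : r * b₂ = b₁⁻¹ * r
  sb1 : s * b₁ = b₁ * s
  sb2 : s * b₂ = b₂⁻¹ * s
  gen : Subgroup.closure ({r, s, b₁, b₂} : Set S) = ⊤

abbrev Q := ZMod 2 × ZMod 2 × ZMod 2 × ZMod 2

def qR (q : Q) : Q := (q.2.2.1 + q.2.2.2, q.2.2.2, q.1, q.2.1)
def qS (q : Q) : Q := (q.1 + q.2.1, q.2.1, q.2.2.1, q.2.2.2)

theorem count_E : Fintype.card {q : Q // qR (qR q) = q ∧ qS q = q} = 4 := by decide
theorem count_E' : Fintype.card {q : Q // qR (qR q) = q ∧ qR (qS q) = q} = 2 := by decide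

variable {S M : Type*} [Group S] [Finite S] [AddCommGroup M] [Module (ZMod 2) M]
  (ρ : Representation (ZMod 2) S M)

theorem rho_mul (g h : S) (m : M) : ρ (g * h) m = ρ g (ρ h m) := by rw [map_mul]; rfl

theorem invariant_of_gen {T : Set S} (hT : Subgroup.closure T = ⊤) (N : Submodule (ZMod 2) M)
    (h : ∀ t ∈ T, ∀ m ∈ N, ρ t m ∈ N) : ∀ g : S, ∀ m ∈ N, ρ g m ∈ N := by
  intro g
  have hg : g ∈ Subgroup.closure T := hT ▸ Subgroup.mem_top g
  induction hg using Subgroup.closure_induction with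
  | mem t ht => exact h t ht
  | one => intro m hm; rwa [map_one]
  | mul a b _ _ iha ihb => intro m hm; rw [rho_mul]; exact iha _ (ihb _ hm)
  | inv a _ iha =>
    intro m hm
    obtain ⟨k, hk⟩ := (isOfFinOrder_of_finite a).mem_powers_iff_mem_zpowers.2
      ((Subgroup.zpowers a).inv_mem (Subgroup.mem_zpowers a))
    rw [← show a ^ k = a⁻¹ from hk]
    clear hk
    induction k with
    | zero => rwa [pow_zero, map_one]
    | succ k ih => rw [pow_succ', rho_mul]; exact iha _ ih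

theorem core (F : Frame S) (hfix : ∀ m, ρ F.b₁ m = m → ρ F.b₂ m = m → m = 0)
    (hirr : ∀ N : Submodule (ZMod 2) M, (∀ s : S, ∀ m ∈ N, ρ s m ∈ N) → N = ⊥ ∨ N = ⊤)
    (hC : ∃ m, m ≠ 0 ∧ ρ F.b₁ m = m) :
    Nat.card M = 16 ∧ Nat.card {m : M // ρ (F.r * F.r) m = m ∧ ρ F.s m = m} = 4 ∧
      Nat.card {m : M // ρ (F.r * F.r) m = m ∧ ρ (F.r * F.s) m = m} = 2 := by
  obtain ⟨r, s, b₁, b₂, r4, s2, sr, hb1, hb2, comm, rb1, rb2, sb1, sb2, gen⟩ := F
  dsimp only at *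
  have r4' : r * (r * (r * r)) = 1 := by rw [← r4]; simp [pow_succ, mul_assoc]
  have sr' : s * r = r * (r * (r * s)) := by rw [sr]; simp [pow_succ, mul_assoc]
  have add2 : ∀ m : M, m + m = 0 := fun m => ZModModule.add_self m
  have b1i : ∀ m, ρ b₁ m = m → ρ b₁⁻¹ m = m := fun m hm => by
    conv_lhs => rw [← hm]
    rw [← rho_mul, inv_mul_cancel, map_one]; rfl
  -- the relations used on vectors
  have hsrr : s * (r * r) = r * r * s := by
    rw [← mul_assoc, sr']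
    simp only [mul_assoc]
    rw [sr']
    simp only [← mul_assoc]
    rw [show r * r * r * r * r * r = r * (r * (r * r)) * (r * r) by group, r4', one_mul]
  set u : S := r * (r * s) with hu
  have rb2' : b₁ * r = r * b₂⁻¹ := by
    have h := congrArg (fun x => b₁ * x * b₂⁻¹) rb2
    simp only [mul_assoc, mul_inv_cancel, mul_one, mul_inv_cancel_left] at h
    exact h
  have rrb1 : r * r * b₁ = b₁⁻¹ * (r * r) := by rw [mul_assoc, rb1, ← mul_assoc, rb2, mul_assoc]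
  have rrb2 : r * r * b₂ = b₂⁻¹ * (r * r) := by
    have h1 : r * b₁⁻¹ = b₂⁻¹ * r := by
      have h := congrArg (fun x => b₂⁻¹ * x * b₁⁻¹) rb1
      simp only [mul_assoc, mul_inv_cancel, mul_one, inv_mul_cancel_left] at h
      exact h.symm
    rw [mul_assoc, rb2, ← mul_assoc, h1, mul_assoc]
  have ub1 : u * b₁ = b₁⁻¹ * u := by
    rw [hu, ← mul_assoc, mul_assoc (r * r), sb1, ← mul_assoc, rrb1, mul_assoc]
  have ub2 : u * b₂ = b₂ * u := by
    have h1 : r * r * b₂⁻¹ = b₂ * (r * r) := by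
      have h := congrArg (fun x => b₂ * x * b₂⁻¹) rrb2
      simp only [mul_assoc, mul_inv_cancel, mul_one, mul_inv_cancel_left] at h
      rw [mul_assoc]; exact h.symm
    rw [hu, ← mul_assoc, mul_assoc (r * r), sb2, ← mul_assoc, h1, mul_assoc]
  have su : s * u = u * s := by rw [hu, ← mul_assoc r r s, ← mul_assoc, hsrr]
  have rru : r * r * u = u * (r * r) := by rw [hu, ← mul_assoc r r s, mul_assoc (r * r) s, hsrr]
  have uu : u * s = r * r := by rw [hu, mul_assoc, mul_assoc, s2, mul_one]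
  -- the fixed points of u inside C₁
  let Fx : Submodule (ZMod 2) M :=
    { carrier := {m | ρ b₁ m = m ∧ ρ u m = m}
      add_mem' := fun {x y} hx hy => ⟨by rw [map_add, hx.1, hy.1], by rw [map_add, hx.2, hy.2]⟩
      zero_mem' := ⟨map_zero _, map_zero _⟩
      smul_mem' := fun c x hx => ⟨by rw [map_smul, hx.1], by rw [map_smul, hx.2]⟩ }
  have hFb2 : ∀ m ∈ Fx, ρ b₂ m ∈ Fx := fun m hm =>
    ⟨by rw [← rho_mul, comm, rho_mul, hm.1], by rw [← rho_mul, ub2, rho_mul, hm.2]⟩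
  have hFs : ∀ m ∈ Fx, ρ s m ∈ Fx := fun m hm =>
    ⟨by rw [← rho_mul, ← sb1, rho_mul, hm.1], by rw [← rho_mul, ← su, rho_mul, hm.2]⟩
  have hFrr : ∀ m ∈ Fx, ρ (r * r) m ∈ Fx := fun m hm => by
    refine ⟨?_, by rw [← rho_mul, ← rru, rho_mul, hm.2]⟩
    have h1 : b₁ * (r * r) = r * r * b₁⁻¹ := by
      have h := congrArg (fun x => b₁ * x * b₁⁻¹) rrb1
      simp only [mul_assoc, mul_inv_cancel, mul_one, mul_inv_cancel_left] at h
      rw [mul_assoc]; exact h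
    rw [← rho_mul, h1, rho_mul, b1i m hm.1]
  have b2sq : b₂⁻¹ = b₂ * b₂ := inv_eq_of_mul_eq_one_right (by rw [← hb2]; simp [pow_succ, mul_assoc])
  let N : Submodule (ZMod 2) M := Fx ⊔ Fx.map (ρ r)
  have hN : ∀ g : S, ∀ m ∈ N, ρ g m ∈ N := by
    refine invariant_of_gen ρ gen N ?_
    intro t ht m hm
    obtain ⟨f, hf, _, ⟨g, hg, rfl⟩, rfl⟩ := Submodule.mem_sup.1 hm
    rw [map_add]
    rcases ht with rfl | rfl | rfl | rfl
    · exact add_mem (Submodule.mem_sup_right ⟨f, hf, rfl⟩)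
        (Submodule.mem_sup_left (by rw [← rho_mul]; exact hFrr g hg))
    · refine add_mem (Submodule.mem_sup_left (hFs f hf)) (Submodule.mem_sup_right ⟨ρ (r * r) (ρ t g), hFrr _ (hFs g hg), ?_⟩)
      rw [← rho_mul, ← rho_mul, ← rho_mul]
      exact congrArg (fun x => ρ x g) (by rw [sr', hu]; simp [mul_assoc])
    · refine add_mem (Submodule.mem_sup_left (by rw [hf.1]; exact hf)) (Submodule.mem_sup_right ⟨ρ b₂⁻¹ g, ?_, ?_⟩)
      · rw [b2sq, rho_mul]; exact hFb2 _ (hFb2 _ hg)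
      · rw [← rho_mul, ← rho_mul, rb2']
    · refine add_mem (Submodule.mem_sup_left (hFb2 f hf)) (Submodule.mem_sup_right ⟨g, hg, ?_⟩)
      rw [← rho_mul, ← rb1, rho_mul, hg.1]
  have hC1u : ∀ m, ρ b₁ m = m → ρ b₁ (ρ u m) = ρ u m := fun m hm => by
    have h1 : b₁ * u = u * b₁⁻¹ := by
      have h := congrArg (fun x => b₁ * x * b₁⁻¹) ub1
      simp only [mul_assoc, mul_inv_cancel, mul_one, mul_inv_cancel_left] at h
      exact h
    rw [← rho_mul, h1, rho_mul, b1i m hm]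
  obtain ⟨m₀, hm₀, hm₀1⟩ := hC
  have hNne : N ≠ ⊥ := by
    intro hbot
    have hFx : ∀ m ∈ Fx, m = 0 := fun m hm => by
      have h : m ∈ N := Submodule.mem_sup_left hm
      rw [hbot] at h
      exact (Submodule.mem_bot _).1 h
    have huu : ρ u (ρ u m₀) = m₀ := by
      have : u * u = 1 := by
        calc u * u = u * (r * r) * s := by simp only [hu, mul_assoc]
          _ = r * r * u * s := by rw [rru]
          _ = r * r * (r * r) := by rw [mul_assoc (r * r) u s, uu]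
          _ = 1 := by rw [mul_assoc, r4']
      rw [← rho_mul, this, map_one]; rfl
    have h0 := hFx (m₀ + ρ u m₀) ⟨by rw [map_add, hm₀1, hC1u _ hm₀1], by rw [map_add, huu, add_comm]⟩
    have h1 : ρ u m₀ = m₀ := by
      have := eq_neg_of_add_eq_zero_right h0
      rwa [ZModModule.neg_eq_self] at this
    exact hm₀ (hFx m₀ ⟨hm₀1, h1⟩)
  have hNtop : N = ⊤ := (hirr N hN).resolve_left hNne
  have hC2 : ∀ g, ρ b₁ g = g → ρ b₂ (ρ r g) = ρ r g := fun g hg => by rw [← rho_mul, ← rb1, rho_mul, hg]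
  have hu1 : ∀ m, ρ b₁ m = m → ρ u m = m := by
    intro m hm
    obtain ⟨f, hf, _, ⟨g, hg, rfl⟩, rfl⟩ := Submodule.mem_sup.1 (hNtop ▸ (Submodule.mem_top : m ∈ (⊤ : Submodule (ZMod 2) M)))
    rw [map_add, hf.1, add_right_inj] at hm
    rw [hfix _ hm (hC2 g hg.1), add_zero]
    exact hf.2
  -- a vector of C₁ fixed by s
  obtain ⟨v, hv, hv1, hvs⟩ : ∃ v, v ≠ 0 ∧ ρ b₁ v = v ∧ ρ s v = v := by
    by_cases h : ρ s m₀ = m₀
    · exact ⟨m₀, hm₀, hm₀1, h⟩
    refine ⟨m₀ + ρ s m₀, fun h0 => h ?_, ?_, ?_⟩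
    · have := eq_neg_of_add_eq_zero_right h0
      rwa [ZModModule.neg_eq_self] at this
    · rw [map_add, hm₀1, ← rho_mul, ← sb1, rho_mul, hm₀1]
    · rw [map_add, ← rho_mul ρ s s, s2, map_one, add_comm]; rfl
  set w := ρ b₂ v with hw
  have hw1 : ρ b₁ w = w := by rw [hw, ← rho_mul, comm, rho_mul, hv1]
  have hw2 : ρ b₂ w = v + w := by
    have h0 : v + ρ b₂ v + ρ b₂ w = 0 := by
      refine hfix _ (by rw [map_add, map_add, hv1, hw1, ← rho_mul, comm, rho_mul, hw1]) ?_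
      have h3 : ρ b₂ (ρ b₂ w) = v := by
        rw [hw, ← rho_mul, ← rho_mul, ← pow_three', hb2, map_one]; rfl
      rw [map_add, map_add, h3, ← hw]
      abel
    rw [← hw] at h0
    have := eq_neg_of_add_eq_zero_right h0
    rwa [ZModModule.neg_eq_self] at this
  have hbi : ρ b₂⁻¹ v = v + w := by rw [b2sq, rho_mul, ← hw, hw2]
  have hbiw : ρ b₂⁻¹ w = v := by rw [hw, ← rho_mul, inv_mul_cancel, map_one]; rfl
  have hsw : ρ s w = v + w := by rw [hw, ← rho_mul, sb2, rho_mul, hvs, hbi, hw]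
  have hrrv : ρ r (ρ r v) = v := by rw [← rho_mul, ← uu, rho_mul, hvs, hu1 v hv1]
  have hrrw : ρ r (ρ r w) = v + w := by
    rw [← rho_mul, ← uu, rho_mul, hsw, hu1 _ (by rw [map_add, hv1, hw1])]
  have hsrv : ρ s (ρ r v) = ρ r v := by rw [← rho_mul, sr', rho_mul, rho_mul, rho_mul, hvs, hrrv]
  have hsrw : ρ s (ρ r w) = ρ r w := by
    rw [← rho_mul, sr', rho_mul, rho_mul, rho_mul, hsw]
    congr 1
    rw [map_add, map_add, hrrv, hrrw, ← add_assoc, add2, zero_add]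
  let L : Q →ₗ[ZMod 2] M :=
    { toFun := fun q => q.1 • v + q.2.1 • w + q.2.2.1 • ρ r v + q.2.2.2 • ρ r w
      map_add' := fun p q => by simp only [Prod.fst_add, Prod.snd_add, add_smul]; abel
      map_smul' := fun c q => by simp only [Prod.smul_fst, Prod.smul_snd, smul_add, smul_smul, smul_eq_mul, RingHom.id_apply] }
  have hLdef : ∀ q : Q, L q = q.1 • v + q.2.1 • w + q.2.2.1 • ρ r v + q.2.2.2 • ρ r w := fun q => rfl
  have hLR : ∀ q, ρ r (L q) = L (qR q) := fun q => by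
    simp only [hLdef, qR, map_add, map_smul, hrrv, hrrw, smul_add, add_smul]
    abel
  have hLS : ∀ q, ρ s (L q) = L (qS q) := fun q => by
    simp only [hLdef, qS, map_add, map_smul, hvs, hsw, hsrv, hsrw, smul_add, add_smul]
    abel
  have hT1 : ρ b₁ (ρ r v) = ρ r v + ρ r w := by rw [← rho_mul, rb2', rho_mul, hbi, map_add]
  have hT1' : ρ b₁ (ρ r w) = ρ r v := by rw [← rho_mul, rb2', rho_mul, hbiw]
  have hrange : ∀ g : S, ∀ m ∈ LinearMap.range L, ρ g m ∈ LinearMap.range L := by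
    refine invariant_of_gen ρ gen _ ?_
    rintro t ht _ ⟨q, rfl⟩
    rcases ht with rfl | rfl | rfl | rfl
    · exact ⟨qR q, (hLR q).symm⟩
    · exact ⟨qS q, (hLS q).symm⟩
    · refine ⟨(q.1, q.2.1, q.2.2.1 + q.2.2.2, q.2.2.1), ?_⟩
      simp only [hLdef, map_add, map_smul, hv1, hw1, hT1, hT1', smul_add, add_smul]
      abel
    · refine ⟨(q.2.1, q.1 + q.2.1, q.2.2.1, q.2.2.2), ?_⟩
      simp only [hLdef, map_add, map_smul, ← hw, hw2, hC2 v hv1, hC2 w hw1, smul_add, add_smul]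
      abel
  have hsurj : Function.Surjective L := by
    refine LinearMap.range_eq_top.1 ((hirr _ hrange).resolve_left fun h => hv ?_)
    have h1 : v ∈ LinearMap.range L := ⟨(1, 0, 0, 0), by simp [hLdef]⟩
    rwa [h, Submodule.mem_bot] at h1
  have hvw : ∀ a b : ZMod 2, a • v + b • w = 0 → a = 0 ∧ b = 0 := by
    have hz : ∀ a : ZMod 2, a = 0 ∨ a = 1 := by decide
    intro a b h
    rcases hz b with rfl | rfl
    · rcases hz a with rfl | rfl
      · exact ⟨rfl, rfl⟩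
      · simp at h; exact absurd h hv
    · exfalso
      rcases hz a with rfl | rfl
      · rw [zero_smul, one_smul, zero_add] at h
        have h2 := hw2
        rw [h, map_zero, add_zero] at h2
        exact hv h2.symm
      · rw [one_smul, one_smul] at h
        have h2 := eq_neg_of_add_eq_zero_right h
        rw [ZModModule.neg_eq_self] at h2
        exact hv (hfix v hv1 (hw ▸ h2))
  have hinj : Function.Injective L := by
    rw [← LinearMap.ker_eq_bot, LinearMap.ker_eq_bot']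
    rintro ⟨a, b, c, d⟩ h
    rw [hLdef] at h
    dsimp only at h
    have hy : ρ r (c • v + d • w) = c • ρ r v + d • ρ r w := by rw [map_add, map_smul, map_smul]
    have hx1 : ρ b₁ (c • v + d • w) = c • v + d • w := by rw [map_add, map_smul, map_smul, hv1, hw1]
    have heq : a • v + b • w = ρ r (c • v + d • w) := by
      rw [hy]
      rw [add_assoc] at h
      have := eq_neg_of_add_eq_zero_left h
      rwa [ZModModule.neg_eq_self] at this
    have h0 : a • v + b • w = 0 := hfix _ (by rw [map_add, map_smul, map_smul, hv1, hw1]) (heq ▸ hC2 _ hx1)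
    have h1 : c • v + d • w = 0 := by
      have := congrArg (ρ r⁻¹) (heq.symm.trans h0)
      rwa [← rho_mul, inv_mul_cancel, map_one, map_zero] at this
    obtain ⟨rfl, rfl⟩ := hvw a b h0
    obtain ⟨rfl, rfl⟩ := hvw c d h1
    rfl
  let E := Equiv.ofBijective L ⟨hinj, hsurj⟩
  refine ⟨?_, ?_, ?_⟩
  · rw [← Nat.card_congr E, Nat.card_eq_fintype_card]; rfl
  · rw [← count_E, ← Nat.card_eq_fintype_card]
    refine (Nat.card_congr (E.subtypeEquiv fun q => ?_)).symm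
    show _ ↔ ρ (r * r) (L q) = L q ∧ ρ s (L q) = L q
    rw [rho_mul, hLR, hLR, hLS, hinj.eq_iff, hinj.eq_iff]
  · refine Eq.trans ?_ count_E'
    rw [← Nat.card_eq_fintype_card]
    refine (Nat.card_congr (E.subtypeEquiv fun q => ?_)).symm
    show _ ↔ ρ (r * r) (L q) = L q ∧ ρ (r * s) (L q) = L q
    rw [rho_mul, hLR, hLR, rho_mul, hLS, hLR, hinj.eq_iff, hinj.eq_iff]

theorem d4_facts : ∀ i : ZMod 4, (DihedralGroup.sr i) * .sr i = 1 ∧
    (DihedralGroup.sr i) * .r 1 = (.r 1 : DihedralGroup 4) ^ 3 * .sr i ∧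
    (DihedralGroup.r 1 : DihedralGroup 4) * .sr i = .sr (i + 3) ∧
    (DihedralGroup.r 2 : DihedralGroup 4) * .sr i * .r 2 = .sr i := by decide

theorem d4_cube : ∀ d : DihedralGroup 4, d ^ 3 = 1 → d = 1 := by decide

theorem d4_klein : ∀ j : ZMod 4, (DihedralGroup.r 2 : DihedralGroup 4) * .sr j = .sr j * .r 2 ∧
    DihedralGroup.sr j ≠ (1 : DihedralGroup 4) ∧ (DihedralGroup.r 2 : DihedralGroup 4) ≠ .sr j ∧
    (DihedralGroup.r 2 : DihedralGroup 4) * .sr j = .sr (j + 2) ∧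
    (DihedralGroup.r 2 : DihedralGroup 4) * .sr j ≠ 1 ∧ j + 1 = j + 3 + 2 := by decide

theorem eq_one_of_inv_self {G : Type*} [Group G] {g : G} (h : g⁻¹ = g) (h3 : g ^ 3 = 1) : g = 1 := by
  have h2 : g * g = 1 := by
    conv_lhs => arg 1; rw [← h]
    exact inv_mul_cancel g
  rwa [pow_succ, pow_two, h2, one_mul] at h3

theorem d4_split : ∀ (i : ZMod 4) (a b : DihedralGroup 4), a * a = 1 → b * b = 1 → a * b = b * a →
    ¬ ((a = .sr i ∨ a = .sr (i + 2)) ∧ (b = .sr (i + 1) ∨ b = .sr (i + 3))) := by decide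

theorem d4_invol : ∀ (i : ZMod 4) (a : DihedralGroup 4), a * a = 1 →
    a = 1 ∨ a = .r 2 ∨ a = .sr i ∨ a = .sr (i + 2) ∨ a = .sr (i + 1) ∨ a = .sr (i + 3) := by decide

theorem d4_gen : ∀ (i : ZMod 4) (a : DihedralGroup 4), a = 1 ∨ a = .r 1 ∨ a = .r 1 * .r 1 ∨
    a = .r 1 * .r 1 * .r 1 ∨ a = .sr i ∨ a = .r 1 * .sr i ∨ a = .r 1 * .r 1 * .sr i ∨
    a = .r 1 * .r 1 * .r 1 * .sr i := by decide

variable {A X : Subgroup S} [A.Normal]

theorem group_facts (hA : Cfsg.IsElementaryAbelian 3 A) (hA9 : Nat.card A = 9)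
    (hAC : Subgroup.centralizer (A : Set S) = A) (e : X ≃* DihedralGroup 4) :
    (∀ a ∈ A, (e.symm (.r 2) : S) * a * (e.symm (.r 2) : S)⁻¹ = a⁻¹) ∧
    ∀ i, ∃ b ∈ A, b ≠ 1 ∧ (e.symm (.sr i) : S) * b * (e.symm (.sr i) : S)⁻¹ = b := by
  haveI : Fact (Nat.Prime 3) := ⟨Nat.prime_three⟩
  obtain ⟨⟨⟨hcomm⟩⟩, h3⟩ := hA
  have hc : ∀ a ∈ A, ∀ b ∈ A, a * b = b * a := fun a ha b hb => congrArg Subtype.val (hcomm ⟨a, ha⟩ ⟨b, hb⟩)
  set ψ : DihedralGroup 4 →* S := X.subtype.comp e.symm.toMonoidHom with hψ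
  have hψinj : Function.Injective ψ := X.subtype_injective.comp e.symm.injective
  have hnotA : ∀ d : DihedralGroup 4, d ≠ 1 → ψ d ∉ A := fun d hd hdA =>
    hd (d4_cube d (hψinj (by rw [map_pow, map_one, h3 _ hdA])))
  have hnotcent : ∀ d : DihedralGroup 4, d ≠ 1 → ∃ a ∈ A, ψ d * a * (ψ d)⁻¹ ≠ a := by
    intro d hd
    by_contra hno
    push Not at hno
    refine hnotA d hd (hAC.le (Subgroup.mem_centralizer_iff.2 fun a ha => ?_))
    exact (mul_inv_eq_iff_eq_mul.1 (hno a ha)).symm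
  have hmem : ∀ (g : S), ∀ a ∈ A, g * a * g⁻¹ ∈ A := fun g a ha => Subgroup.Normal.conj_mem inferInstance a ha g
  have hinvol : ∀ d : DihedralGroup 4, d * d = 1 → ∀ a ∈ A, ψ d * (ψ d * a * (ψ d)⁻¹) * (ψ d)⁻¹ = a := by
    intro d hd a _
    calc ψ d * (ψ d * a * (ψ d)⁻¹) * (ψ d)⁻¹ = (ψ d * ψ d) * a * (ψ d * ψ d)⁻¹ := by group
      _ = a := by rw [← map_mul, hd, map_one, inv_one, one_mul, mul_one]
  have hz : ∀ a ∈ A, (ψ (.r 2)) * a * (ψ (.r 2))⁻¹ = a⁻¹ := by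
    set t := ψ (.r 2) with ht
    set x := ψ (.r 1) with hx
    have hxx : x * x = t := by rw [hx, ht, ← map_mul]; rfl
    let I : Subgroup S :=
      { carrier := {k | k ∈ A ∧ t * k * t⁻¹ = k⁻¹}
        one_mem' := ⟨one_mem _, by simp⟩
        mul_mem' := fun {k l} hk hl => ⟨mul_mem hk.1 hl.1, by
          rw [show t * (k * l) * t⁻¹ = t * k * t⁻¹ * (t * l * t⁻¹) by group, hk.2, hl.2, mul_inv_rev,
            hc _ (inv_mem hk.1) _ (inv_mem hl.1)]⟩
        inv_mem' := fun {k} hk => ⟨inv_mem hk.1, by rw [← conj_inv, hk.2]⟩ }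
    by_contra hno
    push Not at hno
    obtain ⟨a, ha, hane⟩ := hno
    obtain ⟨c, hcA, hcne⟩ := hnotcent (.r 2) (by decide)
    set i := c * (t * c * t⁻¹)⁻¹ with hi
    have hiI : i ∈ I := ⟨mul_mem hcA (inv_mem (hmem t c hcA)), by
      rw [hi, show t * (c * (t * c * t⁻¹)⁻¹) * t⁻¹ = t * c * t⁻¹ * (t * (t * c * t⁻¹) * t⁻¹)⁻¹ by group,
        hinvol _ (by decide) c hcA, mul_inv_rev, inv_inv]⟩
    have hi1 : i ≠ 1 := fun h => hcne (mul_inv_eq_one.1 h).symm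
    have hi3 := h3 i hiI.1
    have hIle : I ≤ A := fun k hk => hk.1
    obtain ⟨k, hk, hk'⟩ := (Nat.dvd_prime_pow Nat.prime_three).1
      (show Nat.card I ∣ 3 ^ 2 by have := Subgroup.card_dvd_of_le hIle; rwa [hA9] at this)
    have hk2 : k ≤ 1 := by
      by_contra h
      have hk22 : k = 2 := by omega
      have heq := Subgroup.eq_of_le_of_card_ge hIle (by rw [hA9, hk', hk22]; norm_num)
      exact hane ((heq.symm ▸ ha : a ∈ I).2)
    have hIz : Subgroup.zpowers i = I := Subgroup.eq_of_le_of_card_ge (Subgroup.zpowers_le.2 hiI) (by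
      rw [hk', Nat.card_zpowers, orderOf_eq_prime hi3 hi1]
      calc 3 ^ k ≤ 3 ^ 1 := Nat.pow_le_pow_right (by norm_num) hk2
        _ = 3 := by norm_num)
    have hmemI : x * i * x⁻¹ ∈ I := ⟨hmem x i hiI.1, by
      rw [show t * (x * i * x⁻¹) * t⁻¹ = x * (t * i * t⁻¹) * x⁻¹ by rw [← hxx]; group, hiI.2, conj_inv]⟩
    rw [← hIz] at hmemI
    obtain ⟨z, hz⟩ := (isOfFinOrder_of_finite i).mem_powers_iff_mem_zpowers.2 hmemI
    change i ^ z = _ at hz
    rw [← Nat.mod_add_div z 3, pow_add, pow_mul, hi3, one_pow, mul_one] at hz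
    have hfin : t * i * t⁻¹ = i := by
      rw [← hxx, show x * x * i * (x * x)⁻¹ = x * (x * i * x⁻¹) * x⁻¹ by group]
      have := Nat.mod_lt z (show 3 > 0 by norm_num)
      interval_cases h : z % 3
      · rw [pow_zero, eq_comm, mul_inv_eq_one, mul_eq_left] at hz
        exact absurd hz hi1
      · rw [pow_one] at hz
        rw [← hz, ← hz]
      · rw [← hz, ← conj_pow, ← hz, ← pow_mul, show 2 * 2 = 3 + 1 from rfl, pow_succ, hi3, one_mul]
    rw [hiI.2] at hfin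
    exact hi1 (eq_one_of_inv_self hfin hi3)
  refine ⟨hz, fun i => ?_⟩
  by_contra hno
  push Not at hno
  set t := ψ (.sr i) with ht
  have hinv : ∀ a ∈ A, t * a * t⁻¹ = a⁻¹ := by
    intro a ha
    by_contra hne
    refine hno (a * (t * a * t⁻¹)) (mul_mem ha (hmem t a ha)) (fun h => hne (inv_eq_of_mul_eq_one_right h).symm) ?_
    show t * (a * (t * a * t⁻¹)) * t⁻¹ = a * (t * a * t⁻¹)
    rw [show t * (a * (t * a * t⁻¹)) * t⁻¹ = t * a * t⁻¹ * (t * (t * a * t⁻¹) * t⁻¹) by group,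
      hinvol _ (d4_facts i).1 a ha, hc _ (hmem t a ha) a ha]
  obtain ⟨a, ha, hane⟩ := hnotcent (.r 2 * .sr i) (d4_klein i).2.2.2.2.1
  refine hane ?_
  rw [map_mul, show ψ (.r 2) * ψ (.sr i) * a * (ψ (.r 2) * ψ (.sr i))⁻¹
      = ψ (.r 2) * (t * a * t⁻¹) * (ψ (.r 2))⁻¹ by rw [ht]; group, hinv a ha, hz _ (inv_mem ha), inv_inv]

/-- The frame at a reflection. -/
theorem exists_frame (hA : Cfsg.IsElementaryAbelian 3 A) (hA9 : Nat.card A = 9)
    (hAC : Subgroup.centralizer (A : Set S) = A) (e : X ≃* DihedralGroup 4) (hAX : A ⊔ X = ⊤) (i : ZMod 4)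
    {b : S} (hb : b ∈ A) (hb1 : b ≠ 1) (hsb : (e.symm (.sr i) : S) * b * (e.symm (.sr i) : S)⁻¹ = b) :
    ∃ F : Frame S, F.r = e.symm (.r 1) ∧ F.s = e.symm (.sr i) ∧ F.b₁ = b ∧
      F.b₂ = (e.symm (.r 1) : S) * b * (e.symm (.r 1) : S)⁻¹ ∧
      A = Subgroup.closure {F.b₁, F.b₂} := by
  obtain ⟨hz, -⟩ := group_facts hA hA9 hAC e
  obtain ⟨⟨⟨hcomm⟩⟩, h3⟩ := hA
  set ψ : DihedralGroup 4 →* S := X.subtype.comp e.symm.toMonoidHom with hψ
  change ψ (.sr i) * b * (ψ (.sr i))⁻¹ = b at hsb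
  change ∀ a ∈ A, ψ (.r 2) * a * (ψ (.r 2))⁻¹ = a⁻¹ at hz
  set r := ψ (.r 1) with hr
  set s := ψ (.sr i) with hs
  have hrr : r * r = ψ (.r 2) := by rw [hr, ← map_mul]; rfl
  set b₂ := r * b * r⁻¹ with hb₂
  have hb₂A : b₂ ∈ A := Subgroup.Normal.conj_mem inferInstance b hb r
  have hs2 : s * s = 1 := by rw [hs, ← map_mul, (d4_facts i).1, map_one]
  have hsr : s * r = r ^ 3 * s := by rw [hs, hr, ← map_mul, ← map_pow, ← map_mul, (d4_facts i).2.1]
  have hsb2 : s * b₂ * s⁻¹ = b₂⁻¹ := by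
    rw [hb₂, show s * (r * b * r⁻¹) * s⁻¹ = (s * r) * b * (s * r)⁻¹ by group, hsr,
      show r ^ 3 * s * b * (r ^ 3 * s)⁻¹ = r * r * (r * (s * b * s⁻¹) * r⁻¹) * (r * r)⁻¹ by
        simp [pow_succ, mul_assoc], hsb, hrr]
    exact hz _ hb₂A
  have hne : b₂ ∉ Subgroup.zpowers b := by
    intro hm
    obtain ⟨z, hz'⟩ := Subgroup.mem_zpowers_iff.1 hm
    have h1 : s * b₂ * s⁻¹ = b₂ := by rw [← hz', ← conj_zpow, hsb]
    rw [hsb2] at h1
    have h4 : b₂ = 1 := eq_one_of_inv_self h1 (h3 _ hb₂A)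
    exact hb1 (by rw [hb₂, mul_inv_eq_one, mul_eq_left] at h4; exact h4)
  have hAcl : A = Subgroup.closure {b, b₂} := by
    have hle : Subgroup.closure {b, b₂} ≤ A := (Subgroup.closure_le A).2 (by
      rintro x (rfl | rfl); exacts [hb, hb₂A])
    obtain ⟨k, -, hk'⟩ := (Nat.dvd_prime_pow Nat.prime_three).1
      (show Nat.card (Subgroup.closure {b, b₂}) ∣ 3 ^ 2 by
        have := Subgroup.card_dvd_of_le hle; rwa [hA9] at this)
    refine (Subgroup.eq_of_le_of_card_ge hle ?_).symm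
    rw [hA9]
    by_contra hlt
    push Not at hlt
    have hk1 : k ≤ 1 := by
      by_contra hk
      have := Nat.pow_le_pow_right (show 0 < 3 by norm_num) (show 2 ≤ k by omega)
      rw [hk'] at hlt
      norm_num at this
      omega
    haveI : Fact (Nat.Prime 3) := ⟨Nat.prime_three⟩
    have hbs : Subgroup.zpowers b ≤ Subgroup.closure {b, b₂} :=
      Subgroup.zpowers_le.2 (Subgroup.subset_closure (Or.inl rfl))
    have heq := Subgroup.eq_of_le_of_card_ge hbs (by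
      rw [hk', Nat.card_zpowers, orderOf_eq_prime (h3 b hb) hb1]
      calc 3 ^ k ≤ 3 ^ 1 := Nat.pow_le_pow_right (by norm_num) hk1
        _ = 3 := by norm_num)
    exact hne (heq ▸ Subgroup.subset_closure (Or.inr rfl))
  have conv : ∀ g x y : S, g * x * g⁻¹ = y → g * x = y * g := fun g x y h => by rw [← h]; group
  refine ⟨⟨r, s, b, b₂, ?_, hs2, hsr, h3 b hb, h3 _ hb₂A, congrArg Subtype.val (hcomm ⟨b, hb⟩ ⟨b₂, hb₂A⟩),
    conv _ _ _ rfl, conv _ _ _ ?_, conv _ _ _ hsb, conv _ _ _ hsb2, ?_⟩, rfl, rfl, rfl, rfl, hAcl⟩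
  · rw [hr, ← map_pow, show (DihedralGroup.r 1 : DihedralGroup 4) ^ 4 = 1 by decide, map_one]
  · rw [hb₂, show r * (r * b * r⁻¹) * r⁻¹ = r * r * b * (r * r)⁻¹ by group, hrr]
    exact hz b hb
  · rw [eq_top_iff, ← hAX, sup_le_iff]
    refine ⟨?_, fun x hx => ?_⟩
    · conv_lhs => rw [hAcl]
      refine Subgroup.closure_mono ?_
      rintro x (rfl | rfl) <;> simp
    · have hx' : x = ψ (e ⟨x, hx⟩) := by simp [hψ]
      have hr' : r ∈ Subgroup.closure ({r, s, b, b₂} : Set S) := Subgroup.subset_closure (Or.inl rfl)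
      have hs' : s ∈ Subgroup.closure ({r, s, b, b₂} : Set S) := Subgroup.subset_closure (Or.inr (Or.inl rfl))
      rw [hx']
      rcases d4_gen i (e ⟨x, hx⟩) with h | h | h | h | h | h | h | h <;> rw [h] <;>
        simp only [map_mul, map_one, ← hr, ← hs]
      all_goals repeat' apply Subgroup.mul_mem
      all_goals first | exact Subgroup.one_mem _ | exact hr' | exact hs'

theorem main (hA : Cfsg.IsElementaryAbelian 3 A) (hA9 : Nat.card A = 9)
    (hAC : Subgroup.centralizer (A : Set S) = A) (e : X ≃* DihedralGroup 4) (hAX : A ⊔ X = ⊤)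
    (hfaith : Function.Injective ρ)
    (hirr : ∀ N : Submodule (ZMod 2) M, (∀ s : S, ∀ m ∈ N, ρ s m ∈ N) → N = ⊥ ∨ N = ⊤) [Nontrivial M] :
    Nat.card M = 16 ∧ ∃! B : Subgroup S, B ≤ X ∧ Nat.card B = 4 ∧ (∀ b ∈ B, b ^ 2 = 1) ∧
      Nat.card {m : M // ∀ b ∈ B, ρ b m = m} = 2 := by
  obtain ⟨hz, hfix⟩ := group_facts hA hA9 hAC e
  have hA0 : ∀ m, (∀ a ∈ A, ρ a m = m) → m = 0 := by
    let C : Submodule (ZMod 2) M :=
      { carrier := {m | ∀ a ∈ A, ρ a m = m}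
        add_mem' := fun {x y} hx hy a ha => by rw [map_add, hx a ha, hy a ha]
        zero_mem' := fun a _ => map_zero _
        smul_mem' := fun c x hx a ha => by rw [map_smul, hx a ha] }
    rcases hirr C (fun g m hm a ha => by
      rw [← rho_mul, show a * g = g * (g⁻¹ * a * g) by group, rho_mul,
        hm _ (by simpa using Subgroup.Normal.conj_mem (inferInstance : A.Normal) a ha g⁻¹)]) with h | h
    · intro m hm
      exact (Submodule.mem_bot _).1 (h ▸ (show m ∈ C from hm))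
    · exfalso
      have hall : ∀ a ∈ A, a = 1 := fun a ha => hfaith (LinearMap.ext fun m => by
        rw [map_one]
        exact (h ▸ Submodule.mem_top : m ∈ C) a ha)
      have hbot : A = ⊥ := (Subgroup.eq_bot_iff_forall A).2 hall
      rw [hbot, Subgroup.card_bot] at hA9
      omega
  -- some reflection centralises an element of A with fixed points
  obtain ⟨i, b, hb, hb1, hsb, hbm⟩ : ∃ i : ZMod 4, ∃ b ∈ A, b ≠ 1 ∧
      (e.symm (.sr i) : S) * b * (e.symm (.sr i) : S)⁻¹ = b ∧ ∃ m, m ≠ 0 ∧ ρ b m = m := by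
    obtain ⟨b, hb, hb1, hsb⟩ := hfix 0
    obtain ⟨F, hr, hs, hFb1, hFb2, hAcl⟩ := exists_frame hA hA9 hAC e hAX 0 hb hb1 hsb
    subst hFb1
    obtain ⟨m, hm⟩ := exists_ne (0 : M)
    obtain ⟨r, s, b₁, b₂, r4, s2, sr, h31, h32, comm, rb1, rb2, sb1, sb2, gen⟩ := F
    dsimp only at *
    have hb₂ : b₂ ∈ A := by rw [hAcl]; exact Subgroup.subset_closure (Or.inr rfl)
    have hne2 : b₂ ≠ 1 := by
      intro h; apply hb1; rw [h] at rb1
      rw [one_mul] at rb1; exact mul_eq_left.1 rb1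
    have hp : ∀ g : S, g ^ 3 = 1 → ρ g (m + ρ g m + ρ g (ρ g m)) = m + ρ g m + ρ g (ρ g m) := fun g hg => by
      have h3 : ρ g (ρ g (ρ g m)) = m := by
        rw [← rho_mul, ← rho_mul, ← pow_three', hg, map_one]; rfl
      rw [map_add, map_add, h3]; abel
    by_contra hno
    push Not at hno
    have hkill : ∀ (j : ZMod 4) (g : S), g ∈ A → g ≠ 1 → g ^ 3 = 1 →
        (e.symm (.sr j) : S) * g * (e.symm (.sr j) : S)⁻¹ = g → m + ρ g m + ρ g (ρ g m) = 0 := by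
      intro j g hg hg1 hg3 hfx
      by_contra hne
      exact hno j g hg hg1 hfx _ hne (hp g hg3)
    set ψ : DihedralGroup 4 →* S := X.subtype.comp e.symm.toMonoidHom with hψ
    change r = ψ (.r 1) at hr
    change s = ψ (.sr 0) at hs
    have hc12 : Commute b₁ b₂ := comm
    have h31' : b₁⁻¹ = b₁ * b₁ := inv_eq_of_mul_eq_one_right (by rw [← h31]; simp [pow_succ, mul_assoc])
    have hb₁₂ : b₁ * b₂ ≠ 1 := by
      intro h
      have h' : b₂ = b₁⁻¹ := eq_inv_of_mul_eq_one_right h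
      have hfix' : s * b₂ = b₂ * s := by rw [h']; exact ((show Commute s b₁ from sb1).inv_right).eq
      rw [sb2, mul_left_inj] at hfix'
      exact hne2 (eq_one_of_inv_self hfix' h32)
    have hb₁₂' : b₁ * b₂⁻¹ ≠ 1 := by
      intro h
      rw [mul_inv_eq_one] at h
      have hfix' : s * b₂ = b₂ * s := by rw [← h]; exact sb1
      rw [sb2, mul_left_inj] at hfix'
      exact hne2 (eq_one_of_inv_self hfix' h32)
    have hs1 : (e.symm (.sr 2) : S) * b₂ * (e.symm (.sr 2) : S)⁻¹ = b₂ := by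
      have hval : (e.symm (.sr 2) : S) = r * s * r⁻¹ := by
        rw [hr, hs, ← map_inv, ← map_mul, ← map_mul]; rfl
      rw [hval, mul_inv_eq_iff_eq_mul]
      calc r * s * r⁻¹ * b₂ = r * s * r⁻¹ * b₂ * r * r⁻¹ := by group
        _ = r * (s * b₁) * r⁻¹ := by
          rw [show r * s * r⁻¹ * b₂ * r = r * s * r⁻¹ * (b₂ * r) by group, ← rb1]; group
        _ = r * b₁ * s * r⁻¹ := by rw [sb1]; group
        _ = b₂ * (r * s * r⁻¹) := by rw [rb1]; group
    have hs2 : (e.symm (.sr 3) : S) * (b₁ * b₂) * (e.symm (.sr 3) : S)⁻¹ = b₁ * b₂ := by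
      have hval : (e.symm (.sr 3) : S) = r * s := by rw [hr, hs, ← map_mul]; rfl
      rw [hval, mul_inv_eq_iff_eq_mul]
      have h1 : r * b₂⁻¹ = b₁ * r := by
        have h := congrArg (fun x => b₁ * x * b₂⁻¹) rb2
        simp only [mul_assoc, mul_inv_cancel, mul_one, mul_inv_cancel_left] at h
        exact h.symm
      calc r * s * (b₁ * b₂) = r * (s * b₁) * b₂ := by group
        _ = r * b₁ * (s * b₂) := by rw [sb1]; group
        _ = b₂ * r * (b₂⁻¹ * s) := by rw [rb1, sb2]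
        _ = b₂ * (r * b₂⁻¹) * s := by group
        _ = b₁ * b₂ * (r * s) := by rw [h1, ← mul_assoc b₂, ← comm]; group
    have hs3 : (e.symm (.sr 1) : S) * (b₁ * b₂⁻¹) * (e.symm (.sr 1) : S)⁻¹ = b₁ * b₂⁻¹ := by
      have hval : (e.symm (.sr 1) : S) = s * r := by rw [hr, hs, ← map_mul]; rfl
      rw [hval, mul_inv_eq_iff_eq_mul]
      have h1 : r * b₂⁻¹ = b₁ * r := by
        have h := congrArg (fun x => b₁ * x * b₂⁻¹) rb2
        simp only [mul_assoc, mul_inv_cancel, mul_one, mul_inv_cancel_left] at h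
        exact h.symm
      calc s * r * (b₁ * b₂⁻¹) = s * (r * b₁) * b₂⁻¹ := by group
        _ = s * b₂ * (r * b₂⁻¹) := by rw [rb1]; group
        _ = b₂⁻¹ * (s * b₁) * r := by rw [sb2, h1]; group
        _ = b₁ * b₂⁻¹ * (s * r) := by rw [sb1, ← mul_assoc, ← hc12.inv_right.eq]; group
    have h33 : (b₁ * b₂) ^ 3 = 1 := by rw [hc12.mul_pow, h31, h32, one_mul]
    have h34 : (b₁ * b₂⁻¹) ^ 3 = 1 := by rw [hc12.inv_right.mul_pow, h31, inv_pow, h32, inv_one, one_mul]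
    have e1 := hkill 0 b₁ hb hb1 h31 hsb
    have e2 := hkill 2 b₂ hb₂ hne2 h32 hs1
    have e3 := hkill 3 _ (mul_mem hb hb₂) hb₁₂ h33 hs2
    have e4 := hkill 1 _ (mul_mem hb (inv_mem hb₂)) hb₁₂' h34 hs3
    have h0 : (m + ρ b₂ m + ρ b₂ (ρ b₂ m)) + ρ b₁ (m + ρ b₂ m + ρ b₂ (ρ b₂ m)) +
        ρ b₁ (ρ b₁ (m + ρ b₂ m + ρ b₂ (ρ b₂ m))) = 0 := by rw [e2]; simp
    have hsw : ∀ x, ρ b₂ (ρ b₁ x) = ρ b₁ (ρ b₂ x) := fun x => by rw [← rho_mul, ← comm, rho_mul]
    have hi2 : ∀ x, ρ b₂⁻¹ x = ρ b₂ (ρ b₂ x) := fun x => by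
      rw [← rho_mul]
      congr 2
      exact inv_eq_of_mul_eq_one_right (by rw [← h32]; simp [pow_succ, mul_assoc])
    have h32' : ∀ x, ρ b₂ (ρ b₂ (ρ b₂ x)) = x := fun x => by
      rw [← rho_mul, ← rho_mul, ← pow_three', h32, map_one]; rfl
    simp only [rho_mul, hi2, map_add, hsw, h32'] at e1 e2 e3 e4 h0
    apply hm
    have h5 : m + m + m = 0 := by
      calc m + m + m = (m + ρ b₁ m + ρ b₁ (ρ b₁ m)) + (m + ρ b₂ m + ρ b₂ (ρ b₂ m))
            + (m + ρ b₁ (ρ b₂ m) + ρ b₁ (ρ b₁ (ρ b₂ (ρ b₂ m))))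
            + (m + ρ b₁ (ρ b₂ (ρ b₂ m)) + ρ b₁ (ρ b₁ (ρ b₂ m)))
            - ((m + ρ b₂ m + ρ b₂ (ρ b₂ m)) + (ρ b₁ m + ρ b₁ (ρ b₂ m) + ρ b₁ (ρ b₂ (ρ b₂ m))) +
              (ρ b₁ (ρ b₁ m) + ρ b₁ (ρ b₁ (ρ b₂ m)) + ρ b₁ (ρ b₁ (ρ b₂ (ρ b₂ m))))) := by abel
        _ = 0 := by rw [e1, e2, e3, e4]; rw [e2] at h0; simp only [zero_add] at h0 ⊢; rw [h0]; simp
    rwa [ZModModule.add_self, zero_add] at h5
  obtain ⟨F, hr, hs, hFb1, -, hAcl⟩ := exists_frame hA hA9 hAC e hAX i hb hb1 hsb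
  obtain ⟨h16, hE, hE'⟩ := core ρ F (fun m h1 h2 => hA0 m fun a ha => by
    rw [hAcl] at ha
    induction ha using Subgroup.closure_induction with
    | mem x hx => rcases hx with rfl | rfl; exacts [h1, h2]
    | one => rw [map_one]; rfl
    | mul x y _ _ ihx ihy => rw [rho_mul, ihy, ihx]
    | inv x _ ihx => conv_lhs => rw [← ihx]
                     rw [← rho_mul, inv_mul_cancel, map_one]; rfl) hirr (hFb1 ▸ hbm)
  refine ⟨h16, ?_⟩
  rw [hr, hs] at hE hE'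
  set ψ : DihedralGroup 4 →* S := X.subtype.comp e.symm.toMonoidHom with hψ
  change Nat.card {m : M // ρ (ψ (.r 1) * ψ (.r 1)) m = m ∧ ρ (ψ (.sr i)) m = m} = 4 at hE
  change Nat.card {m : M // ρ (ψ (.r 1) * ψ (.r 1)) m = m ∧ ρ (ψ (.r 1) * ψ (.sr i)) m = m} = 2 at hE'
  have hψinj : Function.Injective ψ := X.subtype_injective.comp e.symm.injective
  have hψX : ∀ d, ψ d ∈ X := fun d => (e.symm d).2
  have hr2 : ψ (.r 1) * ψ (.r 1) = ψ (.r 2) := by rw [← map_mul]; rfl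
  rw [hr2] at hE hE'
  rw [← map_mul, (d4_facts i).2.2.1] at hE'
  have hklein : ∀ j : ZMod 4, ∃ K : Subgroup S, K ≤ X ∧ Nat.card K = 4 ∧ (∀ k ∈ K, k ^ 2 = 1) ∧
      (∀ d, ψ d ∈ K ↔ d = 1 ∨ d = .r 2 ∨ d = .sr j ∨ d = .sr (j + 2)) ∧
      ∀ m : M, (∀ k ∈ K, ρ k m = m) ↔ ρ (ψ (.r 2)) m = m ∧ ρ (ψ (.sr j)) m = m := by
    intro j
    have hne : ∀ d₁ d₂ : DihedralGroup 4, d₁ ≠ d₂ → ψ d₁ ≠ ψ d₂ := fun _ _ h h' => h (hψinj h')
    obtain ⟨K, hK4, hK2, hK⟩ := TwoByCyclic.exists_klein (z := ψ (.r 2)) (w := ψ (.sr j))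
      (by rw [← map_mul, show (DihedralGroup.r 2 : DihedralGroup 4) * .r 2 = 1 by decide, map_one])
      (by rw [← map_mul, (d4_facts j).1, map_one])
      (by rw [← map_mul, ← map_mul, (d4_klein j).1])
      (by rw [← map_one ψ]; exact hne _ _ (by decide))
      (by rw [← map_one ψ]; exact hne _ _ (d4_klein j).2.1)
      (hne _ _ (d4_klein j).2.2.1)
    have hprod : ψ (.r 2) * ψ (.sr j) = ψ (.sr (j + 2)) := by
      rw [← map_mul, (d4_klein j).2.2.2.1]
    refine ⟨K, fun k hk => ?_, hK4, hK2, fun d => ?_, fun m => ⟨fun h => ⟨h _ ((hK _).2 (Or.inr (Or.inl rfl))),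
      h _ ((hK _).2 (Or.inr (Or.inr (Or.inl rfl))))⟩, fun h k hk => ?_⟩⟩
    · rcases (hK k).1 hk with rfl | rfl | rfl | rfl
      exacts [one_mem _, hψX _, hψX _, mul_mem (hψX _) (hψX _)]
    · rw [hK, hprod, ← map_one ψ, hψinj.eq_iff, hψinj.eq_iff, hψinj.eq_iff, hψinj.eq_iff]
    · rcases (hK k).1 hk with rfl | rfl | rfl | rfl
      · rw [map_one]; rfl
      · exact h.1
      · exact h.2
      · rw [rho_mul, h.2, h.1]
  obtain ⟨B, hBX, hB4, hB2, hBmem, hBfix⟩ := hklein (i + 3)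
  refine ⟨B, ⟨hBX, hB4, hB2, ?_⟩, ?_⟩
  · exact (Nat.card_congr (Equiv.subtypeEquivRight hBfix)).trans hE'
  rintro B' ⟨hB'X, hB'4, hB'2, hB'fix⟩
  obtain ⟨E₁, hE1X, hE14, -, hE1mem, hE1fix⟩ := hklein i
  have hrep : ∀ k ∈ B', ∃ d, ψ d = k ∧ d * d = 1 := fun k hk =>
    ⟨e ⟨k, hB'X hk⟩, by simp [hψ], hψinj (by rw [map_mul, map_one, ← pow_two]; simpa [hψ] using hB'2 k hk)⟩
  have hdich : B' ≤ E₁ ∨ B' ≤ B := by
    by_contra hno
    push Not at hno
    obtain ⟨⟨x, hx, hxE⟩, ⟨y, hy, hyB⟩⟩ := hno.imp SetLike.not_le_iff_exists.1 SetLike.not_le_iff_exists.1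
    obtain ⟨a, rfl, ha⟩ := hrep x hx
    obtain ⟨b', rfl, hb'⟩ := hrep y hy
    rw [hE1mem] at hxE
    rw [hBmem] at hyB
    have hab : a * b' = b' * a := by
      obtain ⟨c, hc, hc2⟩ := hrep _ (mul_mem hx hy)
      rw [← map_mul, hψinj.eq_iff] at hc
      subst hc
      calc a * b' = (a * b')⁻¹ := (inv_eq_of_mul_eq_one_right hc2).symm
        _ = b' * a := by rw [mul_inv_rev, inv_eq_of_mul_eq_one_right ha, inv_eq_of_mul_eq_one_right hb']
    have hb'E : b' = .sr i ∨ b' = .sr (i + 2) := by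
      rcases d4_invol i b' hb' with h | h | h | h | h | h
      · exact absurd (Or.inl h) hyB
      · exact absurd (Or.inr (Or.inl h)) hyB
      · exact Or.inl h
      · exact Or.inr h
      · exact absurd (Or.inr (Or.inr (Or.inr (by rw [h, (d4_klein i).2.2.2.2.2])))) hyB
      · exact absurd (Or.inr (Or.inr (Or.inl h))) hyB
    have haB : a = .sr (i + 1) ∨ a = .sr (i + 3) := by
      rcases d4_invol i a ha with h | h | h | h | h | h
      · exact absurd (Or.inl h) hxE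
      · exact absurd (Or.inr (Or.inl h)) hxE
      · exact absurd (Or.inr (Or.inr (Or.inl h))) hxE
      · exact absurd (Or.inr (Or.inr (Or.inr h))) hxE
      · exact Or.inl h
      · exact Or.inr h
    exact d4_split i b' a hb' ha hab.symm ⟨hb'E, haB⟩
  rcases hdich with h | h
  · exfalso
    rw [Subgroup.eq_of_le_of_card_ge h (by rw [hB'4, hE14])] at hB'fix
    rw [Nat.card_congr (Equiv.subtypeEquivRight hE1fix), hE] at hB'fix
    omega
  · exact Subgroup.eq_of_le_of_card_ge h (by rw [hB'4, hB4])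

end Cfsg.Agent.Transfer.D8OnNine
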