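import Cfsg.Agent.Lib.Transfer.TwoClassOrder
import Mathlib.Data.ZMod.Basic
import Mathlib.GroupTheory.Sylow

/-!
A group with a central element of order five and two classes of involutions: the normal elementary group of order
eight and the order.
-/

set_option autoImplicit false
set_option linter.style.haveILetI false

open scoped Pointwise
open Cfsg.Agent.Transfer.TwoClass

namespace Cfsg.Agent.Transfer.FiveEight

variable (C : Type*) [Group C]

/-- The local facts: `zt` marks the involutions of the first class, `u` is one of them, `t` one of the others. -/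
structure Data where
  /-- the central element -/
  n : C
  n5 : n ^ 5 = 1
  n_ne : n ≠ 1
  n_cen : ∀ x, x * n = n * x
  /-- the first class -/
  zt : C → Prop
  zt_conj : ∀ g x, zt x → zt (g * x * g⁻¹)
  zt_sq : ∀ x, zt x → x * x = 1
  zt_ne : ∀ x, zt x → x ≠ 1
  /-- an involution of the first class -/
  u : C
  u_zt : zt u
  /-- the group of order eight -/
  E : Subgroup C
  cardE : Nat.card ↥E = 8
  E_comm : ∀ a ∈ E, ∀ b ∈ E, a * b = b * a
  u_mem : u ∈ E
  E_zt : ∀ e ∈ E, e ≠ 1 → zt e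
  E_max : ∀ x, x * u = u * x → zt x → x ∈ E
  card_u : Nat.card ↥(Subgroup.centralizer ({u} : Set C)) = 960
  trans : ∀ a ∈ E, ∀ b ∈ E, a ≠ 1 → a ≠ u → b ≠ 1 → b ≠ u → ∃ h, h * u = u * h ∧ h * a * h⁻¹ = b
  centE : ∀ h, (∀ e ∈ E, h * e = e * h) → ∃ e ∈ E, ∃ l : ℕ, h = e * n ^ l
  /-- an involution of the second class -/
  t : C
  tt : t * t = 1
  t_ne : t ≠ 1
  t_zt : ¬ zt t
  t_u : t * u = u * t
  cent_t : ∀ x, x * t = t * x → x * u = u * x
  card_t : Nat.card ↥(Subgroup.centralizer ({t} : Set C)) ≤ 80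
  zt_move : ∀ x, zt x → ∃ φ : MulAut C, φ x = u ∧ ∀ y, zt (φ y) ↔ zt y
  t_move : ∀ x, x * x = 1 → x ≠ 1 → ¬ zt x → ∃ φ : MulAut C, φ x = t ∧ ∀ y, zt (φ y) ↔ zt y

variable {C} (d : Data C)

theorem E_sq {e : C} (he : e ∈ d.E) : e * e = 1 := by
  by_cases h : e = 1
  · rw [h, one_mul]
  · exact d.zt_sq e (d.E_zt e he h)

theorem u_ne : d.u ≠ 1 := d.zt_ne _ d.u_zt

variable [Finite C]

/-- The group is maximal at each of its involutions. -/
theorem mem_E_of_comm {e x : C} (he : e ∈ d.E) (he1 : e ≠ 1) (hx : x * e = e * x) (hz : d.zt x) : x ∈ d.E := by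
  obtain ⟨φ, hφ, hzt⟩ := d.zt_move e (d.E_zt e he he1)
  have hmap : ∀ a ∈ d.E, φ a ∈ d.E := fun a ha => by
    by_cases h : a = 1
    · rw [h, map_one]; exact one_mem _
    · exact d.E_max _ (by rw [← hφ, ← map_mul, ← map_mul, d.E_comm a ha e he]) ((hzt a).2 (d.E_zt a ha h))
  have heq : d.E.map φ.toMonoidHom = d.E := Subgroup.eq_of_le_of_card_ge
    (by rintro _ ⟨a, ha, rfl⟩; exact hmap a ha) (by rw [Subgroup.card_map_of_injective φ.injective])
  have h1 : φ x ∈ d.E := d.E_max _ (by rw [← hφ, ← map_mul, ← map_mul, hx]) ((hzt x).2 hz)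
  rw [← heq] at h1
  obtain ⟨a, ha, e'⟩ := h1
  exact φ.injective e' ▸ ha

theorem mem_normalizer_E {h : C} (hE : ∀ a ∈ d.E, h * a * h⁻¹ ∈ d.E) : h ∈ Subgroup.normalizer (d.E : Set C) := by
  refine Subgroup.mem_normalizer_iff.2 fun a => ⟨hE a, fun ha => ?_⟩
  let f : ↥d.E → ↥d.E := fun y => ⟨h * y * h⁻¹, hE y y.2⟩
  have hinj : Function.Injective f := fun y y' e => Subtype.ext (by simpa [f] using congrArg Subtype.val e)
  obtain ⟨y, hy⟩ := (hinj.bijective_of_nat_card_le le_rfl).surjective ⟨_, ha⟩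
  have hya : (y : C) = a := by simpa [f] using congrArg Subtype.val hy
  exact hya ▸ y.2

theorem cent_le {e : C} (he : e ∈ d.E) (he1 : e ≠ 1) {h : C} (hh : h * e = e * h) :
    h ∈ Subgroup.normalizer (d.E : Set C) := by
  refine mem_normalizer_E d fun a ha => ?_
  by_cases h1 : a = 1
  · rw [h1, mul_one, mul_inv_cancel]; exact one_mem _
  refine mem_E_of_comm d he he1 ?_ (d.zt_conj h a (d.E_zt a ha h1))
  have he' : h⁻¹ * e = e * h⁻¹ := ((show Commute h e from hh).inv_left).eq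
  calc h * a * h⁻¹ * e = h * (a * (h⁻¹ * e)) := by group
    _ = h * (a * e) * h⁻¹ := by rw [he']; group
    _ = h * (e * a) * h⁻¹ := by rw [d.E_comm a ha e he]
    _ = (h * e) * a * h⁻¹ := by group
    _ = e * (h * a * h⁻¹) := by rw [hh]; group

/-- An involution commuting with the distinguished one has its centraliser in the normaliser. -/
theorem cent_invol_le {i : C} (hi : i * i = 1) (hi1 : i ≠ 1) (hiu : i * d.u = d.u * i) {h : C}
    (hh : h * i = i * h) : h ∈ Subgroup.normalizer (d.E : Set C) := by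
  by_cases hz : d.zt i
  · exact cent_le d (d.E_max i hiu hz) hi1 hh
  obtain ⟨φ, hφ, hzt⟩ := d.t_move i hi hi1 hz
  set e' := φ.symm d.u with he'
  have hz' : d.zt e' := (hzt _).1 (by rw [he', MulEquiv.apply_symm_apply]; exact d.u_zt)
  have hcomm : ∀ x, x * i = i * x → x * e' = e' * x := fun x hx => φ.injective (by
    rw [map_mul, map_mul, he', MulEquiv.apply_symm_apply]
    exact d.cent_t _ (by rw [← hφ, ← map_mul, ← map_mul, hx]))
  exact cent_le d (d.E_max e' (hcomm d.u hiu.symm).symm hz') (d.zt_ne _ hz') (hcomm h hh)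

theorem ord_two {x : C} (h : x * x = 1) (h1 : x ≠ 1) : orderOf x = 2 := orderOf_eq_prime (by rw [pow_two, h]) h1

theorem invol_mem {x : C} (hx : x * x = 1) (hx1 : x ≠ 1) : x ∈ Subgroup.normalizer (d.E : Set C) := by
  have key : ∀ y, y * y = 1 → y ≠ 1 → (∀ g, g * y = y * g → g * d.u = d.u * g) → ¬ IsConj x y →
      x ∈ Subgroup.normalizer (d.E : Set C) := by
    intro y hy hy1 hyu hne
    obtain ⟨c, ⟨hc, hcm⟩, -⟩ := exists_unique_invol (ord_two hx hx1) (ord_two hy hy1) hne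
    have hc2 : c * c = 1 := sq_eq_one hc
    have hc1 : c ≠ 1 := fun e => by rw [e, orderOf_one] at hc; omega
    obtain ⟨hcx, hcy⟩ := comm_of_mem_zpowers hx hy hc2 hcm
    exact cent_invol_le d hc2 hc1 (hyu c hcy.symm) hcx
  by_cases hz : d.zt x
  · refine key d.t d.tt d.t_ne d.cent_t fun hc => d.t_zt ?_
    obtain ⟨g, hg⟩ := isConj_iff.1 hc
    rw [← hg]
    exact d.zt_conj g x hz
  · refine key d.u (d.zt_sq _ d.u_zt) (u_ne d) (fun g h => h) fun hc => hz ?_
    obtain ⟨g, hg⟩ := isConj_iff.1 hc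
    have := d.zt_conj g⁻¹ _ d.u_zt
    rwa [← hg, show g⁻¹ * (g * x * g⁻¹) * g⁻¹⁻¹ = x by group] at this

theorem exists_fixed {x : C} (hx : x * x = 1) (hN : x ∈ Subgroup.normalizer (d.E : Set C)) :
    ∃ e ∈ d.E, e ≠ 1 ∧ x * e = e * x := by
  have hf : x * d.u * x⁻¹ ∈ d.E := (Subgroup.mem_normalizer_iff.1 hN _).1 d.u_mem
  by_cases h : x * d.u * x⁻¹ = d.u
  · exact ⟨d.u, d.u_mem, u_ne d, mul_inv_eq_iff_eq_mul.1 h⟩
  refine ⟨d.u * (x * d.u * x⁻¹), mul_mem d.u_mem hf, fun e => h ?_, ?_⟩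
  · calc x * d.u * x⁻¹ = d.u * (d.u * (x * d.u * x⁻¹)) := by rw [← mul_assoc d.u, d.zt_sq _ d.u_zt, one_mul]
      _ = d.u := by rw [e, mul_one]
  · have hxi : x⁻¹ = x := inv_eq_of_mul_eq_one_right hx
    rw [d.E_comm _ d.u_mem _ hf, hxi]
    calc x * (x * d.u * x * d.u) = x * x * d.u * x * d.u := by group
      _ = d.u * x * d.u * (x * x) * 1 := by rw [hx]; group
      _ = d.u * (x * d.u * x) * x := by group
      _ = (x * d.u * x) * d.u * x := by
        have := d.E_comm _ hf _ d.u_mem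
        rw [hxi] at this
        rw [this]

theorem zt_mem {x : C} (hz : d.zt x) : x ∈ d.E := by
  obtain ⟨e, he, he1, hxe⟩ := exists_fixed d (d.zt_sq x hz) (invol_mem d (d.zt_sq x hz) (d.zt_ne x hz))
  exact mem_E_of_comm d he he1 hxe hz

theorem E_normal : d.E.Normal := ⟨fun e he g => by
  by_cases h : e = 1
  · rw [h, mul_one, mul_inv_cancel]; exact one_mem _
  · exact zt_mem d (d.zt_conj g e (d.E_zt e he h))⟩

theorem exists_third (e : C) : ∃ c ∈ d.E, c ≠ 1 ∧ c ≠ d.u ∧ c ≠ e := by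
  classical
  by_contra hcon
  push Not at hcon
  have hsub : (d.E : Set C) ⊆ (({1, d.u, e} : Finset C) : Set C) := by
    intro c hc
    simp only [Finset.coe_insert, Finset.coe_singleton, Set.mem_insert_iff, Set.mem_singleton_iff]
    by_cases h1 : c = 1
    · exact Or.inl h1
    by_cases h2 : c = d.u
    · exact Or.inr (Or.inl h2)
    exact Or.inr (Or.inr (hcon c hc h1 h2))
  have h := Set.ncard_le_ncard hsub (Finset.finite_toSet _)
  rw [Set.ncard_coe_finset, ← Nat.card_coe_set_eq, SetLike.coe_sort_coe, d.cardE] at h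
  have := Finset.card_le_three (a := (1 : C)) (b := d.u) (c := e)
  omega

/-- The group is transitive on the involutions of the subgroup. -/
theorem trans_all {e : C} (he : e ∈ d.E) (he1 : e ≠ 1) : ∃ g, g * d.u * g⁻¹ = e := by
  have rev : ∀ {a b g : C}, g * a * g⁻¹ = b → g⁻¹ * b * g = a := fun h => by rw [← h]; group
  obtain ⟨p, hp, hp1, hpu, -⟩ := exists_third d d.u
  -- the centraliser of another one moves the distinguished one
  obtain ⟨c0, hc0, hc01, hc0u, hc0p⟩ := exists_third d p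
  obtain ⟨φ, hφ, hzt⟩ := d.zt_move p (d.E_zt p hp hp1)
  have hmap : ∀ a ∈ d.E, a ≠ 1 → φ a ∈ d.E := fun a ha h =>
    d.E_max _ (by rw [← hφ, ← map_mul, ← map_mul, d.E_comm a ha p hp]) ((hzt a).2 (d.E_zt a ha h))
  have hne : ∀ a, a ≠ 1 → φ a ≠ 1 := fun a h e => h (φ.injective (by rw [e, map_one]))
  have hneu : ∀ a, a ≠ p → φ a ≠ d.u := fun a h e => h (φ.injective (e.trans hφ.symm))
  have hup : ∀ c ∈ d.E, c ≠ 1 → c ≠ p → ∃ g, g * d.u * g⁻¹ = c := fun c hc hc1 hcp => by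
    obtain ⟨h, -, hh⟩ := d.trans _ (hmap _ d.u_mem (u_ne d)) _ (hmap c hc hc1) (hne _ (u_ne d))
      (hneu _ hpu.symm) (hne _ hc1) (hneu _ hcp)
    refine ⟨φ.symm h, φ.injective ?_⟩
    rw [map_mul, map_mul, map_inv, MulEquiv.apply_symm_apply, hh]
  by_cases hep : e = p
  · subst hep
    obtain ⟨g, hg⟩ := hup c0 hc0 hc01 hc0p
    obtain ⟨h, -, hh⟩ := d.trans c0 hc0 e he hc01 hc0u he1 hpu
    refine ⟨h * g, ?_⟩
    rw [show h * g * d.u * (h * g)⁻¹ = h * (g * d.u * g⁻¹) * h⁻¹ by group, hg, hh]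
  · exact hup e he he1 hep

include d in
/-- The order. -/
theorem card_C : Nat.card C = 6720 := by
  classical
  have hex : ∀ e : {e : ↥d.E // e ≠ 1}, ∃ g, g * d.u * g⁻¹ = ((e : ↥d.E) : C) := fun e =>
    trans_all d e.1.2 fun h => e.2 (Subtype.ext h)
  choose g hg using hex
  let f : {e : ↥d.E // e ≠ 1} × ↥(Subgroup.centralizer ({d.u} : Set C)) → C := fun p => g p.1 * (p.2 : C)
  have hf : Function.Bijective f := by
    constructor
    · rintro ⟨e, x⟩ ⟨e', x'⟩ h
      have key : ∀ (a : {e : ↥d.E // e ≠ 1}) (y : ↥(Subgroup.centralizer ({d.u} : Set C))),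
          g a * (y : C) * d.u * (g a * (y : C))⁻¹ = ((a : ↥d.E) : C) := fun a y => by
        rw [mul_assoc (g a), Subgroup.mem_centralizer_singleton_iff.1 y.2, ← hg a]; group
      have he : e = e' := Subtype.ext (Subtype.ext (by rw [← key e x, ← key e' x']; simp only [f] at h; rw [h]))
      subst he
      exact Prod.ext rfl (Subtype.ext (mul_left_cancel h))
    · intro x
      have hm : x * d.u * x⁻¹ ∈ d.E := (E_normal d).conj_mem _ d.u_mem x
      have h1 : x * d.u * x⁻¹ ≠ 1 := fun e => u_ne d (conj_eq_one_iff.1 e)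
      let a : {e : ↥d.E // e ≠ 1} := ⟨⟨_, hm⟩, fun e => h1 (congrArg Subtype.val e)⟩
      refine ⟨(a, ⟨(g a)⁻¹ * x, Subgroup.mem_centralizer_singleton_iff.2 ?_⟩), mul_inv_cancel_left _ _⟩
      calc (g a)⁻¹ * x * d.u = (g a)⁻¹ * (x * d.u * x⁻¹) * x := by group
        _ = (g a)⁻¹ * (g a * d.u * (g a)⁻¹) * x := by rw [hg a]
        _ = _ := by group
  have h7 : Nat.card {e : ↥d.E // e ≠ 1} = 7 := by
    haveI := Fintype.ofFinite ↥d.E
    rw [Nat.card_eq_fintype_card, Fintype.card_subtype_compl, Fintype.card_subtype_eq, ← Nat.card_eq_fintype_card,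
      d.cardE]
  rw [← Nat.card_eq_of_bijective f hf, Nat.card_prod, h7, d.card_u]

end Cfsg.Agent.Transfer.FiveEight
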