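import Mathlib
import Cfsg.Prelude.Def_Solvable
import Cfsg.Agent.Lib.Grp.Zassenhaus.Basics

/-!
Building Frobenius groups with a prescribed complement.
-/

set_option autoImplicit false

namespace Cfsg.Agent.Transfer.FrobBuild

open Matrix

/-- A fixed-point-free action on a finite abelian group gives a Frobenius complement. -/
theorem exists_frobenius {H : Type*} [Group H] [Finite H] [Nontrivial H] {V : Type} [AddCommGroup V] [Finite V]
    [Nontrivial V] (φ : H →* MulAut (Multiplicative V))
    (hfpf : ∀ h : H, h ≠ 1 → ∀ v, φ h v = v → v = 1) :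
    ∃ (L : Type) (_ : Group L) (_ : Finite L) (C : Subgroup L), Cfsg.IsFrobeniusComplement C ∧ Nonempty (H ≃* C) := by
  let H₀ := Shrink.{0} H
  let e : H₀ ≃* H := Shrink.mulEquiv
  let ψ : H₀ →* MulAut (Multiplicative V) := φ.comp e.toMonoidHom
  let L := SemidirectProduct (Multiplicative V) H₀ ψ
  have : Finite H₀ := Finite.of_equiv H e.symm.toEquiv
  have : Finite L := Finite.of_equiv _ SemidirectProduct.equivProd.symm
  let K : Subgroup L := (SemidirectProduct.rightHom (φ := ψ)).ker
  let C : Subgroup L := (SemidirectProduct.inr (φ := ψ)).range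
  let eC : H₀ ≃* C := MonoidHom.ofInjective SemidirectProduct.inr_injective
  have hc : Subgroup.IsComplement' K C := by
    refine Subgroup.isComplement'_of_disjoint_and_mul_eq_univ ?_ ?_
    · rw [Subgroup.disjoint_def]
      rintro x hx ⟨h, rfl⟩
      have : h = 1 := hx
      rw [this, map_one]
    · rw [Set.eq_univ_iff_forall]
      intro x
      exact ⟨SemidirectProduct.inl x.left, SemidirectProduct.rightHom_inl _, SemidirectProduct.inr x.right, ⟨_, rfl⟩,
        x.inl_left_mul_inr_right⟩
  refine ⟨L, inferInstance, inferInstance, C,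
    Cfsg.Agent.Grp.Zas.isFrobeniusComplement_of_isComplement' hc ?_ ?_ ?_, ⟨e.symm.trans eC⟩⟩
  · intro he
    obtain ⟨v, hv⟩ := exists_ne (1 : Multiplicative V)
    have h1 : (SemidirectProduct.inl v : L) ∈ K := SemidirectProduct.rightHom_inl _
    rw [he, Subgroup.mem_bot] at h1
    exact hv (SemidirectProduct.inl_injective (h1.trans (map_one _).symm))
  · intro he
    obtain ⟨h, hh⟩ := exists_ne (1 : H)
    have h1 : (SemidirectProduct.inr (e.symm h) : L) ∈ C := ⟨_, rfl⟩
    rw [he, Subgroup.mem_bot] at h1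
    have h2 : e.symm h = 1 := SemidirectProduct.inr_injective (h1.trans (map_one _).symm)
    exact hh (by simpa using congrArg e h2)
  · rintro x ⟨h, rfl⟩ hx
    rw [eq_bot_iff]
    rintro k ⟨hk, hkc⟩
    have hk' : k.right = 1 := hk
    have hcm := congrArg SemidirectProduct.left (Subgroup.mem_centralizer_singleton_iff.1 hkc)
    simp only [SemidirectProduct.mul_left, SemidirectProduct.left_inr, hk', map_one, MulAut.one_apply,
      mul_one, SemidirectProduct.right_inr, one_mul] at hcm
    have hne : e h ≠ 1 := fun h1 => hx (by rw [show h = 1 from e.injective (h1.trans (map_one e).symm), map_one])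
    have := hfpf (e h) hne k.left hcm.symm
    exact Subgroup.mem_bot.2 (SemidirectProduct.ext this hk')

/-- A subgroup of `SL(2, p)` of order prime to `p` is a Frobenius complement. -/
theorem exists_frobenius_sl2 {H : Type*} [Group H] [Finite H] [Nontrivial H] {p : ℕ} [Fact p.Prime]
    (hp : ¬ p ∣ Nat.card H) (f : H →* Matrix.SpecialLinearGroup (Fin 2) (ZMod p)) (hf : Function.Injective f) :
    ∃ (L : Type) (_ : Group L) (_ : Finite L) (C : Subgroup L), Cfsg.IsFrobeniusComplement C ∧ Nonempty (H ≃* C) := by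
  let act : Matrix.SpecialLinearGroup (Fin 2) (ZMod p) → Multiplicative (Fin 2 → ZMod p) → Multiplicative (Fin 2 → ZMod p) :=
    fun g v => Multiplicative.ofAdd ((g : Matrix (Fin 2) (Fin 2) (ZMod p)).mulVec v.toAdd)
  have hone : ∀ v, act 1 v = v := fun v => by
    show Multiplicative.ofAdd (((1 : Matrix.SpecialLinearGroup (Fin 2) (ZMod p)) : Matrix (Fin 2) (Fin 2) (ZMod p)).mulVec v.toAdd) = v
    rw [Matrix.SpecialLinearGroup.coe_one, Matrix.one_mulVec]
    rfl
  have hmul : ∀ g g' v, act (g * g') v = act g (act g' v) := fun g g' v => by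
    show Multiplicative.ofAdd (((g * g' : Matrix.SpecialLinearGroup (Fin 2) (ZMod p)) : Matrix (Fin 2) (Fin 2) (ZMod p)).mulVec v.toAdd) = _
    rw [Matrix.SpecialLinearGroup.coe_mul, ← Matrix.mulVec_mulVec]
    rfl
  let φ : Matrix.SpecialLinearGroup (Fin 2) (ZMod p) →* MulAut (Multiplicative (Fin 2 → ZMod p)) :=
    { toFun := fun g =>
        { toFun := act g
          invFun := act g⁻¹
          left_inv := fun v => by rw [← hmul, inv_mul_cancel, hone]
          right_inv := fun v => by rw [← hmul, mul_inv_cancel, hone]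
          map_mul' := fun v w => congrArg Multiplicative.ofAdd (Matrix.mulVec_add _ _ _) }
      map_one' := MulEquiv.ext hone
      map_mul' := fun g g' => MulEquiv.ext (hmul g g') }
  refine exists_frobenius (φ.comp f) fun h hh v hv => ?_
  by_contra hv1
  set g := f h with hg
  set M : Matrix (Fin 2) (Fin 2) (ZMod p) := (g : Matrix (Fin 2) (Fin 2) (ZMod p)) with hM
  set N := M - 1 with hN
  have hNv : N.mulVec v.toAdd = 0 := by
    have h1 : M.mulVec v.toAdd = v.toAdd := congrArg Multiplicative.toAdd hv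
    rw [hN, Matrix.sub_mulVec, Matrix.one_mulVec, h1, sub_self]
  have hdetN : N.det = 0 := by
    rw [← Matrix.exists_mulVec_eq_zero_iff]
    exact ⟨v.toAdd, fun e => hv1 (Multiplicative.toAdd.injective e), hNv⟩
  have hdetM : M.det = 1 := g.2
  rw [Matrix.det_fin_two] at hdetN hdetM
  have hN2 : N * N = 0 := by
    simp only [hN, Matrix.sub_apply, Matrix.one_apply_eq, ne_eq, zero_ne_one, one_ne_zero, not_false_eq_true,
      Matrix.one_apply_ne, sub_zero] at hdetN
    have htr : M 0 0 + M 1 1 = 2 := by linear_combination hdetM - hdetN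
    ext i j
    fin_cases i <;> fin_cases j <;>
      simp [hN, Matrix.mul_apply, Fin.sum_univ_two]
    · linear_combination (-1 : ZMod p) * hdetM + M 0 0 * htr
    · linear_combination M 0 1 * htr
    · linear_combination M 1 0 * htr
    · linear_combination (-1 : ZMod p) * hdetM + M 1 1 * htr
  have hpow : ∀ k : ℕ, M ^ k = 1 + (k : ZMod p) • N := by
    intro k
    induction k with
    | zero => simp
    | succ k ih =>
      rw [pow_succ, ih, show M = 1 + N by rw [hN, add_sub_cancel], add_mul, mul_add, mul_add, smul_mul_assoc,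
        smul_mul_assoc, hN2, smul_zero, Nat.cast_succ, add_smul, one_smul, one_mul, mul_one]
      simp [add_assoc, add_comm, add_left_comm]
  have hgp : g ^ p = 1 := by
    apply Subtype.ext
    refine (Matrix.SpecialLinearGroup.coe_pow g p).trans ?_
    rw [← hM, hpow, ZMod.natCast_self, zero_smul, add_zero]
    rfl
  have h1 : orderOf h ∣ p := by
    rw [← orderOf_injective f hf]
    exact orderOf_dvd_of_pow_eq_one hgp
  rcases (Nat.dvd_prime Fact.out).1 h1 with h2 | h2
  · exact hh (orderOf_eq_one_iff.1 h2)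
  · exact hp (h2 ▸ orderOf_dvd_natCard h)

/-- The table of an embedding of `SL(2,3)` into `SL(2,5)`. -/
def table : ℕ → ZMod 5 × ZMod 5 × ZMod 5 × ZMod 5
  | 28 => (1, 0, 0, 1)
  | 37 => (0, 1, 4, 4)
  | 31 => (2, 1, 3, 2)
  | 46 => (4, 4, 1, 0)
  | 67 => (3, 2, 0, 2)
  | 41 => (4, 1, 3, 1)
  | 34 => (2, 4, 2, 2)
  | 22 => (0, 2, 2, 1)
  | 59 => (3, 1, 3, 3)
  | 16 => (2, 2, 1, 4)
  | 48 => (4, 3, 4, 2)
  | 65 => (1, 1, 4, 0)
  | 42 => (1, 3, 3, 0)
  | 23 => (3, 3, 4, 1)
  | 79 => (1, 4, 2, 4)
  | 75 => (4, 2, 2, 0)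
  | 56 => (4, 0, 0, 4)
  | 15 => (3, 0, 1, 2)
  | 21 => (2, 0, 4, 3)
  | 17 => (0, 3, 3, 4)
  | 53 => (2, 3, 0, 3)
  | 69 => (1, 2, 1, 3)
  | 74 => (0, 4, 1, 1)
  | 62 => (3, 4, 2, 3)
  | _ => (1, 0, 0, 1)

end Cfsg.Agent.Transfer.FrobBuild
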