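import Mathlib
import Cfsg.Prelude.Def_Solvable
import Cfsg.Agent.Lib.Grp.Zassenhaus.Basics
import Cfsg.Agent.Lib.Recog.Frobenius

/-!
Fixed-point-free modules over any prime field of coprime characteristic, and Frobenius groups built from
fixed-point-free automorphisms.
-/

set_option autoImplicit false

namespace Cfsg.Agent.Transfer.FrobField

open Cfsg.Agent.Grp.Zas

/-- A fixed-point-free group of automorphisms gives a Frobenius group with known kernel order. -/
theorem exists_frobenius {H K : Type*} [Group H] [Finite H] [Nontrivial H] [Group K] [Finite K] [Nontrivial K]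
    (φ : H →* MulAut K) (hfpf : ∀ h : H, h ≠ 1 → ∀ v, φ h v = v → v = 1) :
    ∃ (L : Type) (_ : Group L) (_ : Finite L) (C : Subgroup L), Cfsg.IsFrobeniusComplement C ∧ Nonempty (H ≃* C) ∧
      Nat.card (Cfsg.frobeniusKernel C) = Nat.card K := by
  let H₀ := Shrink.{0} H
  let K₀ := Shrink.{0} K
  let e : H₀ ≃* H := Shrink.mulEquiv
  let d : K₀ ≃* K := Shrink.mulEquiv
  let ψ : H₀ →* MulAut K₀ := (MulAut.congr d.symm).toMonoidHom.comp (φ.comp e.toMonoidHom)
  have hψ : ∀ (h : H₀) (v : K₀), d (ψ h v) = φ (e h) (d v) := fun h v => by simp [ψ, MulAut.congr]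
  let L := SemidirectProduct K₀ H₀ ψ
  have : Finite H₀ := Finite.of_equiv H e.symm.toEquiv
  have : Finite K₀ := Finite.of_equiv K d.symm.toEquiv
  have : Finite L := Finite.of_equiv _ SemidirectProduct.equivProd.symm
  let N : Subgroup L := (SemidirectProduct.rightHom (φ := ψ)).ker
  let C : Subgroup L := (SemidirectProduct.inr (φ := ψ)).range
  let eC : H₀ ≃* C := MonoidHom.ofInjective SemidirectProduct.inr_injective
  have hc : Subgroup.IsComplement' N C := by
    refine Subgroup.isComplement'_of_disjoint_and_mul_eq_univ ?_ ?_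
    · rw [Subgroup.disjoint_def]
      rintro x hx ⟨h, rfl⟩
      have : h = 1 := hx
      rw [this, map_one]
    · rw [Set.eq_univ_iff_forall]
      intro x
      exact ⟨SemidirectProduct.inl x.left, SemidirectProduct.rightHom_inl _, SemidirectProduct.inr x.right, ⟨_, rfl⟩,
        x.inl_left_mul_inr_right⟩
  have hN : Nat.card N = Nat.card K := by
    have h1 : N = (SemidirectProduct.inl (φ := ψ)).range := SemidirectProduct.range_inl_eq_ker_rightHom.symm
    rw [h1, ← Nat.card_congr (MonoidHom.ofInjective SemidirectProduct.inl_injective).toEquiv,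
      Nat.card_congr d.toEquiv]
  have hC : Cfsg.IsFrobeniusComplement C := by
    refine isFrobeniusComplement_of_isComplement' hc ?_ ?_ ?_
    · intro he
      rw [he, Subgroup.card_bot] at hN
      exact Finite.one_lt_card.ne hN
    · intro he
      obtain ⟨h, hh⟩ := exists_ne (1 : H)
      have h1 : (SemidirectProduct.inr (e.symm h) : L) ∈ C := ⟨_, rfl⟩
      rw [he, Subgroup.mem_bot] at h1
      have h2 : e.symm h = 1 := SemidirectProduct.inr_injective (h1.trans (map_one _).symm)
      exact hh (by simpa using congrArg e h2)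
    · rintro x ⟨h, rfl⟩ hx
      rw [eq_bot_iff]
      rintro k ⟨hk, hkc⟩
      have hk' : k.right = 1 := hk
      have hcm := congrArg SemidirectProduct.left (Subgroup.mem_centralizer_singleton_iff.1 hkc)
      simp only [SemidirectProduct.mul_left, SemidirectProduct.left_inr, hk', map_one, MulAut.one_apply,
        mul_one, SemidirectProduct.right_inr, one_mul] at hcm
      have hne : e h ≠ 1 := fun h1 => hx (by rw [show h = 1 from e.injective (h1.trans (map_one e).symm), map_one])
      have := hfpf (e h) hne (d k.left) ((hψ h k.left).symm.trans (congrArg d hcm.symm))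
      exact Subgroup.mem_bot.2 (SemidirectProduct.ext (d.injective (this.trans (map_one d).symm)) hk')
  refine ⟨L, inferInstance, inferInstance, C, hC, ⟨e.symm.trans eC⟩, ?_⟩
  rw [Frob.card_kernel hC, hc.index_eq_card] at *
  exact hN

/-- Subgroups of Frobenius complements are Frobenius complements. -/
theorem of_injective {A L : Type*} [Group A] [Finite A] [Nontrivial A] [Group L] [Finite L] {H : Subgroup L}
    (hH : Cfsg.IsFrobeniusComplement H) (f : A →* H) (hf : Function.Injective f) :
    ∃ (L : Type) (_ : Group L) (_ : Finite L) (H : Subgroup L), Cfsg.IsFrobeniusComplement H ∧ Nonempty (A ≃* H) := by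
  classical
  have := Fintype.ofFinite L
  obtain ⟨K, hK, hKn, -, -⟩ := Grp.frobenius_kernel_spec hH
  have := K.nontrivial_iff_ne_bot.mpr (Frob.kernel_ne_bot hH hK)
  let φ : A →* MulAut K := MulAut.conjNormal.comp (H.subtype.comp f)
  obtain ⟨L', i1, i2, C, hC, hiso, -⟩ := exists_frobenius φ fun a ha v hv => by
    have hv' : (f a : L) * (v : L) * (f a : L)⁻¹ = v := congrArg Subtype.val hv
    have h1 : (v : L) ∈ K ⊓ H := ⟨v.2, Frob.centralizer_le hH (f a).2
      (fun e => ha (hf (by rw [map_one]; exact Subtype.ext e)))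
      (Subgroup.mem_centralizer_singleton_iff.mpr (mul_inv_eq_iff_eq_mul.mp hv').symm)⟩
    rw [Frob.kernel_inf_eq_bot hK, Subgroup.mem_bot] at h1
    exact Subtype.ext h1
  exact ⟨L', i1, i2, C, hC, hiso⟩

section GroupRing

variable (R : Type*) [Ring R] (A : Type*) [Group A]

/-- The sum over the subgroup generated by `c`. -/
noncomputable def normElt (c : A) : MonoidAlgebra R A :=
  ∑ i ∈ Finset.range (orderOf c), MonoidAlgebra.single (c ^ i) (1 : R)

/-- The ideal generated by the norm elements of the nontrivial cyclic subgroups. -/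
noncomputable def normIdeal : Ideal (MonoidAlgebra R A) :=
  Ideal.span (Set.range fun c : {c : A // c ≠ 1} => normElt R A c)

variable {R A}

theorem normElt_mem {c : A} (hc : c ≠ 1) : normElt R A c ∈ normIdeal R A :=
  Ideal.subset_span ⟨⟨c, hc⟩, rfl⟩

theorem normElt_mul_single (c h : A) (r : R) :
    normElt R A c * MonoidAlgebra.single h r = MonoidAlgebra.single h r * normElt R A (h⁻¹ * c * h) := by
  have ho : orderOf (h⁻¹ * c * h) = orderOf c := by
    rw [show h⁻¹ * c * h = MulAut.conj h⁻¹ c by simp, MulEquiv.orderOf_eq]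
  rw [normElt, normElt, Finset.sum_mul, Finset.mul_sum, ho]
  refine Finset.sum_congr rfl fun i _ => ?_
  rw [MonoidAlgebra.single_mul_single, MonoidAlgebra.single_mul_single, one_mul, mul_one,
    show h⁻¹ * c * h = h⁻¹ * c * h⁻¹⁻¹ by rw [inv_inv], conj_pow]
  congr 1
  group

theorem normIdeal_mul_mem {x : MonoidAlgebra R A} (hx : x ∈ normIdeal R A) (y : MonoidAlgebra R A) :
    x * y ∈ normIdeal R A := by
  induction hx using Submodule.span_induction with
  | mem x hx =>
    obtain ⟨⟨c, hc⟩, rfl⟩ := hx
    induction y using MonoidAlgebra.induction_linear with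
    | zero => simp
    | add f g hf hg => rw [mul_add]; exact add_mem hf hg
    | single h r =>
      rw [normElt_mul_single]
      refine Ideal.mul_mem_left _ _ (normElt_mem fun e => hc ?_)
      calc c = h * (h⁻¹ * c * h) * h⁻¹ := by group
        _ = 1 := by rw [e]; group
  | zero => simp
  | add a b _ _ ha hb => rw [add_mul]; exact add_mem ha hb
  | smul a x _ hx => rw [smul_eq_mul, mul_assoc]; exact Ideal.mul_mem_left _ _ hx

theorem map_normElt {S : Type*} [Ring S] (f : R →+* S) (c : A) :
    MonoidAlgebra.mapRingHom A f (normElt R A c) = normElt S A c := by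
  simp [normElt, map_sum, map_one]

theorem map_normIdeal {S : Type*} [Ring S] (f : R →+* S) :
    Ideal.map (MonoidAlgebra.mapRingHom A f) (normIdeal R A) = normIdeal S A := by
  rw [normIdeal, normIdeal, Ideal.map_span, ← Set.range_comp]
  simp only [Function.comp_def, map_normElt]

/-- A fixed-point-free representation kills the norm ideal. -/
theorem lift_normIdeal {k V : Type*} [Field k] [AddCommGroup V] [Module k V] [Finite A] (ρ : A →* Module.End k V)
    (hfpf : ∀ g : A, g ≠ 1 → ∀ w : V, ρ g w = w → w = 0) {x : MonoidAlgebra k A} (hx : x ∈ normIdeal k A) :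
    MonoidAlgebra.lift k (Module.End k V) A ρ x = 0 := by
  refine (Ideal.span_le (I := RingHom.ker (MonoidAlgebra.lift k (Module.End k V) A ρ).toRingHom)).2 ?_ hx
  rintro _ ⟨⟨c, hc⟩, rfl⟩
  rw [SetLike.mem_coe, RingHom.mem_ker]
  refine LinearMap.ext fun w => hfpf c hc _ ?_
  show ρ c ((MonoidAlgebra.lift k (Module.End k V) A ρ (normElt k A c)) w) =
    (MonoidAlgebra.lift k (Module.End k V) A ρ (normElt k A c)) w
  simp only [normElt, map_sum, MonoidAlgebra.lift_single, one_smul, LinearMap.sum_apply]
  have h1 : ∀ i, ρ c (ρ (c ^ i) w) = ρ (c ^ (i + 1)) w := fun i => by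
    rw [pow_succ' c, map_mul, Module.End.mul_apply]
  simp only [h1]
  have h2 := Finset.sum_range_succ' (fun i => ρ (c ^ i) w) (orderOf c)
  rw [Finset.sum_range_succ] at h2
  simp only [pow_zero, pow_orderOf_eq_one] at h2
  exact (add_right_cancel h2).symm

/-- Given a fixed-point-free representation in coprime characteristic, no positive integer lies in the integral
norm ideal. -/
theorem natCast_notMem [Finite A] (h : HasFpf A) {m : ℕ} (hm : m ≠ 0) :
    (m : MonoidAlgebra ℤ A) ∉ normIdeal ℤ A := by
  classical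
  have : Fintype A := Fintype.ofFinite A
  intro hmem
  obtain ⟨k, _, _, V, _, _, _, _, ρ, hfpf, hcard⟩ := h
  obtain ⟨v, hv⟩ := exists_ne (0 : V)
  let L := MonoidAlgebra.lift k (Module.End k V) A ρ
  obtain ⟨r, hr⟩ := CharP.exists k
  rcases CharP.char_is_prime_or_zero k r with hrp | rfl
  swap
  · haveI := CharP.charP_to_charZero k
    have h1 : ((m : ℕ) : MonoidAlgebra k A) ∈ normIdeal k A := by
      rw [← map_normIdeal (Int.castRingHom k)]
      simpa using Ideal.mem_map_of_mem (MonoidAlgebra.mapRingHom A (Int.castRingHom k)) hmem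
    have h2 := LinearMap.congr_fun (lift_normIdeal ρ hfpf h1) v
    rw [map_natCast, Module.End.natCast_apply, LinearMap.zero_apply, ← Nat.cast_smul_eq_nsmul k,
      smul_eq_zero] at h2
    exact h2.elim (Nat.cast_ne_zero.2 hm) hv
  haveI := Fact.mk hrp
  let F := ZMod r
  have hrA : ¬ r ∣ Nat.card A := fun hd => hcard ((CharP.cast_eq_zero_iff k r _).2 hd)
  -- an idempotent killed by the norm ideal modulo `r`
  haveI : NeZero (Nat.card A : F) := ⟨fun e => hrA ((ZMod.natCast_eq_zero_iff _ _).1 e)⟩
  haveI : Fintype.card A = Nat.card A := Nat.card_eq_fintype_card.symm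
  haveI : NeZero (Fintype.card A : F) := by rw [← Nat.card_eq_fintype_card]; infer_instance
  obtain ⟨M, hM⟩ := MonoidAlgebra.Submodule.exists_isCompl (k := F) (G := A) (normIdeal F A)
  obtain ⟨j, hj, e, he, hje⟩ := Submodule.mem_sup.1 (hM.sup_eq_top ▸ Submodule.mem_top (x := (1 : MonoidAlgebra F A)))
  have he0 : e ≠ 0 := fun e0 => by
    rw [e0, add_zero] at hje
    rw [hje] at hj
    let f : F →+* k := ZMod.castHom dvd_rfl k
    have h1 : (1 : MonoidAlgebra k A) ∈ normIdeal k A := by
      rw [← map_normIdeal f, ← map_one (MonoidAlgebra.mapRingHom A f)]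
      exact Ideal.mem_map_of_mem _ hj
    have h2 := LinearMap.congr_fun (lift_normIdeal ρ hfpf h1) v
    rw [map_one, Module.End.one_apply, LinearMap.zero_apply] at h2
    exact hv h2
  have hkill : ∀ x ∈ normIdeal F A, x * e = 0 := fun x hx =>
    Submodule.disjoint_def.1 hM.disjoint _ (normIdeal_mul_mem hx e) (M.smul_mem x he)
  have hee : IsIdempotentElem e := by
    have h1 := hkill j hj
    have h2 : (j + e) * e = e := by rw [hje, one_mul]
    rwa [add_mul, h1, zero_add] at h2
  -- lift it modulo `r ^ n`
  let n := m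
  haveI : Fact (1 < r ^ n) := ⟨Nat.one_lt_pow hm hrp.one_lt⟩
  let Rn := ZMod (r ^ n)
  let π : Rn →+* F := ZMod.castHom (dvd_pow_self r hm) F
  let πA := MonoidAlgebra.mapRingHom A π
  have hπs : Function.Surjective π := ZMod.castHom_surjective _
  have hcoe : ∀ (x : MonoidAlgebra Rn A) (a : A), (πA x).coeff a = π (x.coeff a) := fun x a => by simp [πA]
  have hker : ∀ x ∈ RingHom.ker πA, ∃ y, x = (r : MonoidAlgebra Rn A) * y := by
    intro x hx
    have h1 : ∀ a, (r : Rn) ∣ x.coeff a := fun a => by
      have h2 : π (x.coeff a) = 0 := by rw [← hcoe, RingHom.mem_ker.1 hx]; simp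
      rw [ZMod.castHom_apply, ZMod.cast_eq_val, ZMod.natCast_eq_zero_iff] at h2
      obtain ⟨c, hc⟩ := h2
      exact ⟨(c : Rn), by rw [← ZMod.natCast_zmod_val (x.coeff a), hc, Nat.cast_mul]⟩
    choose y hy using h1
    refine ⟨∑ a, MonoidAlgebra.single a (y a), ?_⟩
    rw [Finset.mul_sum]
    conv_lhs => rw [show x = ∑ a, MonoidAlgebra.single a (x.coeff a) by
      ext b; simp [Finsupp.single_apply]]
    refine Finset.sum_congr rfl fun a _ => ?_
    rw [MonoidAlgebra.natCast_def, MonoidAlgebra.single_mul_single, one_mul, hy a]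
  have hrn : ((r : MonoidAlgebra Rn A)) ^ n = 0 := by
    rw [← Nat.cast_pow, MonoidAlgebra.natCast_def, ZMod.natCast_self, MonoidAlgebra.single_zero]
  obtain ⟨e', he', hπe⟩ := exists_isIdempotentElem_eq_of_ker_isNilpotent πA (fun x hx => by
    obtain ⟨y, rfl⟩ := hker x hx
    exact ⟨n, by rw [(Nat.cast_commute r y).mul_pow, hrn, zero_mul]⟩) e
      (MonoidAlgebra.mapRingHom A π |>.mem_range.2 (by
        refine ⟨∑ a, MonoidAlgebra.single a (Function.surjInv hπs (e.coeff a)), ?_⟩
        ext b
        rw [hcoe]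
        simp [Finsupp.single_apply, Function.surjInv_eq hπs])) hee
  have hkill' : ∀ x ∈ normIdeal Rn A, x * e' = 0 := by
    refine fun x hx => ?_
    induction hx using Submodule.span_induction with
    | zero => simp
    | add a b _ _ ha hb => rw [add_mul, ha, hb, add_zero]
    | smul a x _ hx => rw [smul_eq_mul, mul_assoc, hx, mul_zero]
    | mem x hx =>
      obtain ⟨⟨c, hc⟩, rfl⟩ := hx
      -- the idempotent attached to `c`
      set N := normElt Rn A c with hN
      have hu : IsUnit (orderOf c : Rn) := by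
        refine (ZMod.isUnit_iff_coprime _ _).2 (Nat.Coprime.pow_right _ (Nat.Coprime.symm ?_))
        exact (Nat.Prime.coprime_iff_not_dvd hrp).2 fun hd => hrA (hd.trans (orderOf_dvd_natCard c))
      have hNN : N * N = (orderOf c : MonoidAlgebra Rn A) * N := by
        have h1 : ∀ i, MonoidAlgebra.single (c ^ i) (1 : Rn) * N = N := fun i => by
          induction i with
          | zero => rw [pow_zero, ← MonoidAlgebra.one_def, one_mul]
          | succ i ih =>
            rw [show MonoidAlgebra.single (c ^ (i + 1)) (1 : Rn) = MonoidAlgebra.single (c ^ i) 1 * MonoidAlgebra.single c 1 by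
              rw [MonoidAlgebra.single_mul_single, one_mul, ← pow_succ], mul_assoc]
            have h2 : MonoidAlgebra.single c (1 : Rn) * N = N := by
              rw [hN, normElt, Finset.mul_sum]
              simp only [MonoidAlgebra.single_mul_single, one_mul, ← pow_succ']
              have h3 := Finset.sum_range_succ' (fun i => MonoidAlgebra.single (c ^ i) (1 : Rn)) (orderOf c)
              rw [Finset.sum_range_succ] at h3
              simp only [pow_zero, pow_orderOf_eq_one] at h3
              exact (add_right_cancel h3).symm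
            rw [h2, ih]
        conv_lhs => arg 1; rw [hN, normElt]
        rw [Finset.sum_mul, Finset.sum_congr rfl fun i _ => h1 i, Finset.sum_const, Finset.card_range, nsmul_eq_mul]
      have hdiv : ∀ k, ∀ z, ∃ b, N * z * e' = (r : MonoidAlgebra Rn A) ^ k * b := by
        intro k
        induction k with
        | zero => exact fun z => ⟨_, (one_mul _).symm.trans (by rw [pow_zero])⟩
        | succ k ih =>
          intro z
          obtain ⟨b, hb⟩ := ih z
          have h1 : (orderOf c : MonoidAlgebra Rn A) * (N * z * e') = (r : MonoidAlgebra Rn A) ^ k * (N * b * e') := by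
            calc (orderOf c : MonoidAlgebra Rn A) * (N * z * e') = N * (N * z * e') * e' := by
                  simp only [← mul_assoc]; rw [← hNN]; simp only [mul_assoc, he'.eq]
              _ = (r : MonoidAlgebra Rn A) ^ k * (N * b * e') := by
                  rw [hb, ← mul_assoc N, ((Nat.cast_commute r N).pow_left k).symm.eq]; simp only [mul_assoc]
          obtain ⟨y, hy⟩ : ∃ y, N * b * e' = (r : MonoidAlgebra Rn A) * y := hker _ (by
            rw [RingHom.mem_ker, map_mul, map_mul, hπe, map_normElt]
            exact hkill _ (normIdeal_mul_mem (normElt_mem hc) _))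
          obtain ⟨u, hu⟩ := hu
          have hinv : MonoidAlgebra.single (1 : A) (↑u⁻¹ : Rn) * (orderOf c : MonoidAlgebra Rn A) = 1 := by
            rw [MonoidAlgebra.natCast_def, MonoidAlgebra.single_mul_single, one_mul, ← hu, u.inv_mul,
              MonoidAlgebra.one_def]
          refine ⟨MonoidAlgebra.single (1 : A) (↑u⁻¹ : Rn) * y, ?_⟩
          calc N * z * e' = MonoidAlgebra.single (1 : A) (↑u⁻¹ : Rn) *
                ((orderOf c : MonoidAlgebra Rn A) * (N * z * e')) := by rw [← mul_assoc, hinv, one_mul]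
            _ = _ := by
              rw [h1, hy, ← mul_assoc ((r : MonoidAlgebra Rn A) ^ k), ← pow_succ, ← mul_assoc, ← mul_assoc,
                ((Nat.cast_commute r (MonoidAlgebra.single (1 : A) (↑u⁻¹ : Rn))).pow_left (k + 1)).eq]
      obtain ⟨b, hb⟩ := hdiv n 1
      rw [mul_one, hrn, zero_mul] at hb
      exact hb
  have h1 : ((m : ℕ) : MonoidAlgebra Rn A) ∈ normIdeal Rn A := by
    rw [← map_normIdeal (Int.castRingHom Rn)]
    simpa using Ideal.mem_map_of_mem (MonoidAlgebra.mapRingHom A (Int.castRingHom Rn)) hmem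
  have h2 := hkill' _ h1
  obtain ⟨a, ha⟩ : ∃ a, π (e'.coeff a) ≠ 0 := by
    by_contra hc
    push Not at hc
    refine he0 ?_
    rw [← hπe]
    ext a
    rw [hcoe, hc a]; simp
  have h3 : (m : Rn) * e'.coeff a = 0 := by
    have := congrArg (fun x => x.coeff a) h2
    simpa [MonoidAlgebra.natCast_def, MonoidAlgebra.single_one_mul_apply] using this
  have hu : IsUnit (e'.coeff a) := by
    rw [← ZMod.natCast_zmod_val (e'.coeff a)]
    refine (ZMod.isUnit_iff_coprime _ _).2 (Nat.Coprime.pow_right _ (Nat.Coprime.symm ((Nat.Prime.coprime_iff_not_dvd hrp).2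
      fun hd => ha ?_)))
    rw [ZMod.castHom_apply, ZMod.cast_eq_val, ZMod.natCast_eq_zero_iff]
    exact hd
  rw [hu.mul_left_eq_zero, ZMod.natCast_eq_zero_iff] at h3
  exact absurd (Nat.le_of_dvd (Nat.pos_of_ne_zero hm) h3) (not_le.2 (Nat.lt_pow_self hrp.one_lt))

/-- Fixed-point-free modules exist over every prime field of coprime characteristic. -/
theorem one_notMem [Finite A] (h : HasFpf A) (r : ℕ) [Fact r.Prime] :
    (1 : MonoidAlgebra (ZMod r) A) ∉ normIdeal (ZMod r) A := by
  classical
  have : Fintype A := Fintype.ofFinite A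
  intro h1
  let πA := MonoidAlgebra.mapRingHom A (Int.castRingHom (ZMod r))
  have hs : Function.Surjective πA := fun x => by
    induction x using MonoidAlgebra.induction_linear with
    | zero => exact ⟨0, map_zero _⟩
    | add f g hf hg =>
      obtain ⟨a, rfl⟩ := hf
      obtain ⟨b, rfl⟩ := hg
      exact ⟨a + b, map_add _ _ _⟩
    | single g c => exact ⟨MonoidAlgebra.single g (c.val : ℤ), by simp [πA]⟩
  rw [← map_normIdeal (Int.castRingHom (ZMod r))] at h1
  obtain ⟨y, hy, hy1⟩ := (Ideal.mem_map_iff_of_surjective πA hs).1 h1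
  have hinj : ∀ x : MonoidAlgebra ℤ A, x * y = 0 → x = 0 := by
    intro x hx
    have hdiv : ∀ n : ℕ, ∀ a, (r : ℤ) ^ n ∣ x.coeff a := by
      intro n
      induction n with
      | zero => simp
      | succ n ih =>
        choose b hb using ih
        let x' : MonoidAlgebra ℤ A := ∑ a, MonoidAlgebra.single a (b a)
        have hxa : ∀ a, x'.coeff a = b a := fun a => by simp [x', MonoidAlgebra.coeff_sum, Finsupp.single_apply]
        have hxx : x = ((r : ℤ) ^ n) • x' := by
          ext a
          rw [MonoidAlgebra.coeff_smul_apply, hxa, hb a, smul_eq_mul]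
        rw [hxx, smul_mul_assoc, smul_eq_zero] at hx
        have hx' := hx.resolve_left (pow_ne_zero _ (by exact_mod_cast (Fact.out : r.Prime).ne_zero))
        have h2 := congrArg πA hx'
        rw [map_mul, hy1, mul_one, map_zero] at h2
        intro a
        have h3 : ((b a : ℤ) : ZMod r) = 0 := by
          have := congrArg (fun f => f.coeff a) h2
          simpa [πA, hxa] using this
        rw [hb a, pow_succ]
        exact mul_dvd_mul_left _ ((ZMod.intCast_zmod_eq_zero_iff_dvd _ _).1 h3)
    ext a
    simp only [MonoidAlgebra.coeff_zero, Finsupp.coe_zero, Pi.zero_apply]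
    by_contra ha
    obtain ⟨n, hn⟩ : ∃ n, (x.coeff a).natAbs < r ^ n := ⟨_, Nat.lt_pow_self (Fact.out : r.Prime).one_lt⟩
    have := Int.natAbs_dvd_natAbs.2 (hdiv n a)
    rw [Int.natAbs_pow, Int.natAbs_natCast] at this
    exact absurd (Nat.le_of_dvd (Int.natAbs_pos.2 ha) this) (not_le.2 hn)
  haveI : Nontrivial (MonoidAlgebra ℤ A) := inferInstance
  have hint : IsIntegral ℤ y := IsIntegral.of_finite ℤ y
  have hc0 : (minpoly ℤ y).coeff 0 ≠ 0 := by
    intro h0
    obtain ⟨q, hq⟩ := Polynomial.X_dvd_iff.2 h0
    have hqm : q.Monic := Polynomial.monic_X.of_mul_monic_left (hq ▸ minpoly.monic hint)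
    have h3 : Polynomial.aeval y q = 0 := hinj _ (by
      have := minpoly.aeval ℤ y
      rw [hq, mul_comm, map_mul, Polynomial.aeval_X] at this
      exact this)
    have h4 := minpoly.min ℤ y hqm h3
    rw [hq, Polynomial.degree_mul, Polynomial.degree_X] at h4
    have h5 : q.degree = (q.natDegree : WithBot ℕ) := Polynomial.degree_eq_natDegree hqm.ne_zero
    rw [h5] at h4
    have h6 : ((1 + q.natDegree : ℕ) : WithBot ℕ) ≤ (q.natDegree : WithBot ℕ) := by push_cast; exact h4
    have h7 := (Nat.cast_le (α := WithBot ℕ)).1 h6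
    omega
  have h3 : algebraMap ℤ (MonoidAlgebra ℤ A) ((minpoly ℤ y).coeff 0) ∈ normIdeal ℤ A := by
    have h4 := minpoly.aeval ℤ y
    rw [← Polynomial.divX_mul_X_add (minpoly ℤ y), map_add, map_mul, Polynomial.aeval_X, Polynomial.aeval_C,
      add_eq_zero_iff_eq_neg'] at h4
    rw [h4]
    exact (Submodule.neg_mem_iff _).2 (Ideal.mul_mem_left _ _ hy)
  refine natCast_notMem h (Int.natAbs_ne_zero.2 hc0) ?_
  rcases Int.natAbs_eq ((minpoly ℤ y).coeff 0) with e | e <;> rw [e] at h3
  · simpa using h3
  · simpa using (Submodule.neg_mem_iff _).2 h3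

/-- Fixed-point-free modules exist over every prime field of coprime characteristic. -/
theorem exists_fpf_module [Finite A] (h : HasFpf A) (r : ℕ) [Fact r.Prime] (hr : ¬ r ∣ Nat.card A) :
    ∃ (M : Ideal (MonoidAlgebra (ZMod r) A)), Nontrivial (MonoidAlgebra (ZMod r) A ⧸ M) ∧
      ∀ c : A, c ≠ 1 → ∀ v : MonoidAlgebra (ZMod r) A ⧸ M, MonoidAlgebra.single c (1 : ZMod r) • v = v → v = 0 := by
  refine ⟨normIdeal (ZMod r) A, Submodule.Quotient.nontrivial_iff.2 ((Ideal.ne_top_iff_one _).2 (one_notMem h r)),
    fun c hc v hv => ?_⟩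
  have hfix : ∀ i : ℕ, MonoidAlgebra.single (c ^ i) (1 : ZMod r) • v = v := by
    intro i
    induction i with
    | zero => rw [pow_zero, ← MonoidAlgebra.one_def, one_smul]
    | succ i ih =>
      rw [pow_succ, show MonoidAlgebra.single (c ^ i * c) (1 : ZMod r) = MonoidAlgebra.single (c ^ i) 1 * MonoidAlgebra.single c 1 by
        rw [MonoidAlgebra.single_mul_single, one_mul], mul_smul, hv, ih]
  obtain ⟨x, rfl⟩ := Submodule.Quotient.mk_surjective _ v
  have h0 : normElt (ZMod r) A c • (Submodule.Quotient.mk x : _ ⧸ normIdeal (ZMod r) A) = 0 := by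
    rw [← Submodule.Quotient.mk_smul, Submodule.Quotient.mk_eq_zero, smul_eq_mul]
    exact normIdeal_mul_mem (normElt_mem hc) x
  rw [normElt, Finset.sum_smul, Finset.sum_congr rfl fun i _ => hfix i, Finset.sum_const, Finset.card_range,
    ← Nat.cast_smul_eq_nsmul (ZMod r), smul_eq_zero] at h0
  refine h0.resolve_left fun e => hr ?_
  exact ((ZMod.natCast_eq_zero_iff _ _).1 e).trans (orderOf_dvd_natCard c)

end GroupRing

end Cfsg.Agent.Transfer.FrobField
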