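import Mathlib
import Cfsg.Agent.Lib.Grp.Basic
import Cfsg.Agent.Lib.Grp.Frattini
import Cfsg.Agent.Lib.Grp.SubgroupCount

/-!
# Counting subgroups of a p-group modulo p² (P. Hall's enumeration, Kulakoff)

`cnt G p k` is the number of subgroups of order `p^k`; `cnt_rec` is the enumeration principle
modulo `p²`, `kulakoff_odd` is Kulakoff's theorem.
-/

set_option autoImplicit false
set_option linter.unusedSectionVars false
set_option maxHeartbeats 1000000

namespace Cfsg.Agent.Transfer.Kulakoff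

open Cfsg.Agent

universe u

/-- The number of subgroups of order `p ^ k`. -/
noncomputable def cnt (G : Type*) [Group G] (p k : ℕ) : ℕ :=
  Nat.card {H : Subgroup G // Nat.card H = p ^ k}

variable {G : Type*} [Group G] [Finite G] {p : ℕ} [hp : Fact p.Prime]

theorem cnt_zero : cnt G p 0 = 1 := by
  rw [cnt, Nat.card_eq_one_iff_unique]
  refine ⟨⟨fun a b => Subtype.ext ?_⟩, ⟨⊥, by rw [Subgroup.card_bot, pow_zero]⟩⟩
  rw [Subgroup.card_eq_one.1 (a.2.trans (pow_zero p)), Subgroup.card_eq_one.1 (b.2.trans (pow_zero p))]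

theorem cnt_modEq {k : ℕ} (h : p ^ k ∣ Nat.card G) : cnt G p k ≡ 1 [MOD p] :=
  Grp.SubCount.card_subgroups_modEq p k hp.out h

theorem cnt_top {k : ℕ} (h : Nat.card G = p ^ k) : cnt G p k = 1 := by
  rw [cnt, Nat.card_eq_one_iff_unique]
  exact ⟨⟨fun a b => Subtype.ext (by
    rw [Subgroup.eq_top_of_card_eq _ (a.2.trans h.symm), Subgroup.eq_top_of_card_eq _ (b.2.trans h.symm)])⟩,
    ⟨⊤, by rw [Subgroup.card_top, h]⟩⟩

theorem cnt_cyclic [IsCyclic G] {k : ℕ} (h : p ^ k ∣ Nat.card G) : cnt G p k = 1 := by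
  have hne : cnt G p k ≠ 0 := fun e => by
    have := cnt_modEq (G := G) h
    rw [e, Nat.ModEq, Nat.zero_mod, Nat.one_mod_eq_one.2 hp.out.ne_one] at this
    omega
  rw [cnt] at hne ⊢
  refine Nat.card_eq_one_iff_unique.2 ⟨⟨fun a b => Subtype.ext ?_⟩, (Nat.card_ne_zero.1 hne).1⟩
  classical
  haveI := Fintype.ofFinite G
  have key : ∀ H : Subgroup G, Nat.card H = p ^ k →
      (Finset.univ.filter fun x => x ∈ H) = Finset.univ.filter fun x : G => x ^ p ^ k = 1 := fun H hH => by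
    refine Finset.eq_of_subset_of_card_le (fun x hx => ?_) ?_
    · simp only [Finset.mem_filter, Finset.mem_univ, true_and] at hx ⊢
      rw [← hH]
      exact congrArg Subtype.val (pow_card_eq_one' (x := (⟨x, hx⟩ : H)))
    · refine (IsCyclic.card_pow_eq_one_le (pow_pos hp.out.pos k)).trans (le_of_eq ?_)
      rw [← hH, Nat.card_eq_fintype_card, Fintype.card_subtype]
  ext x
  have := Finset.ext_iff.1 ((key a.1 a.2).trans (key b.1 b.2).symm) x
  simpa using this

/-- Subgroups above a normal subgroup correspond to the subgroups of the factor group. -/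
def overEquiv (N : Subgroup G) [N.Normal] (c : ℕ) (P : Subgroup (G ⧸ N) → Prop) :
    {M : Subgroup G // N ≤ M ∧ Nat.card M = Nat.card N * c ∧ P (M.map (QuotientGroup.mk' N))} ≃
      {K : Subgroup (G ⧸ N) // Nat.card K = c ∧ P K} :=
  have hcard : ∀ K : Subgroup (G ⧸ N), Nat.card ↥(K.comap (QuotientGroup.mk' N)) = Nat.card N * Nat.card K := by
    intro K
    have hN : N ≤ K.comap (QuotientGroup.mk' N) := fun x hx => by
      show QuotientGroup.mk' N x ∈ K
      rw [show QuotientGroup.mk' N x = 1 from (QuotientGroup.eq_one_iff x).2 hx]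
      exact one_mem _
    rw [← Grp.card_mul_relIndex hN]
    congr 1
    have h2 : (⊥ : Subgroup (G ⧸ N)).comap (QuotientGroup.mk' N) = N := by
      rw [MonoidHom.comap_bot]; exact QuotientGroup.ker_mk' N
    refine (congrArg (fun X : Subgroup G => X.relIndex (K.comap (QuotientGroup.mk' N))) h2.symm).trans ?_
    rw [Subgroup.relIndex_comap, Subgroup.map_comap_eq_self_of_surjective (QuotientGroup.mk'_surjective N),
      Subgroup.relIndex_bot_left]
  have hback : ∀ M : Subgroup G, N ≤ M → (M.map (QuotientGroup.mk' N)).comap (QuotientGroup.mk' N) = M := by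
    intro M hM
    rw [Subgroup.comap_map_eq, QuotientGroup.ker_mk', sup_eq_left.2 hM]
  { toFun := fun M => ⟨M.1.map (QuotientGroup.mk' N), by
      refine Nat.eq_of_mul_eq_mul_left (Nat.card_pos (α := N)) ?_
      rw [← hcard, hback _ M.2.1, M.2.2.1], M.2.2.2⟩
    invFun := fun K => ⟨K.1.comap (QuotientGroup.mk' N), fun x hx => by
        show QuotientGroup.mk' N x ∈ K.1
        rw [show QuotientGroup.mk' N x = 1 from (QuotientGroup.eq_one_iff x).2 hx]
        exact one_mem _,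
      by rw [hcard, K.2.1], by
        rw [Subgroup.map_comap_eq_self_of_surjective (QuotientGroup.mk'_surjective N)]; exact K.2.2⟩
    left_inv := fun M => Subtype.ext (hback _ M.2.1)
    right_inv := fun K => Subtype.ext (Subgroup.map_comap_eq_self_of_surjective (QuotientGroup.mk'_surjective N) _) }

theorem card_over (N : Subgroup G) [N.Normal] (j : ℕ) :
    Nat.card {M : Subgroup G // N ≤ M ∧ Nat.card M = Nat.card N * p ^ j} = cnt (G ⧸ N) p j := by
  exact (Nat.card_congr (Equiv.subtypeEquivRight fun M => by simp)).trans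
    ((Nat.card_congr (overEquiv N (p ^ j) fun _ => True)).trans (Nat.card_congr (Equiv.subtypeEquivRight fun K => by simp)))

theorem card_under (M : Subgroup G) (c : ℕ) :
    Nat.card {D : Subgroup G // D ≤ M ∧ Nat.card D = c} = Nat.card {K : Subgroup M // Nat.card K = c} := by
  symm
  refine Nat.card_congr ⟨fun K => ⟨K.1.map M.subtype, Subgroup.map_subtype_le _, by
      rw [Subgroup.card_map_of_injective M.subtype_injective, K.2]⟩,
    fun D => ⟨D.1.subgroupOf M, by rw [Nat.card_congr (Subgroup.subgroupOfEquivOfLe D.2.1).toEquiv, D.2.2]⟩,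
    fun K => Subtype.ext (Subgroup.comap_map_eq_self_of_injective M.subtype_injective _),
    fun D => Subtype.ext (by simp [inf_eq_left.2 D.2.1])⟩

theorem card_ne_add_one {α : Type*} [Finite α] (a : α) : Nat.card {x : α // x ≠ a} + 1 = Nat.card α := by
  classical
  haveI := Fintype.ofFinite α
  rw [Nat.card_eq_fintype_card, Nat.card_eq_fintype_card, Fintype.card_subtype_compl, Fintype.card_subtype_eq]
  exact Nat.sub_add_cancel (Fintype.card_pos_iff.2 ⟨a⟩)

/-- The lines of a group of order `p²` and exponent `p`. -/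
theorem cnt_lines (hexp : ∀ x : G, x ^ p = 1) (hcard : Nat.card G = p ^ 2) : cnt G p 1 = p + 1 := by
  classical
  haveI := Fintype.ofFinite G
  let T := {H : Subgroup G // Nat.card H = p ^ 1}
  haveI : Fintype T := Fintype.ofFinite T
  let e : {x : G // x ≠ 1} ≃ Σ H : T, {x : H.1 // x ≠ 1} :=
    { toFun := fun x => ⟨⟨Subgroup.zpowers x.1, by rw [Nat.card_zpowers, pow_one, orderOf_eq_prime (hexp _) x.2]⟩,
        ⟨⟨x.1, Subgroup.mem_zpowers _⟩, fun h => x.2 (congrArg Subtype.val h)⟩⟩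
      invFun := fun w => ⟨w.2.1.1, fun h => w.2.2 (Subtype.ext h)⟩
      left_inv := fun x => rfl
      right_inv := fun ⟨⟨H, hH⟩, ⟨⟨x, hx⟩, hx1⟩⟩ => by
        have : Subgroup.zpowers x = H := Subgroup.eq_of_le_of_card_ge (Subgroup.zpowers_le.2 hx)
          (by rw [hH, Nat.card_zpowers, pow_one, orderOf_eq_prime (hexp x) fun h => hx1 (Subtype.ext h)])
        subst this
        rfl }
  have h1 := Nat.card_congr e
  have h2 : ∀ H : T, Nat.card {x : H.1 // x ≠ 1} = p - 1 := fun H => by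
    have := card_ne_add_one (1 : H.1)
    have hH : Nat.card H.1 = p := H.2.trans (pow_one p)
    omega
  have h3 := card_ne_add_one (1 : G)
  rw [h1, Nat.card_sigma, Finset.sum_congr rfl fun H _ => h2 H, Finset.sum_const, Finset.card_univ,
    smul_eq_mul, ← Nat.card_eq_fintype_card, hcard] at h3
  have hc : cnt G p 1 = Nat.card T := rfl
  obtain ⟨q, hq⟩ : ∃ q, p = q + 2 := ⟨p - 2, by have := hp.out.two_le; omega⟩
  rw [hc]
  refine Nat.eq_of_mul_eq_mul_right (show 0 < p - 1 by omega) ?_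
  subst hq
  rw [show q + 2 - 1 = q + 1 from rfl] at h3 ⊢
  nlinarith

/-- The hyperplanes of an elementary abelian group. -/
theorem cnt_hyperplanes {V : Type*} [Group V] [Finite V] (hcomm : ∀ a b : V, a * b = b * a)
    (hexp : ∀ x : V, x ^ p = 1) {d : ℕ} (hcard : Nat.card V = p ^ (d + 2)) :
    cnt V p (d + 1) ≡ 1 + p [MOD p ^ 2] := by
  classical
  have hn : ∀ H : Subgroup V, H.Normal := fun H => ⟨fun n hn g => by rwa [hcomm g n, mul_inv_cancel_right]⟩
  have hd : p ^ (d + 1) ∣ Nat.card V := hcard ▸ pow_dvd_pow p (by omega)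
  obtain ⟨M0, hM0⟩ := Sylow.exists_subgroup_card_pow_prime p hd
  let T := {H : Subgroup V // Nat.card H = p ^ (d + 1)}
  let m0 : T := ⟨M0, hM0⟩
  let B := {D : Subgroup V // D ≤ M0 ∧ Nat.card D = p ^ d}
  haveI : Fintype B := Fintype.ofFinite B
  have hinf : ∀ M : T, M ≠ m0 → Nat.card ↥(M.1 ⊓ M0) = p ^ d := by
    intro M hM
    haveI := hn M0
    have hsup : M.1 ⊔ M0 = ⊤ := by
      have hle : p ^ (d + 1) < Nat.card ↥(M.1 ⊔ M0) := by
        refine lt_of_le_of_ne (hM0.ge.trans (Subgroup.card_le_of_le le_sup_right)) fun e => hM (Subtype.ext ?_)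
        have h1 : M0 = M.1 ⊔ M0 := Subgroup.eq_of_le_of_card_ge le_sup_right (by rw [← e, hM0])
        exact Subgroup.eq_of_le_of_card_ge (le_sup_left.trans h1.ge) (by rw [M.2]; exact hM0.le)
      obtain ⟨i, hi, hi'⟩ := (Nat.dvd_prime_pow hp.out).1 (hcard ▸ Subgroup.card_subgroup_dvd_card (M.1 ⊔ M0))
      rw [hi', Nat.pow_lt_pow_iff_right hp.out.one_lt] at hle
      exact Subgroup.eq_top_of_card_eq _ (by rw [hi', hcard, show i = d + 2 by omega])
    have h1 := Grp.card_sup_mul_card_inf_normal (H := M.1) (N := M0)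
    rw [hsup, Subgroup.card_top, hcard, M.2, hM0] at h1
    refine Nat.eq_of_mul_eq_mul_left (pow_pos hp.out.pos (d + 2)) (h1.trans ?_)
    ring
  let e : {M : T // M ≠ m0} ≃ Σ D : B, {M : {M : Subgroup V // D.1 ≤ M ∧ Nat.card M = p ^ (d + 1)} //
      M ≠ ⟨M0, D.2.1, hM0⟩} :=
    { toFun := fun M => ⟨⟨M.1.1 ⊓ M0, inf_le_right, hinf M.1 M.2⟩, ⟨⟨M.1.1, inf_le_left, M.1.2⟩,
        fun h => M.2 (Subtype.ext (congrArg Subtype.val h :))⟩⟩
      invFun := fun w => ⟨⟨w.2.1.1, w.2.1.2.2⟩, fun h => w.2.2 (Subtype.ext (congrArg Subtype.val h :))⟩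
      left_inv := fun M => rfl
      right_inv := fun ⟨⟨D, hD⟩, ⟨⟨M, hM⟩, hne⟩⟩ => by
        have : M ⊓ M0 = D := (Subgroup.eq_of_le_of_card_ge (le_inf hM.1 hD.1)
          (le_of_eq ((hinf ⟨M, hM.2⟩ fun h => hne (Subtype.ext (congrArg Subtype.val h :))).trans hD.2.symm))).symm
        subst this
        rfl }
  have hfib : ∀ D : B, Nat.card {M : {M : Subgroup V // D.1 ≤ M ∧ Nat.card M = p ^ (d + 1)} //
      M ≠ ⟨M0, D.2.1, hM0⟩} = p := by
    intro D
    haveI := hn D.1
    have h1 := card_ne_add_one (⟨M0, D.2.1, hM0⟩ : {M : Subgroup V // D.1 ≤ M ∧ Nat.card M = p ^ (d + 1)})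
    have hq : Nat.card (V ⧸ D.1) = p ^ 2 := by
      refine Nat.eq_of_mul_eq_mul_right (Nat.card_pos (α := D.1)) ?_
      rw [← Subgroup.card_eq_card_quotient_mul_card_subgroup, hcard, D.2.2]; ring
    have h2 := card_over (p := p) D.1 1
    rw [cnt_lines (fun x => by
      obtain ⟨y, rfl⟩ := QuotientGroup.mk'_surjective D.1 x
      rw [← map_pow, hexp, map_one]) hq] at h2
    have h3 : Nat.card {M : Subgroup V // D.1 ≤ M ∧ Nat.card M = p ^ (d + 1)} = p + 1 := by
      rw [← h2, D.2.2, ← pow_add]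
    omega
  have h1 := card_ne_add_one m0
  rw [Nat.card_congr e, Nat.card_sigma, Finset.sum_congr rfl fun D _ => hfib D, Finset.sum_const,
    Finset.card_univ, smul_eq_mul, ← Nat.card_eq_fintype_card] at h1
  have h2 : Nat.card B ≡ 1 [MOD p] := by
    show Nat.card {D : Subgroup V // D ≤ M0 ∧ Nat.card D = p ^ d} ≡ 1 [MOD p]
    rw [card_under]
    exact cnt_modEq (hM0 ▸ pow_dvd_pow p (by omega))
  show Nat.card T ≡ _ [MOD _]
  rw [← h1, add_comm 1 p]
  refine Nat.ModEq.add_right 1 ?_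
  rw [pow_two]
  simpa using Nat.ModEq.mul_right' p h2

theorem cast_mul_eq {a b : ℕ} (h : a ≡ b [MOD p]) : (p : ZMod (p ^ 2)) * a = (p : ZMod (p ^ 2)) * b := by
  rw [← Nat.cast_mul, ← Nat.cast_mul, ZMod.natCast_eq_natCast_iff, pow_two]
  exact Nat.ModEq.mul_left' p h

theorem quot_elementary (hG : IsPGroup p G) (N : Subgroup G) [N.Normal] (hN : frattini G ≤ N) :
    (∀ a b : G ⧸ N, a * b = b * a) ∧ ∀ x : G ⧸ N, x ^ p = 1 := by
  constructor
  · intro a b
    obtain ⟨a, rfl⟩ := QuotientGroup.mk'_surjective N a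
    obtain ⟨b, rfl⟩ := QuotientGroup.mk'_surjective N b
    rw [← map_mul, ← map_mul]
    refine QuotientGroup.eq.2 (hN (Grp.pGroup_commutator_le_frattini hG ?_))
    rw [show (a * b)⁻¹ * (b * a) = b⁻¹ * a⁻¹ * (b⁻¹)⁻¹ * (a⁻¹)⁻¹ by group]
    exact Subgroup.commutator_mem_commutator (Subgroup.mem_top _) (Subgroup.mem_top _)
  · intro x
    obtain ⟨x, rfl⟩ := QuotientGroup.mk'_surjective N x
    rw [← map_pow]
    exact (QuotientGroup.eq_one_iff _).2 (hN (Grp.pGroup_pow_mem_frattini hG x))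

theorem normal_of_frattini_le (hG : IsPGroup p G) {W : Subgroup G} (hW : frattini G ≤ W) : W.Normal := by
  refine ⟨fun n hn g => ?_⟩
  have : g * n * g⁻¹ * n⁻¹ ∈ W := hW (Grp.pGroup_commutator_le_frattini hG
    (Subgroup.commutator_mem_commutator (Subgroup.mem_top g) (Subgroup.mem_top n)))
  simpa using mul_mem this hn

theorem coatom_of_card {m : ℕ} (hG : Nat.card G = p ^ (m + 1)) {M : Subgroup G} (hM : Nat.card M = p ^ m) :
    IsCoatom M := by
  refine ⟨fun e => ?_, fun K hK => ?_⟩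
  · rw [e, Subgroup.card_top, hG] at hM
    have := Nat.pow_right_injective hp.out.two_le hM
    omega
  · have h1 : Nat.card M < Nat.card K := lt_of_le_of_ne (Subgroup.card_le_of_le hK.le)
      fun e => hK.ne (Subgroup.eq_of_le_of_card_ge hK.le e.ge)
    obtain ⟨i, hi, hi'⟩ := (Nat.dvd_prime_pow hp.out).1 (hG ▸ Subgroup.card_subgroup_dvd_card K)
    rw [hM, hi', Nat.pow_lt_pow_iff_right hp.out.one_lt] at h1
    exact Subgroup.eq_top_of_card_eq _ (by rw [hi', hG, show i = m + 1 by omega])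

theorem frattini_le_of_card {m : ℕ} (hG : Nat.card G = p ^ (m + 1)) {M : Subgroup G} (hM : Nat.card M = p ^ m) :
    frattini G ≤ M := frattini_le_coatom (coatom_of_card hG hM)

theorem frattini_index {m : ℕ} (hG : Nat.card G = p ^ (m + 1)) (hnc : ¬ IsCyclic G) :
    ∃ d, (frattini G).index = p ^ (d + 2) := by
  obtain ⟨d, -, hd⟩ := (Nat.dvd_prime_pow hp.out).1 (hG ▸ (frattini G).index_dvd_card)
  refine ⟨d - 2, ?_⟩
  rcases (show d ≤ 1 ∨ d = d - 2 + 2 by omega) with h | h
  · exfalso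
    haveI : IsCyclic (G ⧸ frattini G) := by
      rcases (show d = 0 ∨ d = 1 by omega) with rfl | rfl
      · haveI : Subsingleton (G ⧸ frattini G) := (Nat.card_eq_one_iff_unique.1 (by
          rw [← Subgroup.index_eq_card, hd, pow_zero])).1
        infer_instance
      · exact isCyclic_of_prime_card (p := p) (by rw [← Subgroup.index_eq_card, hd, pow_one])
    obtain ⟨g', hg'⟩ := IsCyclic.exists_generator (α := G ⧸ frattini G)
    obtain ⟨g, rfl⟩ := QuotientGroup.mk_surjective g'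
    have htop : Subgroup.zpowers g = ⊤ := frattini_nongenerating (eq_top_iff.2 fun x _ => by
      obtain ⟨i, hi⟩ := Subgroup.mem_zpowers_iff.1 (hg' (x : G ⧸ frattini G))
      rw [← QuotientGroup.mk_zpow, QuotientGroup.eq] at hi
      rw [← mul_inv_cancel_left (g ^ i) x]
      exact mul_mem (Subgroup.mem_sup_left (zpow_mem (Subgroup.mem_zpowers g) i)) (Subgroup.mem_sup_right hi))
    exact hnc ⟨⟨g, fun x => Subgroup.mem_zpowers_iff.1 (by rw [htop]; exact Subgroup.mem_top x)⟩⟩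
  · rw [hd, ← h]

/-- The maximal subgroups of a noncyclic p-group number `1 + p` modulo `p²`. -/
theorem cnt_maximal {m : ℕ} (hG : Nat.card G = p ^ (m + 1)) (hnc : ¬ IsCyclic G) :
    cnt G p m ≡ 1 + p [MOD p ^ 2] := by
  have hp' := IsPGroup.of_card hG
  obtain ⟨d, hd⟩ := frattini_index hG hnc
  obtain ⟨n, -, hn⟩ := (Nat.dvd_prime_pow hp.out).1 (hG ▸ Subgroup.card_subgroup_dvd_card (frattini G))
  have hnd : n + (d + 2) = m + 1 := by
    have := (frattini G).card_mul_index
    rw [hd, hn, hG, ← pow_add] at this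
    exact Nat.pow_right_injective hp.out.two_le this
  have he : cnt G p m = cnt (G ⧸ frattini G) p (d + 1) := by
    rw [← card_over, hn, ← pow_add, show n + (d + 1) = m by omega, cnt]
    exact Nat.card_congr (Equiv.subtypeEquivRight fun M => ⟨fun h => ⟨frattini_le_of_card hG h, h⟩, fun h => h.2⟩)
  rw [he]
  exact cnt_hyperplanes (quot_elementary hp' _ le_rfl).1 (quot_elementary hp' _ le_rfl).2
    (by rw [← Subgroup.index_eq_card, hd])

/-- P. Hall's enumeration principle modulo `p²`. -/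
theorem cnt_rec {m k : ℕ} (hG : Nat.card G = p ^ (m + 2)) (hnc : ¬ IsCyclic G) (hk : k ≤ m)
    [Fintype {M : Subgroup G // Nat.card M = p ^ (m + 1)}] :
    (cnt G p k : ZMod (p ^ 2)) + p =
      ∑ M : {M : Subgroup G // Nat.card M = p ^ (m + 1)}, (cnt M.1 p k : ZMod (p ^ 2)) := by
  classical
  have hp' := IsPGroup.of_card hG
  let T := {H : Subgroup G // Nat.card H = p ^ k}
  let Mx := {M : Subgroup G // Nat.card M = p ^ (m + 1)}
  let Dx := {D : Subgroup G // frattini G ≤ D ∧ Nat.card D = p ^ m}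
  haveI : Fintype T := Fintype.ofFinite T
  haveI : Fintype Dx := Fintype.ofFinite Dx
  let c1 : T → ℕ := fun H => Nat.card {M : Mx // H.1 ≤ M.1}
  let c2 : T → ℕ := fun H => Nat.card {D : Dx // H.1 ≤ D.1}
  have key : ∀ H : T, (c1 H : ZMod (p ^ 2)) = 1 + p * c2 H := by
    intro H
    set W := H.1 ⊔ frattini G
    haveI : W.Normal := normal_of_frattini_le hp' le_sup_right
    obtain ⟨w, -, hw⟩ := (Nat.dvd_prime_pow hp.out).1 (hG ▸ Subgroup.card_subgroup_dvd_card W)
    obtain ⟨d, -, hd⟩ := (Nat.dvd_prime_pow hp.out).1 (hG ▸ W.index_dvd_card)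
    have hwd : w + d = m + 2 := by
      have := W.card_mul_index
      rw [hd, hw, hG, ← pow_add] at this
      exact Nat.pow_right_injective hp.out.two_le this
    have hd1 : 1 ≤ d := by
      by_contra h
      have h1 : W = ⊤ := Subgroup.index_eq_one.1 (by rw [hd, show d = 0 by omega, pow_zero])
      have h2 := H.2
      rw [frattini_nongenerating h1, Subgroup.card_top, hG] at h2
      have := Nat.pow_right_injective hp.out.two_le h2
      omega
    have hc1 : c1 H = cnt (G ⧸ W) p (d - 1) := by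
      rw [← card_over, hw, ← pow_add, show w + (d - 1) = m + 1 by omega]
      exact Nat.card_congr ⟨fun M => ⟨M.1.1, sup_le M.2 (frattini_le_of_card hG M.1.2), M.1.2⟩,
        fun M => ⟨⟨M.1, M.2.2⟩, le_sup_left.trans M.2.1⟩, fun _ => rfl, fun _ => rfl⟩
    have hel := quot_elementary hp' W le_sup_right
    rcases (show d = 1 ∨ 2 ≤ d by omega) with rfl | h2
    · have hz : c2 H = 0 := by
        refine Nat.card_eq_zero.2 (Or.inl ⟨fun D => ?_⟩)
        have := Subgroup.card_le_of_le (sup_le D.2 D.1.2.1 : W ≤ D.1.1)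
        rw [hw, D.1.2.2, Nat.pow_le_pow_iff_right hp.out.one_lt] at this
        omega
      rw [hc1, hz, cnt_zero]
      simp
    obtain ⟨d, rfl⟩ : ∃ d', d = d' + 2 := ⟨d - 2, by omega⟩
    have hq : Nat.card (G ⧸ W) = p ^ (d + 2) := by rw [← Subgroup.index_eq_card, hd]
    have hc2 : c2 H = cnt (G ⧸ W) p d := by
      rw [← card_over, hw, ← pow_add, show w + d = m by omega]
      exact Nat.card_congr ⟨fun D => ⟨D.1.1, sup_le D.2 D.1.2.1, D.1.2.2⟩,
        fun D => ⟨⟨D.1, le_sup_right.trans D.2.1, D.2.2⟩, le_sup_left.trans D.2.1⟩, fun _ => rfl, fun _ => rfl⟩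
    have e1 := (ZMod.natCast_eq_natCast_iff _ _ _).2 (cnt_hyperplanes hel.1 hel.2 hq)
    rw [hc1, show d + 2 - 1 = d + 1 from rfl, e1, hc2,
      cast_mul_eq (cnt_modEq (hq ▸ pow_dvd_pow p (by omega))), Nat.cast_add, Nat.cast_one, mul_one]
  -- counting pairs in two ways
  have hM : ∑ H : T, c1 H = ∑ M : Mx, cnt M.1 p k := by
    rw [← Nat.card_sigma]
    have : ∀ M : Mx, cnt M.1 p k = Nat.card {H : T // H.1 ≤ M.1} := fun M => by
      rw [cnt, ← card_under]
      exact Nat.card_congr ⟨fun H => ⟨⟨H.1, H.2.2⟩, H.2.1⟩, fun H => ⟨H.1.1, H.2, H.1.2⟩, fun _ => rfl, fun _ => rfl⟩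
    rw [Finset.sum_congr rfl fun M _ => this M, ← Nat.card_sigma]
    exact Nat.card_congr ⟨fun w => ⟨w.2.1, w.1, w.2.2⟩, fun w => ⟨w.2.1, w.1, w.2.2⟩, fun _ => rfl, fun _ => rfl⟩
  have hD : ∑ H : T, c2 H = ∑ D : Dx, cnt D.1 p k := by
    rw [← Nat.card_sigma]
    have : ∀ D : Dx, cnt D.1 p k = Nat.card {H : T // H.1 ≤ D.1} := fun D => by
      rw [cnt, ← card_under]
      exact Nat.card_congr ⟨fun H => ⟨⟨H.1, H.2.2⟩, H.2.1⟩, fun H => ⟨H.1.1, H.2, H.1.2⟩, fun _ => rfl, fun _ => rfl⟩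
    rw [Finset.sum_congr rfl fun D _ => this D, ← Nat.card_sigma]
    exact Nat.card_congr ⟨fun w => ⟨w.2.1, w.1, w.2.2⟩, fun w => ⟨w.2.1, w.1, w.2.2⟩, fun _ => rfl, fun _ => rfl⟩
  have hDx : Nat.card Dx ≡ 1 [MOD p] := by
    obtain ⟨d, hd⟩ := frattini_index (m := m + 1) hG hnc
    obtain ⟨n, -, hn⟩ := (Nat.dvd_prime_pow hp.out).1 (hG ▸ Subgroup.card_subgroup_dvd_card (frattini G))
    have hnd : n + (d + 2) = m + 2 := by
      have := (frattini G).card_mul_index
      rw [hd, hn, hG, ← pow_add] at this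
      exact Nat.pow_right_injective hp.out.two_le this
    have := card_over (p := p) (frattini G) d
    rw [hn, ← pow_add, show n + d = m by omega] at this
    rw [show Nat.card Dx = cnt (G ⧸ frattini G) p d from this]
    exact cnt_modEq (by rw [← Subgroup.index_eq_card, hd]; exact pow_dvd_pow p (by omega))
  have hsum : (p : ZMod (p ^ 2)) * ((∑ H : T, c2 H : ℕ) : ZMod (p ^ 2)) = p := by
    rw [hD, Nat.cast_sum, Finset.mul_sum, Finset.sum_congr rfl fun (D : Dx) _ =>
      (cast_mul_eq (cnt_modEq (G := D.1) (p := p) (k := k) (by rw [D.2.2]; exact pow_dvd_pow p hk))), Finset.sum_const,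
      Finset.card_univ, ← Nat.card_eq_fintype_card, Nat.cast_one, mul_one, nsmul_eq_mul, mul_comm,
      cast_mul_eq hDx, Nat.cast_one, mul_one]
  calc (cnt G p k : ZMod (p ^ 2)) + p = ∑ H : T, (1 + (p : ZMod (p ^ 2)) * c2 H) := by
        rw [Finset.sum_add_distrib, ← Finset.mul_sum, ← Nat.cast_sum, hsum, Finset.sum_const, Finset.card_univ,
          nsmul_eq_mul, mul_one, ← Nat.card_eq_fintype_card]
        rfl
    _ = ∑ H : T, (c1 H : ZMod (p ^ 2)) := Finset.sum_congr rfl fun H _ => (key H).symm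
    _ = _ := by rw [← Nat.cast_sum, hM, Nat.cast_sum]

theorem pow_mul_aux {x y : G} (hc : x⁻¹ * y⁻¹ * x * y ∈ Subgroup.center G) (n : ℕ) :
    x * y ^ n = y ^ n * x * (x⁻¹ * y⁻¹ * x * y) ^ n := by
  induction n with
  | zero => simp
  | succ n ih =>
    set c := x⁻¹ * y⁻¹ * x * y
    have h1 : ∀ g : G, c ^ n * g = g * c ^ n := fun g => (Subgroup.mem_center_iff.1 (pow_mem hc n) g).symm
    calc x * y ^ (n + 1) = y ^ n * x * c ^ n * y := by rw [pow_succ, ← mul_assoc, ih]
      _ = y ^ n * (x * y) * c ^ n := by rw [mul_assoc _ (c ^ n), h1]; group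
      _ = y ^ n * (y * x * c) * c ^ n := by congr 2; simp only [c]; group
      _ = y ^ (n + 1) * x * c ^ (n + 1) := by rw [pow_succ y, pow_succ' c]; group

theorem mul_pow_class_two {x y : G} (hc : x⁻¹ * y⁻¹ * x * y ∈ Subgroup.center G) (n : ℕ) :
    (y * x) ^ n = y ^ n * x ^ n * (x⁻¹ * y⁻¹ * x * y) ^ (n.choose 2) := by
  induction n with
  | zero => simp
  | succ n ih =>
    set c := x⁻¹ * y⁻¹ * x * y
    have h1 : ∀ (i : ℕ) (g : G), c ^ i * g = g * c ^ i := fun i g => (Subgroup.mem_center_iff.1 (pow_mem hc i) g).symm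
    have h2 : x ^ n * y = y * x ^ n * c ^ n := by
      clear ih
      induction n with
      | zero => simp
      | succ n ih =>
        calc x ^ (n + 1) * y = x * (x ^ n * y) := by rw [pow_succ']; group
          _ = x * y * x ^ n * c ^ n := by rw [ih]; group
          _ = y * x * (c * x ^ n) * c ^ n := by congr 1; simp only [c]; group
          _ = y * x * (x ^ n * c) * c ^ n := by rw [show c * x ^ n = x ^ n * c from (Subgroup.mem_center_iff.1 hc _).symm]
          _ = _ := by rw [pow_succ' x, pow_succ' c]; group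
    calc (y * x) ^ (n + 1) = y ^ n * x ^ n * (c ^ n.choose 2 * (y * x)) := by rw [pow_succ, ih]; group
      _ = y ^ n * (x ^ n * y) * x * c ^ n.choose 2 := by rw [h1]; group
      _ = y ^ (n + 1) * x ^ n * (c ^ n * x) * c ^ n.choose 2 := by rw [h2, pow_succ]; group
      _ = y ^ (n + 1) * x ^ (n + 1) * (c ^ n * c ^ n.choose 2) := by rw [h1, pow_succ x]; group
      _ = _ := by rw [← pow_add, Nat.choose_succ_succ', Nat.choose_one_right]

/-- For odd `p`, the cyclic maximal subgroups of a noncyclic group number a multiple of `p`. -/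
theorem dvd_cyclic_maximal (hp2 : p ≠ 2) {m : ℕ} (hG : Nat.card G = p ^ (m + 3)) (hnc : ¬ IsCyclic G) :
    p ∣ Nat.card {M : Subgroup G // Nat.card M = p ^ (m + 2) ∧ IsCyclic M} := by
  have hp' := IsPGroup.of_card hG
  by_cases hex : ∃ M : Subgroup G, Nat.card M = p ^ (m + 2) ∧ IsCyclic M
  swap
  · rw [Nat.card_eq_zero.2 (Or.inl ⟨fun M => hex ⟨M.1, M.2⟩⟩)]; exact dvd_zero p
  obtain ⟨A, hA, hAc⟩ := hex
  obtain ⟨⟨a, haA⟩, ha⟩ := hAc.exists_generator
  have hAeq : A = Subgroup.zpowers a := by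
    refine le_antisymm (fun x hx => ?_) (Subgroup.zpowers_le.2 haA)
    obtain ⟨i, hi⟩ := Subgroup.mem_zpowers_iff.1 (ha ⟨x, hx⟩)
    exact ⟨i, by simpa using congrArg Subtype.val hi⟩
  have hord : orderOf a = p ^ (m + 2) := by rw [← Nat.card_zpowers, ← hAeq, hA]
  obtain ⟨d, hd⟩ := frattini_index (m := m + 2) hG hnc
  have hap : a ^ p ∈ frattini G := Grp.pGroup_pow_mem_frattini hp' a
  have hordp : orderOf (a ^ p) = p ^ (m + 1) := by
    rw [orderOf_pow' a hp.out.ne_zero, hord, Nat.gcd_eq_right (dvd_pow_self p (by omega)), pow_succ, Nat.mul_div_cancel _ hp.out.pos]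
  have hΦ : frattini G = Subgroup.zpowers (a ^ p) := by
    refine (Subgroup.eq_of_le_of_card_ge (Subgroup.zpowers_le.2 hap) ?_).symm
    rw [Nat.card_zpowers, hordp]
    refine Nat.le_of_mul_le_mul_right ?_ (pow_pos hp.out.pos 2)
    calc Nat.card (frattini G) * p ^ 2 ≤ Nat.card (frattini G) * p ^ (d + 2) :=
          Nat.mul_le_mul_left _ (Nat.pow_le_pow_right hp.out.one_le (by omega))
      _ = p ^ (m + 3) := by rw [← hd, Subgroup.card_mul_index, hG]
      _ = _ := by rw [← pow_add]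
  -- `a ^ p` is central
  have hcent : a ^ p ∈ Subgroup.center G := by
    rw [Subgroup.mem_center_iff]
    intro y
    haveI : A.Normal := normal_of_frattini_le hp' (frattini_le_of_card hG hA)
    obtain ⟨r, hr⟩ := Subgroup.mem_zpowers_iff.1 (hAeq ▸ (inferInstance : A.Normal).conj_mem a haA y)
    have hrn : ∀ n : ℕ, y ^ n * a * (y ^ n)⁻¹ = a ^ (r ^ n : ℤ) := by
      intro n
      induction n with
      | zero => simp
      | succ n ih =>
        rw [show y ^ (n + 1) * a * (y ^ (n + 1))⁻¹ = y ^ n * (y * a * y⁻¹) * (y ^ n)⁻¹ by rw [pow_succ]; group,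
          ← hr, ← conj_zpow, ih, ← zpow_mul, pow_succ]
    have hyp : y ^ p * a * (y ^ p)⁻¹ = a := by
      obtain ⟨i, hi⟩ := Subgroup.mem_zpowers_iff.1 (hΦ ▸ Grp.pGroup_pow_mem_frattini hp' y)
      rw [← hi]
      exact mul_inv_eq_iff_eq_mul.2 (((Commute.refl a).pow_left p).zpow_left i).eq
    rw [hrn] at hyp
    have hdiv : ((p ^ (m + 2) : ℕ) : ℤ) ∣ r ^ p - 1 := by
      have h1 : a ^ (r ^ p : ℤ) = a ^ (1 : ℤ) := by rw [hyp, zpow_one]
      rw [zpow_eq_zpow_iff_modEq, hord, Int.modEq_iff_dvd] at h1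
      rw [← neg_sub]; exact h1.neg_right
    have hpr : (p : ℤ) ∣ r - 1 := by
      have h1 : (p : ℤ) ∣ r ^ p - 1 := (Int.natCast_dvd_natCast.2 (dvd_pow_self p (by omega))).trans hdiv
      rw [← ZMod.intCast_zmod_eq_zero_iff_dvd, Int.cast_sub, Int.cast_pow, ZMod.pow_card] at h1
      rwa [← ZMod.intCast_zmod_eq_zero_iff_dvd, Int.cast_sub]
    have hr1 : ((p ^ (m + 1) : ℕ) : ℤ) ∣ r - 1 := by
      have hlte := Int.emultiplicity_pow_sub_pow (x := r) (y := 1) hp.out (hp.out.odd_of_ne_two hp2) hpr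
        (fun h => hp.out.not_dvd_one (Int.natCast_dvd_natCast.1 (by
          have := dvd_sub h hpr
          simpa using this))) p
      rw [one_pow, hp.out.emultiplicity_self] at hlte
      rw [Nat.cast_pow] at hdiv ⊢
      rw [pow_dvd_iff_le_emultiplicity] at hdiv ⊢
      rw [hlte] at hdiv
      refine (ENat.add_le_add_iff_right ENat.one_ne_top).1 ?_
      rw [show ((m + 2 : ℕ) : ℕ∞) = ((m + 1 : ℕ) : ℕ∞) + 1 by push_cast; rw [add_assoc]; rfl] at hdiv
      exact hdiv
    obtain ⟨s, hs⟩ := hr1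
    have : y * a ^ p * y⁻¹ = a ^ p := by
      rw [← conj_pow, ← hr, ← zpow_natCast, ← zpow_mul, show r = 1 + ((p ^ (m + 1) : ℕ) : ℤ) * s by linarith,
        add_mul, one_mul, zpow_add, show ((p ^ (m + 1) : ℕ) : ℤ) * s * (p : ℤ) = ((p ^ (m + 2) : ℕ) : ℤ) * s by push_cast; ring,
        zpow_mul, zpow_natCast a (p ^ (m + 2)), ← hord, pow_orderOf_eq_one, one_zpow, mul_one, zpow_natCast]
    exact mul_inv_eq_iff_eq_mul.1 this
  have hΦc : frattini G ≤ Subgroup.center G := hΦ ▸ Subgroup.zpowers_le.2 hcent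
  have hcom : ∀ x y : G, x⁻¹ * y⁻¹ * x * y ∈ Subgroup.center G := fun x y => hΦc (Grp.pGroup_commutator_le_frattini hp' (by
    have := Subgroup.commutator_mem_commutator (Subgroup.mem_top x⁻¹) (Subgroup.mem_top y⁻¹)
    rwa [commutatorElement_def, inv_inv, inv_inv] at this))
  have hcp : ∀ x y : G, (x⁻¹ * y⁻¹ * x * y) ^ p = 1 := fun x y => by
    have h1 := pow_mul_aux (hcom x y) p
    rw [Subgroup.mem_center_iff.1 (hΦc (Grp.pGroup_pow_mem_frattini hp' y)) x] at h1
    exact mul_eq_left.1 h1.symm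
  let f : G →* G := MonoidHom.mk' (fun x => x ^ p) fun y x => by
    show (y * x) ^ p = y ^ p * x ^ p
    obtain ⟨q, hq⟩ := hp.out.dvd_choose_self two_ne_zero (lt_of_le_of_ne hp.out.two_le (Ne.symm hp2))
    rw [mul_pow_class_two (hcom x y), hq, pow_mul, hcp, one_pow, mul_one]
  have hrange : f.range = frattini G := by
    refine le_antisymm (fun z ⟨x, hx⟩ => hx ▸ Grp.pGroup_pow_mem_frattini hp' x) ?_
    rw [hΦ]; exact Subgroup.zpowers_le.2 ⟨a, rfl⟩
  have hker : Nat.card f.ker = p ^ 2 := by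
    have h1 := f.ker.card_mul_index
    rw [Subgroup.index_ker, hrange, hΦ, Nat.card_zpowers, hordp, hG] at h1
    refine Nat.eq_of_mul_eq_mul_right (pow_pos hp.out.pos (m + 1)) (h1.trans ?_)
    ring
  -- a noncyclic maximal subgroup is `Ω Φ`
  set N0 := f.ker ⊔ frattini G
  have hN0 : Nat.card N0 = p ^ (m + 2) ∧ ¬ IsCyclic N0 := by
    have hinf : Nat.card ↥(f.ker ⊓ frattini G) = p := by
      rw [hΦ]
      have h1 : f.ker ⊓ Subgroup.zpowers (a ^ p) = Subgroup.zpowers ((a ^ p) ^ p ^ m) := by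
        refine le_antisymm ?_ (Subgroup.zpowers_le.2 ⟨?_, pow_mem (Subgroup.mem_zpowers _) _⟩)
        · rintro _ ⟨hk, i, rfl⟩
          have hk' : ((a ^ p) ^ i) ^ p = 1 := hk
          rw [← zpow_natCast, ← zpow_mul, ← orderOf_dvd_iff_zpow_eq_one, hordp] at hk'
          push_cast at hk'
          rw [pow_succ] at hk'
          obtain ⟨j, hj⟩ := Int.dvd_of_mul_dvd_mul_right (by exact_mod_cast hp.out.ne_zero) hk'
          rw [hj]
          show (a ^ p) ^ ((p : ℤ) ^ m * j) ∈ _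
          rw [zpow_mul]
          exact Subgroup.zpow_mem _ (by rw [← Nat.cast_pow, zpow_natCast]; exact Subgroup.mem_zpowers _) j
        · show ((a ^ p) ^ p ^ m) ^ p = 1
          rw [← pow_mul, ← pow_succ, ← hordp, pow_orderOf_eq_one]
      rw [h1, Nat.card_zpowers, orderOf_pow' _ (pow_ne_zero _ hp.out.ne_zero), hordp,
        Nat.gcd_eq_right (pow_dvd_pow p (by omega)), Nat.pow_div (by omega) hp.out.pos]
      simp
    constructor
    · have h1 := Grp.card_sup_mul_card_inf_normal (H := f.ker) (N := frattini G)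
      rw [hinf, hker, hΦ, Nat.card_zpowers, hordp] at h1
      rw [show N0 = f.ker ⊔ Subgroup.zpowers (a ^ p) from hΦ ▸ rfl]
      refine Nat.eq_of_mul_eq_mul_right hp.out.pos (h1.trans ?_)
      ring
    · intro hc
      haveI : IsCyclic f.ker := Subgroup.isCyclic_of_le (le_sup_left : f.ker ≤ N0)
      obtain ⟨g, hg⟩ := IsCyclic.exists_ofOrder_eq_natCard (α := f.ker)
      rw [hker] at hg
      have h2 : orderOf g ∣ p := orderOf_dvd_of_pow_eq_one (Subtype.ext (g.2 : f (g : G) = 1))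
      rw [hg] at h2
      have := Nat.le_of_dvd hp.out.pos h2
      nlinarith [hp.out.two_le]
  have huniq : ∀ M : Subgroup G, Nat.card M = p ^ (m + 2) → ¬ IsCyclic M → M = N0 := by
    intro M hM hMc
    refine (Subgroup.eq_of_le_of_card_ge (sup_le ?_ (frattini_le_of_card hG hM)) (by rw [hM]; exact hN0.1.ge)).symm
    by_contra hK
    have hlt : Nat.card ↥(f.ker ⊓ M) ≤ p := by
      obtain ⟨i, hi, hi'⟩ := (Nat.dvd_prime_pow hp.out).1 (hker ▸ Subgroup.card_dvd_of_le (inf_le_left : f.ker ⊓ M ≤ f.ker))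
      rw [hi']
      refine (Nat.pow_le_pow_right hp.out.one_le (?_ : i ≤ 1)).trans (pow_one p).le
      by_contra hlt
      refine hK (inf_eq_left.1 (Subgroup.eq_of_le_of_card_ge inf_le_left ?_))
      rw [hi', hker, show i = 2 by omega]
    set g := f.comp M.subtype
    have h1 := g.ker.card_mul_index
    rw [Subgroup.index_ker, hM] at h1
    have hkg : Nat.card g.ker ≤ p := le_trans (le_of_eq (Nat.card_congr
      ⟨fun x => (⟨x.1.1, x.2, x.1.2⟩ : ↥(f.ker ⊓ M)), fun x => ⟨⟨x.1, x.2.2⟩, x.2.1⟩, fun _ => rfl, fun _ => rfl⟩)) hlt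
    have hge : p ^ (m + 1) ≤ Nat.card g.range := by
      refine Nat.le_of_mul_le_mul_left ?_ hp.out.pos
      rw [← pow_succ', ← h1]
      exact Nat.mul_le_mul_right _ hkg
    have hrg : g.range = frattini G := Subgroup.eq_of_le_of_card_ge
      (fun z ⟨x, hx⟩ => hrange ▸ ⟨(x : G), hx⟩) (by rw [hΦ, Nat.card_zpowers, hordp]; exact hge)
    obtain ⟨⟨x, hxM⟩, hx⟩ : a ^ p ∈ g.range := hrg ▸ hap
    have hx' : x ^ p = a ^ p := hx
    refine hMc (isCyclic_of_orderOf_eq_card (⟨x, hxM⟩ : M) ?_)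
    rw [Subgroup.orderOf_mk, hM]
    refine orderOf_eq_prime_pow (fun h => ?_) ?_
    · rw [pow_succ', pow_mul, hx', ← orderOf_dvd_iff_pow_eq_one, hordp, Nat.pow_dvd_pow_iff_le_right hp.out.one_lt] at h
      omega
    · rw [pow_succ', pow_mul, hx', ← hordp, pow_orderOf_eq_one]
  have h1 := card_ne_add_one (⟨N0, hN0.1⟩ : {M : Subgroup G // Nat.card M = p ^ (m + 2)})
  have h2 : Nat.card {M : Subgroup G // Nat.card M = p ^ (m + 2) ∧ IsCyclic M} =
      Nat.card {M : {M : Subgroup G // Nat.card M = p ^ (m + 2)} // M ≠ ⟨N0, hN0.1⟩} :=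
    Nat.card_congr ⟨fun M => ⟨⟨M.1, M.2.1⟩, fun h => hN0.2 (by
      have h' : M.1 = N0 := congrArg Subtype.val h
      exact h' ▸ M.2.2)⟩, fun M => ⟨M.1.1, M.1.2, by
      by_contra h
      exact M.2 (Subtype.ext (huniq _ M.1.2 h))⟩, fun _ => rfl, fun _ => rfl⟩
  have h3 := cnt_modEq (G := G) (p := p) (k := m + 2) (hG ▸ pow_dvd_pow p (by omega))
  unfold cnt at h3
  rw [← h1, ← h2] at h3
  exact (Nat.modEq_zero_iff_dvd).1 (Nat.ModEq.add_right_cancel' 1 (by simpa using h3))

/-- Kulakoff's theorem. -/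
theorem kulakoff_odd (hp2 : p ≠ 2) : ∀ (m : ℕ) {G : Type u} [Group G] [Finite G], Nat.card G = p ^ m →
    ¬ IsCyclic G → ∀ k, 1 ≤ k → k < m → cnt G p k ≡ 1 + p [MOD p ^ 2] := by
  intro m
  induction m using Nat.strong_induction_on with
  | _ m ih =>
  intro G _ _ hG hnc k hk1 hkm
  rcases (show k + 1 = m ∨ k + 2 ≤ m by omega) with rfl | hk2
  · exact cnt_maximal hG hnc
  obtain ⟨m, rfl⟩ : ∃ m', m = m' + 3 := ⟨m - 3, by omega⟩
  classical
  haveI : Fintype {M : Subgroup G // Nat.card M = p ^ (m + 1 + 1)} := Fintype.ofFinite _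
  have hrec := cnt_rec (k := k) (m := m + 1) hG hnc (by omega)
  rw [← ZMod.natCast_eq_natCast_iff]
  have hterm : ∀ M : {M : Subgroup G // Nat.card M = p ^ (m + 1 + 1)}, (cnt M.1 p k : ZMod (p ^ 2)) =
      (1 + p) - (p : ZMod (p ^ 2)) * (if IsCyclic M.1 then 1 else 0) := by
    intro M
    by_cases hc : IsCyclic M.1
    · haveI := hc
      rw [if_pos hc, cnt_cyclic (by rw [M.2]; exact pow_dvd_pow p (by omega))]
      push_cast; ring
    · rw [if_neg hc, mul_zero, sub_zero, (ZMod.natCast_eq_natCast_iff _ _ _).2 (ih (m + 1 + 1) (by omega) M.2 hc k hk1 (by omega))]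
      push_cast; ring
  rw [Finset.sum_congr rfl fun M _ => hterm M, Finset.sum_sub_distrib, Finset.sum_const, ← Finset.mul_sum,
    Finset.card_univ, nsmul_eq_mul, Finset.sum_boole, ← Nat.card_eq_fintype_card] at hrec
  have hN : ((Nat.card {M : Subgroup G // Nat.card M = p ^ (m + 1 + 1)} : ℕ) : ZMod (p ^ 2)) = 1 + p := by
    have := (ZMod.natCast_eq_natCast_iff _ _ _).2 (cnt_maximal (m := m + 2) hG hnc)
    unfold cnt at this
    rw [this]; push_cast; ring
  have hr : (p : ZMod (p ^ 2)) * (Finset.univ.filter fun M : {M : Subgroup G // Nat.card M = p ^ (m + 1 + 1)} => IsCyclic M.1).card = 0 := by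
    rw [← Fintype.card_subtype, ← Nat.card_eq_fintype_card, cast_mul_eq (b := 0) ?_, Nat.cast_zero, mul_zero]
    rw [Nat.modEq_zero_iff_dvd, Nat.card_congr (Equiv.subtypeSubtypeEquivSubtypeInter _ fun M : Subgroup G => IsCyclic M)]
    exact dvd_cyclic_maximal hp2 hG hnc
  rw [hN, hr] at hrec
  have hpp : (p : ZMod (p ^ 2)) * p = 0 := by rw [← Nat.cast_mul, ← pow_two, ZMod.natCast_self]
  push_cast
  linear_combination hrec + hpp

end Cfsg.Agent.Transfer.Kulakoff
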