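import Mathlib
import Cfsg.Agent.Lib.Transfer.Kulakoff
import Cfsg.Agent.Lib.Transfer.MaxClass
import Cfsg.Agent.Lib.Recog.MaxClass

/-!
# Kulakoff's theorem for p = 2

For a noncyclic 2-group whose derived subgroup does not have index four (that is, not of maximal
class) the number of subgroups of each intermediate order is `3` modulo `4`.
-/

set_option autoImplicit false
set_option linter.unusedSectionVars false
set_option maxHeartbeats 1000000

namespace Cfsg.Agent.Transfer.KulakoffTwo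

open Cfsg.Agent
open scoped commutatorElement

universe u

variable {G : Type*} [Group G] [Finite G]

theorem card_or {α : Type*} [Finite α] (q r : α → Prop) (h : ∀ x, q x → ¬ r x) :
    Nat.card {x // q x ∨ r x} = Nat.card {x // q x} + Nat.card {x // r x} := by
  classical
  haveI := Fintype.ofFinite α
  simp only [Nat.card_eq_fintype_card, Fintype.card_subtype]
  rw [← Finset.card_union_of_disjoint (Finset.disjoint_filter.2 fun x _ => h x), ← Finset.filter_or]

theorem commutator_map (M : Subgroup G) : (commutator M).map M.subtype = ⁅M, M⁆ := by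
  rw [commutator_def, Subgroup.map_commutator, ← MonoidHom.range_eq_map, Subgroup.range_subtype]

theorem card_commutator_sub (M : Subgroup G) : Nat.card (commutator M) = Nat.card ↥(⁅M, M⁆ : Subgroup G) := by
  rw [← commutator_map, Subgroup.card_map_of_injective M.subtype_injective]

theorem index_four_iff {M : Subgroup G} {n : ℕ} (hM : Nat.card M = 2 ^ (n + 2)) :
    (commutator M).index = 4 ↔ Nat.card ↥(⁅M, M⁆ : Subgroup G) = 2 ^ n := by
  have h := (commutator M).card_mul_index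
  rw [hM, card_commutator_sub] at h
  constructor
  · intro h4
    rw [h4, show 2 ^ (n + 2) = 2 ^ n * 4 by ring] at h
    omega
  · intro hc
    rw [hc, show 2 ^ (n + 2) = 2 ^ n * 4 by ring] at h
    exact Nat.eq_of_mul_eq_mul_left (Nat.two_pow_pos n) h

theorem index_cases {n : ℕ} (hG : Nat.card G = 2 ^ n) (hn : 2 ≤ n) :
    ∃ j, 2 ≤ j ∧ (commutator G).index = 2 ^ j := by
  obtain ⟨j, hj, -, hje⟩ := MaxClass.commutator_index_ge (p := 2) hG hn
  exact ⟨j, hj, hje⟩

theorem not_cyclic_of_index_four {n : ℕ} (hG : Nat.card G = 2 ^ (n + 3)) (h4 : (commutator G).index = 4) :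
    ¬ IsCyclic G := fun hc => by
  haveI := hc
  let := IsCyclic.commGroup (α := G)
  have : commutator G = ⊥ := eq_bot_iff.2 (Subgroup.commutator_le.2 fun a _ b _ => Subgroup.mem_bot.2 (by
    rw [commutatorElement_eq_one_iff_mul_comm, mul_comm]))
  rw [this, Subgroup.index_bot, hG, show 2 ^ (n + 3) = 2 ^ n * 8 by ring] at h4
  have := Nat.two_pow_pos n
  omega

theorem maxclass_frame {m : ℕ} (hG : Nat.card G = 2 ^ (m + 3)) (h4 : (commutator G).index = 4) :
    ∃ a x : G, orderOf a = 2 ^ (m + 2) ∧ (Subgroup.zpowers a).index = 2 ∧ x ∉ Subgroup.zpowers a ∧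
      x * a ^ 2 * x⁻¹ = (a ^ 2)⁻¹ ∧ (m = 0 → x * a * x⁻¹ = a⁻¹) := by
  have hne : commutator G ≠ ⊥ := fun e => by
    rw [e, Subgroup.index_bot, hG, show 2 ^ (m + 3) = 2 ^ m * 8 by ring] at h4
    have := Nat.two_pow_pos m
    omega
  obtain ⟨k, a, x, ha, hidx, hx, -, hcase⟩ := MaxClass.shape (IsPGroup.of_card hG) h4 hne
  have hk : k = m := by
    have h := (Subgroup.zpowers a).card_mul_index
    rw [hidx, Nat.card_zpowers, ha, hG, ← pow_succ] at h
    have := Nat.pow_right_injective le_rfl h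
    omega
  subst hk
  refine ⟨a, x, ha, hidx, hx, ?_, fun h0 => ?_⟩
  · rcases hcase with ⟨h, -⟩ | ⟨h, -⟩ | ⟨-, h, -⟩
    · rw [← conj_pow, h, inv_pow]
    · rw [← conj_pow, h, inv_pow]
    · rw [← conj_pow, h]
      refine eq_inv_of_mul_eq_one_left ?_
      rw [← pow_mul, ← pow_add, ← orderOf_dvd_iff_pow_eq_one, ha]
      refine dvd_of_eq ?_
      have := Nat.one_le_two_pow (n := k + 1)
      rw [pow_succ 2 (k + 1)]
      omega
  · rcases hcase with ⟨h, -⟩ | ⟨h, -⟩ | ⟨hk, -⟩
    · exact h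
    · exact h
    · omega

/-- In a 2-group of maximal class the noncyclic maximal subgroups are again of maximal class. -/
theorem maximal_index_four {m : ℕ} (hG : Nat.card G = 2 ^ (m + 4)) (h4 : (commutator G).index = 4)
    {M : Subgroup G} (hM : Nat.card M = 2 ^ (m + 3)) (hMc : ¬ IsCyclic M) : (commutator M).index = 4 := by
  haveI : Fact (Nat.Prime 2) := ⟨Nat.prime_two⟩
  obtain ⟨a, x, ha, hidx, hx, hxa, -⟩ := maxclass_frame (m := m + 1) hG h4
  have hA : Nat.card (Subgroup.zpowers a) = 2 ^ (m + 3) := by rw [Nat.card_zpowers, ha]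
  obtain ⟨b, hbM, hbA⟩ : ∃ b ∈ M, b ∉ Subgroup.zpowers a := by
    by_contra h
    push Not at h
    exact hMc (Subgroup.eq_of_le_of_card_ge h (by rw [hA, hM]) ▸ inferInstance)
  have ha2 : a ^ 2 ∈ M := Kulakoff.frattini_le_of_card (p := 2) hG hM (Grp.pGroup_pow_mem_frattini (IsPGroup.of_card hG) a)
  obtain ⟨i, hi⟩ := Subgroup.mem_zpowers_iff.1 ((Subgroup.mul_mem_iff_of_index_two hidx).2
    (iff_of_false hbA fun h => hx (inv_mem_iff.1 h)) : b * x⁻¹ ∈ Subgroup.zpowers a)
  have hb : b * a ^ 2 * b⁻¹ = (a ^ 2)⁻¹ := by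
    have : b = a ^ i * x := by rw [hi]; group
    rw [this, show a ^ i * x * a ^ 2 * (a ^ i * x)⁻¹ = a ^ i * (x * a ^ 2 * x⁻¹) * (a ^ i)⁻¹ by group, hxa]
    group
  have hmem : (a ^ 4)⁻¹ ∈ ⁅M, M⁆ := by
    have := Subgroup.commutator_mem_commutator hbM ha2
    rwa [commutatorElement_def, hb, ← mul_inv_rev, ← pow_add] at this
  have hle : Subgroup.zpowers (a ^ 4) ≤ ⁅M, M⁆ := Subgroup.zpowers_le.2 (inv_mem_iff.1 hmem)
  have hc : 2 ^ (m + 1) ≤ Nat.card ↥(⁅M, M⁆ : Subgroup G) := by
    refine le_trans (le_of_eq ?_) (Subgroup.card_le_of_le hle)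
    rw [Nat.card_zpowers, orderOf_pow' a (by norm_num), ha, show (4 : ℕ) = 2 ^ 2 from rfl,
      Nat.gcd_eq_right (pow_dvd_pow 2 (by omega)), Nat.pow_div (by omega) two_pos]
    congr 1
  obtain ⟨j, hj, hje⟩ := index_cases hM (by omega)
  have h := (commutator M).card_mul_index
  rw [hje, hM, card_commutator_sub] at h
  refine (index_four_iff (n := m + 1) hM).2 (le_antisymm ?_ hc)
  refine Nat.le_of_mul_le_mul_right ?_ (Nat.two_pow_pos j)
  rw [h, ← pow_add]
  exact Nat.pow_le_pow_right two_pos (by omega)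

/-- A 2-group of maximal class has an odd number of cyclic maximal subgroups. -/
theorem maxclass_cyclic_odd {m : ℕ} (hG : Nat.card G = 2 ^ (m + 3)) (h4 : (commutator G).index = 4) :
    Nat.card {M : Subgroup G // Nat.card M = 2 ^ (m + 2) ∧ IsCyclic M} ≡ 1 [MOD 2] := by
  haveI : Fact (Nat.Prime 2) := ⟨Nat.prime_two⟩
  have hnc : ¬ IsCyclic G := not_cyclic_of_index_four hG h4
  obtain ⟨a, x, ha, hidx, hx, hxa, hxa0⟩ := maxclass_frame hG h4
  have hA : Nat.card (Subgroup.zpowers a) = 2 ^ (m + 2) := by rw [Nat.card_zpowers, ha]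
  have hout : ∀ M : Subgroup G, Nat.card M = 2 ^ (m + 2) → M ≠ Subgroup.zpowers a →
      ∃ i : ℤ, a ^ i * x ∈ M := by
    intro M hM hne
    obtain ⟨b, hbM, hbA⟩ : ∃ b ∈ M, b ∉ Subgroup.zpowers a := by
      by_contra h
      push Not at h
      exact hne (Subgroup.eq_of_le_of_card_ge h (by rw [hA, hM]))
    obtain ⟨i, hi⟩ := Subgroup.mem_zpowers_iff.1 ((Subgroup.mul_mem_iff_of_index_two hidx).2
      (iff_of_false hbA fun h => hx (inv_mem_iff.1 h)) : b * x⁻¹ ∈ Subgroup.zpowers a)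
    exact ⟨i, by rw [show a ^ i * x = b by rw [hi]; group]; exact hbM⟩
  have hone : (∀ M : Subgroup G, Nat.card M = 2 ^ (m + 2) → IsCyclic M → M = Subgroup.zpowers a) →
      Nat.card {M : Subgroup G // Nat.card M = 2 ^ (m + 2) ∧ IsCyclic M} ≡ 1 [MOD 2] := fun h => by
    have : Nat.card {M : Subgroup G // Nat.card M = 2 ^ (m + 2) ∧ IsCyclic M} = 1 := Nat.card_eq_one_iff_unique.2
      ⟨⟨fun M N => Subtype.ext ((h _ M.2.1 M.2.2).trans (h _ N.2.1 N.2.2).symm)⟩, ⟨⟨_, hA, inferInstance⟩⟩⟩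
    rw [this]
  have hfr : ∀ M : Subgroup G, Nat.card M = 2 ^ (m + 2) → a ^ 2 ∈ M := fun M hM =>
    Kulakoff.frattini_le_of_card (p := 2) hG hM (Grp.pGroup_pow_mem_frattini (IsPGroup.of_card hG) a)
  rcases Nat.eq_zero_or_pos m with rfl | hm
  · have hsq : ∀ i : ℤ, (a ^ i * x) * (a ^ i * x) = x * x := fun i => by
      calc (a ^ i * x) * (a ^ i * x) = a ^ i * (x * a ^ i * x⁻¹) * (x * x) := by group
        _ = x * x := by rw [← conj_zpow, hxa0 rfl, inv_zpow', ← zpow_add, add_neg_cancel, zpow_zero, one_mul]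
    by_cases hxx : x * x = 1
    · refine hone fun M hM hMc => ?_
      by_contra hne
      obtain ⟨⟨g, hg⟩, hgen⟩ := hMc.exists_generator
      obtain ⟨j, hj⟩ := hout M hM hne
      by_cases hgA : g ∈ Subgroup.zpowers a
      · refine hne (Subgroup.eq_of_le_of_card_ge (fun y hy => ?_) (by rw [hA, hM]))
        obtain ⟨l, hl⟩ := Subgroup.mem_zpowers_iff.1 (hgen ⟨y, hy⟩)
        rw [← show g ^ l = y by simpa using congrArg Subtype.val hl]
        exact Subgroup.zpow_mem _ hgA l
      · obtain ⟨i, hi⟩ := Subgroup.mem_zpowers_iff.1 ((Subgroup.mul_mem_iff_of_index_two hidx).2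
          (iff_of_false hgA fun h => hx (inv_mem_iff.1 h)) : g * x⁻¹ ∈ Subgroup.zpowers a)
        have h2 : (⟨g, hg⟩ : M) ^ 2 = 1 := Subtype.ext (by
          show g ^ 2 = 1
          rw [pow_two, show g = a ^ i * x by rw [hi]; group, hsq, hxx])
        have := orderOf_dvd_of_pow_eq_one h2
        rw [orderOf_eq_card_of_forall_mem_zpowers hgen, hM] at this
        norm_num at this
    · have hall : ∀ M : Subgroup G, Nat.card M = 2 ^ (0 + 2) → IsCyclic M := fun M hM => by
        by_cases hne : M = Subgroup.zpowers a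
        · subst hne; infer_instance
        obtain ⟨i, hi⟩ := hout M hM hne
        refine isCyclic_of_orderOf_eq_card (⟨_, hi⟩ : M) ?_
        rw [Subgroup.orderOf_mk, hM]
        refine orderOf_eq_prime_pow ?_ ?_
        · rw [pow_one, pow_two, hsq]; exact hxx
        · obtain ⟨j, hj, hje⟩ := (Nat.dvd_prime_pow Nat.prime_two).1 (hM ▸ Subgroup.orderOf_dvd_natCard M hi)
          rw [← orderOf_dvd_iff_pow_eq_one, hje]
          exact pow_dvd_pow 2 hj
      rw [Nat.card_congr (Equiv.subtypeEquivRight fun M : Subgroup G =>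
        (⟨fun h => h.1, fun h => ⟨h, hall M h⟩⟩ : Nat.card M = 2 ^ (0 + 2) ∧ IsCyclic M ↔ Nat.card M = 2 ^ (0 + 2)))]
      exact Kulakoff.cnt_modEq (p := 2) (hG ▸ pow_dvd_pow 2 (by omega))
  · refine hone fun M hM hMc => ?_
    by_contra hne
    obtain ⟨i, hi⟩ := hout M hM hne
    haveI := hMc
    let := IsCyclic.commGroup (α := M)
    have hcm : a ^ i * x * a ^ 2 = a ^ 2 * (a ^ i * x) :=
      congrArg Subtype.val (mul_comm (⟨_, hi⟩ : M) ⟨_, hfr M hM⟩)
    have h1 : a ^ i * (x * a ^ 2 * x⁻¹) * (a ^ i)⁻¹ = a ^ 2 := by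
      rw [show a ^ i * (x * a ^ 2 * x⁻¹) * (a ^ i)⁻¹ = a ^ i * x * a ^ 2 * (a ^ i * x)⁻¹ by group, hcm,
        mul_inv_cancel_right]
    rw [hxa] at h1
    have h2 : (a ^ 2)⁻¹ = a ^ 2 := Eq.trans (by group) h1
    rw [inv_eq_iff_mul_eq_one, ← pow_add, ← orderOf_dvd_iff_pow_eq_one, ha] at h2
    have := Nat.le_of_dvd (by norm_num) h2
    have : 2 ^ 3 ≤ 2 ^ (m + 2) := Nat.pow_le_pow_right two_pos (by omega)
    omega

open scoped Classical in
/-- The summation step: `r` of the maximal subgroups count `1`, the others `3`. -/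
theorem step {m k : ℕ} (hG : Nat.card G = 2 ^ (m + 2)) (hnc : ¬ IsCyclic G) (hk : k ≤ m)
    (bad : Subgroup G → Prop)
    (hterm : ∀ M : Subgroup G, Nat.card M = 2 ^ (m + 1) → Kulakoff.cnt M 2 k ≡ (if bad M then 1 else 3) [MOD 4]) :
    (Nat.card {M : Subgroup G // Nat.card M = 2 ^ (m + 1) ∧ bad M} ≡ 1 [MOD 2] → Kulakoff.cnt G 2 k ≡ 1 [MOD 4]) ∧
    (Nat.card {M : Subgroup G // Nat.card M = 2 ^ (m + 1) ∧ bad M} ≡ 0 [MOD 2] → Kulakoff.cnt G 2 k ≡ 3 [MOD 4]) := by
  haveI : Fact (Nat.Prime 2) := ⟨Nat.prime_two⟩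
  haveI : Fintype {M : Subgroup G // Nat.card M = 2 ^ (m + 1)} := Fintype.ofFinite _
  have hrec := Kulakoff.cnt_rec (p := 2) (k := k) (m := m) hG hnc hk
  set r := Nat.card {M : Subgroup G // Nat.card M = 2 ^ (m + 1) ∧ bad M} with hr
  have hN := Kulakoff.cnt_maximal (p := 2) (m := m + 1) hG hnc
  unfold Kulakoff.cnt at hN
  set N := Nat.card {M : Subgroup G // Nat.card M = 2 ^ (m + 1)} with hNdef
  have hsum : ((∑ M : {M : Subgroup G // Nat.card M = 2 ^ (m + 1)}, (Kulakoff.cnt M.1 2 k : ZMod (2 ^ 2))) + 2 * r) = 3 * N := by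
    have e : ∀ M : {M : Subgroup G // Nat.card M = 2 ^ (m + 1)}, (Kulakoff.cnt M.1 2 k : ZMod (2 ^ 2)) =
        3 - 2 * (if bad M.1 then 1 else 0) := fun M => by
      rw [(ZMod.natCast_eq_natCast_iff _ _ _).2 (hterm M.1 M.2)]
      split <;> norm_num
    rw [Finset.sum_congr rfl fun M _ => e M, Finset.sum_sub_distrib, Finset.sum_const, ← Finset.mul_sum,
      Finset.card_univ, nsmul_eq_mul, Finset.sum_boole, ← Fintype.card_subtype, ← Nat.card_eq_fintype_card,
      ← Nat.card_eq_fintype_card, Nat.card_congr (Equiv.subtypeSubtypeEquivSubtypeInter _ bad), ← hr, ← hNdef]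
    ring
  rw [← hrec] at hsum
  have hN' : (N : ZMod (2 ^ 2)) = 3 := by
    rw [(ZMod.natCast_eq_natCast_iff _ _ _).2 hN]; rfl
  rw [hN'] at hsum
  constructor <;> intro hr2 <;>
    (have h2 : ((2 : ℕ) : ZMod (2 ^ 2)) * r = _ := Kulakoff.cast_mul_eq (p := 2) hr2
     rw [show (4 : ℕ) = 2 ^ 2 from rfl, ← ZMod.natCast_eq_natCast_iff]
     push_cast at h2 hsum ⊢
     rw [h2] at hsum
     revert hsum
     generalize (Kulakoff.cnt G 2 k : ZMod (2 ^ 2)) = c
     revert c
     decide)

/-- Subgroups of a 2-group of maximal class. -/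
theorem cnt_maxclass : ∀ (n : ℕ) {G : Type u} [Group G] [Finite G], Nat.card G = 2 ^ n → 3 ≤ n →
    (commutator G).index = 4 → ∀ k, 1 ≤ k → k + 2 ≤ n → Kulakoff.cnt G 2 k ≡ 1 [MOD 4] := by
  intro n
  induction n using Nat.strong_induction_on with
  | _ n ih =>
  intro G _ _ hG hn h4 k hk1 hk2
  haveI : Fact (Nat.Prime 2) := ⟨Nat.prime_two⟩
  obtain ⟨m, rfl⟩ : ∃ m, n = m + 3 := ⟨n - 3, by omega⟩
  have hnc : ¬ IsCyclic G := not_cyclic_of_index_four hG h4
  by_cases hkm : k = m + 1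
  · refine (step (m := m + 1) (k := k) hG hnc (by omega) (fun M => IsCyclic M) fun M hM => ?_).1 ?_
    · split
      · rename_i hc; haveI := hc; rw [Kulakoff.cnt_cyclic (hM ▸ pow_dvd_pow 2 (by omega))]
      · rename_i hc; subst hkm
        exact Kulakoff.cnt_maximal (p := 2) hM hc
    · exact maxclass_cyclic_odd hG h4
  · obtain ⟨l, rfl⟩ : ∃ l, m = l + 1 := ⟨m - 1, by omega⟩
    refine (step (m := l + 1 + 1) (k := k) hG hnc (by omega) (fun _ => True) fun M hM => ?_).1 ?_
    · rw [if_pos trivial]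
      by_cases hc : IsCyclic M
      · haveI := hc; rw [Kulakoff.cnt_cyclic (hM ▸ pow_dvd_pow 2 (by omega))]
      · exact ih (l + 3) (by omega) hM (by omega) (maximal_index_four (m := l) hG h4 hM hc) k hk1 (by omega)
    · rw [Nat.card_congr (Equiv.subtypeEquivRight fun M : Subgroup G => and_iff_left trivial)]
      exact Kulakoff.cnt_modEq (p := 2) (hG ▸ pow_dvd_pow 2 (by omega))

/-- Outside maximal class the cyclic maximal subgroups come in pairs. -/
theorem cyclic_even {m : ℕ} (hG : Nat.card G = 2 ^ (m + 3)) (hnc : ¬ IsCyclic G) (h4 : (commutator G).index ≠ 4) :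
    Nat.card {M : Subgroup G // Nat.card M = 2 ^ (m + 2) ∧ IsCyclic M} ≡ 0 [MOD 2] := by
  haveI hp : Fact (Nat.Prime 2) := ⟨Nat.prime_two⟩
  by_cases hex : ∃ M : Subgroup G, Nat.card M = 2 ^ (m + 2) ∧ IsCyclic M
  swap
  · rw [Nat.card_eq_zero.2 (Or.inl ⟨fun M => hex ⟨M.1, M.2⟩⟩)]
  obtain ⟨A, hA, hAc⟩ := hex
  obtain ⟨a, rfl⟩ : ∃ a, A = Subgroup.zpowers a := by
    obtain ⟨a, ha⟩ := (Subgroup.isCyclic_iff_exists_zpowers_eq_top A).1 hAc
    exact ⟨a, ha.symm⟩
  have hp2 := IsPGroup.of_card hG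
  have hidx : (Subgroup.zpowers a).index = 2 := by
    have h := (Subgroup.zpowers a).card_mul_index
    rw [hA, hG, pow_succ 2 (m + 2)] at h
    exact Nat.eq_of_mul_eq_mul_left (Nat.two_pow_pos _) h
  have hord : orderOf a = 2 ^ (m + 2) := by rw [← Nat.card_zpowers, hA]
  have hap : a ^ 2 ∈ frattini G := Grp.pGroup_pow_mem_frattini hp2 a
  have hordp : orderOf (a ^ 2) = 2 ^ (m + 1) := by
    rw [orderOf_pow' a two_ne_zero, hord, Nat.gcd_eq_right (dvd_pow_self 2 (by omega)), pow_succ, Nat.mul_div_cancel _ two_pos]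
  have hΦ : frattini G = Subgroup.zpowers (a ^ 2) := by
    refine (Subgroup.eq_of_le_of_card_ge (Subgroup.zpowers_le.2 hap) ?_).symm
    obtain ⟨d, hd⟩ := Kulakoff.frattini_index (p := 2) (m := m + 2) hG hnc
    rw [Nat.card_zpowers, hordp]
    refine Nat.le_of_mul_le_mul_right ?_ (Nat.two_pow_pos 2)
    calc Nat.card (frattini G) * 2 ^ 2 ≤ Nat.card (frattini G) * 2 ^ (d + 2) :=
          Nat.mul_le_mul_left _ (Nat.pow_le_pow_right two_pos (by omega))
      _ = 2 ^ (m + 3) := by rw [← hd, Subgroup.card_mul_index, hG]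
      _ = _ := by rw [← pow_add]
  have hlt : Nat.card (frattini G) = 2 ^ (m + 1) := by rw [hΦ, Nat.card_zpowers, hordp]
  have hcomle : commutator G ≤ frattini G := Grp.pGroup_commutator_le_frattini hp2
  have hsmall : Nat.card (commutator G) < 2 ^ (m + 1) := by
    refine lt_of_le_of_ne (hlt ▸ Subgroup.card_le_of_le hcomle) fun e => h4 ?_
    have h := (commutator G).card_mul_index
    rw [e, hG, show 2 ^ (m + 3) = 2 ^ (m + 1) * 4 by ring] at h
    exact Nat.eq_of_mul_eq_mul_left (Nat.two_pow_pos _) h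
  -- the Frattini subgroup is central
  have hcent : a ^ 2 ∈ Subgroup.center G := by
    rw [Subgroup.mem_center_iff]
    intro y
    haveI : (Subgroup.zpowers a).Normal := Subgroup.normal_of_index_eq_two hidx
    obtain ⟨r, hr⟩ := Subgroup.mem_zpowers_iff.1
      ((inferInstance : (Subgroup.zpowers a).Normal).conj_mem a (Subgroup.mem_zpowers a) y)
    have hyp : y ^ 2 * a * (y ^ 2)⁻¹ = a := by
      obtain ⟨i, hi⟩ := Subgroup.mem_zpowers_iff.1 (hΦ ▸ Grp.pGroup_pow_mem_frattini hp2 y)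
      rw [← hi]
      exact mul_inv_eq_iff_eq_mul.2 (((Commute.refl a).pow_left 2).zpow_left i).eq
    have hrr : (2 : ℤ) ^ (m + 2) ∣ r * r - 1 := by
      rw [show y ^ 2 * a * (y ^ 2)⁻¹ = y * (y * a * y⁻¹) * y⁻¹ by rw [pow_two]; group, ← hr, ← conj_zpow, ← hr,
        ← zpow_mul] at hyp
      have h1 : a ^ (r * r) = a ^ (1 : ℤ) := by rw [hyp, zpow_one]
      rw [zpow_eq_zpow_iff_modEq, hord, Int.modEq_iff_dvd] at h1
      push_cast at h1
      rw [← neg_sub]; exact h1.neg_right
    have hr1 : (2 : ℤ) ^ (m + 1) ∣ r - 1 := by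
      rcases Cfsg.Agent.MaxClass.two_pow_dvd_sq (m := m + 2) (by omega) hrr with h | h
      · exact h
      rcases Nat.eq_zero_or_pos m with rfl | hm
      · have h' : (2 : ℤ) ∣ r + 1 := by simpa using h
        simp only [zero_add, pow_one]
        omega
      exfalso
      obtain ⟨s, hs⟩ := h
      rw [show m + 2 - 1 = m + 1 by omega] at hs
      have hmem : a ^ (r - 1) ∈ commutator G := by
        have := Subgroup.commutator_mem_commutator (Subgroup.mem_top y) (Subgroup.mem_top a)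
        rwa [commutatorElement_def, ← hr, ← zpow_neg_one, ← zpow_add] at this
      have hcop : IsCoprime (2 ^ (m + 1) : ℤ) ((2 : ℤ) ^ m * s - 1) := by
        refine IsCoprime.pow_left ?_
        exact ⟨(2 : ℤ) ^ (m - 1) * s, -1, by
          have : (2 : ℤ) ^ m = 2 ^ (m - 1) * 2 := by rw [← pow_succ, Nat.sub_add_cancel hm]
          rw [this]; ring⟩
      obtain ⟨u, v, huv⟩ := hcop
      have hge : Subgroup.zpowers (a ^ 2) ≤ commutator G := by
        refine Subgroup.zpowers_le.2 ?_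
        have h2 : (a ^ 2) = (a ^ (r - 1)) ^ v := by
          rw [← zpow_mul, ← zpow_natCast, zpow_eq_zpow_iff_modEq, hord, Int.modEq_iff_dvd]
          refine ⟨-u, ?_⟩
          push_cast
          have e : r - 1 = 2 * ((2 : ℤ) ^ m * s - 1) := by rw [mul_sub, ← mul_assoc, ← pow_succ', mul_one]; linarith
          have e2 : (2 : ℤ) ^ (m + 2) = 2 * 2 ^ (m + 1) := by rw [← pow_succ']
          rw [e, e2]
          linear_combination 2 * huv
        rw [h2]
        exact Subgroup.zpow_mem _ hmem v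
      have := Subgroup.card_le_of_le hge
      rw [Nat.card_zpowers, hordp] at this
      omega
    obtain ⟨s, hs⟩ := hr1
    have : y * a ^ 2 * y⁻¹ = a ^ 2 := by
      rw [← conj_pow, ← hr, ← zpow_natCast, ← zpow_mul, show r = 1 + (2 : ℤ) ^ (m + 1) * s by linarith,
        add_mul, one_mul, zpow_add, show (2 : ℤ) ^ (m + 1) * s * ((2 : ℕ) : ℤ) = ((2 ^ (m + 2) : ℕ) : ℤ) * s by push_cast; ring,
        zpow_mul, zpow_natCast a (2 ^ (m + 2)), ← hord, pow_orderOf_eq_one, one_zpow, mul_one, zpow_natCast]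
    exact mul_inv_eq_iff_eq_mul.1 this
  have hΦc : frattini G ≤ Subgroup.center G := hΦ ▸ Subgroup.zpowers_le.2 hcent
  have hcom : ∀ x y : G, x⁻¹ * y⁻¹ * x * y ∈ commutator G := fun x y => by
    have := Subgroup.commutator_mem_commutator (Subgroup.mem_top x⁻¹) (Subgroup.mem_top y⁻¹)
    rwa [commutatorElement_def, inv_inv, inv_inv] at this
  have hc2 : ∀ x y : G, (x⁻¹ * y⁻¹ * x * y) ^ 2 = 1 := fun x y => by
    have h1 := Kulakoff.pow_mul_aux (hΦc (hcomle (hcom x y))) 2
    rw [Subgroup.mem_center_iff.1 (hΦc (Grp.pGroup_pow_mem_frattini hp2 y)) x] at h1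
    exact mul_eq_left.1 h1.symm
  have hc1 : m = 0 → ∀ x y : G, x⁻¹ * y⁻¹ * x * y = 1 := fun h0 x y => by
    have : commutator G = ⊥ := Subgroup.card_eq_one.1 (by
      subst h0
      have := Nat.card_pos (α := commutator G)
      omega)
    exact Subgroup.mem_bot.1 (this ▸ hcom x y)
  -- an element outside `⟨a⟩` with square of order at most two
  obtain ⟨b, hb⟩ : ∃ b, b ∉ Subgroup.zpowers a := by
    by_contra h
    push Not at h
    rw [show Subgroup.zpowers a = ⊤ from eq_top_iff.2 fun g _ => h g, Subgroup.index_top] at hidx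
    omega
  obtain ⟨i, hi⟩ := Subgroup.mem_zpowers_iff.1 (hΦ ▸ Grp.pGroup_pow_mem_frattini hp2 b)
  set b0 := b * (a ^ i)⁻¹ with hb0
  have hb0A : b0 ∉ Subgroup.zpowers a := fun h => hb (by
    have := mul_mem h (zpow_mem (Subgroup.mem_zpowers a) i)
    rwa [hb0, inv_mul_cancel_right] at this)
  set c := (a ^ i)⁻¹⁻¹ * b⁻¹ * (a ^ i)⁻¹ * b with hcdef
  have hb0sq : b0 ^ 2 = c := by
    rw [hb0, Kulakoff.mul_pow_class_two (hΦc (hcomle (hcom _ _))) 2, ← hi, ← hcdef]
    rw [show (2 : ℕ).choose 2 = 1 from rfl, pow_one, inv_pow, ← zpow_natCast (a ^ i), ← zpow_mul, ← zpow_natCast a 2, ← zpow_mul,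
      mul_comm i, mul_inv_cancel, one_mul]
  have hb0pow : b0 ^ 2 ^ (m + 1) = 1 := by
    rcases Nat.eq_zero_or_pos m with rfl | hm
    · rw [show 2 ^ (0 + 1) = 2 from rfl, hb0sq]; exact hc1 rfl _ _
    · rw [show 2 ^ (m + 1) = 2 * (2 * 2 ^ (m - 1)) by rw [← pow_succ', ← pow_succ', Nat.sub_add_cancel hm], pow_mul,
        hb0sq, pow_mul, hcdef, hc2, one_pow]
  set W := frattini G ⊔ Subgroup.zpowers b0
  have hWtop : W ≠ ⊤ := fun e => hnc (by
    have h2 : Subgroup.zpowers b0 = ⊤ := frattini_nongenerating (by rwa [sup_comm])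
    exact isCyclic_iff_exists_zpowers_eq_top.2 ⟨b0, h2⟩)
  have hWlt : 2 ^ (m + 1) < Nat.card W := by
    rw [← hlt]
    refine lt_of_le_of_ne (Subgroup.card_le_of_le le_sup_left) fun e => hb0A ?_
    have := Subgroup.eq_of_le_of_card_ge (le_sup_left : frattini G ≤ W) e.ge
    exact Kulakoff.frattini_le_of_card (p := 2) hG hA (this.ge (Subgroup.mem_sup_right (Subgroup.mem_zpowers b0)))
  have hW : Nat.card W = 2 ^ (m + 2) := by
    obtain ⟨j, hj, hje⟩ := (Nat.dvd_prime_pow Nat.prime_two).1 (hG ▸ Subgroup.card_subgroup_dvd_card W)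
    rw [hje, Nat.pow_lt_pow_iff_right one_lt_two] at hWlt
    rw [hje]
    congr 1
    by_contra h
    exact hWtop (Subgroup.eq_top_of_card_eq _ (by rw [hje, hG, show j = m + 3 by omega]))
  have hWc : ¬ IsCyclic W := by
    intro hc
    obtain ⟨⟨w, hw⟩, hwo⟩ := hc.exists_ofOrder_eq_natCard
    rw [hW, Subgroup.orderOf_mk] at hwo
    haveI : (frattini G).Normal := inferInstance
    obtain ⟨f, hf, z, hz, rfl⟩ := Subgroup.mem_sup_of_normal_left.1 hw
    obtain ⟨e, rfl⟩ := Subgroup.mem_zpowers_iff.1 hz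
    have h1 : (f * b0 ^ e) ^ 2 ^ (m + 1) = 1 := by
      have hcm : Commute f (b0 ^ e) := (Subgroup.mem_center_iff.1 (hΦc hf) _).symm
      rw [hcm.mul_pow]
      have hf1 : f ^ 2 ^ (m + 1) = 1 := by
        rw [← hlt]; exact congrArg Subtype.val (pow_card_eq_one' (x := (⟨f, hf⟩ : frattini G)))
      rw [hf1, one_mul, ← zpow_natCast, ← zpow_mul, mul_comm, zpow_mul, zpow_natCast, hb0pow, one_zpow]
    rw [← orderOf_dvd_iff_pow_eq_one, hwo, Nat.pow_dvd_pow_iff_le_right one_lt_two] at h1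
    omega
  have hiff : ∀ M : Subgroup G, Nat.card M = 2 ^ (m + 2) → (¬ IsCyclic M ↔ M = W) := by
    intro M hM
    refine ⟨fun hMc => ?_, fun e => e ▸ hWc⟩
    have hΦM := Kulakoff.frattini_le_of_card (p := 2) hG hM
    have hMidx : M.index = 2 := by
      have h := M.card_mul_index
      rw [hM, hG, pow_succ 2 (m + 2)] at h
      exact Nat.eq_of_mul_eq_mul_left (Nat.two_pow_pos _) h
    by_cases hb0M : b0 ∈ M
    · exact (Subgroup.eq_of_le_of_card_ge (sup_le hΦM (Subgroup.zpowers_le.2 hb0M)) (by rw [hW, hM])).symm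
    exfalso
    by_cases haM : a ∈ M
    · exact hMc (Subgroup.eq_of_le_of_card_ge (Subgroup.zpowers_le.2 haM) (by rw [hA, hM]) ▸ hAc)
    have hab : a * b0 ∈ M := (Subgroup.mul_mem_iff_of_index_two hMidx).2 (iff_of_false haM hb0M)
    refine hMc (isCyclic_of_orderOf_eq_card (⟨_, hab⟩ : M) ?_)
    rw [Subgroup.orderOf_mk, hM]
    set d := b0⁻¹ * a⁻¹ * b0 * a
    have hsq : (a * b0) ^ 2 = a ^ 2 * (c * d) := by
      rw [Kulakoff.mul_pow_class_two (hΦc (hcomle (hcom _ _))) 2, hb0sq, show (2 : ℕ).choose 2 = 1 from rfl, pow_one]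
      simp only [d]
      group
    have hcd : (c * d) ^ 2 ^ m = 1 := by
      rcases Nat.eq_zero_or_pos m with rfl | hm
      · have hd1 : d = 1 := hc1 rfl _ _
        rw [hcdef, hc1 rfl, hd1, one_mul, one_pow]
      · have hcm : Commute c d := (Subgroup.mem_center_iff.1 (hΦc (hcomle (hcom _ _))) _)
        have hd2 : d ^ 2 = 1 := hc2 _ _
        rw [show 2 ^ m = 2 * 2 ^ (m - 1) by rw [← pow_succ', Nat.sub_add_cancel hm], pow_mul, hcm.mul_pow, hcdef, hc2, hd2,
          one_mul, one_pow]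
    have hkey : (a * b0) ^ 2 ^ (m + 1) = a ^ 2 ^ (m + 1) := by
      rw [pow_succ', pow_mul, hsq, (show Commute (a ^ 2) (c * d) from (Subgroup.mem_center_iff.1 hcent _).symm).mul_pow,
        hcd, mul_one, ← pow_mul]
    refine orderOf_eq_prime_pow (n := m + 1) ?_ ?_
    · rw [hkey, ← orderOf_dvd_iff_pow_eq_one, hord, Nat.pow_dvd_pow_iff_le_right one_lt_two]
      omega
    · rw [pow_succ 2 (m + 1), pow_mul, hkey, ← pow_mul, ← pow_succ, ← hord, pow_orderOf_eq_one]
  have h1 := Kulakoff.card_ne_add_one (⟨W, hW⟩ : {M : Subgroup G // Nat.card M = 2 ^ (m + 2)})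
  have h2 : Nat.card {M : Subgroup G // Nat.card M = 2 ^ (m + 2) ∧ IsCyclic M} =
      Nat.card {M : {M : Subgroup G // Nat.card M = 2 ^ (m + 2)} // M ≠ ⟨W, hW⟩} :=
    Nat.card_congr ⟨fun M => ⟨⟨M.1, M.2.1⟩, fun h => hWc (by
      have h' : M.1 = W := congrArg Subtype.val h
      exact h' ▸ M.2.2)⟩, fun M => ⟨M.1.1, M.1.2, by
      by_contra h
      exact M.2 (Subtype.ext ((hiff _ M.1.2).1 h))⟩, fun _ => rfl, fun _ => rfl⟩
  have h3 := Kulakoff.cnt_modEq (G := G) (p := 2) (k := m + 2) (hG ▸ pow_dvd_pow 2 (by omega))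
  unfold Kulakoff.cnt at h3
  rw [← h1, ← h2] at h3
  exact Nat.ModEq.add_right_cancel' 1 (by simpa using h3)

/-- In a group of order 16 with derived subgroup of order two exactly three maximal subgroups are abelian. -/
theorem sixteen_abelian_maximal {Q : Type*} [Group Q] [Finite Q] (hQ : Nat.card Q = 2 ^ 4)
    (hQ' : Nat.card (commutator Q) = 2) :
    Nat.card {K : Subgroup Q // Nat.card K = 2 ^ 3 ∧ ⁅K, K⁆ = ⊥} = 3 := by
  haveI hp : Fact (Nat.Prime 2) := ⟨Nat.prime_two⟩
  have hp2 := IsPGroup.of_card hQ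
  set Z := Subgroup.center Q
  have hcZ : commutator Q ≤ Z := by
    intro t ht
    rw [Subgroup.mem_center_iff]
    intro g
    have h2 : g * t * g⁻¹ ∈ commutator Q := (inferInstance : (commutator Q).Normal).conj_mem t ht g
    by_cases ht1 : t = 1
    · rw [ht1]; group
    obtain ⟨u, v, huv, hall⟩ := Nat.card_eq_two_iff.1 hQ'
    have : ∀ s ∈ commutator Q, s ≠ 1 → s = t := fun s hs hs1 => by
      have hz := hall.ge (Set.mem_univ (⟨s, hs⟩ : commutator Q))
      have hw := hall.ge (Set.mem_univ (⟨t, ht⟩ : commutator Q))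
      have h0 := hall.ge (Set.mem_univ (1 : commutator Q))
      simp only [Set.mem_insert_iff, Set.mem_singleton_iff] at hz hw h0
      rcases hz with hz | hz <;> rcases hw with hw | hw <;> rcases h0 with h0 | h0 <;>
        first
        | exact congrArg Subtype.val (hz.trans hw.symm)
        | exact absurd (congrArg Subtype.val (hz.trans h0.symm)) hs1
        | exact absurd (congrArg Subtype.val (hw.trans h0.symm)) ht1
    exact mul_inv_eq_iff_eq_mul.1 (this _ h2 fun e => ht1 (conj_eq_one_iff.1 e))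
  have hsq : ∀ x : Q, x ^ 2 ∈ Z := by
    intro x
    rw [Subgroup.mem_center_iff]
    intro g
    have hc : g⁻¹ * x⁻¹ * g * x ∈ commutator Q := by
      have := Subgroup.commutator_mem_commutator (Subgroup.mem_top g⁻¹) (Subgroup.mem_top x⁻¹)
      rwa [commutatorElement_def, inv_inv, inv_inv] at this
    have h1 := Kulakoff.pow_mul_aux (hcZ hc) 2
    have h2 : (g⁻¹ * x⁻¹ * g * x) ^ 2 = 1 := by
      rw [← hQ']; exact congrArg Subtype.val (pow_card_eq_one' (x := (⟨_, hc⟩ : commutator Q)))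
    rw [h2, mul_one] at h1
    exact h1
  have hna : ¬ ∀ a b : Q, a * b = b * a := fun h => by
    have : commutator Q = ⊥ := eq_bot_iff.2 (Subgroup.commutator_le.2 fun a _ b _ => Subgroup.mem_bot.2 (by
      rw [commutatorElement_eq_one_iff_mul_comm, h]))
    rw [this, Subgroup.card_bot] at hQ'
    omega
  obtain ⟨x, y, hxy⟩ : ∃ x y : Q, x * y ≠ y * x := by push Not at hna; exact hna
  have hcent : ∀ g : Q, Subgroup.index (Subgroup.centralizer {g}) ≤ 2 := fun g => by
    let φ : Q →* Q := MonoidHom.mk' (fun u => u * g * u⁻¹ * g⁻¹) fun u v => by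
      have hc : v * g * v⁻¹ * g⁻¹ ∈ Z := hcZ (Subgroup.commutator_mem_commutator (Subgroup.mem_top v) (Subgroup.mem_top g))
      calc u * v * g * (u * v)⁻¹ * g⁻¹ = u * (v * g * v⁻¹ * g⁻¹) * (g * u⁻¹ * g⁻¹) := by group
        _ = (v * g * v⁻¹ * g⁻¹) * u * (g * u⁻¹ * g⁻¹) := by rw [Subgroup.mem_center_iff.1 hc u]
        _ = (v * g * v⁻¹ * g⁻¹) * (u * g * u⁻¹ * g⁻¹) := by group
        _ = _ := (Subgroup.mem_center_iff.1 hc _).symm
    have hk : φ.ker = Subgroup.centralizer {g} := by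
      ext u
      rw [MonoidHom.mem_ker, Subgroup.mem_centralizer_singleton_iff]
      show u * g * u⁻¹ * g⁻¹ = 1 ↔ _
      rw [mul_inv_eq_one, mul_inv_eq_iff_eq_mul]
    rw [← hk, Subgroup.index_ker, ← hQ']
    exact Subgroup.card_le_of_le fun z ⟨u, hu⟩ => hu ▸ Subgroup.commutator_mem_commutator (Subgroup.mem_top u) (Subgroup.mem_top g)
  have hZ : Nat.card Z = 2 ^ 2 := by
    obtain ⟨j, hj, hje⟩ := (Nat.dvd_prime_pow Nat.prime_two).1 (hQ ▸ Subgroup.card_subgroup_dvd_card Z)
    have hj3 : j < 3 := by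
      by_contra h
      haveI : IsCyclic (Q ⧸ Z) := by
        have hi := Z.card_mul_index
        rw [hje, hQ] at hi
        rcases (show j = 3 ∨ j = 4 by omega) with rfl | rfl
        · exact isCyclic_of_prime_card (p := 2) (by rw [← Subgroup.index_eq_card]; omega)
        · haveI : Subsingleton (Q ⧸ Z) := (Nat.card_eq_one_iff_unique.1 (by rw [← Subgroup.index_eq_card]; omega)).1
          infer_instance
      exact hxy ((commutative_of_cyclic_center_quotient (QuotientGroup.mk' Z) (le_of_eq (QuotientGroup.ker_mk' Z))) x y)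
    have hj1 : 1 ≤ j := by
      by_contra h
      have := Subgroup.card_le_of_le hcZ
      rw [hQ', hje, show j = 0 by omega] at this
      omega
    rcases (show j = 1 ∨ j = 2 by omega) with rfl | rfl
    · exfalso
      set D := Subgroup.centralizer {x} ⊓ Subgroup.centralizer {y}
      have hCx : Nat.card (Subgroup.centralizer {x}) = 8 := by
        have h1 := (Subgroup.centralizer {x}).card_mul_index
        have h2 := hcent x
        have h3 : (Subgroup.centralizer {x}).index ≠ 1 := fun e => hxy (Subgroup.mem_centralizer_singleton_iff.1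
          ((Subgroup.index_eq_one.1 e).ge (Subgroup.mem_top y))).symm
        have h4 : (Subgroup.centralizer {x}).index ≠ 0 := Subgroup.index_ne_zero_of_finite
        rw [show (Subgroup.centralizer {x}).index = 2 by omega, hQ] at h1
        omega
      have hD : D.index ≤ 4 := (Subgroup.index_inf_le).trans (Nat.mul_le_mul (hcent x) (hcent y))
      have hDc : 4 ≤ Nat.card D := by
        have := D.card_mul_index
        rw [hQ] at this
        nlinarith
      have hxD : x ∉ D := fun h => hxy (Subgroup.mem_centralizer_singleton_iff.1 h.2)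
      have hD4 : Nat.card D = 4 := by
        obtain ⟨i, hi, hie⟩ := (Nat.dvd_prime_pow Nat.prime_two).1
          ((show Nat.card (Subgroup.centralizer {x}) = 2 ^ 3 from hCx) ▸ Subgroup.card_dvd_of_le (inf_le_left : D ≤ Subgroup.centralizer {x}))
        have hi3 : i ≠ 3 := fun e => hxD ((Subgroup.eq_of_le_of_card_ge (inf_le_left : D ≤ Subgroup.centralizer {x})
          (by rw [hie, e, hCx]; norm_num)).ge (Subgroup.mem_centralizer_singleton_iff.2 rfl))
        have : 2 ≤ i := by
          by_contra hlt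
          have := Nat.pow_le_pow_right two_pos (show i ≤ 1 by omega)
          rw [hie] at hDc
          omega
        rw [hie, show i = 2 by omega]; norm_num
      obtain ⟨w, hwD, hwZ⟩ : ∃ w ∈ D, w ∉ Z := by
        by_contra h
        push Not at h
        have := Subgroup.card_le_of_le (show D ≤ Z from h)
        rw [hje, hD4] at this
        omega
      have hDab : ∀ u ∈ D, Commute u w := fun u hu =>
        congrArg Subtype.val ((IsPGroup.commGroupOfCardEqPrimeSq (p := 2) (G := D) hD4).mul_comm ⟨u, hu⟩ ⟨w, hwD⟩)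
      set Cw := Subgroup.centralizer {w}
      have hDw : D ≤ Cw := fun u hu => Subgroup.mem_centralizer_singleton_iff.2 (hDab u hu)
      have hxw : x ∈ Cw := Subgroup.mem_centralizer_singleton_iff.2 (Subgroup.mem_centralizer_singleton_iff.1 hwD.1).symm
      have hyw : y ∈ Cw := Subgroup.mem_centralizer_singleton_iff.2 (Subgroup.mem_centralizer_singleton_iff.1 hwD.2).symm
      have hCxw : Subgroup.centralizer {x} ≤ Cw := by
        have hsup : D ⊔ Subgroup.zpowers x = Subgroup.centralizer {x} := by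
          refine Subgroup.eq_of_le_of_card_ge (sup_le inf_le_left (Subgroup.zpowers_le.2 (Subgroup.mem_centralizer_singleton_iff.2 rfl))) ?_
          have h1 : 4 < Nat.card ↥(D ⊔ Subgroup.zpowers x) := by
            rw [← hD4]
            exact lt_of_le_of_ne (Subgroup.card_le_of_le le_sup_left) fun e => hxD
              ((Subgroup.eq_of_le_of_card_ge (le_sup_left : D ≤ D ⊔ Subgroup.zpowers x) e.ge).ge (Subgroup.mem_sup_right (Subgroup.mem_zpowers x)))
          obtain ⟨i, -, hie⟩ := (Nat.dvd_prime_pow Nat.prime_two).1 (hQ ▸ Subgroup.card_subgroup_dvd_card (D ⊔ Subgroup.zpowers x))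
          rw [hie] at h1 ⊢
          rw [hCx]
          by_contra hlt
          have : i ≤ 2 := by
            by_contra h
            have := Nat.pow_le_pow_right two_pos (show 3 ≤ i by omega)
            omega
          have := Nat.pow_le_pow_right two_pos this
          omega
        rw [← hsup]
        exact sup_le hDw (Subgroup.zpowers_le.2 hxw)
      have htop : Cw = ⊤ := by
        by_contra hne
        have h8 : Nat.card Cw ≤ 8 := by
          obtain ⟨i, hi, hie⟩ := (Nat.dvd_prime_pow Nat.prime_two).1 (hQ ▸ Subgroup.card_subgroup_dvd_card Cw)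
          rw [hie]
          refine (Nat.pow_le_pow_right two_pos (show i ≤ 3 from ?_)).trans (by norm_num)
          by_contra h
          exact hne (Subgroup.eq_top_of_card_eq _ (by rw [hie, hQ, show i = 4 by omega]))
        have := Subgroup.eq_of_le_of_card_ge hCxw (by omega)
        exact hxy (Subgroup.mem_centralizer_singleton_iff.1 (this.ge hyw)).symm
      exact hwZ (Subgroup.mem_center_iff.2 fun g => Subgroup.mem_centralizer_singleton_iff.1 (htop.ge (Subgroup.mem_top g)))
    · exact hje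
  have hq : Nat.card (Q ⧸ Z) = 2 ^ 2 := by
    refine Nat.eq_of_mul_eq_mul_right (Nat.card_pos (α := Z)) ?_
    rw [← Subgroup.card_eq_card_quotient_mul_card_subgroup, hQ, hZ]
    norm_num
  have hl := Kulakoff.card_over (p := 2) Z 1
  rw [Kulakoff.cnt_lines (fun u => by
    obtain ⟨u, rfl⟩ := QuotientGroup.mk'_surjective Z u
    rw [← map_pow]
    exact (QuotientGroup.eq_one_iff _).2 (hsq u)) hq, hZ, ← pow_add] at hl
  refine Eq.trans (Nat.card_congr (Equiv.subtypeEquivRight fun K => ?_)) hl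
  constructor
  · rintro ⟨hK, hab⟩
    refine ⟨fun z hz => ?_, hK⟩
    by_contra hzK
    have hKc : ∀ u ∈ K, ∀ v ∈ K, Commute u v := fun u hu v hv => commutatorElement_eq_one_iff_mul_comm.1
      (Subgroup.mem_bot.1 (hab ▸ Subgroup.commutator_mem_commutator hu hv))
    have hKi : K.index = 2 := by
      have h := K.card_mul_index
      rw [hK, hQ] at h
      omega
    refine hna fun u v => ?_
    have dec : ∀ g : Q, ∃ k ∈ K, g = k ∨ g = k * z := fun g => by
      by_cases hg : g ∈ K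
      · exact ⟨g, hg, Or.inl rfl⟩
      · exact ⟨g * z⁻¹, (Subgroup.mul_mem_iff_of_index_two hKi).2 (iff_of_false hg fun h => hzK (inv_mem_iff.1 h)),
          Or.inr (by group)⟩
    have hzc : ∀ g : Q, Commute z g := fun g => (Subgroup.mem_center_iff.1 hz g).symm
    obtain ⟨k, hk, hu⟩ := dec u
    obtain ⟨l, hl', hv⟩ := dec v
    rcases hu with rfl | rfl <;> rcases hv with rfl | rfl
    · exact (hKc _ hk _ hl').eq
    · exact ((hKc _ hk _ hl').mul_right (hzc _).symm).eq
    · exact ((hKc _ hk _ hl').mul_left (hzc _)).eq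
    · exact (((hKc _ hk _ hl').mul_left (hzc _)).mul_right (((hzc _).symm).mul_left (Commute.refl z))).eq
  · rintro ⟨hZK, hK⟩
    have hK' : Nat.card K = 2 ^ 3 := hK
    refine ⟨hK', ?_⟩
    rw [eq_bot_iff, Subgroup.commutator_le]
    intro u hu v hv
    rw [Subgroup.mem_bot, commutatorElement_eq_one_iff_mul_comm]
    obtain ⟨w, hwK, hwZ⟩ : ∃ w ∈ K, w ∉ Z := by
      by_contra h
      push Not at h
      have := Subgroup.card_le_of_le (show K ≤ Z from h)
      rw [hK', hZ] at this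
      omega
    have hKle : K ≤ Subgroup.centralizer {w} := by
      have h1 : Z ⊔ Subgroup.zpowers w = K := by
        refine Subgroup.eq_of_le_of_card_ge (sup_le hZK (Subgroup.zpowers_le.2 hwK)) ?_
        have h1 : 2 ^ 2 < Nat.card ↥(Z ⊔ Subgroup.zpowers w) := by
          rw [← hZ]
          exact lt_of_le_of_ne (Subgroup.card_le_of_le le_sup_left) fun e => hwZ
            ((Subgroup.eq_of_le_of_card_ge (le_sup_left : Z ≤ Z ⊔ Subgroup.zpowers w) e.ge).ge (Subgroup.mem_sup_right (Subgroup.mem_zpowers w)))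
        obtain ⟨i, -, hie⟩ := (Nat.dvd_prime_pow Nat.prime_two).1 (hQ ▸ Subgroup.card_subgroup_dvd_card (Z ⊔ Subgroup.zpowers w))
        rw [hie, Nat.pow_lt_pow_iff_right one_lt_two] at h1
        rw [hK', hie]
        exact Nat.pow_le_pow_right two_pos (by omega)
      rw [← h1]
      exact sup_le (Subgroup.center_le_centralizer _) (Subgroup.zpowers_le.2 (Subgroup.mem_centralizer_singleton_iff.2 rfl))
    -- `K = Z⟨w⟩` is abelian
    have h2 : Z ⊔ Subgroup.zpowers w ≤ Subgroup.centralizer ((K : Subgroup Q) : Set Q) :=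
      sup_le (Subgroup.center_le_centralizer _) (Subgroup.zpowers_le.2 (Subgroup.mem_centralizer_iff.2 fun g hg =>
        Subgroup.mem_centralizer_singleton_iff.1 (hKle hg)))
    have h3 : K ≤ Z ⊔ Subgroup.zpowers w := by
      have h1 : 2 ^ 2 < Nat.card ↥(Z ⊔ Subgroup.zpowers w) := by
        rw [← hZ]
        exact lt_of_le_of_ne (Subgroup.card_le_of_le le_sup_left) fun e => hwZ
          ((Subgroup.eq_of_le_of_card_ge (le_sup_left : Z ≤ Z ⊔ Subgroup.zpowers w) e.ge).ge (Subgroup.mem_sup_right (Subgroup.mem_zpowers w)))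
      obtain ⟨i, -, hie⟩ := (Nat.dvd_prime_pow Nat.prime_two).1 (hQ ▸ Subgroup.card_subgroup_dvd_card (Z ⊔ Subgroup.zpowers w))
      rw [hie, Nat.pow_lt_pow_iff_right one_lt_two] at h1
      refine (Subgroup.eq_of_le_of_card_ge (sup_le hZK (Subgroup.zpowers_le.2 hwK)) ?_).ge
      rw [hK', hie]
      exact Nat.pow_le_pow_right two_pos (by omega)
    exact Subgroup.mem_centralizer_iff.1 (h2 (h3 hv)) u hu

/-- Outside maximal class the maximal subgroups of maximal class are even in number. -/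
theorem maxclass_even {m : ℕ} (hG : Nat.card G = 2 ^ (m + 4)) (hnc : ¬ IsCyclic G)
    (h4 : (commutator G).index ≠ 4) :
    Nat.card {M : Subgroup G // Nat.card M = 2 ^ (m + 3) ∧ (commutator M).index = 4} ≡ 0 [MOD 2] := by
  haveI hp : Fact (Nat.Prime 2) := ⟨Nat.prime_two⟩
  by_cases hex : ∃ M : Subgroup G, Nat.card M = 2 ^ (m + 3) ∧ (commutator M).index = 4
  swap
  · rw [Nat.card_eq_zero.2 (Or.inl ⟨fun M => hex ⟨M.1, M.2⟩⟩)]
  obtain ⟨M, hM, hM4⟩ := hex
  have hp2 := IsPGroup.of_card hG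
  have hMM : Nat.card ↥(⁅M, M⁆ : Subgroup G) = 2 ^ (m + 1) := (index_four_iff (n := m + 1) hM).1 hM4
  have hGG : commutator G = ⁅M, M⁆ := by
    refine (Subgroup.eq_of_le_of_card_ge (Subgroup.commutator_mono le_top le_top) ?_).symm
    rw [hMM]
    obtain ⟨j, hj, hje⟩ := index_cases hG (by omega)
    have h := (commutator G).card_mul_index
    rw [hje, hG] at h
    have hj3 : 3 ≤ j := by
      by_contra hlt
      exact h4 (by rw [hje, show j = 2 by omega]; norm_num)
    refine Nat.le_of_mul_le_mul_right ?_ (Nat.two_pow_pos j)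
    show Nat.card (commutator G) * 2 ^ j ≤ _
    rw [h, ← pow_add]
    exact Nat.pow_le_pow_right two_pos (by omega)
  obtain ⟨c, hc, hcord⟩ : ∃ c ∈ commutator G, orderOf c = 2 ^ (m + 1) := by
    obtain ⟨a, x, ha, -, -, -, -⟩ := maxclass_frame (G := M) (m := m) hM hM4
    have hne : commutator M ≠ ⊥ := fun e => by
      have := card_commutator_sub M
      rw [e, Subgroup.card_bot, hMM] at this
      have := Nat.pow_le_pow_right two_pos (show 1 ≤ m + 1 by omega)
      omega
    refine ⟨((a ^ 2 : M) : G), ?_, ?_⟩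
    · rw [hGG, ← commutator_map]
      exact ⟨_, MaxClass.pow_mem_commutator (p := 2) (IsPGroup.of_card hM) (hM4.trans (by norm_num)) hne a, rfl⟩
    · rw [Subgroup.orderOf_coe, orderOf_pow' a two_ne_zero, ha, Nat.gcd_eq_right (dvd_pow_self 2 (by omega)), pow_succ,
        Nat.mul_div_cancel _ two_pos]
  have hGc : commutator G = Subgroup.zpowers c := by
    refine (Subgroup.eq_of_le_of_card_ge (Subgroup.zpowers_le.2 hc) ?_).symm
    rw [Nat.card_zpowers, hcord, hGG, hMM]
  set U := Subgroup.zpowers (c ^ 2)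
  haveI : U.Normal := ⟨fun n hn g => by
    obtain ⟨i, rfl⟩ := Subgroup.mem_zpowers_iff.1 hn
    obtain ⟨j, hj⟩ := Subgroup.mem_zpowers_iff.1 (hGc ▸ (inferInstance : (commutator G).Normal).conj_mem c hc g)
    rw [← conj_zpow, ← conj_pow, ← hj,
      show (c ^ j) ^ 2 = (c ^ 2) ^ j by rw [← zpow_natCast, ← zpow_mul, mul_comm, zpow_mul, zpow_natCast]]
    exact Subgroup.zpow_mem _ (Subgroup.zpow_mem _ (Subgroup.mem_zpowers _) j) i⟩
  have hUcard : Nat.card U = 2 ^ m := by
    rw [Nat.card_zpowers, orderOf_pow' c two_ne_zero, hcord, Nat.gcd_eq_right (dvd_pow_self 2 (by omega)), pow_succ,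
      Nat.mul_div_cancel _ two_pos]
  have hUG : U ≤ commutator G := hGc ▸ Subgroup.zpowers_le.2 (pow_mem (Subgroup.mem_zpowers c) 2)
  set π := QuotientGroup.mk' U
  have hQ : Nat.card (G ⧸ U) = 2 ^ 4 := by
    refine Nat.eq_of_mul_eq_mul_right (Nat.card_pos (α := U)) ?_
    rw [← Subgroup.card_eq_card_quotient_mul_card_subgroup, hG, hUcard, ← pow_add, add_comm m 4]
  have hQmap : commutator (G ⧸ U) = (commutator G).map π := by
    rw [commutator_def, commutator_def, Subgroup.map_commutator, Subgroup.map_top_of_surjective _ (QuotientGroup.mk'_surjective U)]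
  have hQ' : Nat.card (commutator (G ⧸ U)) = 2 := by
    rw [hQmap, hGc, MonoidHom.map_zpowers, Nat.card_zpowers]
    refine orderOf_eq_prime ?_ fun e => ?_
    · rw [← map_pow]
      exact (QuotientGroup.eq_one_iff _).2 (Subgroup.mem_zpowers _)
    · have h1 := Nat.le_of_dvd (Nat.card_pos (α := U)) (Subgroup.orderOf_dvd_natCard U ((QuotientGroup.eq_one_iff _).1 e))
      rw [hcord, hUcard, Nat.pow_le_pow_iff_right one_lt_two] at h1
      omega
  have hiff : ∀ M2 : Subgroup G, Nat.card M2 = 2 ^ (m + 3) →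
      ((commutator M2).index = 4 ↔ ⁅M2.map π, M2.map π⁆ ≠ ⊥) := by
    intro M2 hM2
    rw [index_four_iff (n := m + 1) hM2, ← Subgroup.map_commutator, ne_eq, Subgroup.map_eq_bot_iff, QuotientGroup.ker_mk']
    constructor
    · intro h hle
      have := Subgroup.card_le_of_le hle
      rw [h, hUcard, Nat.pow_le_pow_iff_right one_lt_two] at this
      omega
    · intro h
      obtain ⟨g, hg, hgU⟩ := SetLike.not_le_iff_exists.1 h
      have hg' : g ∈ commutator G := Subgroup.commutator_mono le_top le_top hg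
      rw [hGc] at hg'
      obtain ⟨i, hi⟩ := Subgroup.mem_zpowers_iff.1 hg'
      have hodd : Odd i := by
        rcases Int.even_or_odd i with ⟨j, rfl⟩ | h'
        · exfalso
          refine hgU ?_
          rw [← hi]
          refine ⟨j, ?_⟩
          show (c ^ 2) ^ j = c ^ (j + j)
          rw [← zpow_natCast, ← zpow_mul]
          ring_nf
        · exact h'
      have hgc : Subgroup.zpowers c ≤ Subgroup.zpowers g := by
        obtain ⟨j, rfl⟩ := hodd
        obtain ⟨u, v, huv⟩ := Cfsg.Agent.MaxClass.isCoprime_two_pow_odd (m + 1) j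
        refine Subgroup.zpowers_le.2 ⟨v, ?_⟩
        show g ^ v = c
        rw [← hi, ← zpow_mul]
        conv_rhs => rw [← zpow_one c]
        rw [zpow_eq_zpow_iff_modEq, hcord, Int.modEq_iff_dvd]
        exact ⟨u, by push_cast; linear_combination -huv⟩
      refine le_antisymm ?_ ?_
      · rw [← hMM, ← hGG]; exact Subgroup.card_le_of_le (Subgroup.commutator_mono le_top le_top)
      · rw [← hcord, ← Nat.card_zpowers]
        exact Subgroup.card_le_of_le (hgc.trans (Subgroup.zpowers_le.2 hg))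
  have hr : Nat.card {M : Subgroup G // Nat.card M = 2 ^ (m + 3) ∧ (commutator M).index = 4} =
      Nat.card {K : Subgroup (G ⧸ U) // Nat.card K = 2 ^ 3 ∧ ⁅K, K⁆ ≠ ⊥} := by
    rw [← Nat.card_congr (Kulakoff.overEquiv U (2 ^ 3) fun K => ⁅K, K⁆ ≠ ⊥), hUcard, ← pow_add]
    refine Nat.card_congr (Equiv.subtypeEquivRight fun M2 => ?_)
    constructor
    · intro h
      exact ⟨(hUG.trans (Grp.pGroup_commutator_le_frattini hp2)).trans (Kulakoff.frattini_le_of_card (p := 2) hG h.1), h.1, (hiff M2 h.1).1 h.2⟩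
    · intro h
      exact ⟨h.2.1, (hiff M2 h.2.1).2 h.2.2⟩
  have hQnc : ¬ IsCyclic (G ⧸ U) := fun hc => by
    haveI := hc
    let := IsCyclic.commGroup (α := G ⧸ U)
    have : commutator (G ⧸ U) = ⊥ := eq_bot_iff.2 (Subgroup.commutator_le.2 fun a _ b _ => Subgroup.mem_bot.2 (by
      rw [commutatorElement_eq_one_iff_mul_comm, mul_comm]))
    rw [this, Subgroup.card_bot] at hQ'
    omega
  have hN := Kulakoff.cnt_modEq (G := G ⧸ U) (p := 2) (k := 3) (hQ ▸ pow_dvd_pow 2 (by omega))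
  have hsplit : Nat.card {K : Subgroup (G ⧸ U) // Nat.card K = 2 ^ 3} =
      Nat.card {K : Subgroup (G ⧸ U) // Nat.card K = 2 ^ 3 ∧ ⁅K, K⁆ = ⊥} +
      Nat.card {K : Subgroup (G ⧸ U) // Nat.card K = 2 ^ 3 ∧ ⁅K, K⁆ ≠ ⊥} := by
    rw [← card_or _ _ fun K h h' => h'.2 h.2]
    exact Nat.card_congr (Equiv.subtypeEquivRight fun K => by tauto)
  unfold Kulakoff.cnt at hN
  rw [hr]
  rw [hsplit, sixteen_abelian_maximal hQ hQ'] at hN
  unfold Nat.ModEq at hN ⊢
  omega

/-- Kulakoff's theorem for `p = 2`. -/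
theorem kulakoff_two : ∀ (n : ℕ) {G : Type u} [Group G] [Finite G], Nat.card G = 2 ^ n → ¬ IsCyclic G →
    (3 ≤ n → (commutator G).index ≠ 4) → ∀ k, 1 ≤ k → k < n → Kulakoff.cnt G 2 k ≡ 3 [MOD 4] := by
  intro n
  induction n using Nat.strong_induction_on with
  | _ n ih =>
  intro G _ _ hG hnc h4 k hk1 hkn
  haveI : Fact (Nat.Prime 2) := ⟨Nat.prime_two⟩
  rcases (show k + 1 = n ∨ k + 2 ≤ n by omega) with rfl | hk2
  · exact Kulakoff.cnt_maximal (p := 2) hG hnc
  obtain ⟨m, rfl⟩ : ∃ m, n = m + 3 := ⟨n - 3, by omega⟩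
  classical
  have h4' := h4 (by omega)
  refine (step (m := m + 1) (k := k) hG hnc (by omega)
    (fun M => IsCyclic M ∨ (k ≤ m ∧ (commutator M).index = 4)) fun M hM => ?_).2 ?_
  · split
    · rename_i hb
      rcases hb with hc | ⟨hkm, hi⟩
      · haveI := hc; rw [Kulakoff.cnt_cyclic (hM ▸ pow_dvd_pow 2 (by omega))]
      · exact cnt_maxclass (m + 1 + 1) hM (by omega) hi k hk1 (by omega)
    · rename_i hb
      push Not at hb
      by_cases hkm : k = m + 1
      · subst hkm; exact Kulakoff.cnt_maximal (p := 2) hM hb.1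
      · exact ih (m + 1 + 1) (by omega) hM hb.1 (fun _ => hb.2 (by omega)) k hk1 (by omega)
  · by_cases hkm : k ≤ m
    · obtain ⟨l, rfl⟩ : ∃ l, m = l + 1 := ⟨m - 1, by omega⟩
      have e : Nat.card {M : Subgroup G // Nat.card M = 2 ^ (l + 1 + 1 + 1) ∧ (IsCyclic M ∨ (k ≤ l + 1 ∧ (commutator M).index = 4))} =
          Nat.card {M : Subgroup G // Nat.card M = 2 ^ (l + 3) ∧ IsCyclic M} +
          Nat.card {M : Subgroup G // Nat.card M = 2 ^ (l + 3) ∧ (commutator M).index = 4} := by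
        rw [← card_or (α := Subgroup G) (fun M => Nat.card M = 2 ^ (l + 3) ∧ IsCyclic M)
          (fun M => Nat.card M = 2 ^ (l + 3) ∧ (commutator M).index = 4)
          fun M h h' => not_cyclic_of_index_four h'.1 h'.2 h.2]
        exact Nat.card_congr (Equiv.subtypeEquivRight fun M => by tauto)
      rw [e]
      exact (cyclic_even (m := l + 1) hG hnc h4').add (maxclass_even (m := l) hG hnc h4')
    · rw [Nat.card_congr (Equiv.subtypeEquivRight fun M : Subgroup G =>
        (show (Nat.card M = 2 ^ (m + 1 + 1) ∧ (IsCyclic M ∨ (k ≤ m ∧ (commutator M).index = 4))) ↔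
          (Nat.card M = 2 ^ (m + 2) ∧ IsCyclic M) from and_congr Iff.rfl (or_iff_left fun h => hkm h.1)))]
      exact cyclic_even hG hnc h4'

end Cfsg.Agent.Transfer.KulakoffTwo
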