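import Mathlib
import Cfsg.Agent.Lib.Grp.MaxClassUniform

/-!
A group of maximal class of order `p ^ (p + 1)` does not have exponent `p`.

In the group algebra over `ZMod p` every `g - 1` has `p`-th power zero, so the symmetric product
`[g - 1, h - 1, ..., h - 1]` vanishes one step lower; a Jennings basis shows that the bottom
element survives.
-/

set_option autoImplicit false
set_option linter.unusedSectionVars false
set_option linter.style.haveILetI false
set_option maxHeartbeats 1000000

namespace Cfsg.Agent.Transfer.MCExp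

open scoped commutatorElement
open Cfsg.Agent.Fus.MC (lc lc_anti lc_comm lc_step)
open Cfsg.Agent.Grp.Uni

noncomputable section

variable (p : ℕ) (G : Type*) [Group G]

/-- The group algebra. -/
abbrev GA := MonoidAlgebra (ZMod p) G

variable {p G}

/-- `g - 1`. -/
def eps (g : G) : GA p G := MonoidAlgebra.of (ZMod p) G g - 1

theorem eps_one : eps (p := p) (1 : G) = 0 := by
  rw [eps, map_one, sub_self]

theorem eps_mul (a b : G) : eps (p := p) (a * b) = eps a + eps b + eps a * eps b := by
  simp only [eps, map_mul]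
  noncomm_ring

theorem of_eq (g : G) : MonoidAlgebra.of (ZMod p) G g = eps g + 1 := by
  rw [eps, sub_add_cancel]

theorem eps_swap (u v : G) :
    eps (p := p) u * eps v - eps v * eps u = eps ⁅u, v⁆ * MonoidAlgebra.of (ZMod p) G (v * u) := by
  have h : ⁅u, v⁆ * (v * u) = u * v := by rw [commutatorElement_def]; group
  calc eps (p := p) u * eps v - eps v * eps u
      = MonoidAlgebra.of (ZMod p) G u * MonoidAlgebra.of (ZMod p) G v -
        MonoidAlgebra.of (ZMod p) G v * MonoidAlgebra.of (ZMod p) G u := by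
        simp only [eps]; noncomm_ring
    _ = MonoidAlgebra.of (ZMod p) G (⁅u, v⁆ * (v * u)) - MonoidAlgebra.of (ZMod p) G (v * u) := by
        rw [h, map_mul, map_mul]
    _ = _ := by rw [eps, sub_mul, one_mul, map_mul]

/-- Products `eps u₁ * ... * eps uᵣ` with `uᵢ ∈ K`, of weight `w`. -/
inductive WProd (K : Subgroup G) : ℕ → GA p G → Prop
  | one : WProd K 0 1
  | cons {u : G} {k w : ℕ} {q : GA p G} : u ∈ K → u ∈ lc G k → WProd K w q →
      WProd K (k + 1 + w) (eps u * q)

theorem WProd.mono {K L : Subgroup G} (h : K ≤ L) {w : ℕ} {q : GA p G} (hq : WProd K w q) :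
    WProd L w q := by
  induction hq with
  | one => exact .one
  | cons hu hk _ ih => exact .cons (h hu) hk ih

theorem WProd.mul {K : Subgroup G} {w w' : ℕ} {q q' : GA p G} (hq : WProd K w q) (hq' : WProd K w' q') :
    WProd K (w + w') (q * q') := by
  induction hq with
  | one => simpa using hq'
  | cons hu hk _ ih =>
    rw [mul_assoc, Nat.add_assoc]
    exact .cons hu hk ih

/-- The span of the products of weight at least `w`. -/
def J (K : Subgroup G) (w : ℕ) : Submodule (ZMod p) (GA p G) :=
  Submodule.span (ZMod p) {q | ∃ w', w ≤ w' ∧ WProd K w' q}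

theorem J_anti {K : Subgroup G} {a b : ℕ} (h : a ≤ b) : J (p := p) K b ≤ J K a :=
  Submodule.span_mono fun _ ⟨w', h1, h2⟩ => ⟨w', h.trans h1, h2⟩

theorem J_mono {K L : Subgroup G} (h : K ≤ L) (w : ℕ) : J (p := p) K w ≤ J L w :=
  Submodule.span_mono fun _ ⟨w', h1, h2⟩ => ⟨w', h1, h2.mono h⟩

theorem eps_mem_J {K : Subgroup G} {u : G} {k : ℕ} (hu : u ∈ K) (hk : u ∈ lc G k) :
    eps (p := p) u ∈ J K (k + 1) :=
  Submodule.subset_span ⟨k + 1 + 0, le_rfl, by simpa using WProd.cons hu hk WProd.one⟩

theorem mul_mem_J {K : Subgroup G} {a b : ℕ} {x y : GA p G} (hx : x ∈ J K a) (hy : y ∈ J K b) :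
    x * y ∈ J K (a + b) := by
  induction hx using Submodule.span_induction with
  | zero => simp
  | add x x' _ _ h h' => rw [add_mul]; exact add_mem h h'
  | smul c x _ h => rw [smul_mul_assoc]; exact Submodule.smul_mem _ c h
  | mem x hx =>
    obtain ⟨w, hw, hwx⟩ := hx
    induction hy using Submodule.span_induction with
    | zero => simp
    | add y y' _ _ h h' => rw [mul_add]; exact add_mem h h'
    | smul c y _ h => rw [mul_smul_comm]; exact Submodule.smul_mem _ c h
    | mem y hy =>
      obtain ⟨w', hw', hwy⟩ := hy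
      exact Submodule.subset_span ⟨w + w', by omega, hwx.mul hwy⟩

theorem one_mem_J (K : Subgroup G) : (1 : GA p G) ∈ J K 0 :=
  Submodule.subset_span ⟨0, le_rfl, .one⟩

theorem eps_mem_top {u : G} {k : ℕ} (hk : u ∈ lc G k) : eps (p := p) u ∈ J (⊤ : Subgroup G) (k + 1) :=
  eps_mem_J (Subgroup.mem_top u) hk

theorem mem_lc_zero (g : G) : g ∈ lc G 0 := by
  rw [lc, Subgroup.lowerCentralSeries_zero]; trivial

theorem J_zero_eq_top : J (p := p) (⊤ : Subgroup G) 0 = ⊤ := by
  refine Submodule.eq_top_iff'.2 fun q => ?_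
  induction q using MonoidAlgebra.induction_on with
  | of g =>
    rw [of_eq]
    exact add_mem (J_anti (Nat.zero_le _) (eps_mem_top (mem_lc_zero g))) (one_mem_J _)
  | add x y hx hy => exact add_mem hx hy
  | smul c x hx => exact Submodule.smul_mem _ c hx

section nilpotent

variable [Finite G] [hp : Fact p.Prime]

instance : Finite (GA p G) := Module.finite_of_finite (ZMod p)

/-- The socle series of the regular module. -/
def ann : ℕ → Submodule (ZMod p) (GA p G)
  | 0 => ⊥
  | r + 1 => ⨅ g : G, (ann r).comap (LinearMap.mulLeft (ZMod p) (eps g))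

theorem mem_ann_succ {r : ℕ} {q : GA p G} : q ∈ ann (r + 1) ↔ ∀ g : G, eps g * q ∈ ann r := by
  simp [ann, Submodule.mem_iInf]

theorem eps_mul_mem_ann : ∀ (r : ℕ) {q : GA p G}, q ∈ ann r → ∀ g : G, eps g * q ∈ ann r
  | 0, q, hq, g => by
    simp only [ann, Submodule.mem_bot] at hq ⊢
    rw [hq, mul_zero]
  | r + 1, q, hq, g => mem_ann_succ.2 fun h => eps_mul_mem_ann r (mem_ann_succ.1 hq g) h

theorem ann_le_succ (r : ℕ) : ann (p := p) (G := G) r ≤ ann (r + 1) :=
  fun _ hq => mem_ann_succ.2 (eps_mul_mem_ann r hq)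

theorem exists_ann_top (hG : IsPGroup p G) : ∃ R, ann (p := p) (G := G) R = ⊤ := by
  have hst : ∃ R, ann (p := p) (G := G) (R + 1) = ann R := by
    by_contra h
    push Not at h
    have hmono : StrictMono (ann (p := p) (G := G)) :=
      strictMono_nat_of_lt_succ fun r => lt_of_le_of_ne (ann_le_succ r) (Ne.symm (h r))
    haveI : Finite (Submodule (ZMod p) (GA p G)) :=
      Finite.of_injective (fun S : Submodule (ZMod p) (GA p G) => (S : Set (GA p G))) SetLike.coe_injective
    exact not_injective_infinite_finite _ hmono.injective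
  obtain ⟨R, hR⟩ := hst
  refine ⟨R, ?_⟩
  by_contra hne
  set Y := ann (p := p) (G := G) R
  have hstab : ∀ (g : G) (q : GA p G), q ∈ Y → MonoidAlgebra.of (ZMod p) G g * q ∈ Y := fun g q hq => by
    rw [of_eq, add_mul, one_mul]
    exact add_mem (eps_mul_mem_ann R hq g) hq
  let act : G → (GA p G ⧸ Y) →ₗ[ZMod p] (GA p G ⧸ Y) := fun g =>
    Y.mapQ Y (LinearMap.mulLeft (ZMod p) (MonoidAlgebra.of (ZMod p) G g)) fun q hq => hstab g q hq
  letI : MulAction G (GA p G ⧸ Y) :=
    { smul := fun g x => act g x
      one_smul := fun x => by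
        obtain ⟨q, rfl⟩ := Submodule.Quotient.mk_surjective Y x
        show act 1 _ = _
        simp [act, ← MonoidAlgebra.one_def]
      mul_smul := fun g h x => by
        obtain ⟨q, rfl⟩ := Submodule.Quotient.mk_surjective Y x
        show act (g * h) _ = act g (act h _)
        simp [act, MonoidAlgebra.single_mul_single, ← mul_assoc] }
  have hd : p ∣ Nat.card (GA p G ⧸ Y) := by
    haveI : Nontrivial (GA p G ⧸ Y) := Submodule.Quotient.nontrivial_iff.2 hne
    rw [Module.natCard_eq_pow_finrank (K := ZMod p), Nat.card_zmod]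
    exact dvd_pow_self p (Module.finrank_pos (R := ZMod p) (M := GA p G ⧸ Y)).ne'
  haveI : Finite (GA p G ⧸ Y) := Finite.of_surjective (Submodule.Quotient.mk (p := Y)) (Submodule.Quotient.mk_surjective Y)
  obtain ⟨b, hb, hb0⟩ := hG.exists_fixed_point_of_prime_dvd_card_of_fixed_point (GA p G ⧸ Y) hd
    (a := 0) (fun g => map_zero (act g))
  obtain ⟨q, rfl⟩ := Submodule.Quotient.mk_surjective Y b
  refine hb0 ((Submodule.Quotient.mk_eq_zero Y).2 (hR.le (mem_ann_succ.2 fun g => ?_))).symm
  have h1 : Submodule.Quotient.mk (p := Y) (MonoidAlgebra.of (ZMod p) G g * q) = Submodule.Quotient.mk q := hb g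
  rw [Submodule.Quotient.eq] at h1
  simpa [eps, sub_mul] using h1

theorem wprod_mul_ann {L : ℕ} (hL0 : 1 ≤ L) (hL : lc G L = ⊥) {w : ℕ} {q : GA p G} (hq : WProd (⊤ : Subgroup G) w q) :
    ∀ (r s : ℕ) (y : GA p G), L * r ≤ w → y ∈ ann (s + r) → q * y ∈ ann s := by
  induction hq with
  | one =>
    intro r s y hr hy
    have hr0 : r = 0 := by
      rcases Nat.eq_zero_or_pos r with h | h
      · exact h
      · have := Nat.mul_pos hL0 h; omega
    subst hr0
    simpa using hy
  | @cons u k w q _ hk _ ih =>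
    intro r s y hr hy
    rw [mul_assoc]
    by_cases hkL : L ≤ k
    · have hu1 : u = 1 := Subgroup.mem_bot.1 (hL ▸ lc_anti hkL hk)
      rw [hu1, eps_one, zero_mul]
      exact zero_mem _
    cases r with
    | zero => exact eps_mul_mem_ann s (ih 0 s y (by simp) hy) u
    | succ r =>
      refine mem_ann_succ.1 (ih r (s + 1) y ?_ (by rwa [Nat.add_assoc, Nat.add_comm 1 r])) u
      rw [Nat.mul_succ] at hr
      omega

end nilpotent

/-- A chain from the group to `1` with one generator and one weight at each step. -/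
structure Chain (G : Type*) [Group G] where
  len : ℕ
  K : ℕ → Subgroup G
  e : ℕ → G
  wt : ℕ → ℕ
  top : K 0 = ⊤
  bot : K len = ⊥
  normal : ∀ i, (K i).Normal
  le : ∀ i, i < len → K (i + 1) ≤ K i
  e_mem : ∀ i, i < len → e i ∈ K i
  e_lc : ∀ i, i < len → e i ∈ lc G (wt i - 1)
  wt_pos : ∀ i, i < len → 1 ≤ wt i
  below : ∀ i, i < len → K (i + 1) ≤ lc G (wt i - 1)
  above : ∀ i, i < len → lc G (wt i) ≤ K (i + 1)
  gen : ∀ i, i < len → ∀ u ∈ K i, ∃ t : ℕ, (e i ^ t)⁻¹ * u ∈ K (i + 1)

variable [Finite G]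

/-- The straightened span. -/
def S (C : Chain G) (i w : ℕ) : Submodule (ZMod p) (GA p G) :=
  Submodule.span (ZMod p) {x | ∃ (a w' : ℕ) (q : GA p G), w ≤ a * C.wt i + w' ∧ q ∈ J (C.K (i + 1)) w' ∧
    x = eps (C.e i) ^ a * q} ⊔ J ⊤ (w + 1)

theorem S_anti (C : Chain G) (i : ℕ) {a b : ℕ} (h : a ≤ b) : S (p := p) C i b ≤ S C i a :=
  sup_le_sup (Submodule.span_mono fun _ ⟨c, w', q, h1, h2, h3⟩ => ⟨c, w', q, h.trans h1, h2, h3⟩)
    (J_anti (by omega))

theorem gen_mem_S (C : Chain G) {i a w' w : ℕ} {q : GA p G} (h : w ≤ a * C.wt i + w')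
    (hq : q ∈ J (C.K (i + 1)) w') : eps (C.e i) ^ a * q ∈ S C i w :=
  Submodule.mem_sup_left (Submodule.subset_span ⟨a, w', q, h, hq, rfl⟩)

theorem gen_mem_top (C : Chain G) {i a w' : ℕ} (hi : i < C.len) {q : GA p G}
    (hq : q ∈ J (C.K (i + 1)) w') : eps (C.e i) ^ a * q ∈ J (⊤ : Subgroup G) (a * C.wt i + w') := by
  refine mul_mem_J ?_ (J_mono le_top _ hq)
  induction a with
  | zero => simpa using one_mem_J ⊤
  | succ a ih =>
    rw [pow_succ, add_mul, one_mul]
    refine mul_mem_J ih ?_
    have := eps_mem_top (p := p) (C.e_lc i hi)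
    rwa [Nat.sub_add_cancel (C.wt_pos i hi)] at this

theorem mul_S_le (C : Chain G) {i w c : ℕ} (hi : i < C.len) {z : GA p G} (hz : z ∈ J (⊤ : Subgroup G) c)
    (h : ∀ (a w' : ℕ) (q : GA p G), q ∈ J (C.K (i + 1)) w' →
      z * (eps (C.e i) ^ a * q) ∈ S C i (c + (a * C.wt i + w')))
    {x : GA p G} (hx : x ∈ S C i w) : z * x ∈ S C i (c + w) := by
  obtain ⟨y, hy, r, hr, rfl⟩ := Submodule.mem_sup.1 hx
  rw [mul_add]
  refine add_mem ?_ (Submodule.mem_sup_right (J_anti (by omega) (mul_mem_J hz hr)))
  clear hx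
  induction hy using Submodule.span_induction with
  | zero => simp
  | add x x' _ _ h h' => rw [mul_add]; exact add_mem h h'
  | smul d x _ h => rw [mul_smul_comm]; exact Submodule.smul_mem _ d h
  | mem x hx =>
    obtain ⟨a, w', q, hw, hq, rfl⟩ := hx
    exact S_anti C i (by omega) (h a w' q hq)

theorem gen_mul_S (C : Chain G) {i w : ℕ} (hi : i < C.len) {x : GA p G} (hx : x ∈ S C i w) :
    eps (C.e i) * x ∈ S C i (C.wt i + w) := by
  refine mul_S_le C hi ?_ (fun a w' q hq => ?_) hx
  · have := eps_mem_top (p := p) (C.e_lc i hi)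
    rwa [Nat.sub_add_cancel (C.wt_pos i hi)] at this
  · rw [← mul_assoc, ← pow_succ']
    exact gen_mem_S C (by rw [add_mul, one_mul]; omega) hq

theorem low_mul_gen (C : Chain G) {i : ℕ} (hi : i < C.len) : ∀ (a k w' : ℕ) (v : G) (q : GA p G),
    v ∈ C.K (i + 1) → v ∈ lc G k → q ∈ J (C.K (i + 1)) w' →
      eps v * (eps (C.e i) ^ a * q) ∈ S C i (k + 1 + (a * C.wt i + w')) := by
  intro a
  induction a with
  | zero =>
    intro k w' v q hv hk hq
    rw [pow_zero, one_mul]
    have := gen_mem_S C (p := p) (i := i) (a := 0) (w := k + 1 + w') (w' := k + 1 + w') (by simp)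
      (mul_mem_J (eps_mem_J hv hk) hq)
    simpa using this
  | succ a ih =>
    intro k w' v q hv hk hq
    set e := C.e i
    set X := eps (p := p) e ^ a * q
    have he : eps (p := p) e ∈ J (⊤ : Subgroup G) (C.wt i) := by
      have := eps_mem_top (p := p) (C.e_lc i hi)
      rwa [Nat.sub_add_cancel (C.wt_pos i hi)] at this
    have hX : X ∈ J (⊤ : Subgroup G) (a * C.wt i + w') := gen_mem_top C hi hq
    have hc : ⁅v, e⁆ ∈ C.K (i + 1) := by
      haveI := C.normal (i + 1)
      rw [commutatorElement_def, mul_assoc, mul_assoc, ← mul_assoc e]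
      exact mul_mem hv ((inferInstance : (C.K (i + 1)).Normal).conj_mem _ (inv_mem hv) e)
    have hcl : ⁅v, e⁆ ∈ lc G (k + C.wt i) := by
      have := lc_comm hk (C.e_lc i hi)
      rwa [show k + (C.wt i - 1) + 1 = k + C.wt i by have := C.wt_pos i hi; omega] at this
    have key : eps (p := p) v * (eps e ^ (a + 1) * q) =
        eps e * (eps v * X) + (eps ⁅v, e⁆ * X + eps ⁅v, e⁆ * eps (e * v) * X) := by
      rw [pow_succ', mul_assoc (eps e), ← mul_assoc (eps v), ← mul_assoc (eps e) (eps v),
        eq_add_of_sub_eq' (eps_swap (p := p) v e), of_eq]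
      noncomm_ring
    rw [key, add_mul a 1, one_mul]
    refine add_mem ?_ (add_mem ?_ ?_)
    · exact S_anti C i (by omega) (gen_mul_S C hi (ih k w' v q hv hk hq))
    · exact S_anti C i (by omega) (ih (k + C.wt i) w' _ q hc hcl hq)
    · refine Submodule.mem_sup_right (J_anti ?_ (mul_mem_J (mul_mem_J (eps_mem_top hcl)
        (eps_mem_top (k := 0) (mem_lc_zero _))) hX))
      omega

theorem low_mul_S (C : Chain G) {i w k : ℕ} (hi : i < C.len) {v : G} (hv : v ∈ C.K (i + 1))
    (hk : v ∈ lc G k) {x : GA p G} (hx : x ∈ S C i w) : eps v * x ∈ S C i (k + 1 + w) :=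
  mul_S_le C hi (eps_mem_top hk) (fun a w' q hq => low_mul_gen C hi a k w' v q hv hk hq) hx

theorem eps_pow_sub {K : Subgroup G} {e : G} {k : ℕ} (hK : e ∈ K) (hk : e ∈ lc G k) (t : ℕ) :
    eps (p := p) (e ^ t) - t • eps e ∈ J K (2 * (k + 1)) := by
  induction t with
  | zero => simp [eps_one]
  | succ t ih =>
    rw [pow_succ, eps_mul, succ_nsmul]
    have h1 := mul_mem_J (eps_mem_J (K := K) (p := p) (pow_mem hK t) (pow_mem hk t))
      (eps_mem_J (K := K) (p := p) hK hk)
    rw [← two_mul] at h1
    have := add_mem ih h1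
    convert this using 1
    abel

theorem J_le_S (C : Chain G) {i : ℕ} (hi : i < C.len) (w : ℕ) : J (p := p) (C.K i) w ≤ S C i w := by
  have main : ∀ w (q : GA p G), WProd (C.K i) w q → q ∈ S C i w := by
    intro w q hq
    induction hq with
    | one => simpa using gen_mem_S C (p := p) (i := i) (a := 0) (w := 0) (w' := 0) (Nat.zero_le _) (one_mem_J _)
    | @cons u k w q hu hk hq' ih =>
      by_cases hwt : C.wt i ≤ k
      · exact low_mul_S C hi (C.above i hi (lc_anti hwt hk)) hk ih
      push Not at hwt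
      obtain ⟨t, ht⟩ := C.gen i hi u hu
      set v := (C.e i ^ t)⁻¹ * u
      have hvk : v ∈ lc G k := lc_anti (by omega) (C.below i hi ht)
      have hek : C.e i ∈ lc G k := lc_anti (by omega) (C.e_lc i hi)
      have hu' : u = C.e i ^ t * v := by simp [v]
      have hq0 : q ∈ J (⊤ : Subgroup G) w := Submodule.subset_span ⟨w, le_rfl, hq'.mono le_top⟩
      have d1 := eps_pow_sub (p := p) (Subgroup.mem_top (C.e i)) hek t
      have key : eps (p := p) u * q = t • (eps (C.e i) * q) + eps v * q +
          (eps (C.e i ^ t) - t • eps (C.e i)) * q + eps (C.e i ^ t) * eps v * q := by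
        rw [hu', eps_mul, add_mul, add_mul, sub_mul, smul_mul_assoc]
        abel
      rw [key]
      refine add_mem (add_mem (add_mem (Submodule.smul_of_tower_mem _ t ?_) ?_) ?_) ?_
      · exact S_anti C i (by omega) (gen_mul_S C hi ih)
      · exact low_mul_S C hi ht hvk ih
      · exact Submodule.mem_sup_right (J_anti (by omega) (mul_mem_J d1 hq0))
      · refine Submodule.mem_sup_right (J_anti (by omega) (mul_mem_J (mul_mem_J
          (eps_mem_top (pow_mem hek t)) (eps_mem_top hvk)) hq0))
  refine Submodule.span_le.2 ?_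
  rintro q ⟨w', hw, hq⟩
  exact S_anti C i hw (main _ q hq)

variable [hp : Fact p.Prime]

theorem eps_pow_prime {g : G} (hg : g ^ p = 1) : eps (p := p) g ^ p = 0 := by
  haveI : CharP (GA p G) p := charP_of_injective_algebraMap (algebraMap (ZMod p) (GA p G)).injective p
  rw [eps, sub_pow_char_of_commute p (Commute.one_right _), ← map_pow, hg, map_one, one_pow, sub_self]

open scoped Classical in
/-- The monomials from step `i` on, without the linear term of the last generator. -/
def mon (C : Chain G) : ℕ → Finset (GA p G)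
  | 0 => {1}
  | d + 1 => (((Finset.range p).filter fun a => ¬ (d = 0 ∧ a = 1)) ×ˢ mon C d).image
      fun aq => eps (C.e (C.len - (d + 1))) ^ aq.1 * aq.2

open scoped Classical in
theorem J_le_mon (C : Chain G) (hexp : ∀ g : G, g ^ p = 1)
    (hlast : eps (p := p) (C.e (C.len - 1)) ∈ J (⊤ : Subgroup G) (C.wt (C.len - 1) + 1)) :
    ∀ d, d ≤ C.len → ∀ w, J (p := p) (C.K (C.len - d)) w ≤
      Submodule.span (ZMod p) (↑(mon (p := p) C d) : Set (GA p G)) ⊔ J ⊤ (w + 1) := by
  intro d
  induction d with
  | zero =>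
    intro _ w
    rw [Nat.sub_zero, C.bot, J]
    refine Submodule.span_le.2 ?_
    rintro q ⟨w', _, hq⟩
    cases hq with
    | one => exact Submodule.mem_sup_left (Submodule.subset_span (by simp [mon]))
    | cons hu _ _ =>
      rw [Subgroup.mem_bot.1 hu, eps_one, zero_mul]
      exact zero_mem _
  | succ d ih =>
    intro hd w
    set i := C.len - (d + 1) with hi
    have hlt : i < C.len := by omega
    have hnext : i + 1 = C.len - d := by omega
    refine (J_le_S C hlt w).trans (sup_le (Submodule.span_le.2 ?_) le_sup_right)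
    rintro _ ⟨a, w', q, hw, hq, rfl⟩
    rw [hnext] at hq
    by_cases hap : p ≤ a
    · obtain ⟨c, rfl⟩ : ∃ c, a = p + c := ⟨a - p, by omega⟩
      rw [pow_add, eps_pow_prime (hexp _), zero_mul, zero_mul]
      exact zero_mem _
    have hq' := ih (by omega) w' hq
    by_cases hdrop : d = 0 ∧ a = 1
    · obtain ⟨rfl, rfl⟩ := hdrop
      refine Submodule.mem_sup_right (J_anti ?_ (mul_mem_J (K := ⊤) (by rw [pow_one]; exact hlast)
        (J_mono le_top _ hq)))
      rw [one_mul] at hw
      rw [show C.len - 1 = i by omega]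
      omega
    obtain ⟨y, hy, r, hr, rfl⟩ := Submodule.mem_sup.1 hq'
    rw [mul_add]
    refine add_mem (Submodule.mem_sup_left ?_) (Submodule.mem_sup_right ?_)
    · clear hq' hq
      induction hy using Submodule.span_induction with
      | zero => simp
      | add x x' _ _ h h' => rw [mul_add]; exact add_mem h h'
      | smul c x _ h => rw [mul_smul_comm]; exact Submodule.smul_mem _ c h
      | mem x hx =>
        refine Submodule.subset_span ?_
        simp only [mon, Finset.coe_image, Set.mem_image, Finset.mem_coe, Finset.mem_product,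
          Finset.mem_filter, Finset.mem_range, ← hi]
        exact ⟨(a, x), ⟨⟨by omega, hdrop⟩, hx⟩, rfl⟩
    · have h := mul_mem_J (gen_mem_top (p := p) (i := i) (a := a) (w' := 0) C hlt (one_mem_J _)) hr
      rw [mul_one] at h
      exact J_anti (by omega) h

open scoped Classical in
theorem card_mon_lt (C : Chain G) : ∀ d, 1 ≤ d → (mon (p := p) C d).card < p ^ d := by
  intro d hd
  induction d, hd using Nat.le_induction with
  | base =>
    refine lt_of_le_of_lt (Finset.card_image_le) ?_
    rw [Finset.card_product, show (mon (p := p) C 0).card = 1 from Finset.card_singleton _, mul_one, pow_one]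
    refine lt_of_lt_of_le (Finset.card_lt_card ?_) (le_of_eq (Finset.card_range p))
    rw [Finset.ssubset_iff_of_subset (Finset.filter_subset _ _)]
    exact ⟨1, Finset.mem_range.2 hp.out.one_lt, by simp⟩
  | succ d _ ih =>
    refine lt_of_le_of_lt (Finset.card_image_le) ?_
    rw [Finset.card_product, pow_succ']
    refine lt_of_le_of_lt (Nat.mul_le_mul_right _ ((Finset.card_filter_le _ _).trans (le_of_eq (Finset.card_range p)))) ?_
    exact Nat.mul_lt_mul_of_pos_left ih hp.out.pos

/-- The bottom generator survives in the group algebra (Jennings). -/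
theorem last_not_mem (C : Chain G) (hexp : ∀ g : G, g ^ p = 1) (hlen : 1 ≤ C.len)
    (hG : Nat.card G = p ^ C.len) {L : ℕ} (hL0 : 1 ≤ L) (hL : lc G L = ⊥) :
    eps (p := p) (C.e (C.len - 1)) ∉ J (⊤ : Subgroup G) (C.wt (C.len - 1) + 1) := by
  classical
  intro hlast
  obtain ⟨R, hR⟩ := exists_ann_top (p := p) (IsPGroup.of_card hG)
  set U := Submodule.span (ZMod p) (↑(mon (p := p) C C.len) : Set (GA p G))
  have hbot : J (p := p) (⊤ : Subgroup G) (L * R) = ⊥ := by
    rw [eq_bot_iff, J, Submodule.span_le]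
    rintro q ⟨w, hw, hq⟩
    have := wprod_mul_ann hL0 hL hq R 0 1 hw (by rw [Nat.zero_add, hR]; trivial)
    rw [mul_one] at this
    exact this
  have hstep : ∀ w, J (p := p) (⊤ : Subgroup G) 0 ≤ U ⊔ J ⊤ w := by
    intro w
    induction w with
    | zero => exact le_sup_right
    | succ w ih =>
      refine ih.trans (sup_le le_sup_left ?_)
      have := J_le_mon C hexp hlast C.len le_rfl w
      rwa [Nat.sub_self, C.top] at this
  have htop : U = ⊤ := by
    have := hstep (L * R)
    rwa [hbot, sup_bot_eq, J_zero_eq_top, top_le_iff] at this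
  have h1 : Module.finrank (ZMod p) U ≤ (mon (p := p) C C.len).card := finrank_span_finset_le_card _
  haveI := Fintype.ofFinite G
  rw [htop, finrank_top, Module.finrank_eq_card_basis (MonoidAlgebra.basis G (ZMod p)),
    ← Nat.card_eq_fintype_card, hG] at h1
  exact (card_mon_lt C C.len hlen).not_ge h1

/-! ### The Engel element -/

theorem sum_pow_zmod (h2 : p ≠ 2) {j : ℕ} (hj : j ≤ p) :
    ∑ t : ZMod p, t ^ j = if j = p - 1 then -1 else 0 := by
  rcases Nat.lt_trichotomy j (p - 1) with h | h | h
  · rw [if_neg h.ne]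
    exact FiniteField.sum_pow_lt_card_sub_one (ZMod p) j (by rwa [ZMod.card])
  · rw [if_pos h, h]
    classical
    rw [← Finset.sum_erase_add _ _ (Finset.mem_univ (0 : ZMod p)),
      zero_pow (by have := hp.out.two_le; omega), add_zero,
      Finset.sum_congr rfl fun t ht => ZMod.pow_card_sub_one_eq_one (Finset.ne_of_mem_erase ht),
      Finset.sum_const, Finset.card_erase_of_mem (Finset.mem_univ _), Finset.card_univ, ZMod.card,
      nsmul_one, Nat.cast_sub hp.out.one_le]
    simp
  · rw [if_neg h.ne', show j = p by omega]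
    simp only [ZMod.pow_card]
    have := FiniteField.sum_pow_lt_card_sub_one (ZMod p) 1 (by rw [ZMod.card]; have := hp.out.two_le; omega)
    simpa using this

/-- The part of `(Y + tX) ^ m` of degree one in `Y`. -/
def lin {A : Type*} [Ring A] (X Y : A) : ℕ → A
  | 0 => 0
  | m + 1 => Y * X ^ m + X * lin X Y m

theorem lin_eq_sum {A : Type*} [Ring A] (X Y : A) (m : ℕ) :
    lin X Y m = ∑ i ∈ Finset.range m, X ^ i * Y * X ^ (m - 1 - i) := by
  induction m with
  | zero => rfl
  | succ m ih =>
    rw [lin, ih, Finset.sum_range_succ', Finset.mul_sum, add_comm]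
    simp only [pow_zero, one_mul, Nat.add_sub_cancel, Nat.sub_zero]
    congr 1
    refine Finset.sum_congr rfl fun i _ => ?_
    rw [show m - (i + 1) = m - 1 - i by omega, pow_succ', mul_assoc, mul_assoc, mul_assoc]

theorem sum_pow_smul {A : Type*} [Ring A] [Algebra (ZMod p) A] (h2 : p ≠ 2) (X Y : A) :
    ∀ (m j : ℕ), j + m ≤ p → ∑ t : ZMod p, t ^ j • (Y + t • X) ^ m =
      - ((if j + m = p - 1 then X ^ m else 0) + (if j + m = p then lin X Y m else 0)) := by
  intro m
  induction m with
  | zero =>
    intro j hj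
    simp only [pow_zero, ← Finset.sum_smul, sum_pow_zmod h2 (show j ≤ p by omega), Nat.add_zero, lin,
      ite_self, add_zero]
    split <;> simp
  | succ m ih =>
    intro j hj
    have e : ∀ t : ZMod p, t ^ j • (Y + t • X) ^ (m + 1) =
        Y * (t ^ j • (Y + t • X) ^ m) + X * (t ^ (j + 1) • (Y + t • X) ^ m) := fun t => by
      rw [pow_succ', add_mul, smul_add, mul_smul_comm, mul_smul_comm, smul_mul_assoc, smul_smul, pow_succ]
    have := hp.out.two_le
    rw [Finset.sum_congr rfl fun t _ => e t, Finset.sum_add_distrib, ← Finset.mul_sum, ← Finset.mul_sum,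
      ih j (by omega), ih (j + 1) (by omega)]
    rw [show j + 1 + m = j + (m + 1) by omega, if_neg (show j + m ≠ p by omega)]
    split_ifs <;> first
      | (exfalso; omega)
      | (simp [lin, pow_succ', mul_add]; try abel)
      | simp [lin, pow_succ', mul_add]

theorem choose_pred_cast (i : ℕ) (hi : i < p) : (((p - 1).choose i : ℕ) : ZMod p) = (-1) ^ i := by
  induction i with
  | zero => simp
  | succ i ih =>
    have h := Nat.choose_succ_succ (p - 1) i
    rw [Nat.succ_eq_add_one, Nat.sub_add_cancel hp.out.one_le] at h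
    have h0 : ((p.choose (i + 1) : ℕ) : ZMod p) = 0 :=
      (ZMod.natCast_eq_zero_iff _ _).2 (hp.out.dvd_choose_self (by omega) hi)
    rw [h, Nat.cast_add, ih (by omega)] at h0
    rw [pow_succ, mul_neg, mul_one]
    exact eq_neg_of_add_eq_zero_right h0

theorem sub_pow_pred {A : Type*} [Ring A] [Algebra (ZMod p) A] (h2 : p ≠ 2) {a b : A} (hab : Commute a b) :
    (a - b) ^ (p - 1) = ∑ i ∈ Finset.range p, a ^ i * b ^ (p - 1 - i) := by
  rw [sub_eq_add_neg, (hab.neg_right).add_pow, Nat.sub_add_cancel hp.out.one_le]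
  refine Finset.sum_congr rfl fun i hi => ?_
  rw [Finset.mem_range] at hi
  rw [← map_natCast (algebraMap (ZMod p) A), choose_pred_cast i hi, map_pow, map_neg, map_one, neg_pow b,
    mul_assoc (a ^ i), ((Commute.neg_one_left (b ^ (p - 1 - i))).pow_left _).eq,
    mul_assoc (b ^ (p - 1 - i)), ← pow_add, show p - 1 - i + i = p - 1 by omega,
    (hp.out.even_sub_one h2).neg_one_pow, mul_one]

/-- A group of maximal class of order `p ^ (p + 1)` is not of exponent `p`. -/
theorem exists_pow_ne_one {n : ℕ} (hm : MaxCl G p n) (hn : n = p + 1) : ∃ g : G, g ^ p ≠ 1 := by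
  classical
  by_contra hexp
  push Not at hexp
  subst hn
  rcases eq_or_ne p 2 with rfl | h2
  · -- exponent two is commutative
    refine center_ne_top hm (eq_top_iff.2 fun a _ => Subgroup.mem_center_iff.2 fun b => ?_)
    have h : ∀ g : G, g⁻¹ = g := fun g => inv_eq_of_mul_eq_one_right (by rw [← pow_two]; exact hexp g)
    calc b * a = (b * a)⁻¹ := (h _).symm
      _ = a⁻¹ * b⁻¹ := mul_inv_rev b a
      _ = a * b := by rw [h, h]
  have hp3 : 3 ≤ p := by have := hp.out.two_le; omega
  haveI : Nontrivial G := Finite.one_lt_card_iff_nontrivial.1 (by rw [hm.card]; exact Nat.one_lt_pow (by omega) hp.out.one_lt)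
  obtain ⟨x, -, hx⟩ := exists_uniform_outside (p + 1) hm ⊥ bot_ne_top
  obtain ⟨c1, hc1, hc1'⟩ := exists_depth hm (k := 1) le_rfl (by omega)
  obtain ⟨a, ha⟩ := exists_comm_eq_top hx hc1
  have hLp : lc G p = ⊥ := lc_eq_bot hm (by omega)
  -- the Engel element
  let c : ℕ → G := fun m => (fun u => ⁅x, u⁆)^[m] a
  have hcs : ∀ m, c (m + 1) = ⁅x, c m⁆ := fun m => Function.iterate_succ_apply' _ m a
  have hc : ∀ m, c m ∈ lc G m := by
    intro m
    induction m with
    | zero => exact mem_lc_zero _
    | succ m ih => rw [hcs, ← commutatorElement_inv]; exact inv_mem (lc_step ih)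
  have hc' : ∀ m, 1 ≤ m → m ≤ p - 1 → c m ∉ lc G (m + 1) := by
    intro m h1
    induction m, h1 using Nat.le_induction with
    | base =>
      intro _
      rw [hcs, show c 0 = a from rfl, ← commutatorElement_inv, ha, inv_mem_iff]
      exact hc1'
    | succ m h1 ih =>
      intro hm'
      rw [hcs, ← commutatorElement_inv, inv_mem_iff]
      exact comm_not_mem hx h1 (by omega) (hc m) (ih (by omega))
  set z := c (p - 1) with hzdef
  have hz : z ∈ lc G (p - 1) := hc (p - 1)
  have hz' : z ∉ lc G p := by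
    have := hc' (p - 1) (by omega) le_rfl
    rwa [show p - 1 + 1 = p by omega] at this
  -- the chain
  have hxS : Nat.card ↥(lc G 1 ⊔ Subgroup.zpowers x) ≤ p ^ p := by
    have h := Grp.card_sup_dvd_mul (H := Subgroup.zpowers x) (N := lc G 1) (by rw [Subgroup.normalizer_eq_top]; exact le_top)
    rw [sup_comm, Nat.card_zpowers, card_lc hm le_rfl] at h
    refine (Nat.le_of_dvd (Nat.mul_pos (orderOf_pos x) (pow_pos hp.out.pos _)) h).trans ?_
    refine (Nat.mul_le_mul_right _ (Nat.le_of_dvd hp.out.pos (orderOf_dvd_of_pow_eq_one (hexp x)))).trans (le_of_eq ?_)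
    rw [← pow_succ']
    congr 1
    omega
  have haS : a ∉ lc G 1 ⊔ Subgroup.zpowers x := fun h => by
    obtain ⟨u, hu, v, hv, rfl⟩ := Subgroup.mem_sup_of_normal_left.1 h
    obtain ⟨i, rfl⟩ := Subgroup.mem_zpowers_iff.1 hv
    apply hc1'
    rw [← ha, show ⁅u * x ^ i, x⁆ = ⁅u, x⁆ by rw [commutatorElement_def, commutatorElement_def]; group]
    exact lc_step hu
  have htop : lc G 1 ⊔ Subgroup.zpowers x ⊔ Subgroup.zpowers a = ⊤ := by
    have hS : Nat.card ↥(lc G 1 ⊔ Subgroup.zpowers x) = p ^ p := by
      refine le_antisymm hxS ?_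
      have hlt : Nat.card (lc G 1) < Nat.card ↥(lc G 1 ⊔ Subgroup.zpowers x) :=
        lt_of_le_of_ne (Subgroup.card_le_of_le le_sup_left) fun e => not_mem_lc_one hx
          ((Subgroup.eq_of_le_of_card_ge (le_sup_left : lc G 1 ≤ lc G 1 ⊔ Subgroup.zpowers x) e.ge).ge
            (Subgroup.mem_sup_right (Subgroup.mem_zpowers x)))
      obtain ⟨j, -, hj⟩ := (Nat.dvd_prime_pow hp.out).1
        (hm.card ▸ (lc G 1 ⊔ Subgroup.zpowers x).card_subgroup_dvd_card)
      rw [card_lc hm le_rfl, hj, Nat.pow_lt_pow_iff_right hp.out.one_lt] at hlt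
      rw [hj]
      exact Nat.pow_le_pow_right hp.out.pos (by omega)
    obtain ⟨j, hj', hj⟩ := (Nat.dvd_prime_pow hp.out).1
      (hm.card ▸ (lc G 1 ⊔ Subgroup.zpowers x ⊔ Subgroup.zpowers a).card_subgroup_dvd_card)
    have hlt : p ^ p < p ^ j := by
      rw [← hS, ← hj]
      exact lt_of_le_of_ne (Subgroup.card_le_of_le le_sup_left) fun e => haS
        ((Subgroup.eq_of_le_of_card_ge (le_sup_left : _ ≤ lc G 1 ⊔ Subgroup.zpowers x ⊔ Subgroup.zpowers a) e.ge).ge
          (Subgroup.mem_sup_right (Subgroup.mem_zpowers a)))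
    rw [Nat.pow_lt_pow_iff_right hp.out.one_lt] at hlt
    exact Subgroup.eq_top_of_card_eq _ (by rw [hj, hm.card, show j = p + 1 by omega])
  have hex : ∀ k, 1 ≤ k → k + 2 ≤ p + 1 → ∃ b, b ∈ lc G k ∧ b ∉ lc G (k + 1) := fun k h1 h2 =>
    (exists_depth hm h1 h2)
  let d : ℕ → G := fun k => if h : 1 ≤ k ∧ k + 2 ≤ p then (hex k h.1 (by omega)).choose else z
  have hd : ∀ k, 1 ≤ k → k + 1 ≤ p → d k ∈ lc G k ∧ d k ∉ lc G (k + 1) := by
    intro k h1 h2
    by_cases h : 1 ≤ k ∧ k + 2 ≤ p
    · simp only [d, dif_pos h]; exact (hex k h.1 (by omega)).choose_spec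
    · simp only [d, dif_neg h]
      obtain rfl : k = p - 1 := by omega
      rw [show p - 1 + 1 = p by omega]
      exact ⟨hz, hz'⟩
  let K : ℕ → Subgroup G := fun i => if i = 0 then ⊤ else if i = 1 then lc G 1 ⊔ Subgroup.zpowers a else lc G (i - 1)
  have hKn : ∀ i, (K i).Normal := fun i => by
    simp only [K]
    split_ifs
    · infer_instance
    · refine ⟨fun u hu g => ?_⟩
      have h1 : ⁅g, u⁆ ∈ lc G 1 := by
        rw [← commutatorElement_inv]; exact inv_mem (lc_step (mem_lc_zero u))
      have h2 := mul_mem (Subgroup.mem_sup_left (T := Subgroup.zpowers a) h1) hu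
      rwa [commutatorElement_def, inv_mul_cancel_right] at h2
    · infer_instance
  have hpow : ∀ {g u : G}, u ∈ Subgroup.zpowers g → ∃ t : ℕ, g ^ t = u := fun {g u} h =>
    (mem_powers_iff_mem_zpowers.2 h)
  have hgen : ∀ (H : Subgroup G) (e : G), H.Normal → ∀ u ∈ H ⊔ Subgroup.zpowers e,
      ∃ t : ℕ, (e ^ t)⁻¹ * u ∈ H := by
    intro H e hH u hu
    haveI := hH
    obtain ⟨h, hh, v, hv, rfl⟩ := Subgroup.mem_sup_of_normal_left.1 hu
    obtain ⟨t, rfl⟩ := hpow hv
    exact ⟨t, by simpa [mul_assoc] using hH.conj_mem h hh (e ^ t)⁻¹⟩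
  let C : Chain G :=
    { len := p + 1
      K := K
      e := fun i => if i = 0 then x else if i = 1 then a else d (i - 1)
      wt := fun i => if i < 2 then 1 else i
      top := rfl
      bot := by simp only [K]; rw [if_neg (by omega), if_neg (by omega)]; exact hLp
      normal := hKn
      le := fun i hi => by
        rcases (show i = 0 ∨ i = 1 ∨ 2 ≤ i by omega) with rfl | rfl | h
        · exact le_top
        · simp [K]
        · simp only [K]
          rw [if_neg (by omega), if_neg (by omega), if_neg (by omega), if_neg (by omega)]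
          exact lc_anti (by omega)
      e_mem := fun i hi => by
        rcases (show i = 0 ∨ i = 1 ∨ 2 ≤ i by omega) with rfl | rfl | h
        · simp [K]
        · simp only [K, one_ne_zero, if_false, if_true]
          exact Subgroup.mem_sup_right (Subgroup.mem_zpowers a)
        · simp only [K]
          rw [if_neg (by omega), if_neg (by omega), if_neg (by omega), if_neg (by omega)]
          exact (hd (i - 1) (by omega) (by omega)).1
      e_lc := fun i hi => by
        rcases (show i = 0 ∨ i = 1 ∨ 2 ≤ i by omega) with rfl | rfl | h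
        · exact mem_lc_zero _
        · exact mem_lc_zero _
        · rw [if_neg (by omega), if_neg (by omega), if_neg (by omega)]
          exact (hd (i - 1) (by omega) (by omega)).1
      wt_pos := fun i _ => by split_ifs <;> omega
      below := fun i hi => by
        rcases (show i < 2 ∨ 2 ≤ i by omega) with h | h
        · intro u _
          simp only [if_pos h]
          exact mem_lc_zero u
        · simp only [K]
          rw [if_neg (by omega), if_neg (by omega), if_neg (by omega)]
          exact lc_anti (by omega)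
      above := fun i hi => by
        rcases (show i = 0 ∨ i = 1 ∨ 2 ≤ i by omega) with rfl | rfl | h
        · simp [K]
        · simp [K]
        · simp only [K]
          rw [if_neg (by omega), if_neg (by omega), if_neg (by omega)]
          exact lc_anti (by omega)
      gen := fun i hi u hu => by
        refine hgen _ _ (hKn _) u ?_
        rcases (show i = 0 ∨ i = 1 ∨ 2 ≤ i by omega) with rfl | rfl | h
        · simp only [K, if_true, one_ne_zero, if_false, zero_add]
          rw [sup_assoc, sup_comm (Subgroup.zpowers a), ← sup_assoc, htop]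
          trivial
        · simp only [K, one_ne_zero, if_false, if_true] at hu
          simpa [K] using hu
        · simp only [K] at hu ⊢
          rw [if_neg (by omega), if_neg (by omega)] at hu
          rw [if_neg (by omega), if_neg (by omega), if_neg (by omega), if_neg (by omega)]
          have hh := hd (i - 1) (by omega) (by omega)
          rw [show i - 1 + 1 = i by omega] at hh
          have := sup_zpowers hm (k := i - 1) (by omega) hh.1 (by rw [show i - 1 + 1 = i by omega]; exact hh.2)
          rw [show i - 1 + 1 = i by omega] at this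
          rw [Nat.add_sub_cancel, this]
          exact hu }
  have hlast : C.e (C.len - 1) = z ∧ C.wt (C.len - 1) = p := by
    show (if p + 1 - 1 = 0 then x else if p + 1 - 1 = 1 then a else d (p + 1 - 1 - 1)) = z ∧
      (if p + 1 - 1 < 2 then 1 else p + 1 - 1) = p
    rw [if_neg (by omega), if_neg (by omega), if_neg (by omega), Nat.add_sub_cancel]
    exact ⟨by simp only [d]; rw [dif_neg (by omega)], rfl⟩
  have hnot := last_not_mem (p := p) C hexp (Nat.le_add_left 1 p) hm.card (hp.out.one_le) hLp
  rw [hlast.1, hlast.2] at hnot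
  apply hnot
  -- `[Y, X, ..., X]` lies one step lower
  set X := eps (p := p) x
  set Y := eps (p := p) a
  set T := J (p := p) (⊤ : Subgroup G)
  have hX : X ∈ T 1 := eps_mem_top (k := 0) (mem_lc_zero _)
  have hY : Y ∈ T 1 := eps_mem_top (k := 0) (mem_lc_zero _)
  have hpw : ∀ {q : GA p G}, q ∈ T 1 → ∀ m, q ^ m ∈ T m := fun {q} hq m => by
    induction m with
    | zero => simpa using one_mem_J ⊤
    | succ m ih => rw [pow_succ]; exact mul_mem_J ih hq
  have hZ : ∀ t : ZMod p, (Y + t • X) ^ p ∈ T (p + 1) := by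
    intro t
    obtain ⟨k, rfl⟩ : ∃ k : ℕ, (k : ZMod p) = t := ⟨t.val, ZMod.natCast_zmod_val t⟩
    rw [Nat.cast_smul_eq_nsmul]
    set Z := Y + k • X
    have hZ1 : Z ∈ T 1 := add_mem hY (Submodule.smul_of_tower_mem _ k hX)
    set δ := eps (p := p) (a * x ^ k) - Z
    have hδ : δ ∈ T 2 := by
      have e : δ = (eps (x ^ k) - k • X) + Y * eps (x ^ k) := by
        simp only [δ, Z, eps_mul, Y, X]; abel
      rw [e]
      have h1 := eps_pow_sub (p := p) (Subgroup.mem_top x) (mem_lc_zero x) k
      have h2 := mul_mem_J hY (eps_mem_top (p := p) (k := 0) (mem_lc_zero (x ^ k)))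
      exact add_mem (J_anti (by omega) h1) (J_anti (by omega) h2)
    have hdiff : ∀ m, (Z + δ) ^ m - Z ^ m ∈ T (m + 1) := by
      intro m
      induction m with
      | zero => simp
      | succ m ih =>
        have e : (Z + δ) ^ (m + 1) - Z ^ (m + 1) = ((Z + δ) ^ m - Z ^ m) * (Z + δ) + Z ^ m * δ := by
          rw [pow_succ, pow_succ]; noncomm_ring
        rw [e]
        have h1 := mul_mem_J ih (add_mem hZ1 (J_anti one_le_two hδ))
        have h2 := mul_mem_J (hpw hZ1 m) hδ
        exact add_mem (J_anti (by omega) h1) (J_anti (by omega) h2)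
    have := neg_mem (hdiff p)
    rw [neg_sub, show Z + δ = eps (a * x ^ k) from add_sub_cancel _ _, eps_pow_prime (hexp _), sub_zero] at this
    exact this
  have hL : lin X Y p ∈ T (p + 1) := by
    have h := sum_pow_smul (A := GA p G) h2 X Y p 0 (by omega)
    rw [zero_add, if_neg (by omega), if_pos rfl, zero_add] at h
    have hs : ∑ t : ZMod p, t ^ 0 • (Y + t • X) ^ p ∈ T (p + 1) :=
      Submodule.sum_mem _ fun t _ => Submodule.smul_mem _ _ (hZ t)
    rw [h] at hs
    exact neg_mem_iff.1 hs
  -- the bracket is the Engel element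
  let D : GA p G → GA p G := fun q => X * q - q * X
  have hD : ∀ m, D^[m] Y - eps (c m) ∈ T (m + 2) := by
    intro m
    induction m with
    | zero => simp [c, Y]
    | succ m ih =>
      have hr : X * (D^[m] Y - eps (c m)) - (D^[m] Y - eps (c m)) * X ∈ T (m + 1 + 2) :=
        sub_mem (J_anti (by omega) (mul_mem_J hX ih)) (J_anti (by omega) (mul_mem_J ih hX))
      have h1 := add_mem hr (J_anti (show m + 1 + 2 ≤ m + 2 + 1 by omega)
        (mul_mem_J (eps_mem_top (p := p) (hc (m + 1))) (eps_mem_top (k := 0) (mem_lc_zero (c m * x)))))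
      rw [Function.iterate_succ_apply']
      have h2 := eps_swap (p := p) x (c m)
      rw [← hcs, of_eq] at h2
      convert h1 using 1
      show X * D^[m] Y - D^[m] Y * X - eps (c (m + 1)) = _
      rw [show eps (p := p) (c (m + 1)) * eps (c m * x) =
        X * eps (c m) - eps (c m) * X - eps (c (m + 1)) by rw [h2]; noncomm_ring]
      noncomm_ring
  have hlin : D^[p - 1] Y = lin X Y p := by
    let Lx : Module.End (ZMod p) (GA p G) := LinearMap.mulLeft (ZMod p) X
    let Rx : Module.End (ZMod p) (GA p G) := LinearMap.mulRight (ZMod p) X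
    have hcomm : Commute Lx Rx := LinearMap.ext fun q => (mul_assoc X q X).symm
    have h := sub_pow_pred (p := p) h2 hcomm
    have hit : ∀ m, D^[m] Y = ((Lx - Rx) ^ m) Y := fun m => by
      induction m with
      | zero => simp
      | succ m ih =>
        rw [Function.iterate_succ_apply', pow_succ', Module.End.mul_apply, ← ih]
        rfl
    rw [hit, h, lin_eq_sum, LinearMap.sum_apply]
    refine Finset.sum_congr rfl fun i _ => ?_
    simp only [Lx, Rx, Module.End.mul_apply, LinearMap.pow_mulLeft, LinearMap.pow_mulRight,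
      LinearMap.mulLeft_apply, LinearMap.mulRight_apply, mul_assoc]
  have := sub_mem hL (hD (p - 1) |> fun h => by rwa [show p - 1 + 2 = p + 1 by omega, hlin] at h)
  simpa [hzdef] using this

end

end Cfsg.Agent.Transfer.MCExp
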