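import Cfsg.Agent.Lib.Invol.ProperCore.RankTwoClassical
import Cfsg.Agent.Lib.Transfer.Transitivity
import Cfsg.Agent.Lib.Invol.BlockNormal.Lin
import Cfsg.Agent.Lib.Grp.Quasisimple
import Cfsg.Agent.S0507
import Cfsg.Agent.S0523

/-!
# Simple groups of 2-rank two with a 2-constrained involution centraliser

In `L₃(q)` and `U₃(q)`, `q` odd, the centraliser modulo its core has derived group `SL₂(q')`, which constraint
forces to be `SL₂(3)`; then it is a `{2,3}`-group containing `SL₂(q)`, so `q = 3`.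
-/

set_option autoImplicit false
set_option linter.unusedSectionVars false
set_option linter.style.haveILetI false

namespace Cfsg.Agent.Transfer.NoEightSmall

open Subgroup
open scoped commutatorElement

universe u v

theorem zmod_three_cases : ∀ c : ZMod 3, c = 0 ∨ c = 1 ∨ c = 2 := by decide

theorem zmod_three_sq : (2 : ZMod 3) * 2 = 1 := by decide

/-- A quasisimple normal subgroup centralises the 2-core. -/
theorem commute_pCore {Γ : Type u} [Group Γ] [Finite Γ] (N : Subgroup Γ) [N.Normal]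
    (hq : Cfsg.IsQuasisimple ↥N) : ∀ n ∈ N, ∀ r ∈ Cfsg.pCore 2 Γ, n * r = r * n := by
  haveI : Fact (Nat.Prime 2) := ⟨Nat.prime_two⟩
  haveI : (Cfsg.pCore 2 Γ).Normal := Grp.pCore_isNormal
  set R := Cfsg.pCore 2 Γ with hR
  haveI := hq.2
  haveI : Group.IsPerfect ↥N := hq.1
  have hcen : R.subgroupOf N ≤ center ↥N := by
    refine (Grp.IsQuasisimple.eq_top_or_le_center hq _).resolve_left fun e => ?_
    have hp : IsPGroup 2 ↥N := Grp.pCore_isPGroup.to_le (subgroupOf_eq_top.1 e)
    haveI := hp.isNilpotent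
    haveI : Group.IsSolvable ↥N := inferInstance
    have h1 : derivedSeries ↥N 1 = ⊤ := by
      rw [derivedSeries_one]; exact Group.IsPerfect.commutator_eq_top
    obtain ⟨n, hn⟩ := (Group.isSolvable_def ↥N).1 inferInstance
    have hall : ∀ k, derivedSeries ↥N k = ⊤ := by
      intro k
      induction k with
      | zero => rfl
      | succ k ih => rw [derivedSeries_succ, ih]; rw [derivedSeries_one, _root_.commutator_def] at h1; exact h1
    have htop : (⊤ : Subgroup ↥N) = ⊥ := (hall n).symm.trans hn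
    haveI : Subsingleton ↥N := subsingleton_iff.2 fun a b => by
      have ha : a ∈ (⊥ : Subgroup ↥N) := htop ▸ mem_top a
      have hb : b ∈ (⊥ : Subgroup ↥N) := htop ▸ mem_top b
      rw [mem_bot.1 ha, mem_bot.1 hb]
    haveI : Subsingleton (↥N ⧸ center ↥N) := inferInstance
    exact not_nontrivial (↥N ⧸ center ↥N) inferInstance
  have h0 : ⁅⁅R, N⁆, N⁆ = ⊥ := by
    refine (commutator_eq_bot_iff_le_centralizer).2 fun x hx => mem_centralizer_iff.2 fun n hn => ?_
    have hxN : x ∈ N := commutator_le_right R N hx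
    have hxR : x ∈ R := commutator_le_left R N hx
    exact congrArg Subtype.val (mem_center_iff.1 (hcen (x := ⟨x, hxN⟩) (mem_subgroupOf.2 hxR)) ⟨n, hn⟩)
  have h1 : ⁅⁅N, N⁆, R⁆ = ⊥ := commutator_commutator_eq_bot_of_rotate
    (by rw [commutator_comm N R]; exact h0) h0
  have hNN : ⁅N, N⁆ = N := by
    have h := congrArg (Subgroup.map N.subtype) (Group.IsPerfect.commutator_eq_top (G := ↥N))
    rwa [_root_.commutator_def, map_commutator, ← MonoidHom.range_eq_map, range_subtype] at h
  rw [hNN, commutator_eq_bot_iff_le_centralizer] at h1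
  intro n hn r hr
  exact (mem_centralizer_iff.1 (h1 hn) r hr).symm

/-- Constraint and trivial core: `Γ' ≅ SL₂` forces the field to have three elements. -/
theorem card_eq_three {Γ : Type u} [Group Γ] [Finite Γ]
    (hC : centralizer (Cfsg.pCore 2 Γ : Set Γ) ≤ Cfsg.pCore 2 Γ) {F : Type} [Field F] [Fintype F]
    (hF : Odd (Fintype.card F)) (e : ↥(commutator Γ) ≃* Matrix.SpecialLinearGroup (Fin 2) F) :
    Fintype.card F = 3 := by
  by_contra hne
  have h4 : 4 ≤ Fintype.card F := by
    obtain ⟨k, hk⟩ := hF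
    have := Fintype.one_lt_card (α := F)
    omega
  haveI : Fact (Nat.Prime 2) := ⟨Nat.prime_two⟩
  set N := commutator Γ
  haveI hperf : Group.IsPerfect ↥N := by
    refine ⟨?_⟩
    have h := map_derivedSeries_eq (f := e.symm.toMonoidHom) e.symm.surjective 1
    rw [derivedSeries_one, derivedSeries_one, Invol.BlockNormal.top_of_four_le h4,
      map_top_of_surjective _ e.symm.surjective] at h
    exact h.symm
  haveI : IsSimpleGroup (Matrix.ProjectiveSpecialLinearGroup (Fin 2) F) :=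
    Classical.PSL_isSimple le_rfl fun _ => by omega
  have hq : Cfsg.IsQuasisimple ↥N := by
    refine ⟨hperf, ?_⟩
    exact MulEquiv.isSimpleGroup (QuotientGroup.congr (center ↥N) (center (Matrix.SpecialLinearGroup (Fin 2) F)) e
      (by
        ext y
        simp only [Subgroup.mem_map, mem_center_iff]
        constructor
        · rintro ⟨a, ha, rfl⟩ g
          obtain ⟨b, rfl⟩ := e.surjective g
          simp only [MonoidHom.coe_coe]
          rw [← map_mul, ← map_mul, ha b]
        · intro hy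
          refine ⟨e.symm y, fun g => e.injective ?_, e.apply_symm_apply y⟩
          rw [map_mul, map_mul, e.apply_symm_apply]
          exact hy _))
  have hle : N ≤ Cfsg.pCore 2 Γ := fun n hn => hC (mem_centralizer_iff.2 fun r hr =>
    (commute_pCore N hq n hn r hr).symm)
  have hp : IsPGroup 2 ↥N := Grp.pCore_isPGroup.to_le hle
  obtain ⟨p, hp'⟩ := CharP.exists F
  haveI := hp'
  haveI : Fact p.Prime := ⟨CharP.char_is_prime F p⟩
  obtain ⟨j, hj⟩ := IsPGroup.iff_card.1 (hp.of_equiv e)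
  rw [Lie.SympWreath.natCard_SL2] at hj
  have h2 : Fintype.card F ∣ 2 ^ j := hj ▸ dvd_mul_right _ _
  obtain ⟨i, -, hi⟩ := (Nat.dvd_prime_pow Nat.prime_two).1 h2
  rw [hi] at hF h4
  rcases Nat.eq_zero_or_pos i with rfl | hi0
  · simp at h4
  · exact Nat.not_even_iff_odd.2 hF (even_iff_two_dvd.2 (dvd_pow_self 2 hi0.ne'))

/-- With `Γ' ≅ SL₂(3)` and trivial core, only the primes two and three divide the order. -/
theorem prime_le_three {Γ : Type u} [Group Γ] [Finite Γ] (hO : Cfsg.oddCore Γ = ⊥) {F : Type} [Field F]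
    [Fintype F] (h3 : Fintype.card F = 3) (e : ↥(commutator Γ) ≃* Matrix.SpecialLinearGroup (Fin 2) F)
    {p : ℕ} (hp : p.Prime) (hd : p ∣ Nat.card Γ) : p ≤ 3 := by
  by_contra hlt
  haveI : Fact p.Prime := ⟨hp⟩
  haveI : Fact (Nat.Prime 3) := ⟨Nat.prime_three⟩
  set N := commutator Γ
  obtain ⟨x, hx⟩ := exists_prime_orderOf_dvd_card' p hd
  have hN : Nat.card ↥N = 24 := by
    rw [Nat.card_congr e.toEquiv, Lie.SympWreath.natCard_SL2, h3]
    norm_num
  let ψ : Γ →* MulAut ↥N := MulAut.conjNormal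
  -- `x` fixes every Sylow 3-subgroup, hence every element of order three
  have hfix : ∀ y : ↥N, y ^ 3 = 1 → ψ x y = y := by
    intro y hy
    obtain ⟨Q, hQ⟩ : ∃ Q : Sylow 3 ↥N, y ∈ (Q : Subgroup ↥N) := by
      obtain ⟨Q, hQ⟩ := (IsPGroup.of_card_dvd_pow (p := 3) (n := 1) (G := zpowers y) (by
        rw [Nat.card_zpowers]; simpa using orderOf_dvd_of_pow_eq_one hy) :
          IsPGroup 3 ↥(zpowers y)).exists_le_sylow
      exact ⟨Q, hQ (mem_zpowers y)⟩
    obtain ⟨hQc, hS'⟩ : Nat.card ↥(Q : Subgroup ↥N) = 3 ∧ Nat.card (Sylow 3 ↥N) < 5 := by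
      obtain ⟨k, hk⟩ := IsPGroup.iff_card.1 Q.isPGroup'
      have hm := (Q : Subgroup ↥N).card_mul_index
      rw [hN, hk] at hm
      have hk1 : k = 1 := by
        have h1 : 3 ^ k ∣ 24 := ⟨_, hm.symm⟩
        have hle : k ≤ 2 := by
          by_contra h
          have := Nat.le_of_dvd (by norm_num) ((pow_dvd_pow 3 (by omega : 3 ≤ k)).trans h1)
          omega
        have hnd : ¬ 3 ∣ (Q : Subgroup ↥N).index := Q.not_dvd_index
        interval_cases k
        · exfalso; simp at hm; rw [hm] at hnd; exact hnd (by norm_num)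
        · rfl
        · norm_num at h1
      subst hk1
      have h2 : (Q : Subgroup ↥N).index = 8 := by simp at hm; omega
      refine ⟨by simpa using hk, ?_⟩
      obtain ⟨i, hi, hi'⟩ := (Nat.dvd_prime_pow Nat.prime_two).1
        (show Nat.card (Sylow 3 ↥N) ∣ 2 ^ 3 from (show (Q : Subgroup ↥N).index = 2 ^ 3 from h2) ▸ Q.card_dvd_index)
      have h1 := card_sylow_modEq_one 3 ↥N
      rw [hi'] at h1 ⊢
      interval_cases i <;> simp_all [Nat.ModEq]
    -- the action of `x` on the Sylow subgroups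
    let σ : Equiv.Perm (Sylow 3 ↥N) := MulAction.toPermHom (MulAut ↥N) (Sylow 3 ↥N) (ψ x)
    have hσ : σ = 1 := by
      rw [← orderOf_eq_one_iff]
      have hd : orderOf σ ∣ p := hx ▸ (orderOf_map_dvd _ x |>.trans dvd_rfl : orderOf
        ((MulAction.toPermHom (MulAut ↥N) (Sylow 3 ↥N)).comp ψ x) ∣ orderOf x)
      rcases (Nat.dvd_prime hp).1 hd with h | h
      · exact h
      · exfalso
        haveI : Fintype (Sylow 3 ↥N) := Fintype.ofFinite _
        have h5 := h ▸ orderOf_dvd_natCard σ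
        rw [Nat.card_perm] at h5
        have := (hp.dvd_factorial).1 h5
        have h4 : p ≠ 4 := fun e => by rw [e] at hp; norm_num at hp
        omega
    have hQx : ψ x • Q = Q := Equiv.Perm.ext_iff.1 hσ Q
    have hy' : ψ x y ∈ (Q : Subgroup ↥N) := by
      rw [← hQx]
      exact Subgroup.mem_map.2 ⟨y, hQ, rfl⟩
    -- an automorphism of odd prime order of a group of order three is trivial
    by_contra hne
    have hy1 : y ≠ 1 := fun h => hne (by rw [h, map_one])
    have hgen : (Q : Subgroup ↥N) = zpowers y := (eq_of_le_of_card_ge (zpowers_le.2 hQ) (by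
      rw [hQc, Nat.card_zpowers, orderOf_eq_prime hy hy1])).symm
    rw [hgen] at hy'
    obtain ⟨i, hi⟩ := mem_zpowers_iff.1 hy'
    have hsq : ψ x (ψ x y) = y := by
      have hi3 : (i : ZMod 3) = 0 ∨ (i : ZMod 3) = 1 ∨ (i : ZMod 3) = 2 := by
        exact zmod_three_cases _
      have hmod : ∀ a b : ℤ, (a : ZMod 3) = b → y ^ a = y ^ b := fun a b hab => by
        rw [zpow_eq_zpow_iff_modEq, orderOf_eq_prime hy hy1]
        exact (ZMod.intCast_eq_intCast_iff a b 3).1 hab
      rcases hi3 with h | h | h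
      · exfalso
        exact hy1 ((ψ x).injective (by rw [map_one, ← hi, hmod i 0 (by simpa using h), zpow_zero]))
      · exact absurd (by rw [← hi, hmod i 1 (by simpa using h), zpow_one]) hne
      · rw [← hi, map_zpow, ← hi, ← zpow_mul, hmod (i * i) 1 (by push_cast; rw [h]; exact zmod_three_sq), zpow_one]
    have hpow : ∀ k : ℕ, (ψ x ^ (2 * k)) y = y := by
      intro k
      induction k with
      | zero => simp
      | succ k ih => rw [Nat.mul_succ, pow_add, MulAut.mul_apply, pow_two, MulAut.mul_apply, hsq, ih]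
    obtain ⟨k, hk⟩ : Odd p := hp.odd_of_ne_two (by omega)
    have h1 : (ψ x ^ p) y = y := by rw [← map_pow, ← hx, pow_orderOf_eq_one, map_one]; rfl
    rw [hk, pow_succ', MulAut.mul_apply, hpow] at h1
    exact hne h1
  -- so it centralises `N`, generated by transvections
  have hcent : ∀ y : ↥N, ψ x y = y := by
    have htop : (⊤ : Subgroup (Matrix.SpecialLinearGroup (Fin 2) F)) ≤
        ((MonoidHom.eqLocus (ψ x).toMonoidHom (MonoidHom.id ↥N)).map e.toMonoidHom) := by
      rw [← Classical.SL_closure_transvections, closure_le]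
      rintro _ ⟨t, rfl⟩
      refine ⟨e.symm t.toSpecialLinearGroup, hfix _ ?_, by simp⟩
      rw [← map_pow, ← map_one e.symm]
      congr 1
      apply Subtype.ext
      rw [Matrix.SpecialLinearGroup.coe_pow, Matrix.SpecialLinearGroup.coe_one]
      show (Matrix.transvection t.i t.j t.c) ^ 3 = 1
      rw [pow_succ, pow_two, Matrix.transvection_mul_transvection_same (h := t.hij),
        Matrix.transvection_mul_transvection_same (h := t.hij)]
      have hc : t.c + t.c + t.c = 0 := by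
        haveI : CharP F 3 := charP_of_card_eq_prime h3
        rw [show t.c + t.c + t.c = ((3 : ℕ) : F) * t.c by push_cast; ring, CharP.cast_eq_zero, zero_mul]
      rw [hc, Matrix.transvection_zero]
    intro y
    obtain ⟨w, hw, hwy⟩ := htop (mem_top (e y))
    rw [← e.injective hwy]
    exact hw
  -- hence it lies in a nilpotent normal subgroup
  haveI : (ψ.ker).Normal := inferInstance
  have hxK : x ∈ ψ.ker := MonoidHom.mem_ker.2 (MulEquiv.ext hcent)
  have hcl : ⁅⁅ψ.ker, ψ.ker⁆, ψ.ker⁆ = ⊥ := by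
    rw [commutator_eq_bot_iff_le_centralizer]
    intro a ha
    have haN : a ∈ N := commutator_mono le_top le_top ha
    refine mem_centralizer_iff.2 fun k hk => ?_
    have h := congrArg Subtype.val (MulEquiv.congr_fun (MonoidHom.mem_ker.1 hk) ⟨a, haN⟩)
    simp [ψ] at h
    exact mul_inv_eq_iff_eq_mul.1 h
  haveI : Group.IsNilpotent ↥(ψ.ker) := by
    have hab : ∀ a b : ↥ψ.ker, ⁅a, b⁆ ∈ center ↥ψ.ker := fun a b => mem_center_iff.2 fun c => by
      have h := (commutator_eq_bot_iff_le_centralizer.1 hcl) (commutator_mem_commutator a.2 b.2)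
      exact Subtype.ext (mem_centralizer_iff.1 h c c.2)
    haveI : IsMulCommutative (↥ψ.ker ⧸ center ↥ψ.ker) := ⟨⟨fun a b => by
      induction a using QuotientGroup.induction_on with
      | H a => induction b using QuotientGroup.induction_on with
        | H b =>
          rw [← QuotientGroup.mk_mul, ← QuotientGroup.mk_mul, QuotientGroup.eq]
          have := hab b⁻¹ a⁻¹
          rwa [show (a * b)⁻¹ * (b * a) = ⁅b⁻¹, a⁻¹⁆ by rw [commutatorElement_def]; group]⟩⟩
    letI : CommGroup (↥ψ.ker ⧸ center ↥ψ.ker) :=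
      { (inferInstance : Group (↥ψ.ker ⧸ center ↥ψ.ker)) with mul_comm := fun a b => IsMulCommutative.is_comm.comm a b }
    exact Group.of_quotient_center_nilpotent inferInstance
  obtain ⟨P, hP⟩ := (IsPGroup.of_card (p := p) (n := 1) (G := zpowers (⟨x, hxK⟩ : ↥ψ.ker)) (by
    rw [Nat.card_zpowers, Subgroup.orderOf_mk, hx, pow_one])).exists_le_sylow
  haveI hPn : (P : Subgroup ↥ψ.ker).Normal := inferInstance
  haveI : (P : Subgroup ↥ψ.ker).Characteristic := Sylow.characteristic_of_normal P hPn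
  haveI : ((P : Subgroup ↥ψ.ker).map ψ.ker.subtype).Normal := inferInstance
  have hle := Grp.le_pPrimeCore (p := 2) (N := (P : Subgroup ↥ψ.ker).map ψ.ker.subtype) inferInstance (by
    obtain ⟨n, hn⟩ := IsPGroup.iff_card.1 P.isPGroup'
    rw [Subgroup.card_subtype, hn]
    exact Nat.Coprime.pow_left _ ((Nat.coprime_primes hp Nat.prime_two).2 (by omega)))
  have : x ∈ (⊥ : Subgroup Γ) := hO ▸ hle ⟨⟨x, hxK⟩, hP (mem_zpowers _), rfl⟩
  rw [mem_bot] at this
  rw [this, orderOf_one] at hx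
  exact hp.ne_one hx.symm

theorem eq_three_of_dvd {q N : ℕ} (hq2 : 2 ≤ q) (hodd : Odd q) (hd : q * (q ^ 2 - 1) ∣ N)
    (hN : N ≠ 0) (hp : ∀ p : ℕ, p.Prime → p ∣ N → p ≤ 3) : q = 3 := by
  have hq3 : ∀ p : ℕ, p.Prime → p ∣ q → p = 3 := fun p hpp hpq => by
    have h1 := hp p hpp ((hpq.trans (dvd_mul_right q _)).trans hd)
    have h2 : p ≠ 2 := fun h => Nat.not_even_iff_odd.2 hodd (even_iff_two_dvd.2 (h ▸ hpq))
    have := hpp.two_le
    omega
  obtain ⟨k, hk⟩ : ∃ k, q = 3 ^ k := ⟨_, Nat.eq_prime_pow_of_unique_prime_dvd (by omega)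
    fun {d} hd1 hd2 => hq3 d hd1 hd2⟩
  have hk0 : k ≠ 0 := fun h => by subst h; simp at hk; omega
  have h2 : ∀ m, m ∣ q ^ 2 - 1 → ∃ j, m = 2 ^ j := fun m hm => by
    refine ⟨_, Nat.eq_prime_pow_of_unique_prime_dvd (fun h0 => ?_) fun {d} hd1 hd2 => ?_⟩
    · subst h0
      have := Nat.eq_zero_of_zero_dvd hm
      have : 4 ≤ q ^ 2 := by nlinarith
      omega
    · have h1 := hp d hd1 ((hd2.trans (hm.trans (dvd_mul_left _ q))).trans hd)
      have hd3 : d ≠ 3 := fun h => by
        subst h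
        have h3 : 3 ∣ q ^ 2 := dvd_pow (hk ▸ dvd_pow_self 3 hk0) (by norm_num)
        have h4 : 3 ∣ q ^ 2 - 1 := hd2.trans hm
        have h1' : 1 ≤ q ^ 2 := by nlinarith
        have h5 := Nat.dvd_sub h3 h4
        rw [Nat.sub_sub_self h1'] at h5
        exact absurd (Nat.le_of_dvd one_pos h5) (by norm_num)
      have := hd1.two_le
      omega
  have hf : q ^ 2 - 1 = (q - 1) * (q + 1) := by
    obtain ⟨r, rfl⟩ := Nat.exists_eq_add_of_le hq2
    simp
    ring_nf
    omega
  obtain ⟨a, ha⟩ := h2 (q - 1) (hf ▸ dvd_mul_right _ _)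
  obtain ⟨b, hb⟩ := h2 (q + 1) (hf ▸ dvd_mul_left _ _)
  rcases Nat.lt_or_ge a 2 with h | h
  · obtain ⟨j, hj⟩ := hodd
    interval_cases a <;> norm_num at ha ⊢ <;> omega
  · exfalso
    have hb2 : 2 ≤ b := by
      by_contra hh
      interval_cases b <;> (simp at hb; omega)
    have h4a : 4 ∣ 2 ^ a := (show (2 : ℕ) ^ 2 = 4 from rfl) ▸ pow_dvd_pow 2 h
    have h4b : 4 ∣ 2 ^ b := (show (2 : ℕ) ^ 2 = 4 from rfl) ▸ pow_dvd_pow 2 hb2
    omega

variable {G : Type u} [Group G] [Finite G]

/-- `L₃(q)` and `U₃(q)` with a 2-constrained involution centraliser have `q = 3`. -/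
theorem classical_three [IsSimpleGroup G] (hna : ¬ IsMulCommutative G) (S : Sylow 2 G)
    (hS : Cfsg.IsQuasiDihedral (S : Subgroup G) ∨ Cfsg.IsWreathed (S : Subgroup G)) {w : G} (hw : orderOf w = 2)
    (hC : Cfsg.IsPConstrained 2 ↥(centralizer ({w} : Set G)))
    (hG : (∃ (F : Type) (_ : Field F) (_ : Fintype F), Odd (Fintype.card F) ∧
        Nonempty (G ≃* Matrix.ProjectiveSpecialLinearGroup (Fin 3) F)) ∨
      (∃ (F : Type) (_ : Field F) (_ : Fintype F) (q : ℕ), Fintype.card F = q ^ 2 ∧ Odd q ∧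
        Nonempty (G ≃* Cfsg.PSU 3 F q))) :
    (∃ (F : Type) (_ : Field F) (_ : Fintype F), Fintype.card F = 3 ∧
        Nonempty (G ≃* Matrix.ProjectiveSpecialLinearGroup (Fin 3) F)) ∨
      (∃ (F : Type) (_ : Field F) (_ : Fintype F), Fintype.card F = 9 ∧ Nonempty (G ≃* Cfsg.PSU 3 F 3)) := by
  haveI : Fact (Nat.Prime 2) := ⟨Nat.prime_two⟩
  have hidx : ∀ K : Subgroup G, K.index ≠ 2 := fun K hK => by
    haveI := Subgroup.normal_of_index_eq_two hK
    rcases (inferInstance : K.Normal).eq_bot_or_eq_top with e | e <;> rw [e] at hK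
    · rw [index_bot] at hK
      haveI : IsCyclic G := isCyclic_of_prime_card hK
      exact hna IsCyclic.isMulCommutative
    · rw [index_top] at hK
      omega
  have hone := Invol.AbgConsumers.all_conj_of_no_index_two S hS hidx
  have hcc := Invol.AbgConsumers.core_central_of_cases S hS hidx hone (hG.elim Or.inl fun h => Or.inr (Or.inl h)) w hw
  obtain ⟨F', i1, i2, hF', ⟨e'⟩⟩ := Cfsg.Agent.S1240.result S hS hidx hone w hw
  set C := centralizer ({w} : Set G)
  haveI : (Cfsg.oddCore ↥C).Normal := Grp.pPrimeCore_isNormal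
  set Γ := ↥C ⧸ Cfsg.oddCore ↥C
  have hO : Cfsg.oddCore Γ = ⊥ := by
    exact Grp.pPrimeCore_quotient_eq_bot (p := 2)
  have h3 := card_eq_three (Transfer.Transitivity.centralizer_pCore_quotient hC) hF' e'
  have hp : ∀ p : ℕ, p.Prime → p ∣ Nat.card Γ → p ≤ 3 := fun p hp hd => prime_le_three hO h3 e' hp hd
  rcases hG with ⟨F, j1, j2, hF, ⟨e⟩⟩ | ⟨F, j1, j2, q, hF, hqo, ⟨e⟩⟩
  · haveI : Finite (Matrix.SpecialLinearGroup (Fin 3) F) := inferInstance
    have hd := Invol.ProperCore.card_dvd_of_embedding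
      (e.symm.toMonoidHom.comp (QuotientGroup.mk' (Subgroup.center (Matrix.SpecialLinearGroup (Fin 3) F))))
      (by rw [Invol.AbgConsumers.ker_comp_equiv, QuotientGroup.ker_mk'])
      (by
        rw [Invol.AbgConsumers.ker_comp_equiv, QuotientGroup.ker_mk', Classical.natCard_center_SL,
          show max 3 1 = 3 from rfl]
        exact (by decide : Odd 3).of_dvd_nat (Nat.gcd_dvd_left _ _))
      hF (Invol.Psl3C.blkHom.comp Matrix.SpecialLinearGroup.toGL)
      (Invol.Psl3C.blkHom_injective.comp Matrix.SpecialLinearGroup.toGL_injective) hone hw hcc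
    exact Or.inl ⟨F, j1, j2, eq_three_of_dvd Fintype.one_lt_card hF hd Nat.card_pos.ne' hp, ⟨e⟩⟩
  · have hq2 := Classical.two_le_q hF
    haveI : Finite (Cfsg.SU 3 F q) := inferInstance
    obtain ⟨e₀, n, f, B⟩ := Lie.SUGen.exists_frame hF
    obtain ⟨μ, hμ0, hμ⟩ := Classical.PSUAut.exists_trace_zero hF
    obtain ⟨φ, hφ, -⟩ := Classical.UnitMult.exists_sl2_emb hF B hμ0 hμ
    haveI : Fintype (Classical.UnitMult.fixK hF) := Fintype.ofFinite _
    have hK : Fintype.card (Classical.UnitMult.fixK hF) = q := by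
      rw [← Nat.card_eq_fintype_card]
      exact Classical.UnitMult.natCard_fixK hF
    have hd := Invol.ProperCore.card_dvd_of_embedding
      (e.symm.toMonoidHom.comp (QuotientGroup.mk' (Subgroup.center (Cfsg.SU 3 F q))))
      (by rw [Invol.AbgConsumers.ker_comp_equiv, QuotientGroup.ker_mk'])
      (by
        rw [Invol.AbgConsumers.ker_comp_equiv, QuotientGroup.ker_mk', Classical.natCard_center_SU hF (by norm_num)]
        exact (by decide : Odd 3).of_dvd_nat (Nat.gcd_dvd_left _ _))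
      (hK.symm ▸ hqo) φ hφ hone hw hcc
    rw [hK] at hd
    obtain rfl := eq_three_of_dvd hq2 hqo hd Nat.card_pos.ne' hp
    exact Or.inr ⟨F, j1, j2, by rw [hF]; norm_num, ⟨e⟩⟩

/-- The rank two part of the theorem. -/
theorem rank_two [IsSimpleGroup G] (hna : ¬ IsMulCommutative G) (h2 : Cfsg.PRankLE 2 2 G)
    (T : Sylow 2 G) {w : G} (hwT : w ∈ (T : Subgroup G)) (hw : orderOf w = 2)
    (hC : Cfsg.IsPConstrained 2 ↥(centralizer ({w} : Set G))) :
    (∃ (F : Type) (_ : Field F) (_ : Fintype F), Nonempty (G ≃* Matrix.ProjectiveSpecialLinearGroup (Fin 2) F)) ∨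
      Nonempty (G ≃* ↥(alternatingGroup (Fin 7))) ∨ Cfsg.IsM11 G ∨
      (∃ (F : Type) (_ : Field F) (_ : Fintype F), Fintype.card F = 3 ∧ Nonempty (G ≃* Matrix.ProjectiveSpecialLinearGroup (Fin 3) F)) ∨
      (∃ (F : Type) (_ : Field F) (_ : Fintype F), Fintype.card F = 9 ∧ Nonempty (G ≃* Cfsg.PSU 3 F 3)) ∨
      (∃ (F : Type) (_ : Field F) (_ : Fintype F), Fintype.card F = 16 ∧ Nonempty (G ≃* Cfsg.PSU 3 F 4)) := by
  haveI : Fact (Nat.Prime 2) := ⟨Nat.prime_two⟩
  letI : Fintype (GaloisField 2 4) := Fintype.ofFinite _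
  have hF : Fintype.card (GaloisField 2 4) = 16 := by
    rw [← Nat.card_eq_fintype_card, GaloisField.card 2 4 (by norm_num)]
    norm_num
  obtain ⟨P⟩ : Nonempty (Sylow 2 (Cfsg.PSU 3 (GaloisField 2 4) 4)) := inferInstance
  have hlin := fun hS hG => classical_three hna T hS hw hC hG
  rcases S0516.result hna h2 T hF P with ⟨n, hn, e⟩ | hS | hS | hS
  · rcases Invol.AbgConsumers.dihedral_cases hna T n hn e with ⟨F, i1, i2, -, -, hf⟩ | hf
    · exact Or.inl ⟨F, i1, i2, hf⟩
    · exact Or.inr (Or.inl hf)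
  · rcases S0507.result T hS with ⟨F, i1, i2, h4, hf⟩ | ⟨F, i1, i2, q, hq, h4, hf⟩ | hM
    · rcases hlin (Or.inl hS) (Or.inl ⟨F, i1, i2, Nat.odd_iff.2 (by omega), hf⟩) with h | h
      · exact Or.inr (Or.inr (Or.inr (Or.inl h)))
      · exact Or.inr (Or.inr (Or.inr (Or.inr (Or.inl h))))
    · rcases hlin (Or.inl hS) (Or.inr ⟨F, i1, i2, q, hq, Nat.odd_iff.2 (by omega), hf⟩) with h | h
      · exact Or.inr (Or.inr (Or.inr (Or.inl h)))
      · exact Or.inr (Or.inr (Or.inr (Or.inr (Or.inl h))))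
    · exact Or.inr (Or.inr (Or.inl hM))
  · rcases S0523.result T hS with hl | hu | hM
    · rcases hlin (Or.inr hS) (Or.inl hl) with h | h
      · exact Or.inr (Or.inr (Or.inr (Or.inl h)))
      · exact Or.inr (Or.inr (Or.inr (Or.inr (Or.inl h))))
    · rcases hlin (Or.inr hS) (Or.inr hu) with h | h
      · exact Or.inr (Or.inr (Or.inr (Or.inl h)))
      · exact Or.inr (Or.inr (Or.inr (Or.inr (Or.inl h))))
    · exact Or.inr (Or.inr (Or.inl hM))
  · exact Or.inr (Or.inr (Or.inr (Or.inr (Or.inr ⟨GaloisField 2 4, inferInstance, inferInstance, hF,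
      S0486.result hF T P hS⟩))))

end Cfsg.Agent.Transfer.NoEightSmall
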