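import Mathlib

/-!
Elements `a` of the field with `p ^ q` elements for which `a` and `2 - a` have norm one.
-/

set_option autoImplicit false
set_option linter.style.haveILetI false

open Polynomial
open scoped ComplexConjugate

universe u

namespace Cfsg.Agent.Transfer.NormOne

variable {F : Type u} [Field F]

/-- The set of `a` with `a ^ m = 1` and `(2 - a) ^ m = 1`. -/
def pairSet (F : Type u) [Field F] (m : ℕ) : Set F := {a | a ^ m = 1 ∧ (2 - a) ^ m = 1}

theorem ne_zero_of_pow {x : F} {m : ℕ} (hm : m ≠ 0) (h : x ^ m = 1) : x ≠ 0 := fun e => by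
  rw [e, zero_pow hm] at h; exact zero_ne_one h

theorem sub_mem {m : ℕ} {a : F} (ha : a ∈ pairSet F m) : 2 - a ∈ pairSet F m :=
  ⟨ha.2, by rw [sub_sub_cancel]; exact ha.1⟩

theorem div_eq_geom {p q : ℕ} (hp : 2 ≤ p) : (p ^ q - 1) / (p - 1) = ∑ i ∈ Finset.range q, p ^ i :=
  (Nat.geomSum_eq hp q).symm

variable [Fintype F]

theorem pow_geom {p q : ℕ} [Fact p.Prime] [CharP F p] {k b : F} (hk : k ^ p = k) :
    (1 + k * b) ^ (∑ i ∈ Finset.range q, p ^ i) = ∏ i ∈ Finset.range q, (1 + k * b ^ p ^ i) := by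
  rw [← Finset.prod_pow_eq_pow_sum]
  refine Finset.prod_congr rfl fun i _ => ?_
  rw [add_pow_char_pow, one_pow, mul_pow]
  congr 2
  rename_i h
  clear h
  induction i with
  | zero => rw [pow_zero, pow_one]
  | succ i ih => rw [pow_succ, pow_mul, ih, hk]

theorem charP {p q : ℕ} [hp : Fact p.Prime] (hF : Fintype.card F = p ^ q) (hq : q ≠ 0) : CharP F p := by
  obtain ⟨n, hr, hn⟩ := FiniteField.card F (ringChar F)
  have h : ringChar F = p := by
    have h1 : ringChar F ∣ p ^ q := hF ▸ hn ▸ dvd_pow_self _ n.ne_zero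
    exact (Nat.prime_dvd_prime_iff_eq hr hp.out).1 (hr.dvd_of_dvd_pow h1)
  exact h ▸ ringChar.charP F

/-- If the set is closed under inversion and has an element other than `1`, then `p ≤ q`. -/
theorem le_of_inv_closed {p q : ℕ} [hp : Fact p.Prime] (hF : Fintype.card F = p ^ q) (hq : q ≠ 0)
    (hinv : ∀ a ∈ pairSet F (∑ i ∈ Finset.range q, p ^ i), a⁻¹ ∈ pairSet F (∑ i ∈ Finset.range q, p ^ i))
    {a : F} (ha : a ∈ pairSet F (∑ i ∈ Finset.range q, p ^ i)) (ha1 : a ≠ 1) : p ≤ q := by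
  haveI := charP hF hq
  set m := ∑ i ∈ Finset.range q, p ^ i with hm
  have hm0 : m ≠ 0 := (Finset.sum_pos (fun i _ => pow_pos hp.out.pos i)
    (Finset.nonempty_range_iff.2 hq)).ne'
  set b := 1 - a with hb
  have key : ∀ k : ℕ, (1 + ((k + 1 : ℕ) : F) * b) ^ m = 1 ∧
      (1 + (k : F) * b) / (1 + ((k + 1 : ℕ) : F) * b) ∈ pairSet F m := by
    intro k
    induction k with
    | zero =>
      rw [show 1 + ((0 + 1 : ℕ) : F) * b = 2 - a by rw [hb]; push_cast; ring]
      refine ⟨ha.2, ?_⟩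
      rw [Nat.cast_zero, zero_mul, add_zero, one_div]
      exact hinv _ (sub_mem ha)
    | succ k ih =>
      obtain ⟨h1, h2⟩ := ih
      have h0 : (1 + ((k + 1 : ℕ) : F) * b) ≠ 0 := ne_zero_of_pow hm0 h1
      have he : 2 - (1 + (k : F) * b) / (1 + ((k + 1 : ℕ) : F) * b) =
          (1 + ((k + 1 + 1 : ℕ) : F) * b) / (1 + ((k + 1 : ℕ) : F) * b) := by
        rw [eq_div_iff h0, sub_mul, div_mul_cancel₀ _ h0]; push_cast; ring
      have h3 : (1 + ((k + 1 + 1 : ℕ) : F) * b) ^ m = 1 := by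
        have := h2.2
        rwa [he, div_pow, h1, div_one] at this
      refine ⟨h3, ?_⟩
      have h4 := hinv _ (sub_mem h2)
      rwa [he, inv_div] at h4
  have hall : ∀ k : ℕ, (1 + (k : F) * b) ^ m = 1 := fun k => by
    cases k with
    | zero => simp
    | succ k => exact (key k).1
  set P : F[X] := (∏ i ∈ Finset.range q, (C (b ^ p ^ i) * X + 1)) - 1 with hP
  have hb0 : b ≠ 0 := sub_ne_zero.2 (Ne.symm ha1)
  have hdeg : (∏ i ∈ Finset.range q, (C (b ^ p ^ i) * X + 1) : F[X]).natDegree = q := by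
    have h1 : ∀ i : ℕ, (C (b ^ p ^ i) * X + 1 : F[X]).natDegree = 1 := fun i => by
      rw [show (1 : F[X]) = C 1 by simp]; exact natDegree_linear (pow_ne_zero _ hb0)
    rw [natDegree_prod _ _ fun i _ h => by have h2 := h1 i; rw [h, natDegree_zero] at h2; exact zero_ne_one h2, Finset.sum_congr rfl fun i _ => h1 i,
      Finset.sum_const, Finset.card_range, smul_eq_mul, mul_one]
  have hPdeg : P.natDegree = q := by
    rw [hP, show (1 : F[X]) = C 1 by simp, natDegree_sub_C]
    simpa using hdeg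
  have hP0 : P ≠ 0 := fun h => hq (by rw [← hPdeg, h, natDegree_zero])
  classical
  have hsub : (Finset.range p).image (fun k : ℕ => (k : F)) ⊆ P.roots.toFinset := by
    intro x hx
    obtain ⟨k, -, rfl⟩ := Finset.mem_image.1 hx
    rw [Multiset.mem_toFinset, mem_roots hP0, IsRoot.def, hP]
    simp only [eval_sub, eval_one, eval_prod, eval_add, eval_mul, eval_C, eval_X]
    rw [sub_eq_zero]
    calc ∏ i ∈ Finset.range q, (b ^ p ^ i * (k : F) + 1)
        = ∏ i ∈ Finset.range q, (1 + (k : F) * b ^ p ^ i) := Finset.prod_congr rfl fun i _ => by ring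
      _ = (1 + (k : F) * b) ^ m := (pow_geom (map_natCast (frobenius F p) k)).symm
      _ = 1 := hall k
  have hcard : ((Finset.range p).image (fun k : ℕ => (k : F))).card = p := by
    rw [Finset.card_image_of_injOn, Finset.card_range]
    intro x hx y hy h
    exact CharP.natCast_injOn_Iio F p (Finset.mem_range.1 hx) (Finset.mem_range.1 hy) h
  calc p = _ := hcard.symm
    _ ≤ P.roots.toFinset.card := Finset.card_le_card hsub
    _ ≤ P.roots.card := Multiset.toFinset_card_le _
    _ ≤ P.natDegree := card_roots' P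
    _ = q := hPdeg

/-- The cubic case. -/
theorem exists_mem_three {p : ℕ} [hp : Fact p.Prime] (hp2 : p ≠ 2) (hF : Fintype.card F = p ^ 3) :
    ∃ a ∈ pairSet F (∑ i ∈ Finset.range 3, p ^ i), a ≠ 1 := by
  classical
  haveI := charP hF (by norm_num)
  obtain ⟨A, hA⟩ : ∃ A : ZMod p, ∀ t : ZMod p, t ≠ 0 → t ≠ 2 → (t ^ 3 - 3 * t - 1) / (t ^ 2 - 2 * t) ≠ A := by
    by_contra h
    push Not at h
    have hle : (Finset.univ : Finset (ZMod p)) ⊆
        (Finset.univ.erase 0).image (fun t : ZMod p => (t ^ 3 - 3 * t - 1) / (t ^ 2 - 2 * t)) := fun A _ => by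
      obtain ⟨t, ht0, -, hA⟩ := h A
      exact Finset.mem_image.2 ⟨t, by simp [ht0], hA⟩
    have := (Finset.card_le_card hle).trans Finset.card_image_le
    rw [Finset.card_univ, Finset.card_erase_of_mem (Finset.mem_univ _), Finset.card_univ, ZMod.card] at this
    have := hp.out.two_le
    omega
  set f : (ZMod p)[X] := X ^ 3 - C A * X ^ 2 + C (2 * A - 3) * X - 1 with hf
  have hfdeg : f.natDegree = 3 := by rw [hf]; compute_degree!
  have hfm : f.Monic := by rw [hf]; monicity!
  have hroot : ∀ t : ZMod p, f.eval t ≠ 0 := by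
    intro t ht
    have h : t ^ 3 - A * t ^ 2 + (2 * A - 3) * t - 1 = 0 := by simpa [hf] using ht
    by_cases h0 : t = 0
    · subst h0; exact one_ne_zero (α := ZMod p) (by linear_combination -h)
    by_cases h2 : t = 2
    · subst h2; exact one_ne_zero (α := ZMod p) (by linear_combination h)
    refine hA t h0 h2 ?_
    rw [div_eq_iff (by rw [show t ^ 2 - 2 * t = t * (t - 2) by ring]; exact mul_ne_zero h0 (sub_ne_zero.2 h2))]
    linear_combination h
  have hirr : Irreducible f := by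
    rw [irreducible_iff_roots_eq_zero_of_degree_le_three (by omega) (by omega)]
    exact Multiset.eq_zero_of_forall_notMem fun t ht => hroot t ((mem_roots hfm.ne_zero).1 ht)
  haveI := Fact.mk hirr
  letI : Algebra (ZMod p) F := ZMod.algebra F p
  haveI : Module.Finite (ZMod p) (AdjoinRoot f) := (AdjoinRoot.powerBasis hfm.ne_zero).finite
  haveI : Finite (AdjoinRoot f) := Module.finite_of_finite (ZMod p)
  letI := Fintype.ofFinite (AdjoinRoot f)
  have hcard : Fintype.card (AdjoinRoot f) = Fintype.card F := by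
    rw [Module.card_eq_pow_finrank (K := ZMod p), ZMod.card, (AdjoinRoot.powerBasis hfm.ne_zero).finrank,
      AdjoinRoot.powerBasis_dim, hfdeg, hF]
  haveI : CharP (AdjoinRoot f) p := charP_of_injective_algebraMap (algebraMap (ZMod p) (AdjoinRoot f)).injective p
  have e := FiniteField.algEquivOfCardEq p hcard
  set a := e (AdjoinRoot.root f) with ha
  have hev : ∀ x : F, aeval x f = x ^ 3 - algebraMap (ZMod p) F A * x ^ 2 + (2 * algebraMap (ZMod p) F A - 3) * x - 1 :=
    fun x => by simp [hf, map_ofNat]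
  have hnot : ∀ t : ZMod p, algebraMap (ZMod p) F t ≠ a := by
    intro t ht
    refine hroot t ((algebraMap (ZMod p) F).injective ?_)
    rw [map_zero, ← aeval_algebraMap_apply_eq_algebraMap_eval, ht, ha, aeval_algHom_apply, AdjoinRoot.aeval_eq,
      AdjoinRoot.mk_self, map_zero]
  have hfr : ∀ x : F, aeval x f = 0 → aeval (x ^ p) f = 0 := fun x hx => by
    have h := aeval_algHom_apply (FiniteField.frobeniusAlgHom (ZMod p) F) x f
    rw [hx, map_zero] at h
    simpa only [FiniteField.coe_frobeniusAlgHom, ZMod.card] using h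
  have haf : aeval a f = 0 := by rw [ha, aeval_algHom_apply, AdjoinRoot.aeval_eq, AdjoinRoot.mk_self, map_zero]
  have hx1 : a ^ p ≠ a := fun h => by
    have hm : a ∈ (⊥ : Subfield F) := (Subfield.mem_bot_iff_pow_eq_self (F := F) (p := p)).2 h
    rw [← ZMod.fieldRange_castHom_eq_bot p, RingHom.mem_fieldRange] at hm
    obtain ⟨t, ht⟩ := hm
    exact hnot t ht
  have hpow3 : ((a ^ p) ^ p) ^ p = a := by
    rw [← pow_mul, ← pow_mul, show p * (p * p) = p ^ 3 by ring, ← hF, FiniteField.pow_card]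
  have hx2 : (a ^ p) ^ p ≠ a := fun h => hx1 (by rwa [h] at hpow3)
  have hx3 : (a ^ p) ^ p ≠ a ^ p := fun h => hx2 (by
    have : ((a ^ p) ^ p) ^ p = (a ^ p) ^ p := congrArg (· ^ p) h
    rw [hpow3] at this
    exact this.symm)
  have E1 : ∀ x : F, aeval x f = 0 → x ^ 3 - algebraMap (ZMod p) F A * x ^ 2 + (2 * algebraMap (ZMod p) F A - 3) * x - 1 = 0 :=
    fun x hx => (hev x).symm.trans hx
  set B := algebraMap (ZMod p) F A with hB
  have h1 := E1 a haf
  have h2 := E1 _ (hfr _ haf)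
  have h3 := E1 _ (hfr _ (hfr _ haf))
  obtain ⟨y, hy⟩ : ∃ y, a ^ p = y := ⟨_, rfl⟩
  rw [hy] at h2 h3 hx1 hx2 hx3
  obtain ⟨z, hz⟩ : ∃ z, y ^ p = z := ⟨_, rfl⟩
  rw [hz] at h3 hx2 hx3
  have h12 : a ^ 2 + a * y + y ^ 2 - B * (a + y) + (2 * B - 3) = 0 :=
    mul_left_cancel₀ (sub_ne_zero.2 (Ne.symm hx1)) (by rw [mul_zero]; linear_combination h1 - h2)
  have h13 : a ^ 2 + a * z + z ^ 2 - B * (a + z) + (2 * B - 3) = 0 :=
    mul_left_cancel₀ (sub_ne_zero.2 (Ne.symm hx2)) (by rw [mul_zero]; linear_combination h1 - h3)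
  have hs1 : a + y + z - B = 0 :=
    mul_left_cancel₀ (sub_ne_zero.2 (Ne.symm hx3)) (by rw [mul_zero]; linear_combination h12 - h13)
  have hgeo : ∀ x : F, x ^ (∑ i ∈ Finset.range 3, p ^ i) = x * x ^ p * (x ^ p) ^ p := fun x => by
    simp [Finset.sum_range_succ, pow_add, ← pow_mul, pow_two]
  refine ⟨a, ⟨?_, ?_⟩, fun h => hnot 1 (by rw [h, map_one])⟩
  · rw [hgeo, hy, hz]
    linear_combination h1 - a * h12 + a * y * hs1
  · rw [hgeo, sub_pow_char, sub_pow_char]
    have h2p : (2 : F) ^ p = 2 := map_natCast (frobenius F p) 2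
    rw [h2p, hy, h2p, hz]
    linear_combination (-1 : F) * h1 + (a - 2) * h12 + (-4 + 2 * a + 2 * y - a * y) * hs1

section CharSum

variable [DecidableEq F]

/-- The `m`-th roots of unity as a finset. -/
noncomputable def roots1 (F : Type u) [Field F] [Fintype F] [DecidableEq F] (m : ℕ) : Finset F :=
  Finset.univ.filter fun x => x ^ m = 1

theorem mem_roots1 {m : ℕ} {x : F} : x ∈ roots1 F m ↔ x ^ m = 1 := by simp [roots1]

theorem card_roots1 {m : ℕ} (hm : m ≠ 0) (hd : m ∣ Fintype.card F - 1) : (roots1 F m).card = m := by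
  have hunits : Fintype.card Fˣ = Fintype.card F - 1 := Fintype.card_units F
  obtain ⟨ζ, hζ⟩ : ∃ ζ : F, IsPrimitiveRoot ζ m := by
    obtain ⟨g, hg⟩ := IsCyclic.exists_generator (α := Fˣ)
    obtain ⟨c, hc⟩ := hd
    have hord : orderOf g = m * c := by
      rw [orderOf_eq_card_of_forall_mem_zpowers hg, Nat.card_eq_fintype_card, hunits, hc]
    have hc0 : c ≠ 0 := fun h => (orderOf_pos g).ne' (by rw [hord, h, mul_zero])
    refine ⟨((g ^ c : Fˣ) : F), (IsPrimitiveRoot.coe_units_iff).2 ?_⟩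
    rw [IsPrimitiveRoot.iff_orderOf, orderOf_pow_of_dvd hc0 ⟨m, by rw [hord, mul_comm]⟩, hord,
      Nat.mul_div_cancel _ (Nat.pos_of_ne_zero hc0)]
  have : roots1 F m = (Polynomial.nthRoots m (1 : F)).toFinset := by
    ext x; simp [mem_roots1, Polynomial.mem_nthRoots (Nat.pos_of_ne_zero hm)]
  rw [this, Multiset.toFinset_card_of_nodup hζ.nthRoots_one_nodup, hζ.card_nthRoots_one]

/-- The character sum over the roots of unity. -/
noncomputable def csum (m : ℕ) (χ : AddChar F ℂ) : ℂ := ∑ x ∈ roots1 F m, χ x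

theorem csum_mulShift {m : ℕ} (hm : m ≠ 0) (χ : AddChar F ℂ) {w : F} (hw : w ^ m = 1) :
    csum m (χ.mulShift w) = csum m χ := by
  have hw0 := ne_zero_of_pow hm hw
  refine Finset.sum_nbij' (fun x => w * x) (fun x => w⁻¹ * x) ?_ ?_ ?_ ?_ ?_
  · intro x hx
    simp only [Finset.mem_coe, mem_roots1] at *
    rw [mul_pow, hw, hx, mul_one]
  · intro x hx
    simp only [Finset.mem_coe, mem_roots1] at *
    rw [mul_pow, inv_pow, hw, hx, inv_one, mul_one]
  · exact fun x _ => inv_mul_cancel_left₀ hw0 x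
  · exact fun x _ => mul_inv_cancel_left₀ hw0 x
  · intro x _; rw [AddChar.mulShift_apply]

theorem sum_norm_sq (m : ℕ) :
    ∑ χ : AddChar F ℂ, ‖csum m χ‖ ^ 2 = ((roots1 F m).card : ℝ) * Fintype.card F := by
  have h : ∑ χ : AddChar F ℂ, csum m χ * conj (csum m χ) = ((roots1 F m).card : ℂ) * Fintype.card F := by
    calc ∑ χ : AddChar F ℂ, csum m χ * conj (csum m χ)
        = ∑ χ : AddChar F ℂ, ∑ x ∈ roots1 F m, ∑ y ∈ roots1 F m, χ (x - y) := by
          refine Finset.sum_congr rfl fun χ _ => ?_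
          rw [csum, map_sum, Finset.sum_mul_sum]
          refine Finset.sum_congr rfl fun x _ => Finset.sum_congr rfl fun y _ => ?_
          rw [sub_eq_add_neg, AddChar.map_add_eq_mul, AddChar.map_neg_eq_conj]
      _ = ∑ x ∈ roots1 F m, ∑ y ∈ roots1 F m, ∑ χ : AddChar F ℂ, χ (x - y) := by
          rw [Finset.sum_comm]; exact Finset.sum_congr rfl fun x _ => Finset.sum_comm
      _ = ∑ x ∈ roots1 F m, (Fintype.card F : ℂ) := by
          refine Finset.sum_congr rfl fun x hx => ?_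
          simp_rw [AddChar.sum_apply_eq_ite, sub_eq_zero]
          rw [Finset.sum_ite_eq]
          simp [hx]
      _ = _ := by rw [Finset.sum_const, nsmul_eq_mul]
  simp_rw [Complex.mul_conj'] at h
  exact_mod_cast h

theorem norm_csum_le {m : ℕ} (hm : m ≠ 0) (hd : m ∣ Fintype.card F - 1) {χ : AddChar F ℂ} (hχ : χ ≠ 0) :
    ‖csum m χ‖ ≤ Real.sqrt (Fintype.card F) := by
  have hinj : Set.InjOn (fun w => χ.mulShift w) (roots1 F m : Set F) := by
    intro v _ w _ h
    by_contra hvw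
    refine hχ (AddChar.ext _ _ fun x => ?_)
    have h1 := DFunLike.congr_fun h ((v - w)⁻¹ * x)
    simp only [AddChar.mulShift_apply] at h1
    have h2 : v * ((v - w)⁻¹ * x) = w * ((v - w)⁻¹ * x) + x := by
      have := sub_ne_zero.2 hvw
      field_simp
      ring
    rw [h2, AddChar.map_add_eq_mul] at h1
    rw [AddChar.zero_apply]
    exact mul_left_cancel₀ (AddChar.val_isUnit χ _).ne_zero (h1.trans (mul_one _).symm)
  have h1 : (m : ℝ) * ‖csum m χ‖ ^ 2 ≤ (m : ℝ) * Fintype.card F := by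
    have h2 := sum_norm_sq (F := F) m
    rw [card_roots1 hm hd] at h2
    rw [← h2]
    classical
    calc (m : ℝ) * ‖csum m χ‖ ^ 2 = ∑ η ∈ (roots1 F m).image (fun w => χ.mulShift w), ‖csum m η‖ ^ 2 := by
          rw [Finset.sum_image hinj, Finset.sum_congr rfl fun w hw => by
            rw [csum_mulShift hm χ (mem_roots1.1 hw)], Finset.sum_const, card_roots1 hm hd, nsmul_eq_mul]
      _ ≤ _ := Finset.sum_le_sum_of_subset_of_nonneg (Finset.subset_univ _) fun _ _ _ => sq_nonneg _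
  have hm' : (0 : ℝ) < m := by exact_mod_cast Nat.pos_of_ne_zero hm
  exact Real.le_sqrt_of_sq_le (le_of_mul_le_mul_left h1 hm')

/-- The counting estimate. -/
theorem card_pair_bound (h2F : (2 : F) ≠ 0) {m : ℕ} (hm : m ≠ 0) (hd : m ∣ Fintype.card F - 1) :
    (m : ℝ) ^ 2 ≤ (Fintype.card F : ℝ) * (pairSet F m).ncard + Real.sqrt (Fintype.card F) * Fintype.card F := by
  classical
  set Q : ℝ := (Fintype.card F : ℝ)
  set N := (pairSet F m).ncard with hN
  have hcard := card_roots1 (F := F) hm hd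
  have hN' : ((roots1 F m).filter fun x => 2 - x ∈ roots1 F m).card = N := by
    rw [hN, ← Set.ncard_coe_finset]
    congr 1
    ext x; simp [pairSet, mem_roots1]
  have hmain : (m : ℂ) * ((Fintype.card F : ℂ) * N) =
      ∑ χ : AddChar F ℂ, csum m χ ^ 2 * csum m (χ.mulShift (-2)) := by
    have h1 : ∀ w : F, w ^ m = 1 → (Fintype.card F : ℂ) * N = ∑ χ : AddChar F ℂ, csum m χ ^ 2 * χ (-2 * w) := by
      intro w hw
      calc (Fintype.card F : ℂ) * N = ∑ x ∈ roots1 F m, ∑ y ∈ roots1 F m, ∑ χ : AddChar F ℂ, χ (x + y - 2) := by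
            simp_rw [AddChar.sum_apply_eq_ite, sub_eq_zero]
            have h2 : ∀ x : F, ∀ y : F, (x + y = 2) ↔ (2 - x = y) := fun x y =>
              ⟨fun h => by rw [← h]; ring, fun h => by rw [← h]; ring⟩
            simp_rw [h2, Finset.sum_ite_eq]
            rw [← Finset.sum_filter, Finset.sum_const, hN', nsmul_eq_mul, mul_comm]
        _ = ∑ χ : AddChar F ℂ, csum m χ ^ 2 * χ (-2) := by
            rw [Finset.sum_congr rfl fun x _ => Finset.sum_comm (s := roots1 F m), Finset.sum_comm]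
            refine Finset.sum_congr rfl fun χ _ => ?_
            rw [sq, csum, Finset.sum_mul_sum, Finset.sum_mul]
            refine Finset.sum_congr rfl fun x _ => ?_
            rw [Finset.sum_mul]
            exact Finset.sum_congr rfl fun y _ => by rw [sub_eq_add_neg, AddChar.map_add_eq_mul, AddChar.map_add_eq_mul]
        _ = _ := by
            have hw0 := ne_zero_of_pow hm hw
            refine Finset.sum_nbij' (fun χ => AddChar.mulShift χ w⁻¹) (fun χ => AddChar.mulShift χ w)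
              (fun _ _ => Finset.mem_coe.2 (Finset.mem_univ _)) (fun _ _ => Finset.mem_coe.2 (Finset.mem_univ _)) ?_ ?_ ?_
            · exact fun χ _ => AddChar.ext _ _ fun x => by
                simp only [AddChar.mulShift_apply]; rw [inv_mul_cancel_left₀ hw0]
            · exact fun χ _ => AddChar.ext _ _ fun x => by
                simp only [AddChar.mulShift_apply]; rw [mul_inv_cancel_left₀ hw0]
            · intro χ _
              rw [csum_mulShift hm χ (by rw [inv_pow, hw, inv_one]), AddChar.mulShift_apply,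
                mul_comm (-2 : F) w, inv_mul_cancel_left₀ hw0]
    calc (m : ℂ) * ((Fintype.card F : ℂ) * N) = ∑ w ∈ roots1 F m, (Fintype.card F : ℂ) * N := by
          rw [Finset.sum_const, hcard, nsmul_eq_mul]
      _ = ∑ w ∈ roots1 F m, ∑ χ : AddChar F ℂ, csum m χ ^ 2 * χ (-2 * w) :=
          Finset.sum_congr rfl fun w hw => h1 w (mem_roots1.1 hw)
      _ = _ := by
          rw [Finset.sum_comm]
          refine Finset.sum_congr rfl fun χ _ => ?_
          simp only [csum, Finset.mul_sum, AddChar.mulShift_apply]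
  have h0 : csum m (0 : AddChar F ℂ) = m := by simp [csum, hcard]
  rw [← Finset.add_sum_erase _ _ (Finset.mem_univ (0 : AddChar F ℂ))] at hmain
  rw [h0, show AddChar.mulShift (0 : AddChar F ℂ) (-2) = 0 from AddChar.ext _ _ fun x => rfl, h0] at hmain
  have hrest : ‖∑ χ ∈ (Finset.univ : Finset (AddChar F ℂ)).erase 0, csum m χ ^ 2 * csum m (χ.mulShift (-2))‖ ≤
      Real.sqrt Q * ((m : ℝ) * Q) := by
    refine (norm_sum_le _ _).trans ?_
    calc ∑ χ ∈ (Finset.univ : Finset (AddChar F ℂ)).erase 0, ‖csum m χ ^ 2 * csum m (χ.mulShift (-2))‖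
        ≤ ∑ χ ∈ (Finset.univ : Finset (AddChar F ℂ)).erase 0, Real.sqrt Q * ‖csum m χ‖ ^ 2 := by
          refine Finset.sum_le_sum fun χ hχ => ?_
          rw [norm_mul, norm_pow, mul_comm]
          refine mul_le_mul_of_nonneg_right ?_ (sq_nonneg _)
          by_cases h2 : χ.mulShift (-2) = 0
          · exfalso
            refine (Finset.mem_erase.1 hχ).1 (AddChar.ext _ _ fun x => ?_)
            have := DFunLike.congr_fun h2 ((-2 : F)⁻¹ * x)
            rwa [AddChar.mulShift_apply, mul_inv_cancel_left₀ (neg_ne_zero.2 h2F)] at this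
          · exact norm_csum_le hm hd h2
      _ = Real.sqrt Q * ∑ χ ∈ (Finset.univ : Finset (AddChar F ℂ)).erase 0, ‖csum m χ‖ ^ 2 := by rw [Finset.mul_sum]
      _ ≤ Real.sqrt Q * ∑ χ : AddChar F ℂ, ‖csum m χ‖ ^ 2 := mul_le_mul_of_nonneg_left
          (Finset.sum_le_sum_of_subset_of_nonneg (Finset.erase_subset _ _) fun _ _ _ => sq_nonneg _) (Real.sqrt_nonneg _)
      _ = _ := by rw [sum_norm_sq, hcard]
  have hm' : (0 : ℝ) < m := by exact_mod_cast Nat.pos_of_ne_zero hm
  have h5 : ‖((m : ℂ) * ((Fintype.card F : ℂ) * N)) - (m : ℂ) ^ 2 * m‖ ≤ Real.sqrt Q * ((m : ℝ) * Q) := by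
    rw [hmain, add_sub_cancel_left]; exact hrest
  have h6 : (m : ℝ) ^ 2 * m - (m : ℝ) * (Q * N) ≤ Real.sqrt Q * ((m : ℝ) * Q) := by
    refine le_trans (le_abs_self _) ?_
    rw [abs_sub_comm]
    refine le_of_eq_of_le ?_ h5
    rw [← Real.norm_eq_abs, ← Complex.norm_real]
    congr 1
    simp only [Q]
    push_cast
    ring
  nlinarith

end CharSum

theorem geom_dvd {p q : ℕ} : (∑ i ∈ Finset.range q, p ^ i) ∣ p ^ q - 1 := by
  rcases Nat.eq_zero_or_pos p with rfl | hp
  · rcases q with _ | q <;> simp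
  · exact ⟨p - 1, by
      have := geom_sum_mul_of_one_le (R := ℕ) hp q
      exact this.symm⟩

theorem one_mem_pairSet (F : Type u) [Field F] (m : ℕ) : (1 : F) ∈ pairSet F m :=
  ⟨one_pow m, by norm_num⟩

/-- For odd primes there is an element other than `1`. -/
theorem exists_ne_one {p q : ℕ} [hp : Fact p.Prime] (hp2 : p ≠ 2) (hF : Fintype.card F = p ^ q) (hq : q.Prime)
    (hq2 : q ≠ 2) : ∃ a ∈ pairSet F (∑ i ∈ Finset.range q, p ^ i), a ≠ 1 := by
  classical
  by_cases hq3 : q = 3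
  · subst hq3; exact exists_mem_three hp2 hF
  haveI := charP hF hq.ne_zero
  have hq5 : 5 ≤ q := by
    have := hq.two_le
    by_contra h
    interval_cases q <;> first | omega | exact absurd hq (by norm_num)
  have hp3 : 3 ≤ p := by have := hp.out.two_le; omega
  have h2F : (2 : F) ≠ 0 := fun h => hp2 (by
    have h' : ((2 : ℕ) : F) = 0 := by exact_mod_cast h
    rw [CharP.cast_eq_zero_iff F p] at h'
    exact (Nat.prime_dvd_prime_iff_eq hp.out Nat.prime_two).1 h')
  set m := ∑ i ∈ Finset.range q, p ^ i with hm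
  have hml : p ^ (q - 1) ≤ m :=
    Finset.single_le_sum (f := fun i => p ^ i) (fun i _ => Nat.zero_le _) (Finset.mem_range.2 (by omega))
  have hm0 : m ≠ 0 := by have := pow_pos hp.out.pos (q - 1); omega
  have hb := card_pair_bound h2F hm0 (hF.symm ▸ geom_dvd)
  by_contra hne
  push Not at hne
  have hset : pairSet F m = {1} :=
    Set.eq_singleton_iff_unique_mem.2 ⟨one_mem_pairSet F m, hne⟩
  rw [hset, Set.ncard_singleton, Nat.cast_one, mul_one, hF] at hb
  set X : ℝ := (p : ℝ) ^ (q - 2) with hX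
  have hp3' : (3 : ℝ) ≤ p := by exact_mod_cast hp3
  have hQ : ((p ^ q : ℕ) : ℝ) = (p : ℝ) ^ 2 * X := by
    rw [hX, ← pow_add, Nat.cast_pow]; congr 1; omega
  have hX3 : (p : ℝ) ^ 2 * 3 ≤ X := by
    rw [hX, show q - 2 = 2 + (q - 4) by omega, pow_add]
    refine mul_le_mul_of_nonneg_left (hp3'.trans ?_) (sq_nonneg _)
    exact le_self_pow₀ (by linarith) (by omega)
  have hm2 : ((p ^ q : ℕ) : ℝ) * X ≤ (m : ℝ) ^ 2 := by
    have h1 : ((p : ℝ) ^ (q - 1)) ≤ m := by exact_mod_cast hml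
    calc ((p ^ q : ℕ) : ℝ) * X = ((p : ℝ) ^ (q - 1)) ^ 2 := by
          rw [hX, Nat.cast_pow, ← pow_add, ← pow_mul]; congr 1; omega
      _ ≤ _ := pow_le_pow_left₀ (by positivity) h1 2
  have hr : Real.sqrt ((p ^ q : ℕ) : ℝ) < X - 1 := by
    rw [Real.sqrt_lt' (by nlinarith)]
    rw [hQ]
    have hX9 : 27 ≤ X := by nlinarith [sq_nonneg ((p : ℝ) - 3)]
    nlinarith [mul_le_mul_of_nonneg_right hX3 (show (0 : ℝ) ≤ X by linarith)]
  have hQpos : (0 : ℝ) < ((p ^ q : ℕ) : ℝ) := by exact_mod_cast pow_pos hp.out.pos q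
  have h7 : Real.sqrt ((p ^ q : ℕ) : ℝ) * ((p ^ q : ℕ) : ℝ) < (X - 1) * ((p ^ q : ℕ) : ℝ) := mul_lt_mul_of_pos_right hr hQpos
  nlinarith

theorem norm_eq_one_iff {p q : ℕ} [hp : Fact p.Prime] [Algebra (ZMod p) F] (hF : Fintype.card F = p ^ q) (x : F) :
    Algebra.norm (ZMod p) x = 1 ↔ x ^ (∑ i ∈ Finset.range q, p ^ i) = 1 := by
  rw [← div_eq_geom hp.out.two_le, ← (algebraMap (ZMod p) F).injective.eq_iff, map_one,
    FiniteField.algebraMap_norm_eq_pow, Nat.card_zmod, Nat.card_eq_fintype_card, hF]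

end Cfsg.Agent.Transfer.NormOne
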