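import Mathlib
import Cfsg.Agent.Lib.Transfer.OffenderFactors

/-!
Abelian offenders in a group with self-centralizing odd core: they are elementary abelian and exact.
-/

set_option autoImplicit false
set_option linter.unusedSectionVars false
set_option linter.style.haveILetI false
set_option maxHeartbeats 1000000

namespace Cfsg.Agent.Transfer.Offender

open Subgroup
open scoped commutatorElement

variable {G : Type*} [Group G] [Finite G]

/-- A nontrivial `p`-subgroup is not equal to its commutator with a `p`-group normalizing it. -/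
theorem commutator_ne_self {p : ℕ} [Fact p.Prime] {X A : Subgroup G} (hX : IsPGroup p X)
    (hA : IsPGroup p A) (hn : A ≤ Subgroup.normalizer (X : Set G)) (h : ⁅X, A⁆ = X) : X = ⊥ := by
  set P := X ⊔ A with hP
  have hPp : IsPGroup p P := IsPGroup.to_sup_of_normal_left' hX hA hn
  haveI := hPp.isNilpotent
  obtain ⟨n, hbot⟩ := Subgroup.nilpotent_iff_lowerCentralSeries.mp hPp.isNilpotent
  have key : ∀ m : ℕ, X ≤ (((⊤ : Subgroup P).lowerCentralSeries m).map P.subtype) := by
    intro m
    induction m with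
    | zero =>
      rw [Subgroup.lowerCentralSeries_zero, ← MonoidHom.range_eq_map, Subgroup.range_subtype]
      exact le_sup_left
    | succ m ih =>
      rw [← h]
      refine Subgroup.commutator_le.mpr fun x hx a ha => ?_
      obtain ⟨y, hy, rfl⟩ := ih hx
      refine ⟨⁅y, ⟨a, le_sup_right (a := X) ha⟩⁆, ?_, map_commutatorElement _ _ _⟩
      rw [Subgroup.lowerCentralSeries_succ]
      exact Subgroup.commutator_mem_commutator hy (Subgroup.mem_top _)
  have := key n
  rw [hbot, Subgroup.map_bot] at this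
  exact le_bot_iff.mp this

variable {V H Q : Subgroup G}

section
variable (s : Setup 2 V H Q)
include s

/-- An abelian offender which is not elementary contains a smaller nontrivial one. -/
theorem Setup.exists_smaller {A : Subgroup G} (hAH : A ≤ H) (hA : IsPGroup 2 A)
    (hc : ∀ a ∈ A, ∀ b ∈ A, a * b = b * a)
    (hoff : Nat.card V ≤ Nat.card A * Nat.card ↥(fix V A))
    (hne : ¬ Cfsg.IsElementaryAbelian 2 A) :
    ∃ B ≤ A, B ≠ A ∧ B ≠ ⊥ ∧ Nat.card V ≤ Nat.card B * Nat.card ↥(fix V B) := by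
  classical
  have hVc : ∀ x ∈ V, ∀ y ∈ V, x * y = y * x := fun x hx y hy =>
    Grp.elemAb_comm s.elem x hx y hy
  have hnorm : ∀ a ∈ A, ∀ v ∈ V, a * v * a⁻¹ ∈ V := fun a ha v hv =>
    Grp.mem_conj_normalizer (s.norm (hAH ha)) hv
  -- an element which is not quadratic
  obtain ⟨a₀, ha₀, v, hv, hmove⟩ : ∃ a₀ ∈ A, ∃ v ∈ V,
      a₀ * (a₀ * v * a₀⁻¹ * v⁻¹) * a₀⁻¹ ≠ a₀ * v * a₀⁻¹ * v⁻¹ := by
    by_contra hall
    push Not at hall
    refine hne ⟨⟨⟨fun a b => Subtype.ext (hc a a.2 b b.2)⟩⟩, fun a ha => ?_⟩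
    rw [← Subgroup.mem_bot, ← s.faithful]
    refine ⟨pow_mem (hAH ha) 2, Subgroup.mem_centralizer_iff.mpr fun v hv => ?_⟩
    set c := a * v * a⁻¹ * v⁻¹ with hcdef
    have hcV : c ∈ V := V.mul_mem (hnorm a ha v hv) (V.inv_mem hv)
    have h1 : a * c * a⁻¹ = c := hall a ha v hv
    have h2 : c * c = 1 := by rw [← sq]; exact s.elem.2 c hcV
    have h3 : a ^ 2 * v * (a ^ 2)⁻¹ = v := by
      calc a ^ 2 * v * (a ^ 2)⁻¹ = (a * c * a⁻¹) * (a * v * a⁻¹) := by rw [hcdef, sq]; group
        _ = c * (c * v) := by rw [h1, hcdef]; group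
        _ = v := by rw [← mul_assoc, h2, one_mul]
    exact (mul_inv_eq_iff_eq_mul.mp h3).symm
  set U₀ : Subgroup G := Subgroup.closure {x | ∃ b ∈ A, x = b * v * b⁻¹ * v⁻¹} with hU₀
  set B : Subgroup G := A ⊓ Subgroup.centralizer (U₀ : Set G) with hB
  have hU₀V : U₀ ≤ V := (Subgroup.closure_le _).mpr fun x ⟨b, hb, e⟩ =>
    e ▸ V.mul_mem (hnorm b hb v hv) (V.inv_mem hv)
  have hU₀c : U₀ ≤ ⁅V, A⁆ := (Subgroup.closure_le _).mpr fun x ⟨b, hb, e⟩ => by
    rw [Subgroup.commutator_comm, SetLike.mem_coe, e, ← commutatorElement_def]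
    exact Subgroup.commutator_mem_commutator hb hv
  set S : Subgroup G := U₀ ⊔ fix V A with hS
  have hBA : B ≤ A := inf_le_left
  have hSB : S ≤ fix V B := sup_le
    (le_inf hU₀V (Subgroup.le_centralizer_iff.mp inf_le_right)) (fix_anti hBA)
  -- the index of `B`
  have hidx : Nat.card A ≤ Nat.card B * (fix V A).relIndex S := by
    rw [← Grp.card_mul_relIndex hBA]
    refine Nat.mul_le_mul_left _ ?_
    rw [Subgroup.relIndex, Subgroup.relIndex, Subgroup.index, Subgroup.index]
    have hmem : ∀ b : A, (b : G) * v * (b : G)⁻¹ * v⁻¹ ∈ S := fun b =>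
      Subgroup.mem_sup_left (Subgroup.subset_closure ⟨b, b.2, rfl⟩)
    refine Nat.card_le_card_of_injective
      (fun q : A ⧸ B.subgroupOf A =>
        (QuotientGroup.mk (⟨_, hmem q.out⟩ : S) : S ⧸ (fix V A).subgroupOf S)) ?_
    intro q r hqr
    rw [QuotientGroup.eq] at hqr
    rw [← Quotient.out_eq q, ← Quotient.out_eq r]
    refine QuotientGroup.eq.mpr ⟨A.mul_mem (A.inv_mem q.out.2) r.out.2,
      Subgroup.le_centralizer_iff.mp ?_ (?_ : ((q.out : G))⁻¹ * (r.out : G) ∈
        Subgroup.zpowers (((q.out : G))⁻¹ * (r.out : G)))⟩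
    swap
    · exact Subgroup.mem_zpowers _
    refine (Subgroup.closure_le _).mpr ?_
    rintro _ ⟨d, hd, rfl⟩
    set a := (q.out : G)
    set b := (r.out : G)
    have ha : a ∈ A := q.out.2
    have hb : b ∈ A := r.out.2
    obtain ⟨z, hz, hzeq⟩ : ∃ z, z ∈ fix V A ∧
        z = (a * v * a⁻¹ * v⁻¹)⁻¹ * (b * v * b⁻¹ * v⁻¹) := ⟨_, hqr, rfl⟩
    have hzA : ∀ x ∈ A, x * z = z * x := fun x hx => Subgroup.mem_centralizer_iff.mp hz.2 x hx
    have h1 : b * v * b⁻¹ = a * v * a⁻¹ * z := by
      have e2 : z = (a * v * a⁻¹)⁻¹ * (b * v * b⁻¹) := by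
        rw [hzeq]
        have hw : b * v * b⁻¹ * v⁻¹ = v⁻¹ * (b * v * b⁻¹) :=
          hVc _ (hnorm b hb v hv) _ (V.inv_mem hv)
        have hw' : a * v * a⁻¹ * v⁻¹ = v⁻¹ * (a * v * a⁻¹) :=
          hVc _ (hnorm a ha v hv) _ (V.inv_mem hv)
        rw [hw, hw']; group
      rw [e2]; group
    set c := a⁻¹ * b with hcdef
    have hcA : c ∈ A := A.mul_mem (A.inv_mem ha) hb
    have h2 : c * v * c⁻¹ = v * z := by
      have h3 : a⁻¹ * z * a = z := by rw [mul_assoc, ← hzA a ha]; group
      calc c * v * c⁻¹ = a⁻¹ * (b * v * b⁻¹) * a := by rw [hcdef]; group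
        _ = v * (a⁻¹ * z * a) := by rw [h1]; group
        _ = v * z := by rw [h3]
    rw [SetLike.mem_coe, Subgroup.mem_centralizer_iff]
    intro x hx
    obtain ⟨i, rfl⟩ := Subgroup.mem_zpowers_iff.mp hx
    refine ((Commute.zpow_left ?_ i)).eq
    show c * (d * v * d⁻¹ * v⁻¹) = d * v * d⁻¹ * v⁻¹ * c
    have h4 : d * z * d⁻¹ = z := by rw [hzA d hd]; group
    have h5 : c * (d * v * d⁻¹ * v⁻¹) * c⁻¹ = d * v * d⁻¹ * v⁻¹ := by
      calc c * (d * v * d⁻¹ * v⁻¹) * c⁻¹
          = (c * d) * v * (c * d)⁻¹ * (c * v * c⁻¹)⁻¹ := by group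
        _ = d * (c * v * c⁻¹) * d⁻¹ * (c * v * c⁻¹)⁻¹ := by rw [hc c hcA d hd]; group
        _ = d * v * d⁻¹ * (d * z * d⁻¹) * z⁻¹ * v⁻¹ := by rw [h2]; group
        _ = d * v * d⁻¹ * v⁻¹ := by rw [h4]; group
    exact mul_inv_eq_iff_eq_mul.mp h5
  have hle : Nat.card A * Nat.card ↥(fix V A) ≤ Nat.card B * Nat.card S := by
    rw [← Grp.card_mul_relIndex (show fix V A ≤ S from le_sup_right)]
    calc Nat.card A * Nat.card ↥(fix V A)
        ≤ Nat.card B * (fix V A).relIndex S * Nat.card ↥(fix V A) := Nat.mul_le_mul_right _ hidx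
      _ = _ := by ring
  refine ⟨B, hBA, fun e => hmove ?_, fun e => ?_,
    hoff.trans (hle.trans (Nat.mul_le_mul_left _ (Subgroup.card_le_of_le hSB)))⟩
  · have h1 : a₀ ∈ B := e ▸ ha₀
    exact mul_inv_eq_iff_eq_mul.mpr (Subgroup.mem_centralizer_iff.mp h1.2 _
      (Subgroup.subset_closure ⟨a₀, ha₀, rfl⟩)).symm
  · -- `U₀` and the fixed points generate a proper subgroup
    rw [e, Subgroup.card_bot, one_mul] at hle
    have hSV : S ≤ V := sup_le hU₀V inf_le_left
    have hSeq : S = V := Subgroup.eq_of_le_of_card_ge hSV (hoff.trans hle)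
    set W := ⁅V, A⁆ with hW
    have hWV : W ≤ V := Grp.commutator_le_left_of_le_normalizer (hAH.trans s.norm)
    have hWn : A ≤ Subgroup.normalizer (W : Set G) := Grp.right_le_normalizer_commutator A V
    have hW2 : ⁅W, A⁆ = W := by
      refine le_antisymm (Grp.commutator_le_left_of_le_normalizer hWn) ?_
      refine Subgroup.commutator_le.mpr fun x hx a ha => ?_
      have hx' : x ∈ W ⊔ fix V A := by
        have : x ∈ S := hSeq.ge hx
        exact (sup_le_sup_right hU₀c _) this
      have hnW : fix V A ≤ Subgroup.normalizer (W : Set G) := fun f hf => by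
        refine Subgroup.mem_normalizer_iff.mpr fun w => ?_
        have hf1 : ∀ w ∈ W, f * w * f⁻¹ = w := fun w hw => by
          rw [hVc f hf.1 w (hWV hw), mul_inv_cancel_right]
        refine ⟨fun hw => (hf1 w hw).symm ▸ hw, fun hw => ?_⟩
        have h2 : f⁻¹ * (f * w * f⁻¹) * f = f * w * f⁻¹ := by
          rw [mul_assoc, ← hVc f hf.1 _ (hWV hw)]; group
        have h3 : w = f * w * f⁻¹ := by
          rw [← h2]; group
        rw [h3]; exact hw
      rw [← SetLike.mem_coe, Subgroup.coe_mul_of_right_le_normalizer_left W (fix V A) hnW] at hx'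
      obtain ⟨w, hw, f, hf, rfl⟩ := hx'
      have hfa : ⁅f, a⁆ = 1 := commutatorElement_eq_one_iff_mul_comm.mpr
        (Subgroup.mem_centralizer_iff.mp hf.2 a ha).symm
      have : ⁅w * f, a⁆ = w * ⁅f, a⁆ * w⁻¹ * ⁅w, a⁆ := by
        simp only [commutatorElement_def]; group
      rw [this, hfa, mul_one, mul_inv_cancel, one_mul]
      exact Subgroup.commutator_mem_commutator hw ha
    have hWbot : W = ⊥ := commutator_ne_self (s.vPGroup.to_le hWV) hA hWn hW2
    have h1 : a₀ * v * a₀⁻¹ * v⁻¹ = 1 := by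
      rw [← Subgroup.mem_bot, ← hWbot]
      exact hU₀c (Subgroup.subset_closure ⟨a₀, ha₀, rfl⟩)
    exact hmove (by rw [h1, mul_one, mul_inv_cancel])

/-- An abelian offender is elementary abelian. -/
theorem Setup.elementary_of_offender : ∀ (n : ℕ) (A : Subgroup G), Nat.card A = n → A ≤ H →
    IsPGroup 2 A → (∀ a ∈ A, ∀ b ∈ A, a * b = b * a) →
    Nat.card V ≤ Nat.card A * Nat.card ↥(fix V A) → Cfsg.IsElementaryAbelian 2 A := by
  intro n
  induction n using Nat.strong_induction_on with
  | _ n ih =>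
  intro A hn hAH hA hc hoff
  by_contra hne
  obtain ⟨B, hBA, hBne, hB1, hBoff⟩ := s.exists_smaller hAH hA hc hoff hne
  have hlt : Nat.card B < n := hn ▸ Fus.card_lt_of_lt (lt_of_le_of_ne hBA hBne)
  have hBel := ih _ hlt B rfl (hBA.trans hAH) (hA.to_le hBA)
    (fun a ha b hb => hc a (hBA ha) b (hBA hb)) hBoff
  have hBex : IsExact 2 V B :=
    ⟨hBel, le_antisymm (s.card_mul_fix_le _ B rfl (hBA.trans hAH) hBel) hBoff⟩
  -- a transvection in `A`
  obtain ⟨k, T, hT, -, hsup⟩ := s.exists_decomposition _ B rfl (hBA.trans hAH) hBex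
  obtain ⟨i⟩ : Nonempty (Fin k) := by
    by_contra he
    rw [not_nonempty_iff] at he
    exact hB1 (hsup ▸ iSup_of_empty T)
  obtain ⟨hTB, hTex, hTc⟩ := hT i
  have hTA : T i ≤ A := hTB.trans hBA
  obtain ⟨-, U, W, hcomp, -, -⟩ := s.exists_comp (hTA.trans hAH) hTex hTc
  set E := ⁅Q, T i⁆ ⊔ T i with hE
  have hAT : A ≤ Subgroup.normalizer (T i : Set G) := fun a ha => by
    refine Subgroup.mem_normalizer_iff.mpr fun t => ?_
    constructor
    · intro ht
      rw [hc a ha t (hTA ht), mul_inv_cancel_right]; exact ht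
    · intro ht
      have h := hc a⁻¹ (A.inv_mem ha) _ (hTA ht)
      have h2 : t = a⁻¹ * (a * t * a⁻¹) * a := by group
      rw [h, mul_assoc (a * t * a⁻¹), inv_mul_cancel, mul_one] at h2
      exact h2 ▸ ht
  have hAQ : A ≤ Subgroup.normalizer (Q : Set G) := hAH.trans s.Qnorm
  have hAE : A ≤ Subgroup.normalizer (E : Set G) := Grp.le_normalizer_sup'
    (fun a ha => by
      refine Grp.invariant_iff.mp ?_ ha
      intro a ha x hx
      have hmap : (⁅Q, T i⁆).map (MulAut.conj a).toMonoidHom ≤ ⁅Q, T i⁆ := by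
        rw [Subgroup.map_commutator]
        exact Subgroup.commutator_mono
          (fun _ ⟨y, hy, e⟩ => e ▸ Grp.mem_conj_normalizer (hAQ ha) hy)
          (fun _ ⟨y, hy, e⟩ => e ▸ Grp.mem_conj_normalizer (hAT ha) hy)
      exact hmap ⟨x, hx, rfl⟩) hAT
  have hAU : ∀ a ∈ A, ∀ u ∈ U, a * u * a⁻¹ ∈ U := fun a ha u hu => by
    have hmap : U.map (MulAut.conj a).toMonoidHom ≤ U := by
      rw [← hcomp.comm, Subgroup.map_commutator]
      exact Subgroup.commutator_mono
        (fun _ ⟨y, hy, e⟩ => e ▸ Grp.mem_conj_normalizer (s.norm (hAH ha)) hy)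
        (fun _ ⟨y, hy, e⟩ => e ▸ Grp.mem_conj_normalizer (hAE ha) hy)
    exact hmap ⟨u, hu, rfl⟩
  obtain ⟨t, htT, ht1⟩ := (Subgroup.bot_or_exists_ne_one (T i)).resolve_left
    (fun e => by rw [e, Subgroup.card_bot] at hTc; omega)
  have htA := hTA htT
  obtain ⟨u, hu, htu⟩ : ∃ u ∈ U, t * u * t⁻¹ ≠ u := by
    by_contra hall
    push Not at hall
    refine ht1 ?_
    rw [← Subgroup.mem_bot, ← hcomp.faith]
    exact ⟨Subgroup.mem_sup_right htT, Subgroup.mem_centralizer_iff.mpr fun u hu =>
      (mul_inv_eq_iff_eq_mul.mp (hall u hu)).symm⟩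
  have ht2 : t * t = 1 := by rw [← sq]; exact hTex.1.2 t htT
  set u' := t * u * t⁻¹ with hu'
  have hu'U : u' ∈ U := hAU t htA u hu
  have htu' : t * u' * t⁻¹ = u := by
    calc t * u' * t⁻¹ = (t * t) * u * (t * t)⁻¹ := by rw [hu']; group
      _ = u := by rw [ht2]; simp
  set K := A ⊓ Subgroup.centralizer (U : Set G) with hK
  have hKA : K ≤ A := inf_le_left
  -- an element of `A` fixing `u` lies in `K`
  have hfixK : ∀ a ∈ A, a * u * a⁻¹ = u → a ∈ K := fun a ha he => by
    have he' : a * u' * a⁻¹ = u' := by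
      calc a * u' * a⁻¹ = (a * t) * u * (a * t)⁻¹ := by rw [hu']; group
        _ = t * (a * u * a⁻¹) * t⁻¹ := by rw [hc a ha t htA]; group
        _ = u' := by rw [he]
    have hgen : U ≤ Subgroup.closure ({u, u'} : Set G) := by
      have hle : Subgroup.closure ({u, u'} : Set G) ≤ U := (Subgroup.closure_le _).mpr
        (by rintro x (rfl | rfl); exacts [hu, hu'U])
      refine (Subgroup.eq_of_le_of_card_ge hle ?_).ge
      have hu1 : u ≠ 1 := fun e => htu (by rw [hu', e]; group)
      have hu'1 : u' ≠ 1 := fun e => by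
        rw [hu', mul_inv_eq_one, mul_eq_left] at e
        exact hu1 e
      have h3 : 3 ≤ Nat.card (Subgroup.closure ({u, u'} : Set G)) := by
        haveI := Fintype.ofFinite (Subgroup.closure ({u, u'} : Set G))
        rw [Nat.card_eq_fintype_card]
        let f : Fin 3 → Subgroup.closure ({u, u'} : Set G) := ![1,
          ⟨u, Subgroup.subset_closure (by simp)⟩, ⟨u', Subgroup.subset_closure (by simp)⟩]
        have hf : Function.Injective f := by
          intro x y hxy
          have hxy' := congrArg Subtype.val hxy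
          fin_cases x <;> fin_cases y <;>
            first
              | rfl
              | (simp [f] at hxy'; first
                  | exact absurd hxy' hu1
                  | exact absurd hxy'.symm hu1
                  | exact absurd hxy' hu'1
                  | exact absurd hxy'.symm hu'1
                  | exact absurd hxy' htu
                  | exact absurd hxy'.symm htu)
        simpa using Fintype.card_le_of_injective f hf
      have hd := Subgroup.card_dvd_of_le hle
      rw [hcomp.card_U] at hd ⊢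
      rcases (Nat.dvd_prime_pow Nat.prime_two).mp hd with ⟨j, hj, hje⟩
      rw [hje] at h3 ⊢
      interval_cases j <;> omega
    refine ⟨ha, Subgroup.mem_centralizer_iff.mpr fun x hx => ?_⟩
    have hle : Subgroup.closure ({u, u'} : Set G) ≤ Subgroup.centralizer {a} := by
      refine (Subgroup.closure_le _).mpr ?_
      rintro x (rfl | rfl) <;> rw [SetLike.mem_coe, Subgroup.mem_centralizer_singleton_iff]
      · exact (mul_inv_eq_iff_eq_mul.mp he).symm
      · exact (mul_inv_eq_iff_eq_mul.mp he').symm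
    exact Subgroup.mem_centralizer_singleton_iff.mp (hle (hgen hx))
  have hsplit : ∀ a ∈ A, a ∈ K ∨ t * a ∈ K := fun a ha => by
    -- the image of `u` under `a` is not fixed by `t`
    by_cases he : a * u * a⁻¹ = u
    · exact Or.inl (hfixK a ha he)
    refine Or.inr (hfixK _ (A.mul_mem htA ha) ?_)
    set x := a * u * a⁻¹ with hx
    have hxU : x ∈ U := hAU a ha u hu
    have htx : t * x * t⁻¹ ≠ x := fun e => htu (by
      have : t * x * t⁻¹ = a * u' * a⁻¹ := by
        calc t * x * t⁻¹ = (t * a) * u * (t * a)⁻¹ := by rw [hx]; group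
          _ = a * u' * a⁻¹ := by rw [hu', hc t htA a ha]; group
      rw [this, hx] at e
      exact mul_left_cancel (mul_right_cancel e))
    have hu1 : u ≠ 1 := fun e => htu (by rw [hu', e]; group)
    have hx1 : x ≠ 1 := fun e => htx (by rw [e]; group)
    have hu'1 : u' ≠ 1 := fun e => by
      rw [hu', mul_inv_eq_one, mul_eq_left] at e
      exact hu1 e
    have hUc : ∀ p ∈ U, ∀ q ∈ U, p * q = q * p := fun p hp q hq =>
      Grp.elemAb_comm s.elem p (hcomp.UV hp) q (hcomp.UV hq)
    have h4 : x = u' := by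
      by_contra hxu'
      have hne : x ≠ u * u' := fun e => htx (by
        calc t * x * t⁻¹ = (t * u * t⁻¹) * (t * u' * t⁻¹) := by rw [e]; group
          _ = u' * u := by rw [← hu', htu']
          _ = x := by rw [e, hUc u' hu'U u hu])
      have huu : u * u' ≠ 1 := fun e => htu (by
        have h2 : u * u = 1 := by rw [← sq]; exact s.elem.2 u (hcomp.UV hu)
        exact mul_left_cancel (e.trans h2.symm))
      haveI := Fintype.ofFinite U
      let f : Fin 5 → U := ![1, ⟨u, hu⟩, ⟨u', hu'U⟩, ⟨u * u', U.mul_mem hu hu'U⟩, ⟨x, hxU⟩]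
      have hf : Function.Injective f := by
        intro p q hpq
        have hpq' := congrArg Subtype.val hpq
        fin_cases p <;> fin_cases q <;>
          first
            | rfl
            | (simp [f] at hpq'; first
                | exact absurd hpq' hu1
                | exact absurd hpq'.symm hu1
                | exact absurd hpq' hu'1
                | exact absurd hpq'.symm hu'1
                | exact absurd hpq' htu
                | exact absurd hpq'.symm htu
                | exact absurd hpq' huu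
                | exact absurd hpq'.symm huu
                | exact absurd hpq' hx1
                | exact absurd hpq'.symm hx1
                | exact absurd hpq' he
                | exact absurd hpq'.symm he
                | exact absurd hpq' hxu'
                | exact absurd hpq'.symm hxu'
                | exact absurd hpq' hne
                | exact absurd hpq'.symm hne)
      have h5 := Fintype.card_le_of_injective f hf
      rw [← Nat.card_eq_fintype_card (α := U), hcomp.card_U] at h5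
      simp at h5
    calc t * a * u * (t * a)⁻¹ = t * x * t⁻¹ := by rw [hx]; group
      _ = u := by rw [h4, htu']
  have htK : t ∉ K := fun h => htu
    (mul_inv_eq_iff_eq_mul.mpr (Subgroup.mem_centralizer_iff.mp h.2 u hu).symm)
  have hidx : K.relIndex A ≤ 2 := by
    have : K.relIndex A = 2 := by
      rw [Subgroup.relIndex, Subgroup.index_eq_two_iff]
      refine ⟨⟨t, htA⟩, fun a => ?_⟩
      simp only [Subgroup.mem_subgroupOf, Subgroup.coe_mul]
      rcases hsplit a a.2 with h | h
      · refine Or.inr ⟨h, fun h' => htK ?_⟩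
        exact (Subgroup.mul_mem_cancel_left _ h).mp h'
      · refine Or.inl ⟨?_, fun h' => htK ?_⟩
        · rw [hc a a.2 t htA]; exact h
        · exact (Subgroup.mul_mem_cancel_right _ h').mp h
    omega
  have hfl : fix V A < fix V K := lt_of_le_of_ne (fix_anti hKA) fun e => by
    have : u ∈ fix V K := ⟨hcomp.UV hu, Subgroup.mem_centralizer_iff.mpr fun a ha =>
      (Subgroup.mem_centralizer_iff.mp ha.2 u hu).symm⟩
    rw [← e] at this
    exact htu (mul_inv_eq_iff_eq_mul.mpr (Subgroup.mem_centralizer_iff.mp this.2 t htA))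
  have hKoff : Nat.card V ≤ Nat.card K * Nat.card ↥(fix V K) := by
    have h2 := mul_card_le_of_lt (p := 2) (s.vPGroup.to_le inf_le_left) hfl
    calc Nat.card V ≤ Nat.card A * Nat.card ↥(fix V A) := hoff
      _ = Nat.card K * K.relIndex A * Nat.card ↥(fix V A) := by rw [Grp.card_mul_relIndex hKA]
      _ ≤ Nat.card K * 2 * Nat.card ↥(fix V A) := by gcongr
      _ ≤ _ := by rw [mul_assoc]; exact Nat.mul_le_mul_left _ h2
  have hKlt : Nat.card K < n := hn ▸ Fus.card_lt_of_lt (lt_of_le_of_ne hKA fun e =>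
    htK (e ▸ htA))
  have hKel := ih _ hKlt K rfl (hKA.trans hAH) (hA.to_le hKA)
    (fun a ha b hb => hc a (hKA ha) b (hKA hb)) hKoff
  refine hne ⟨⟨⟨fun a b => Subtype.ext (hc a a.2 b b.2)⟩⟩, fun a ha => ?_⟩
  rcases hsplit a ha with h | h
  · exact hKel.2 a h
  · have h1 : (t * a) ^ 2 = 1 := hKel.2 _ h
    rw [(show Commute t a from hc t htA a ha).mul_pow, sq t, ht2, one_mul] at h1
    exact h1

/-- An abelian offender is exact. -/
theorem Setup.isExact_of_offender {A : Subgroup G} (hAH : A ≤ H) (hA : IsPGroup 2 A)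
    (hc : ∀ a ∈ A, ∀ b ∈ A, a * b = b * a)
    (hoff : Nat.card V ≤ Nat.card A * Nat.card ↥(fix V A)) : IsExact 2 V A :=
  have hel := s.elementary_of_offender _ A rfl hAH hA hc hoff
  ⟨hel, le_antisymm (s.card_mul_fix_le _ A rfl hAH hel) hoff⟩

end

end Cfsg.Agent.Transfer.Offender
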