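import Mathlib
import Cfsg.Prelude.Def_PLocal
import Cfsg.Prelude.Def_TwoFusion
import Cfsg.Agent.Lib.Invol.ZJElem

/-!
`Ω₁(Z(J(S)))` computed in `S` and inside the ambient group; its invariance in `p`-stable constrained groups.
-/

set_option autoImplicit false

universe u

namespace Cfsg.Agent.Transfer

open Cfsg.Agent

variable {G : Type u} [Group G] {p : ℕ}

theorem mem_omegaCenterThompson {S : Type*} [Group S] {x : S} :
    x ∈ Cfsg.omegaCenterThompson p S ↔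
      (x ∈ Cfsg.thompsonSubgroup p S ∧ x ∈ Subgroup.centralizer (Cfsg.thompsonSubgroup p S : Set S)) ∧ x ^ p = 1 := by
  refine ⟨fun hx => ?_, fun hx => Subgroup.subset_closure ⟨hx.1, hx.2⟩⟩
  induction hx using Subgroup.closure_induction with
  | mem y hy => exact ⟨hy.1, hy.2⟩
  | one => exact ⟨⟨one_mem _, one_mem _⟩, one_pow _⟩
  | mul y z _ _ hy hz =>
    refine ⟨⟨mul_mem hy.1.1 hz.1.1, mul_mem hy.1.2 hz.1.2⟩, ?_⟩
    rw [Commute.mul_pow (show Commute y z from Subgroup.mem_centralizer_iff.1 hz.1.2 y hy.1.1), hy.2, hz.2,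
      one_mul]
  | inv y _ hy => exact ⟨⟨inv_mem hy.1.1, inv_mem hy.1.2⟩, by rw [inv_pow, hy.2, inv_one]⟩

theorem omegaCenterThompson_map_subtype (S : Subgroup G) :
    (Cfsg.omegaCenterThompson p ↥S).map S.subtype = Invol.centerOmega p S := by
  ext x
  rw [Invol.mem_centerOmega]
  constructor
  · rintro ⟨y, hy, rfl⟩
    obtain ⟨⟨h1, h2⟩, h3⟩ := mem_omegaCenterThompson.1 hy
    refine ⟨⟨⟨y, h1, rfl⟩, Subgroup.mem_centralizer_iff.2 ?_⟩, by rw [← map_pow, h3, map_one]⟩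
    rintro _ ⟨z, hz, rfl⟩
    exact congrArg S.subtype (Subgroup.mem_centralizer_iff.1 h2 z hz)
  · rintro ⟨⟨⟨y, hy, rfl⟩, hc⟩, hp⟩
    refine ⟨y, mem_omegaCenterThompson.2 ⟨⟨hy, Subgroup.mem_centralizer_iff.2 fun z hz => ?_⟩, ?_⟩, rfl⟩
    · exact Subtype.ext (Subgroup.mem_centralizer_iff.1 hc z ⟨z, hz, rfl⟩)
    · exact Subtype.ext hp

end Cfsg.Agent.Transfer
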