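import Mathlib

/-! Counting roots of unity in finite groups, and order types. -/

set_option autoImplicit false

namespace Cfsg.Agent.Transfer.OrderType

variable {X Y A : Type*}

/-- Number of `x` with `x ^ n = 1`. -/
noncomputable def rootCount (X : Type*) [Monoid X] (n : ℕ) : ℕ :=
  Nat.card {x : X // x ^ n = 1}

/-- Number of `x` with `x ^ n = 1` and prescribed image. -/
noncomputable def fiberRootCount [Monoid X] [Monoid A] (χ : X →* A) (n : ℕ) (a : A) : ℕ :=
  Nat.card {x : X // χ x = a ∧ x ^ n = 1}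

theorem rootCount_prod [Monoid X] [Monoid Y] (n : ℕ) :
    rootCount (X × Y) n = rootCount X n * rootCount Y n := by
  rw [rootCount, rootCount, rootCount, ← Nat.card_prod]
  exact Nat.card_congr
    ⟨fun p => (⟨p.1.1, (Prod.ext_iff.mp p.2).1⟩, ⟨p.1.2, (Prod.ext_iff.mp p.2).2⟩),
      fun q => ⟨(q.1.1, q.2.1), Prod.ext q.1.2 q.2.2⟩,
      fun _ => rfl, fun _ => rfl⟩

theorem rootCount_eq_gcd [Monoid X] {e : ℕ} (h : ∀ x : X, x ^ e = 1) (n : ℕ) :
    rootCount X n = rootCount X (n.gcd e) :=
  Nat.card_congr (Equiv.subtypeEquivRight fun x => by simp [pow_gcd_eq_one, h x])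

theorem rootCount_eq_sum [Monoid X] [Finite X] [Monoid A] [Fintype A] (χ : X →* A) (n : ℕ) :
    rootCount X n = ∑ a, fiberRootCount χ n a := by
  rw [rootCount]
  simp only [fiberRootCount]
  rw [← Nat.card_sigma]
  exact Nat.card_congr
    ⟨fun x => ⟨χ x.1, x.1, rfl, x.2⟩, fun s => ⟨s.2.1, s.2.2.2⟩, fun _ => rfl,
      fun ⟨a, x, h, h'⟩ => by subst h; rfl⟩

/-- The fibre product of two homomorphisms. -/
def fib [Group X] [Group Y] [Group A] (χ : X →* A) (ψ : Y →* A) : Subgroup (X × Y) :=
  MonoidHom.eqLocus (χ.comp (MonoidHom.fst X Y)) (ψ.comp (MonoidHom.snd X Y))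

/-- The common homomorphism on the fibre product. -/
def fibHom [Group X] [Group Y] [Group A] (χ : X →* A) (ψ : Y →* A) : fib χ ψ →* A :=
  (χ.comp (MonoidHom.fst X Y)).comp (fib χ ψ).subtype

theorem fiberRootCount_fib [Group X] [Group Y] [Group A] (χ : X →* A) (ψ : Y →* A) (n : ℕ)
    (a : A) :
    fiberRootCount (fibHom χ ψ) n a = fiberRootCount χ n a * fiberRootCount ψ n a := by
  rw [fiberRootCount, fiberRootCount, fiberRootCount, ← Nat.card_prod]
  refine Nat.card_congr
    ⟨fun p => (⟨p.1.1.1, p.2.1, congrArg Prod.fst (congrArg Subtype.val p.2.2)⟩,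
        ⟨p.1.1.2, (p.1.2.symm.trans p.2.1 : _), congrArg Prod.snd (congrArg Subtype.val p.2.2)⟩),
      fun q => ⟨⟨(q.1.1, q.2.1), q.1.2.1.trans q.2.2.1.symm⟩, q.1.2.1,
        Subtype.ext (Prod.ext q.1.2.2 q.2.2.2)⟩, fun _ => rfl, fun _ => rfl⟩

theorem fiberRootCount_coprod [CommGroup A] [Fintype A] [Group X] [Group Y] [Finite X] [Finite Y]
    (χ : X →* A) (ψ : Y →* A) (n : ℕ) (a : A) :
    fiberRootCount (χ.coprod ψ) n a =
      ∑ b, fiberRootCount χ n b * fiberRootCount ψ n (b⁻¹ * a) := by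
  simp only [fiberRootCount, ← Nat.card_prod]
  rw [← Nat.card_sigma]
  refine Nat.card_congr
    ⟨fun p => ⟨χ p.1.1, ⟨p.1.1, rfl, (Prod.ext_iff.mp p.2.2).1⟩,
        ⟨p.1.2, eq_inv_mul_iff_mul_eq.mpr p.2.1, (Prod.ext_iff.mp p.2.2).2⟩⟩,
      fun s => ⟨(s.2.1.1, s.2.2.1), by simp [s.2.1.2.1, s.2.2.2.1],
        Prod.ext s.2.1.2.2 s.2.2.2.2⟩, fun _ => rfl, ?_⟩
  rintro ⟨b, ⟨x, h, h'⟩, y⟩
  subst h
  rfl

theorem rootCount_ker [Group X] [Group A] (χ : X →* A) (n : ℕ) :
    rootCount χ.ker n = fiberRootCount χ n 1 :=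
  Nat.card_congr
    ⟨fun x => ⟨x.1.1, x.1.2, congrArg Subtype.val x.2⟩,
      fun x => ⟨⟨x.1, x.2.1⟩, Subtype.ext x.2.2⟩, fun _ => rfl, fun _ => rfl⟩

theorem rootCount_eq_sum_orderOf [Monoid X] [Finite X] {n : ℕ} (hn : n ≠ 0) :
    rootCount X n = ∑ d ∈ n.divisors, Nat.card {x : X // orderOf x = d} := by
  classical
  letI := Fintype.ofFinite X
  simp only [rootCount, Nat.card_eq_fintype_card, Fintype.card_subtype]
  rw [Finset.card_eq_sum_card_fiberwise (f := orderOf) (t := n.divisors)]
  · refine Finset.sum_congr rfl fun d hd => ?_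
    congr 1
    ext x
    simp only [Finset.mem_filter, Finset.mem_univ, true_and, and_iff_right_iff_imp]
    rintro rfl
    exact orderOf_dvd_iff_pow_eq_one.mp (Nat.dvd_of_mem_divisors hd)
  · intro x hx
    simp only [Finset.coe_filter, Finset.mem_univ, true_and, Set.mem_setOf_eq] at hx
    simp [Nat.mem_divisors, hn, orderOf_dvd_iff_pow_eq_one.mpr hx]

/-- Two finite groups with equal root counts have equally many elements of each order. -/
theorem card_orderOf_eq [Group X] [Group Y] [Finite X] [Finite Y]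
    (h : ∀ n, rootCount X n = rootCount Y n) (n : ℕ) :
    Nat.card {x : X // orderOf x = n} = Nat.card {y : Y // orderOf y = n} := by
  induction n using Nat.strong_induction_on with
  | _ n ih =>
    rcases eq_or_ne n 0 with rfl | hn
    · have e1 : IsEmpty {x : X // orderOf x = 0} :=
        ⟨fun x => (orderOf_pos x.1).ne' x.2⟩
      have e2 : IsEmpty {y : Y // orderOf y = 0} :=
        ⟨fun x => (orderOf_pos x.1).ne' x.2⟩
      simp only [Nat.card_of_isEmpty]
    · have H := h n
      rw [rootCount_eq_sum_orderOf hn, rootCount_eq_sum_orderOf hn,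
        ← Nat.cons_self_properDivisors hn, Finset.sum_cons, Finset.sum_cons,
        Finset.sum_congr rfl fun d hd => ih d (Nat.mem_properDivisors.mp hd).2] at H
      omega

/-- A group action on a group by automorphisms, from its raw function. -/
def mkAct {N H : Type*} [Group N] [Group H] (f : H → N → N) (h1 : ∀ v, f 1 v = v)
    (hm : ∀ g h v, f (g * h) v = f g (f h v)) (ha : ∀ g v w, f g (v * w) = f g v * f g w) :
    H →* MulAut N where
  toFun g :=
    { toFun := f g
      invFun := f g⁻¹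
      left_inv := fun v => by rw [← hm, inv_mul_cancel, h1]
      right_inv := fun v => by rw [← hm, mul_inv_cancel, h1]
      map_mul' := ha g }
  map_one' := MulEquiv.ext h1
  map_mul' g h := MulEquiv.ext fun v => hm g h v

theorem isSolvable_semidirectProduct {N H : Type*} [Group N] [Group H] [Group.IsSolvable N]
    [Group.IsSolvable H] (φ : H →* MulAut N) : Group.IsSolvable (SemidirectProduct N H φ) :=
  Group.isSolvable_of_ker_le_range SemidirectProduct.inl SemidirectProduct.rightHom
    (by rw [SemidirectProduct.range_inl_eq_ker_rightHom])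

instance {N H : Type*} [Group N] [Group H] [Fintype N] [Fintype H] (φ : H →* MulAut N) :
    Fintype (SemidirectProduct N H φ) :=
  Fintype.ofEquiv (N × H) SemidirectProduct.equivProd.symm

end Cfsg.Agent.Transfer.OrderType
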