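import Mathlib
import Cfsg.Agent.Lib.Grp.PSolvable
import Cfsg.Agent.Lib.Grp.Basic
import Cfsg.Agent.Lib.Grp.SchurZassenhaus

/-!
`p`-soluble groups whose maximal subgroups have a normal `p`-complement or prime index.
-/

set_option autoImplicit false

namespace Cfsg.Agent.Transfer.PNilMax

open scoped Pointwise IsMulCommutative

universe u

variable (p : ℕ)

/-- `G = O_{p',p,p',p}(G)`. -/
def Chain (G : Type u) [Group G] : Prop :=
  ∃ A B C : Subgroup G, A.Normal ∧ B.Normal ∧ C.Normal ∧ A ≤ B ∧ B ≤ C ∧ ¬ p ∣ Nat.card A ∧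
    (∃ k : ℕ, A.relIndex B = p ^ k) ∧ ¬ p ∣ B.relIndex C ∧ ∃ k : ℕ, C.index = p ^ k

variable {p}

theorem relIndex_inf_dvd {G : Type u} [Group G] [Finite G] {A₁ A₂ B₁ B₂ : Subgroup G} (h₁ : A₁.Normal) (h₂ : A₂.Normal)
    (hA₁ : A₁ ≤ B₁) (hA₂ : A₂ ≤ B₂) : (A₁ ⊓ A₂).relIndex (B₁ ⊓ B₂) ∣ A₁.relIndex B₁ * A₂.relIndex B₂ := by
  rw [← Subgroup.relIndex_mul_relIndex (A₁ ⊓ A₂) (A₁ ⊓ B₂) (B₁ ⊓ B₂) (inf_le_inf le_rfl hA₂) (inf_le_inf hA₁ le_rfl),
    mul_comm (A₁.relIndex B₁)]
  refine Nat.mul_dvd_mul ?_ ?_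
  · have e : A₁ ⊓ A₂ = A₂ ⊓ (A₁ ⊓ B₂) := by
      rw [← inf_assoc, inf_comm A₂ A₁, inf_assoc, inf_eq_left.2 hA₂]
    rw [e, Subgroup.inf_relIndex_right]
    exact Grp.relIndex_dvd_of_normal_le h₂ inf_le_right
  · have e : A₁ ⊓ B₂ = A₁ ⊓ (B₁ ⊓ B₂) := by
      rw [← inf_assoc, inf_eq_left.2 hA₁]
    rw [e, Subgroup.inf_relIndex_right]
    exact Grp.relIndex_dvd_of_normal_le h₁ inf_le_left

/-- The chain pulls back. -/
theorem chain_comap {G : Type u} [Group G] {N : Subgroup G} [N.Normal] {A B C : Subgroup (G ⧸ N)}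
    (hAB : A ≤ B) (hBC : B ≤ C) :
    (A.comap (QuotientGroup.mk' N)).relIndex (B.comap (QuotientGroup.mk' N)) = A.relIndex B ∧
      (B.comap (QuotientGroup.mk' N)).relIndex (C.comap (QuotientGroup.mk' N)) = B.relIndex C ∧
      (C.comap (QuotientGroup.mk' N)).index = C.index := by
  have hf : Function.Surjective (QuotientGroup.mk' N) := QuotientGroup.mk'_surjective N
  refine ⟨?_, ?_, Subgroup.index_comap_of_surjective _ hf⟩ <;>
    rw [Subgroup.relIndex_comap, Subgroup.map_comap_eq_self_of_surjective hf]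

theorem card_comap {G : Type u} [Group G] [Finite G] {N : Subgroup G} [N.Normal] (A : Subgroup (G ⧸ N)) :
    Nat.card (A.comap (QuotientGroup.mk' N)) = Nat.card N * Nat.card A := by
  have hle : N ≤ A.comap (QuotientGroup.mk' N) := fun x hx => by
    rw [Subgroup.mem_comap, QuotientGroup.mk'_apply, (QuotientGroup.eq_one_iff x).2 hx]
    exact one_mem A
  rw [← Subgroup.relIndex_bot_left N, ← Subgroup.relIndex_bot_left A,
    ← Subgroup.relIndex_bot_left (A.comap (QuotientGroup.mk' N)),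
    ← Subgroup.relIndex_mul_relIndex ⊥ N _ bot_le hle]
  congr 1
  have := Subgroup.relIndex_comap (⊥ : Subgroup (G ⧸ N)) (QuotientGroup.mk' N) (A.comap (QuotientGroup.mk' N))
  rw [Subgroup.map_comap_eq_self_of_surjective (QuotientGroup.mk'_surjective N), MonoidHom.comap_bot,
    QuotientGroup.ker_mk'] at this
  exact this

theorem chain_of_prime_to {G : Type u} [Group G] [Finite G] [hp : Fact p.Prime] {N : Subgroup G} [N.Normal]
    (hN : ¬ p ∣ Nat.card N) (h : Chain p (G ⧸ N)) : Chain p G := by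
  obtain ⟨A, B, C, hA, hB, hC, hAB, hBC, hA', hB', hC', hD'⟩ := h
  obtain ⟨e1, e2, e3⟩ := chain_comap (N := N) hAB hBC
  refine ⟨A.comap (QuotientGroup.mk' N), B.comap (QuotientGroup.mk' N), C.comap (QuotientGroup.mk' N), hA.comap _, hB.comap _,
    hC.comap _, Subgroup.comap_mono hAB, Subgroup.comap_mono hBC, ?_, e1 ▸ hB', e2 ▸ hC', e3 ▸ hD'⟩
  rw [card_comap]
  exact fun hd => (hp.out.dvd_mul.1 hd).elim hN hA'

theorem chain_subdirect {G : Type u} [Group G] [Finite G] [hp : Fact p.Prime] {N₁ N₂ : Subgroup G} [N₁.Normal] [N₂.Normal]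
    (hdisj : N₁ ⊓ N₂ = ⊥) (h1 : Chain p (G ⧸ N₁)) (h2 : Chain p (G ⧸ N₂)) : Chain p G := by
  obtain ⟨A, B, C, hA, hB, hC, hAB, hBC, hA', ⟨k, hB'⟩, hC', ⟨l, hD'⟩⟩ := h1
  obtain ⟨A₂, B₂, C₂, hA2, hB2, hC2, hAB2, hBC2, hA2', ⟨k₂, hB2'⟩, hC2', ⟨l₂, hD2'⟩⟩ := h2
  obtain ⟨e1, e2, e3⟩ := chain_comap (N := N₁) hAB hBC
  obtain ⟨f1, f2, f3⟩ := chain_comap (N := N₂) hAB2 hBC2
  set q₁ := QuotientGroup.mk' N₁
  set q₂ := QuotientGroup.mk' N₂
  have hm : ∀ {X Y : Subgroup G}, X.Normal → Y.Normal → (X ⊓ Y).Normal := fun {X Y} _ _ => inferInstance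
  refine ⟨A.comap q₁ ⊓ A₂.comap q₂, B.comap q₁ ⊓ B₂.comap q₂, C.comap q₁ ⊓ C₂.comap q₂, hm (hA.comap _) (hA2.comap _),
    hm (hB.comap _) (hB2.comap _), hm (hC.comap _) (hC2.comap _), inf_le_inf (Subgroup.comap_mono hAB) (Subgroup.comap_mono hAB2),
    inf_le_inf (Subgroup.comap_mono hBC) (Subgroup.comap_mono hBC2), ?_, ?_, ?_, ?_⟩
  · intro hd
    obtain ⟨a, ha⟩ := exists_prime_orderOf_dvd_card' p hd
    have hone : ∀ (N : Subgroup G) [N.Normal] (X : Subgroup (G ⧸ N)), ¬ p ∣ Nat.card X → QuotientGroup.mk' N (a : G) ∈ X → (a : G) ∈ N := by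
      intro N _ X hX hmem
      have h1 : orderOf (QuotientGroup.mk' N (a : G)) = 1 := by
        refine Nat.eq_one_of_dvd_coprimes ((Nat.Prime.coprime_iff_not_dvd hp.out).2 hX) ?_ ?_
        · rw [← ha, ← Subgroup.orderOf_coe a]; exact orderOf_map_dvd _ _
        · rw [← Subgroup.orderOf_mk _ hmem]; exact orderOf_dvd_natCard _
      exact (QuotientGroup.eq_one_iff _).1 (orderOf_eq_one_iff.1 h1)
    have : (a : G) ∈ N₁ ⊓ N₂ := ⟨hone N₁ A hA' a.2.1, hone N₂ A₂ hA2' a.2.2⟩
    rw [hdisj, Subgroup.mem_bot] at this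
    rw [← Subgroup.orderOf_coe, this, orderOf_one] at ha
    exact hp.out.one_lt.ne ha
  · have := relIndex_inf_dvd (hA.comap q₁) (hA2.comap q₂) (Subgroup.comap_mono hAB) (Subgroup.comap_mono hAB2)
    rw [e1, f1, hB', hB2', ← pow_add] at this
    obtain ⟨j, -, hj⟩ := (Nat.dvd_prime_pow hp.out).1 this
    exact ⟨j, hj⟩
  · have := relIndex_inf_dvd (hB.comap q₁) (hB2.comap q₂) (Subgroup.comap_mono hBC) (Subgroup.comap_mono hBC2)
    rw [e2, f2] at this
    exact fun hd => (hp.out.dvd_mul.1 (hd.trans this)).elim hC' hC2'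
  · have := relIndex_inf_dvd (B₁ := ⊤) (B₂ := ⊤) (hC.comap q₁) (hC2.comap q₂) le_top le_top
    rw [inf_top_eq, Subgroup.relIndex_top_right, Subgroup.relIndex_top_right, Subgroup.relIndex_top_right, e3, f3, hD', hD2', ← pow_add] at this
    obtain ⟨j, -, hj⟩ := (Nat.dvd_prime_pow hp.out).1 this
    exact ⟨j, hj⟩

/-- A normal subgroup with a normal `p`-subgroup in the Frattini subgroup and `p'`-quotient. -/
theorem chain_of_le_frattini {G : Type u} [Group G] [Finite G] [hp : Fact p.Prime] {N : Subgroup G} [N.Normal]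
    [IsMulCommutative N] (hNp : IsPGroup p N) (hNΦ : N ≤ frattini G) (hO : ∀ X : Subgroup G, X.Normal → ¬ p ∣ Nat.card X → X = ⊥)
    (h : Chain p (G ⧸ N)) : Chain p G := by
  obtain ⟨A, B, C, hA, hB, hC, hAB, hBC, hA', ⟨k, hB'⟩, hC', hD'⟩ := h
  obtain ⟨e1, e2, e3⟩ := chain_comap (N := N) hAB hBC
  set q := QuotientGroup.mk' N
  haveI hA0n : (A.comap q).Normal := hA.comap _
  set A₀ := A.comap q
  have hNA : N ≤ A₀ := fun x hx => by
    show q x ∈ A
    rw [QuotientGroup.mk'_apply, (QuotientGroup.eq_one_iff x).2 hx]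
    exact one_mem A
  obtain ⟨a, ha⟩ := IsPGroup.iff_card.1 hNp
  have hAbot : A = ⊥ := by
    let N' := N.subgroupOf A₀
    haveI : IsMulCommutative N' := ⟨⟨fun u v => by
      apply Subtype.ext; apply Subtype.ext
      have hc := congrArg Subtype.val (mul_comm (⟨((u : A₀) : G), u.2⟩ : N) ⟨((v : A₀) : G), v.2⟩)
      simp only [Subgroup.coe_mul] at hc ⊢
      exact hc⟩⟩
    have hcardN : Nat.card N' = Nat.card N := Nat.card_congr (Subgroup.subgroupOfEquivOfLe hNA).toEquiv
    have hidx : N'.index = Nat.card A := by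
      have h1 := Subgroup.card_mul_index N'
      rw [hcardN, card_comap] at h1
      exact Nat.eq_of_mul_eq_mul_left Nat.card_pos h1
    have hcop : (Nat.card N').Coprime N'.index := by
      rw [hcardN, hidx, ha]
      exact Nat.Coprime.pow_left a ((Nat.Prime.coprime_iff_not_dvd hp.out).2 hA')
    obtain ⟨X₀, hX₀⟩ := Subgroup.exists_right_complement'_of_coprime hcop
    have hX₀c : Nat.card X₀ = N'.index := by rw [← hX₀.symm.index_eq_card]
    let X : Subgroup G := X₀.map A₀.subtype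
    have hXle : X ≤ A₀ := Subgroup.map_subtype_le X₀
    have hXc : Nat.card X = Nat.card A := by
      rw [Subgroup.card_map_of_injective A₀.subtype_injective, hX₀c, hidx]
    have hnorm : X.Normal := by
      rw [← Subgroup.normalizer_eq_top_iff]
      refine frattini_nongenerating (eq_top_iff.2 fun g _ => ?_)
      have hgX : MulAut.conj g • X ≤ A₀ := fun y hy => by
        rw [Subgroup.mem_pointwise_smul_iff_inv_smul_mem] at hy
        have := hA0n.conj_mem _ (hXle hy) g
        simpa [MulAut.smul_def, mul_assoc] using this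
      obtain ⟨b, hb, hbe⟩ := Grp.complements_conj_abelian N' hcop (H := (MulAut.conj g • X).subgroupOf A₀) (K := X₀)
        (by rw [Nat.card_congr (Subgroup.subgroupOfEquivOfLe hgX).toEquiv,
          ← Nat.card_congr (Subgroup.equivSMul (MulAut.conj g) X).toEquiv, hXc, hidx]) hX₀c
      have hbg : (b : G) * g ∈ Subgroup.normalizer (X : Set G) := by
        have hsub : ∀ y ∈ X, (b : G) * g * y * ((b : G) * g)⁻¹ ∈ X := fun y hy => by
          have h1 : (⟨g * y * g⁻¹, hA0n.conj_mem y (hXle hy) g⟩ : A₀) ∈ (MulAut.conj g • X).subgroupOf A₀ := by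
            rw [Subgroup.mem_subgroupOf, Subgroup.mem_pointwise_smul_iff_inv_smul_mem]
            simpa [MulAut.smul_def, mul_assoc] using hy
          have h2 := Subgroup.smul_mem_pointwise_smul _ (MulAut.conj b) _ h1
          rw [hbe] at h2
          refine ⟨_, h2, ?_⟩
          simp [MulAut.smul_def, mul_assoc]
        exact Subgroup.mem_normalizer_iff''.2 fun y => by
          have hfin : ∀ z, z ∈ X → ((b : G) * g) * z * ((b : G) * g)⁻¹ ∈ X := hsub
          have heq : MulAut.conj ((b : G) * g) • X = X := Subgroup.eq_of_le_of_card_ge (fun z hz => by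
            rw [Subgroup.mem_pointwise_smul_iff_inv_smul_mem] at hz
            have := hfin _ hz
            simpa [MulAut.smul_def, mul_assoc] using this) (Nat.card_congr (Subgroup.equivSMul _ X).toEquiv).le
          constructor
          · intro hy
            have : y ∈ MulAut.conj ((b : G) * g) • X := heq.symm ▸ hy
            rw [Subgroup.mem_pointwise_smul_iff_inv_smul_mem] at this
            simpa [MulAut.smul_def, mul_assoc] using this
          · intro hy
            have := hfin _ hy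
            simpa [mul_assoc] using this
      rw [show g = (b : G)⁻¹ * ((b : G) * g) by group]
      exact mul_mem (inv_mem (Subgroup.mem_sup_right (hNΦ hb))) (Subgroup.mem_sup_left hbg)
    have hXb := hO X hnorm (hXc ▸ hA')
    rw [hXb, Subgroup.card_bot] at hXc
    exact Subgroup.card_eq_one.1 hXc.symm
  subst hAbot
  refine ⟨⊥, B.comap q, C.comap q, inferInstance, hB.comap _, hC.comap _, bot_le, Subgroup.comap_mono hBC, by simp [hp.out.ne_one],
    ⟨a + k, ?_⟩, e2 ▸ hC', e3 ▸ hD'⟩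
  rw [Subgroup.relIndex_bot_left, card_comap, ha, pow_add]
  rw [Subgroup.relIndex_bot_left] at hB'
  rw [hB']

theorem main [hp : Fact p.Prime] : ∀ (n : ℕ) (G : Type u) [Group G] [Finite G], Nat.card G = n → Cfsg.IsPSolvable p G →
    (∀ M : Subgroup G, IsCoatom M → (∃ K : Subgroup ↥M, K.Normal ∧ ¬ p ∣ Nat.card K ∧ ∃ k : ℕ, K.index = p ^ k) ∨ (M.index).Prime) →
    Chain p G := by
  intro n
  induction n using Nat.strong_induction_on with
  | _ n ih =>
  intro G _ _ hn hG hmax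
  rcases subsingleton_or_nontrivial G with hs | hs
  · exact ⟨⊥, ⊥, ⊤, inferInstance, inferInstance, inferInstance, le_rfl, bot_le, by simp [hp.out.ne_one],
      ⟨0, by simp⟩, by simp [Nat.card_of_subsingleton, hp.out.ne_one], ⟨0, by simp⟩⟩
  have hquot : ∀ N : Subgroup G, [N.Normal] → N ≠ ⊥ → Chain p (G ⧸ N) := by
    intro N _ hN
    refine ih _ (hn ▸ Grp.card_quotient_lt hN) _ rfl (Grp.isPSolvable_map hG _ (QuotientGroup.mk'_surjective N)) fun M hM => ?_
    set q := QuotientGroup.mk' N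
    have hs' : Function.Surjective q := QuotientGroup.mk'_surjective N
    have hM' : IsCoatom (M.comap q) := Subgroup.isCoatom_comap_of_surjective hs' hM
    rcases hmax _ hM' with ⟨K, hKn, hK, k, hk⟩ | h
    · left
      let r : M.comap q →* M := q.subgroupComap M
      have hr : Function.Surjective r := q.subgroupComap_surjective_of_surjective M hs'
      obtain ⟨j, -, hj⟩ := (Nat.dvd_prime_pow hp.out).1 (show (K.map r).index ∣ p ^ k from hk ▸ K.index_map_dvd hr)
      exact ⟨K.map r, hKn.map r hr, fun hd => hK (hd.trans (Subgroup.card_map_dvd K r)), j, hj⟩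
    · right; rwa [Subgroup.index_comap_of_surjective _ hs'] at h
  by_cases hO : ∃ X : Subgroup G, X.Normal ∧ ¬ p ∣ Nat.card X ∧ X ≠ ⊥
  · obtain ⟨X, hXn, hX, hX1⟩ := hO
    haveI := hXn
    exact chain_of_prime_to hX (hquot X hX1)
  push Not at hO
  have hpc : Cfsg.pCore p G ≠ ⊥ := fun h => by
    have h2 : Cfsg.pPrimeCore p G = ⊥ := hO _ Grp.pPrimeCore_isNormal
      ((Nat.Prime.coprime_iff_not_dvd hp.out).1 Grp.pPrimeCore_coprime.symm)
    exact (top_ne_bot : (⊤ : Subgroup G) ≠ ⊥) (Grp.isPSolvable_eq_top_of_cores hG h h2)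
  haveI := Grp.pCore_isNormal (p := p) (G := G)
  obtain ⟨N, hNn, hN1, hNle, hNmin⟩ := Grp.exists_minimal_normal_le hpc
  haveI := hNn
  have hNp : IsPGroup p N := Grp.pCore_isPGroup.to_le hNle
  by_cases huniq : ∃ N' : Subgroup G, N'.Normal ∧ N' ≠ ⊥ ∧ N ⊓ N' = ⊥
  · obtain ⟨N', hN'n, hN'1, hd⟩ := huniq
    haveI := hN'n
    exact chain_subdirect hd (hquot N hN1) (hquot N' hN'1)
  push Not at huniq
  haveI hNc : IsMulCommutative N := by
    have h1 : ⁅N, N⁆ = ⊥ := (hNmin _ inferInstance (Subgroup.commutator_le_self N)).resolve_right fun e => hN1 (by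
      haveI := hNp.isNilpotent
      haveI := (Subgroup.nontrivial_iff_ne_bot N).2 hN1
      refine absurd ?_ (Group.IsSolvable.commutator_lt_top_of_nontrivial N).ne
      apply Subgroup.map_injective N.subtype_injective
      rw [Subgroup.map_subtype_commutator, ← MonoidHom.range_eq_map, Subgroup.range_subtype, e])
    exact ⟨⟨fun u v => Subtype.ext (commutatorElement_eq_one_iff_mul_comm.1
      (Subgroup.mem_bot.1 (h1 ▸ Subgroup.commutator_mem_commutator u.2 v.2)))⟩⟩
  by_cases hΦ : N ≤ frattini G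
  · exact chain_of_le_frattini hNp hΦ hO (hquot N hN1)
  obtain ⟨M, hM, hNM⟩ : ∃ M : Subgroup G, IsCoatom M ∧ ¬ N ≤ M := by
    by_contra h
    push Not at h
    exact hΦ (le_iInf₂ h)
  have htop : N ⊔ M = ⊤ := hM.2 _ (lt_of_le_of_ne le_sup_right fun e => hNM (e ▸ le_sup_left))
  have hdec : ∀ g : G, ∃ a ∈ N, ∃ m ∈ M, g = a * m := fun g => by
    have hg : g ∈ (↑(N ⊔ M) : Set G) := by rw [htop]; trivial
    rw [Subgroup.normal_mul] at hg
    obtain ⟨a, ha, m, hm, e⟩ := Set.mem_mul.1 hg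
    exact ⟨a, ha, m, hm, e.symm⟩
  have hdisj : N ⊓ M = ⊥ := by
    refine (hNmin _ ⟨fun x hx g => ?_⟩ inf_le_left).resolve_right fun e => hNM (e ▸ inf_le_right)
    obtain ⟨a, ha, m, hm, rfl⟩ := hdec g
    have h1 : m * x * m⁻¹ ∈ N ⊓ M := ⟨hNn.conj_mem x hx.1 m, M.mul_mem (M.mul_mem hm hx.2) (M.inv_mem hm)⟩
    have h2 : a * (m * x * m⁻¹) * a⁻¹ = m * x * m⁻¹ := by
      have := congrArg Subtype.val (mul_comm (⟨a, ha⟩ : N) ⟨m * x * m⁻¹, h1.1⟩)
      simp only [Subgroup.coe_mul] at this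
      rw [this, mul_inv_cancel_right]
    rw [show a * m * x * (a * m)⁻¹ = a * (m * x * m⁻¹) * a⁻¹ by group, h2]
    exact h1
  have hcompl : Subgroup.IsComplement' N M := Subgroup.isComplement'_of_disjoint_and_mul_eq_univ (disjoint_iff.2 hdisj)
    (by rw [← Subgroup.normal_mul, htop]; rfl)
  obtain ⟨a, ha⟩ := IsPGroup.iff_card.1 hNp
  rcases hmax M hM with ⟨K, hKn, hK, k, hk⟩ | hprime
  · set K' := K.map M.subtype
    have hK'M : K' ≤ M := Subgroup.map_subtype_le K
    have hCn : (N ⊔ K').Normal := by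
      rw [← Subgroup.normalizer_eq_top_iff, eq_top_iff, ← htop]
      refine sup_le (le_sup_left.trans Subgroup.le_normalizer) fun m hm => ?_
      have h1 : ∀ x ∈ M, ∀ y ∈ N ⊔ K', x * y * x⁻¹ ∈ N ⊔ K' := by
        intro x hx y hy
        rw [← SetLike.mem_coe, Subgroup.normal_mul] at hy
        obtain ⟨u, hu, v, ⟨v', hv', rfl⟩, rfl⟩ := Set.mem_mul.1 hy
        rw [show x * (u * M.subtype v') * x⁻¹ = (x * u * x⁻¹) * (x * M.subtype v' * x⁻¹) by group]
        exact mul_mem (Subgroup.mem_sup_left (hNn.conj_mem u hu x))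
          (Subgroup.mem_sup_right ⟨⟨x, hx⟩ * v' * ⟨x, hx⟩⁻¹, hKn.conj_mem v' hv' _, rfl⟩)
      rw [Subgroup.mem_normalizer_iff]
      exact fun y => ⟨fun hy => h1 m hm y hy, fun hy => by simpa [mul_assoc] using h1 m⁻¹ (inv_mem hm) _ hy⟩
    have hd' : Disjoint N K' := (disjoint_iff.2 hdisj).mono_right hK'M
    have hcardC : Nat.card (N ⊔ K' : Subgroup G) = Nat.card N * Nat.card K := by
      rw [← Subgroup.card_map_of_injective (K := K) M.subtype_injective, ← Nat.card_prod]
      refine (Nat.card_eq_of_bijective (fun x : N × K' => (⟨(x.1 : G) * x.2, mul_mem (Subgroup.mem_sup_left x.1.2) (Subgroup.mem_sup_right x.2.2)⟩ : (N ⊔ K' : Subgroup G)))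
        ⟨fun u v e => Subgroup.mul_injective_of_disjoint hd' (congrArg Subtype.val e), fun y => ?_⟩).symm
      have hy : (y : G) ∈ (↑(N ⊔ K') : Set G) := y.2
      rw [Subgroup.normal_mul] at hy
      obtain ⟨u, hu, v, hv, e⟩ := Set.mem_mul.1 hy
      exact ⟨(⟨u, hu⟩, ⟨v, hv⟩), Subtype.ext e⟩
    refine ⟨⊥, N, N ⊔ K', inferInstance, hNn, hCn, bot_le, le_sup_left, by simp [hp.out.ne_one],
      ⟨a, by rw [Subgroup.relIndex_bot_left, ha]⟩, ?_, ⟨k, ?_⟩⟩
    · have h1 := Subgroup.relIndex_mul_relIndex ⊥ N (N ⊔ K') bot_le le_sup_left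
      rw [Subgroup.relIndex_bot_left, Subgroup.relIndex_bot_left, hcardC] at h1
      rw [Nat.eq_of_mul_eq_mul_left Nat.card_pos h1]
      exact hK
    · have h1 := (N ⊔ K').card_mul_index
      rw [hcardC, ← hcompl.card_mul, ← K.card_mul_index, mul_assoc] at h1
      rw [← hk]
      exact Nat.eq_of_mul_eq_mul_left Nat.card_pos (Nat.eq_of_mul_eq_mul_left Nat.card_pos h1)
  · -- prime index
    rw [hcompl.index_eq_card, ha] at hprime
    have ha1 : a = 1 := by
      rcases a with _ | _ | a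
      · rw [pow_zero] at hprime; exact absurd hprime Nat.not_prime_one
      · rfl
      · exact absurd hprime (Nat.Prime.not_prime_pow (by omega))
    subst ha1
    rw [pow_one] at ha
    haveI : IsCyclic N := isCyclic_of_prime_card ha
    have hMp : ¬ p ∣ Nat.card M := by
      intro hd
      obtain ⟨m, hm⟩ := exists_prime_orderOf_dvd_card' p hd
      let φ : M →* MulAut N := (MulAut.conjNormal : G →* MulAut N).comp M.subtype
      have h1 : orderOf (φ m) = 1 := by
        refine Nat.eq_one_of_dvd_coprimes (?_ : Nat.Coprime p (p - 1)) (hm ▸ orderOf_map_dvd φ m) ?_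
        · rw [Nat.Prime.coprime_iff_not_dvd hp.out]
          exact fun h => absurd (Nat.le_of_dvd (by have := hp.out.two_le; omega) h) (by have := hp.out.two_le; omega)
        · rw [← Nat.totient_prime hp.out, ← ha, ← IsCyclic.card_mulAut]
          exact orderOf_dvd_natCard _
      have hcen : (m : G) ∈ M ⊓ Subgroup.centralizer (N : Set G) := by
        refine ⟨m.2, Subgroup.mem_centralizer_iff.2 fun y hy => ?_⟩
        have h3 := congrArg (fun e : MulAut N => ((e ⟨y, hy⟩ : N) : G)) (orderOf_eq_one_iff.1 h1)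
        have h4 : (m : G) * y * (m : G)⁻¹ = y := h3
        calc y * (m : G) = (m : G) * y * (m : G)⁻¹ * m := by rw [h4]
          _ = _ := by group
      have hbot : M ⊓ Subgroup.centralizer (N : Set G) = ⊥ := by
        by_contra hne
        have hn' : (M ⊓ Subgroup.centralizer (N : Set G)).Normal := ⟨fun x hx g => by
          obtain ⟨u, hu, v, hv, rfl⟩ := hdec g
          haveI : (Subgroup.centralizer (N : Set G)).Normal := inferInstance
          have h1 : v * x * v⁻¹ ∈ M ⊓ Subgroup.centralizer (N : Set G) :=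
            ⟨M.mul_mem (M.mul_mem hv hx.1) (M.inv_mem hv), Subgroup.Normal.conj_mem inferInstance x hx.2 v⟩
          rw [show u * v * x * (u * v)⁻¹ = u * (v * x * v⁻¹) * u⁻¹ by group,
            Subgroup.mem_centralizer_iff.1 h1.2 u hu, mul_inv_cancel_right]
          exact h1⟩
        have := huniq _ hn' hne
        exact this (eq_bot_iff.2 ((inf_le_inf le_rfl inf_le_left).trans hdisj.le))
      rw [hbot, Subgroup.mem_bot] at hcen
      rw [← Subgroup.orderOf_coe, hcen, orderOf_one] at hm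
      exact hp.out.one_lt.ne hm
    refine ⟨⊥, N, ⊤, inferInstance, hNn, inferInstance, bot_le, le_top, by simp [hp.out.ne_one],
      ⟨1, by rw [Subgroup.relIndex_bot_left, ha, pow_one]⟩, ?_, ⟨0, by simp⟩⟩
    rw [Subgroup.relIndex_top_right, hcompl.symm.index_eq_card]
    exact hMp

end Cfsg.Agent.Transfer.PNilMax
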