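import Mathlib
import Cfsg.Agent.Lib.Recog.Zsigmondy

/-! The primitive part of `a ^ n - 1` is at least `3 n + 1`, with thirteen exceptions. -/

set_option autoImplicit false

namespace Cfsg.Agent.Transfer.PrimitivePart

open Cfsg.Agent.Recog.Zsigmondy Polynomial

def exceptional : List (ℕ × ℕ) :=
  [(2, 6), (2, 4), (2, 10), (2, 12), (2, 18), (3, 4), (3, 6), (5, 6), (2, 3), (2, 8), (2, 20), (4, 3), (4, 6)]

def small : List ℕ :=
  [3, 4, 5, 6, 7, 8, 9, 10, 11, 12, 13, 14, 15, 16, 18, 20, 21, 22, 24, 26, 28, 30, 36, 40, 42, 48, 60]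

theorem small_check : (List.range 182).all (fun n => n < 3 || small.contains n ||
    decide ((n * (3 * n + 1)) ^ 4 < 2 ^ (3 * tot n))) = true := by decide +kernel

theorem small_bound : small.all (fun n => decide (n * (3 * n + 1) < 11 ^ tot n)) = true := by decide +kernel

def witnesses : List (ℕ × ℕ × ℕ) := [(3, 3, 13), (5, 3, 31), (6, 3, 43), (4, 4, 17), (5, 4, 13), (6, 4, 37), (7, 4, 25), (8, 4, 65), (2, 5, 31), (3, 5, 121), (6, 6, 31), (7, 6, 43), (8, 6, 19), (9, 6, 73), (10, 6, 91), (11, 6, 37), (2, 7, 127), (3, 7, 1093), (3, 8, 41), (4, 8, 257), (2, 9, 73), (3, 9, 757), (3, 10, 61), (4, 10, 41), (5, 10, 521), (2, 11, 2047), (3, 12, 73), (4, 12, 241), (5, 12, 601), (2, 13, 8191), (2, 14, 43), (3, 14, 547), (2, 15, 151), (3, 15, 4561), (2, 16, 257), (3, 16, 3281), (3, 18, 703), (4, 18, 4033), (3, 20, 1181), (2, 21, 337), (2, 22, 683), (3, 22, 44287), (2, 24, 241), (3, 24, 6481), (2, 26, 2731), (2, 28, 3277), (2, 30, 331), (3, 30, 8401), (2, 36, 4033), (2, 40, 61681),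 (2, 42, 5419), (3, 42, 97567), (2, 48, 65281), (2, 60, 80581)]

def bound : ℕ → ℕ := fun n => ((List.range 12).filter fun b => decide (b ^ tot n ≤ n * (3 * n + 1))).length

theorem witnesses_cover : small.all (fun n => (List.range (bound n)).all fun b => b < 1 ||
    exceptional.contains (b + 1, n) || witnesses.any (fun w => w.1 == b + 1 && w.2.1 == n)) = true := by
  decide +kernel

theorem witnesses_check : witnesses.all (fun w => decide (3 * w.2.1 + 1 ≤ w.2.2) &&
    decide ((w.1 ^ w.2.1 - 1) % w.2.2 = 0) &&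
    (List.range w.2.1).all (fun i => i == 0 || decide (Nat.gcd w.2.2 (w.1 ^ i - 1) = 1))) = true := by
  decide +kernel

/-- the exceptional pairs with their primitive parts -/
def parts : List (ℕ × ℕ × ℕ) := [(2, 6, 1), (2, 4, 5), (2, 10, 11), (2, 12, 13), (2, 18, 19), (3, 4, 5),
  (3, 6, 7), (5, 6, 7), (2, 3, 7), (2, 8, 17), (2, 20, 41), (4, 3, 7), (4, 6, 13)]

theorem parts_cover : exceptional.all (fun x => parts.any (fun w => w.1 == x.1 && w.2.1 == x.2)) = true := by
  decide +kernel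

theorem parts_check : parts.all (fun w => decide (w.2.2 ≤ 2 * w.2.1 + 1) && decide (0 < w.2.2) &&
    decide ((w.2.2 * ((List.range w.2.1).map fun i => if i = 0 then 1 else w.1 ^ i - 1).prod) %
      (w.1 ^ w.2.1 - 1) = 0)) = true := by
  decide +kernel

theorem n_small {n : ℕ} (hn : 3 ≤ n) (h : 2 ^ (3 * n.totient) ≤ (n * (3 * n + 1)) ^ 4) : n ∈ small := by
  set t := n.totient
  have hnt : n ≤ 2 * t ^ 2 := (two_mul_totient_sq n).2
  have h1 : 2 ^ (3 * t) ≤ (2 * t ^ 2 * (6 * t ^ 2 + 1)) ^ 4 :=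
    h.trans (Nat.pow_le_pow_left (Nat.mul_le_mul hnt (by omega)) 4)
  have ht : t ≤ 31 := by
    by_contra hc
    push Not at hc
    have key : ∀ s : ℕ, 32 ≤ s → (2 * s ^ 2 * (6 * s ^ 2 + 1)) ^ 4 < 2 ^ (3 * s) := by
      intro s hs
      induction s, hs using Nat.le_induction with
      | base => norm_num
      | succ s hs ih =>
        have h8 : (2 * (s + 1) ^ 2) * 7 ≤ 2 * s ^ 2 * 8 := by nlinarith
        have h9 : (6 * (s + 1) ^ 2 + 1) * 7 ≤ (6 * s ^ 2 + 1) * 8 := by nlinarith
        have h10 : (2 * (s + 1) ^ 2 * (6 * (s + 1) ^ 2 + 1)) ^ 4 * 7 ^ 8 ≤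
            (2 * s ^ 2 * (6 * s ^ 2 + 1)) ^ 4 * 8 ^ 8 := by
          calc _ = ((2 * (s + 1) ^ 2) * 7) ^ 4 * ((6 * (s + 1) ^ 2 + 1) * 7) ^ 4 := by ring
            _ ≤ (2 * s ^ 2 * 8) ^ 4 * ((6 * s ^ 2 + 1) * 8) ^ 4 :=
              Nat.mul_le_mul (Nat.pow_le_pow_left h8 4) (Nat.pow_le_pow_left h9 4)
            _ = _ := by ring
        rw [show 3 * (s + 1) = 3 * s + 3 by ring, pow_add]
        refine Nat.lt_of_mul_lt_mul_right (a := 7 ^ 8) (lt_of_le_of_lt h10 ?_)
        calc (2 * s ^ 2 * (6 * s ^ 2 + 1)) ^ 4 * 8 ^ 8 < 2 ^ (3 * s) * 8 ^ 8 :=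
              Nat.mul_lt_mul_of_pos_right ih (by norm_num)
          _ ≤ 2 ^ (3 * s) * (2 ^ 3 * 7 ^ 8) := Nat.mul_le_mul_left _ (by norm_num)
          _ = 2 ^ (3 * s) * 2 ^ 3 * 7 ^ 8 := by ring
    exact absurd h1 (not_le.mpr (key t (by omega)))
  have h1922 : n ≤ 1922 := hnt.trans (by nlinarith)
  by_cases h181 : n ≤ 181
  · have := List.all_eq_true.mp small_check n (List.mem_range.mpr (by omega))
    rw [tot_eq] at this
    simp only [Bool.or_eq_true, decide_eq_true_eq, List.contains_iff_mem] at this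
    rcases this with (h' | h') | h'
    · omega
    · exact h'
    · exact absurd h (not_le.mpr h')
  · exfalso
    push Not at h181
    let P : Finset ℕ := (Finset.range 182).filter Nat.Prime
    have hP : P.card = 42 := by decide +kernel
    have hf : n.primeFactors.card ≤ 10 := by
      by_contra hc
      push Not at hc
      have h2 : 2 ^ n.primeFactors.card ≤ ∏ p ∈ n.primeFactors, p :=
        Finset.pow_card_le_prod _ _ _ fun p hp => (Nat.prime_of_mem_primeFactors hp).two_le
      have h3 := Nat.le_of_dvd (by omega) (Nat.prod_primeFactors_dvd n)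
      have h4 : 2 ^ 11 ≤ 2 ^ n.primeFactors.card := Nat.pow_le_pow_right two_pos hc
      omega
    have hsub : P \ n.primeFactors ⊆ (Finset.range n).filter fun a => n.Coprime a := by
      intro p hp
      simp only [P, Finset.mem_sdiff, Finset.mem_filter, Finset.mem_range] at hp ⊢
      refine ⟨by omega, Nat.Coprime.symm ((Nat.Prime.coprime_iff_not_dvd hp.1.2).mpr fun hd => hp.2 ?_)⟩
      exact Nat.mem_primeFactors.mpr ⟨hp.1.2, hd, by omega⟩
    have h5 := Finset.card_le_card hsub
    rw [← Nat.totient_eq_card_coprime, Finset.card_sdiff] at h5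
    have h6 : (n.primeFactors ∩ P).card ≤ 10 := (Finset.card_le_card Finset.inter_subset_left).trans hf
    omega

/-- A large primitive divisor outside the exceptional pairs. -/
theorem exists_big {a n : ℕ} (ha : 2 ≤ a) (hn : 3 ≤ n) (hexc : (a, n) ∉ exceptional) :
    ∃ m : ℕ, m ∣ a ^ n - 1 ∧ (∀ i : ℕ, 1 ≤ i → i < n → Nat.Coprime m (a ^ i - 1)) ∧ 3 * n + 1 ≤ m := by
  by_contra hcon
  push Not at hcon
  set N := phi n a with hN
  have hdvd : N ∣ a ^ n - 1 := phi_dvd n (by omega)
  have hNpos : 0 < N := by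
    refine lt_of_le_of_lt (Nat.zero_le ((a - 1) ^ n.totient)) ?_
    exact sub_one_pow_totient_lt_natAbs_cyclotomic_eval (by omega) (by omega)
  -- primes of N outside n are primitive
  have hprim : ∀ m, m ∣ N → (∀ p, p.Prime → p ∣ m → ¬ p ∣ n) → ∀ i, 1 ≤ i → i < n → Nat.Coprime m (a ^ i - 1) := by
    intro m hm hout i hi hin
    refine Nat.coprime_of_dvd fun p hp hpm hpi => ?_
    rcases dichotomy (by omega) (by omega) hp (hpm.trans hm) with ⟨hP, -⟩ | ⟨k, _, hk, hnm, -⟩
    · exact hP.2.2 i hi hin hpi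
    · exact hout p hp hpm (hnm ▸ (dvd_pow_self p hk.ne').mul_right _)
  have hNle : N ≤ n * (3 * n + 1) := by
    by_cases hex : ∃ p, p.Prime ∧ p ∣ N ∧ p ∣ n
    · obtain ⟨p, hp, ⟨c, hc⟩, hpn⟩ := hex
      have hcN : c ∣ N := ⟨p, by rw [hc, mul_comm]⟩
      have hout : ∀ r, r.Prime → r ∣ c → ¬ r ∣ n := by
        intro r hr hrc hrn
        obtain rfl := exceptional_unique (by omega) (by omega) hp hr ⟨c, hc⟩ (hrc.trans hcN) hpn hrn
        refine sq_not_dvd hn ha hp hpn ?_
        rw [pow_two, ← hN, hc]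
        exact mul_dvd_mul_left p hrc
      have h1 := hcon c (hcN.trans hdvd) (hprim c hcN hout)
      have h2 := Nat.le_of_dvd (by omega) hpn
      rw [hc]
      exact Nat.mul_le_mul h2 h1.le
    · push Not at hex
      have h1 := hcon N hdvd (hprim N dvd_rfl fun r hr hrN => hex r hr hrN)
      calc N ≤ 1 * (3 * n + 1) := by rw [one_mul]; exact h1.le
        _ ≤ n * (3 * n + 1) := Nat.mul_le_mul_right _ (by omega)
  have hlow : 2 ^ (3 * n.totient) ≤ N ^ 4 := by
    rcases (show a = 2 ∨ 3 ≤ a by omega) with rfl | h3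
    · exact lower_two n (by omega)
    · calc 2 ^ (3 * n.totient) ≤ 2 ^ (n.totient * 4) := Nat.pow_le_pow_right two_pos (by omega)
        _ = (2 ^ n.totient) ^ 4 := pow_mul _ _ _
        _ ≤ ((a - 1) ^ n.totient) ^ 4 := Nat.pow_le_pow_left (Nat.pow_le_pow_left (by omega) _) 4
        _ ≤ N ^ 4 := Nat.pow_le_pow_left (phi_lower ha n (by omega)) 4
  have hns := n_small hn (hlow.trans (Nat.pow_le_pow_left hNle 4))
  have hb : (a - 1) ^ n.totient ≤ n * (3 * n + 1) := (phi_lower ha n (by omega)).trans hNle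
  rw [← tot_eq] at hb
  have h11 : a - 1 < 11 := by
    by_contra hc
    push Not at hc
    have := List.all_eq_true.mp small_bound n hns
    rw [decide_eq_true_eq] at this
    have := Nat.pow_le_pow_left hc (tot n)
    omega
  have hlt : a - 1 < bound n := by
    have hsub : List.range (a - 1 + 1) <+: (List.range 12).filter fun b => decide (b ^ tot n ≤ n * (3 * n + 1)) := by
      have h12 : List.range 12 = List.range (a - 1 + 1) ++ (List.range (12 - (a - 1 + 1))).map (a - 1 + 1 + ·) := by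
        rw [← List.range_add]; congr 1; omega
      rw [h12, List.filter_append, List.filter_eq_self.mpr (fun x hx => by
          rw [decide_eq_true_eq]
          exact (Nat.pow_le_pow_left (show x ≤ a - 1 by have := List.mem_range.mp hx; omega) _).trans hb)]
      exact List.prefix_append _ _
    have := hsub.length_le
    rw [List.length_range] at this
    exact this
  have hc := List.all_eq_true.mp (List.all_eq_true.mp witnesses_cover n hns) (a - 1) (List.mem_range.mpr hlt)
  simp only [Bool.or_eq_true, decide_eq_true_eq, List.contains_iff_mem, List.any_eq_true, Bool.and_eq_true,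
    beq_iff_eq, show a - 1 + 1 = a by omega] at hc
  rcases hc with (h1 | h1) | ⟨⟨wa, wn, m⟩, hw, h1, h2⟩
  · omega
  · exact hexc h1
  · subst h1 h2
    have hch := List.all_eq_true.mp witnesses_check _ hw
    simp only [Bool.or_eq_true, decide_eq_true_eq, Bool.and_eq_true, List.all_eq_true, List.mem_range, beq_iff_eq] at hch
    obtain ⟨⟨hbig, hd⟩, hmin⟩ := hch
    have hlt' := hcon m (Nat.dvd_of_mod_eq_zero hd) fun i hi hin => by
      rcases hmin i hin with h' | h'
      · omega
      · exact h'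
    exact absurd hlt' (not_lt.mpr hbig)

/-- In the exceptional cases the primitive divisors are small. -/
theorem le_of_exceptional {a n m : ℕ} (h : (a, n) ∈ exceptional) (hm : m ∣ a ^ n - 1)
    (hc : ∀ i : ℕ, 1 ≤ i → i < n → Nat.Coprime m (a ^ i - 1)) : m ≤ 2 * n + 1 := by
  have h1 := List.all_eq_true.mp parts_cover _ h
  simp only [List.any_eq_true, Bool.and_eq_true, beq_iff_eq] at h1
  obtain ⟨⟨wa, wn, P⟩, hw, e1, e2⟩ := h1

  subst e1 e2
  have hch := List.all_eq_true.mp parts_check _ hw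
  simp only [Bool.and_eq_true, decide_eq_true_eq] at hch
  obtain ⟨⟨hle, hpos⟩, hd⟩ := hch
  refine le_trans (Nat.le_of_dvd hpos ?_) hle
  refine (Nat.Coprime.dvd_of_dvd_mul_right ?_ (hm.trans (Nat.dvd_of_mod_eq_zero hd)))
  refine Nat.coprime_list_prod_right_iff.mpr fun x hx => ?_
  obtain ⟨i, hi, rfl⟩ := List.mem_map.mp hx
  rw [List.mem_range] at hi
  split_ifs with h0
  · exact Nat.coprime_one_right m
  · exact hc i (Nat.pos_of_ne_zero h0) hi

end Cfsg.Agent.Transfer.PrimitivePart
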