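import Cfsg.Prelude.Def_OddOrderLocal
import Mathlib

/-! Formal properties of the Puig series. -/

set_option autoImplicit false

namespace Cfsg.Agent.Transfer.Puig

universe u
variable {G : Type u} [Group G]

theorem le_step {A X : Subgroup G} (hA : IsMulCommutative A) (hX : X ≤ Subgroup.normalizer (A : Set G)) :
    A ≤ Cfsg.puigStep X := le_sSup ⟨hA, hX⟩

theorem step_antitone {X Y : Subgroup G} (h : X ≤ Y) : Cfsg.puigStep Y ≤ Cfsg.puigStep X :=
  sSup_le fun _ hA => le_sSup ⟨hA.1, h.trans hA.2⟩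

theorem seq_one : Cfsg.puigSeq G 1 = ⊤ := by
  refine top_le_iff.1 fun x _ => ?_
  exact le_step (A := Subgroup.zpowers x) (X := ⊥) inferInstance bot_le (Subgroup.mem_zpowers x)

theorem even_le_odd : ∀ N n m : ℕ, n + m ≤ N → Cfsg.puigSeq G (2 * n) ≤ Cfsg.puigSeq G (2 * m + 1) := by
  intro N
  induction N with
  | zero =>
    intro n m h
    obtain ⟨rfl, rfl⟩ : n = 0 ∧ m = 0 := by omega
    exact bot_le
  | succ N ih =>
    intro n m h
    rcases n with _ | n
    · exact bot_le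
    rcases m with _ | m
    · rw [seq_one (G := G)]; exact le_top
    show Cfsg.puigStep (Cfsg.puigSeq G (2 * n + 1)) ≤ Cfsg.puigStep (Cfsg.puigSeq G (2 * (m + 1)))
    exact step_antitone (ih (m + 1) n (by omega))

theorem step_two : ∀ n : ℕ, Cfsg.puigSeq G (2 * n) ≤ Cfsg.puigSeq G (2 * n + 2) ∧
    Cfsg.puigSeq G (2 * n + 3) ≤ Cfsg.puigSeq G (2 * n + 1) := by
  intro n
  induction n with
  | zero => exact ⟨bot_le, by rw [seq_one (G := G)]; exact le_top⟩
  | succ n ih =>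
    have h1 : Cfsg.puigSeq G (2 * n + 2) ≤ Cfsg.puigSeq G (2 * n + 4) := step_antitone ih.2
    exact ⟨h1, step_antitone h1⟩

theorem even_mono : Monotone fun n => Cfsg.puigSeq G (2 * n) :=
  monotone_nat_of_le_succ fun n => (step_two n).1

theorem odd_anti : Antitone fun n => Cfsg.puigSeq G (2 * n + 1) :=
  antitone_nat_of_succ_le fun n => (step_two n).2

/-- Both subsequences are eventually constant, with values `L_*(G)` and `L(G)`. -/
theorem eventually_eq [Finite G] : ∃ k : ℕ, ∀ n : ℕ, k ≤ n →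
    Cfsg.puigSeq G (2 * n) = Cfsg.puigLower G ∧ Cfsg.puigSeq G (2 * n + 1) = Cfsg.puigSubgroup G := by
  obtain ⟨a, ha⟩ := WellFoundedGT.monotone_chain_condition ⟨_, even_mono (G := G)⟩
  obtain ⟨b, hb⟩ := WellFoundedLT.antitone_chain_condition (f := fun n => Cfsg.puigSeq G (2 * n + 1)) (odd_anti (G := G))
  refine ⟨max a b, fun n hn => ⟨?_, ?_⟩⟩
  · refine le_antisymm (le_iSup (fun n => Cfsg.puigSeq G (2 * n)) n) (iSup_le fun i => ?_)
    have h1 : Cfsg.puigSeq G (2 * i) ≤ Cfsg.puigSeq G (2 * max i a) := even_mono (le_max_left _ _)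
    have h2 : Cfsg.puigSeq G (2 * a) = Cfsg.puigSeq G (2 * max i a) := ha _ (le_max_right _ _)
    have h3 : Cfsg.puigSeq G (2 * a) = Cfsg.puigSeq G (2 * n) := ha _ ((le_max_left _ _).trans hn)
    rwa [← h3, h2]
  · refine le_antisymm (le_iInf fun i => ?_) (iInf_le (fun n => Cfsg.puigSeq G (2 * n + 1)) n)
    have h1 : Cfsg.puigSeq G (2 * max i b + 1) ≤ Cfsg.puigSeq G (2 * i + 1) := odd_anti (le_max_left _ _)
    have h2 : Cfsg.puigSeq G (2 * b + 1) = Cfsg.puigSeq G (2 * max i b + 1) := hb _ (le_max_right _ _)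
    have h3 : Cfsg.puigSeq G (2 * b + 1) = Cfsg.puigSeq G (2 * n + 1) := hb _ ((le_max_right _ _).trans hn)
    rwa [← h3, h2]

theorem step_lower [Finite G] : Cfsg.puigStep (Cfsg.puigLower G) = Cfsg.puigSubgroup G ∧
    Cfsg.puigStep (Cfsg.puigSubgroup G) = Cfsg.puigLower G := by
  obtain ⟨k, hk⟩ := eventually_eq (G := G)
  refine ⟨?_, ?_⟩
  · rw [← (hk k le_rfl).1, ← (hk k le_rfl).2]; rfl
  · rw [← (hk k le_rfl).2, ← (hk (k + 1) (by omega)).1]; rfl

end Cfsg.Agent.Transfer.Puig
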