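import Mathlib
import Cfsg.Prelude.Def_OddOrderLocal
import Cfsg.Agent.Lib.Transfer.Puig

/-!
The Puig series of a subgroup, seen inside the ambient group.
-/

set_option autoImplicit false

namespace Cfsg.Agent.Transfer.PuigIn

universe u v
variable {G : Type u} [Group G]

/-- The `n`th Puig term of `S`, as a subgroup of the ambient group. -/
def seqIn (S : Subgroup G) (n : ℕ) : Subgroup G := (Cfsg.puigSeq ↥S n).map S.subtype

theorem seqIn_le (S : Subgroup G) (n : ℕ) : seqIn S n ≤ S := Subgroup.map_subtype_le _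

theorem seqIn_zero (S : Subgroup G) : seqIn S 0 = ⊥ := by
  show (⊥ : Subgroup ↥S).map S.subtype = ⊥
  rw [Subgroup.map_bot]

theorem seqIn_one (S : Subgroup G) : seqIn S 1 = S := by
  show (Cfsg.puigSeq ↥S 1).map S.subtype = S
  rw [Puig.seq_one (G := S), ← MonoidHom.range_eq_map, Subgroup.range_subtype]

theorem le_seqIn_succ {S A : Subgroup G} {n : ℕ} (hA : A ≤ S) (hc : IsMulCommutative A)
    (hN : seqIn S n ≤ Subgroup.normalizer (A : Set G)) : A ≤ seqIn S (n + 1) := by
  intro a ha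
  refine ⟨⟨a, hA ha⟩, Puig.le_step (A := A.subgroupOf S) ?_ ?_ (Subgroup.mem_subgroupOf.2 ha), rfl⟩
  · exact IsMulCommutative.of_comm fun x y => Subtype.ext (Subtype.ext
      (congrArg (fun z : A => (z : G)) (mul_comm' (⟨((x : S) : G), x.2⟩ : A) ⟨((y : S) : G), y.2⟩)))
  · intro x hx
    have hxn := Subgroup.mem_normalizer_iff.1 (hN ⟨x, hx, rfl⟩)
    refine Subgroup.mem_normalizer_iff.2 fun y => ?_
    rw [Subgroup.mem_subgroupOf, Subgroup.mem_subgroupOf]
    exact hxn (y : G)

theorem seqIn_succ_le {S K : Subgroup G} {n : ℕ}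
    (h : ∀ A : Subgroup G, A ≤ S → IsMulCommutative A → seqIn S n ≤ Subgroup.normalizer (A : Set G) → A ≤ K) :
    seqIn S (n + 1) ≤ K := by
  rw [seqIn, Subgroup.map_le_iff_le_comap]
  refine sSup_le fun A hA => ?_
  rw [← Subgroup.map_le_iff_le_comap]
  refine h _ (Subgroup.map_subtype_le _) ?_ ?_
  · obtain ⟨hc, -⟩ := hA
    exact IsMulCommutative.of_comm fun x y => Subtype.ext (by
      obtain ⟨a, ha, hax⟩ := x.2
      obtain ⟨b, hb, hby⟩ := y.2
      show (x : G) * y = y * x
      rw [← hax, ← hby, ← map_mul, ← map_mul]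
      exact congrArg S.subtype (congrArg Subtype.val (mul_comm' (⟨a, ha⟩ : A) ⟨b, hb⟩)))
  · exact le_trans (Subgroup.map_mono hA.2) (Subgroup.le_normalizer_map _)

/-- Transport along an injective homomorphism. -/
theorem seqIn_map {G' : Type v} [Group G'] {S : Subgroup G} {S' : Subgroup G'} (f : G →* G')
    (hinj : Set.InjOn f S) (hS : S.map f = S') : ∀ n, (seqIn S n).map f = seqIn S' n := by
  subst hS
  intro n
  induction n with
  | zero => rw [seqIn_zero, seqIn_zero, Subgroup.map_bot]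
  | succ n ih =>
    refine le_antisymm ?_ (seqIn_succ_le fun A hA hAc hAn => ?_)
    · rw [Subgroup.map_le_iff_le_comap]
      refine seqIn_succ_le fun A hA hAc hAn => ?_
      rw [← Subgroup.map_le_iff_le_comap]
      refine le_seqIn_succ (Subgroup.map_mono hA) ?_ ?_
      · exact IsMulCommutative.of_comm fun x y => Subtype.ext (by
          obtain ⟨a, ha, hax⟩ := x.2
          obtain ⟨b, hb, hby⟩ := y.2
          show (x : G') * y = y * x
          rw [← hax, ← hby, ← map_mul, ← map_mul]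
          exact congrArg f (congrArg Subtype.val (mul_comm' (⟨a, ha⟩ : A) ⟨b, hb⟩)))
      · rw [← ih]
        exact (Subgroup.map_mono hAn).trans (Subgroup.le_normalizer_map _)
    · have hB : A ≤ ((A.comap f) ⊓ S).map f := fun a ha => by
        obtain ⟨s, hs, rfl⟩ := hA ha
        exact ⟨s, ⟨ha, hs⟩, rfl⟩
      refine hB.trans (Subgroup.map_mono (le_seqIn_succ inf_le_right ?_ ?_))
      · exact IsMulCommutative.of_comm fun x y => Subtype.ext (hinj (S.mul_mem x.2.2 y.2.2) (S.mul_mem y.2.2 x.2.2) (by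
          show f ((x : G) * y) = f ((y : G) * x)
          rw [map_mul, map_mul]
          exact congrArg (fun z : A => (z : G')) (mul_comm' (⟨f x, x.2.1⟩ : A) ⟨f y, y.2.1⟩)))
      · intro x hx
        have hxA : f x ∈ Subgroup.normalizer (A : Set G') := hAn (ih ▸ Subgroup.mem_map_of_mem f hx)
        refine Subgroup.mem_normalizer_iff.2 fun y => ?_
        simp only [Subgroup.mem_inf, Subgroup.mem_comap, map_mul, map_inv]
        refine and_congr ((Subgroup.mem_normalizer_iff.1 hxA) (f y)) ⟨fun hy => ?_, fun hy => ?_⟩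
        · exact S.mul_mem (S.mul_mem (seqIn_le S n hx) hy) (S.inv_mem (seqIn_le S n hx))
        · have h1 := S.mul_mem (S.mul_mem (S.inv_mem (seqIn_le S n hx)) hy) (seqIn_le S n hx)
          simpa [mul_assoc] using h1

theorem normalizer_le_seqIn (S : Subgroup G) (n : ℕ) :
    Subgroup.normalizer (S : Set G) ≤ Subgroup.normalizer (seqIn S n : Set G) := by
  intro g hg
  have hmap : S.map (MulAut.conj g).toMonoidHom = S := by
    ext x
    constructor
    · rintro ⟨y, hy, rfl⟩; exact (Subgroup.mem_normalizer_iff.1 hg y).1 hy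
    · intro hx
      exact ⟨g⁻¹ * x * g, (Subgroup.mem_normalizer_iff.1 hg _).2 (by simpa [mul_assoc] using hx), by simp [mul_assoc]⟩
  have h := seqIn_map (MulAut.conj g).toMonoidHom (MulAut.conj g).injective.injOn hmap n
  refine Subgroup.mem_normalizer_iff.2 fun y => ⟨fun hy => h ▸ Subgroup.mem_map_of_mem (MulAut.conj g).toMonoidHom hy,
    fun hy => ?_⟩
  obtain ⟨z, hz, hzy⟩ := h.ge hy
  rwa [← (MulAut.conj g).injective hzy]

theorem exists_stable [Finite G] (S : Subgroup G) : ∃ k : ℕ, ∀ n : ℕ, k ≤ n →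
    seqIn S (2 * n) = (Cfsg.puigLower ↥S).map S.subtype ∧
    seqIn S (2 * n + 1) = (Cfsg.puigSubgroup ↥S).map S.subtype := by
  obtain ⟨k, hk⟩ := Puig.eventually_eq (G := S)
  exact ⟨k, fun n hn => ⟨congrArg (fun X => X.map S.subtype) (hk n hn).1, congrArg (fun X => X.map S.subtype) (hk n hn).2⟩⟩

theorem even_le_odd (S : Subgroup G) (n m : ℕ) : seqIn S (2 * n) ≤ seqIn S (2 * m + 1) :=
  Subgroup.map_mono (Puig.even_le_odd (n + m) n m le_rfl)

/-- If `L(S) ≤ R ≤ S` then the Puig subgroups of `R` and `S` agree. -/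
theorem puigSubgroup_eq [Finite G] {S R : Subgroup G} (hRS : R ≤ S)
    (hLR : (Cfsg.puigSubgroup ↥S).map S.subtype ≤ R) :
    (Cfsg.puigSubgroup ↥R).map R.subtype = (Cfsg.puigSubgroup ↥S).map S.subtype := by
  obtain ⟨k, hk⟩ := exists_stable S
  obtain ⟨l, hl⟩ := exists_stable R
  set U := (Cfsg.puigSubgroup ↥S).map S.subtype
  set W := (Cfsg.puigLower ↥S).map S.subtype
  have hWU : W ≤ U := by rw [← (hk k le_rfl).1, ← (hk k le_rfl).2]; exact even_le_odd S k k
  have hWstep : ∀ A : Subgroup G, A ≤ S → IsMulCommutative A → U ≤ Subgroup.normalizer (A : Set G) → A ≤ W := fun A hA hAc hAn => by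
    rw [← (hk (k + 1) (by omega)).1]
    exact le_seqIn_succ (n := 2 * k + 1) hA hAc (by rw [(hk k le_rfl).2]; exact hAn)
  have hUstep : ∀ A : Subgroup G, A ≤ S → IsMulCommutative A → W ≤ Subgroup.normalizer (A : Set G) → A ≤ U := fun A hA hAc hAn => by
    rw [← (hk k le_rfl).2]
    exact le_seqIn_succ hA hAc (by rw [(hk k le_rfl).1]; exact hAn)
  -- the series of `R` is squeezed
  have h1 : ∀ n, seqIn R (2 * n) ≤ W ∧ U ≤ seqIn R (2 * n + 1) := by
    have hstep : ∀ n, seqIn R (2 * n) ≤ W → U ≤ seqIn R (2 * n + 1) := by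
      intro n hn
      rw [← (hk k le_rfl).2]
      refine seqIn_succ_le fun A hA hAc hAn => ?_
      rw [(hk k le_rfl).1] at hAn
      exact le_seqIn_succ ((hUstep A hA hAc hAn).trans hLR) hAc (hn.trans hAn)
    intro n
    induction n with
    | zero =>
      have : seqIn R (2 * 0) ≤ W := by rw [seqIn_zero]; exact bot_le
      exact ⟨this, hstep 0 this⟩
    | succ n ih =>
      have : seqIn R (2 * (n + 1)) ≤ W := seqIn_succ_le (n := 2 * n + 1) fun A hA hAc hAn =>
        hWstep A (hA.trans hRS) hAc (ih.2.trans hAn)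
      exact ⟨this, hstep _ this⟩
  have h2 : ∀ n, seqIn S (2 * n) ≤ seqIn R (2 * n) ∧ seqIn R (2 * n + 1) ≤ seqIn S (2 * n + 1) := by
    have hstep : ∀ n, seqIn S (2 * n) ≤ seqIn R (2 * n) → seqIn R (2 * n + 1) ≤ seqIn S (2 * n + 1) := fun n hn =>
      seqIn_succ_le fun A hA hAc hAn => le_seqIn_succ (hA.trans hRS) hAc (hn.trans hAn)
    intro n
    induction n with
    | zero =>
      have : seqIn S (2 * 0) ≤ seqIn R (2 * 0) := by rw [seqIn_zero, seqIn_zero]
      exact ⟨this, hstep 0 this⟩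
    | succ n ih =>
      have : seqIn S (2 * (n + 1)) ≤ seqIn R (2 * (n + 1)) := seqIn_succ_le (n := 2 * n + 1) fun A hA hAc hAn => by
        have hAW : A ≤ seqIn S (2 * n + 1 + 1) := le_seqIn_succ hA hAc hAn
        have hW' : seqIn S (2 * (n + 1)) ≤ W := by
          rw [← (hk (max k (n + 1)) (le_max_left _ _)).1]
          exact Subgroup.map_mono (Puig.even_mono (le_max_right _ _))
        exact le_seqIn_succ ((hAW.trans hW').trans (hWU.trans hLR)) hAc (ih.2.trans hAn)
      exact ⟨this, hstep _ this⟩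
  rw [← (hl (max k l) (le_max_right _ _)).2]
  refine le_antisymm ?_ (h1 _).2
  exact (h2 _).2.trans ((hk (max k l) (le_max_left _ _)).2).le

end Cfsg.Agent.Transfer.PuigIn
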