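import Mathlib
import Cfsg.Prelude.Def_CaseTheorems
import Cfsg.Agent.Lib.Grp.Frattini

/-! Pairs of normal nonabelian subgroups with centres of order two in 2-groups of sectional rank at most four. -/

set_option autoImplicit false

open scoped commutatorElement

namespace Cfsg.Agent.Transfer.RankFourPairs

universe u

variable {S : Type u} [Group S] [Finite S]

theorem center_mem {P : Subgroup S} {z : S} :
    z ∈ (Subgroup.center P).map P.subtype ↔ z ∈ P ∧ ∀ x ∈ P, x * z = z * x := by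
  constructor
  · rintro ⟨⟨z, hz⟩, hc, rfl⟩
    exact ⟨hz, fun x hx => congrArg Subtype.val (Subgroup.mem_center_iff.1 hc ⟨x, hx⟩)⟩
  · rintro ⟨hz, hc⟩
    exact ⟨⟨z, hz⟩, Subgroup.mem_center_iff.2 fun x => Subtype.ext (hc _ x.2), rfl⟩

theorem two_elements {G : Type u} [Group G] {Z : Subgroup G} (h : Nat.card Z = 2) {a b : G} (ha : a ∈ Z) (hb : b ∈ Z)
    (ha1 : a ≠ 1) (hb1 : b ≠ 1) : a = b := by
  haveI : Finite Z := Nat.finite_of_card_ne_zero (by omega)
  classical
  haveI := Fintype.ofFinite Z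
  by_contra hne
  have h3 := Finset.card_le_univ ({1, ⟨a, ha⟩, ⟨b, hb⟩} : Finset Z)
  rw [← Nat.card_eq_fintype_card, h, Finset.card_insert_of_notMem (by simp [Subtype.ext_iff, Ne.symm ha1, Ne.symm hb1]),
    Finset.card_pair (by simp [hne])] at h3
  omega

/-- A nontrivial normal subgroup of `P` contains the central involution. -/
theorem center_le_of_normal (h2 : IsPGroup 2 S) {P : Subgroup S} (hZ : Nat.card (Subgroup.center P) = 2)
    {K : Subgroup S} (hKP : K ≤ P) (hK : ∀ x ∈ P, ∀ k ∈ K, x * k * x⁻¹ ∈ K) (hne : K ≠ ⊥) :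
    (Subgroup.center P).map P.subtype ≤ K := by
  haveI : Fact (Nat.Prime 2) := ⟨Nat.prime_two⟩
  haveI : Group.IsNilpotent P := (h2.to_subgroup P).isNilpotent
  haveI : (K.subgroupOf P).Normal := ⟨fun k hk x => hK x x.2 k hk⟩
  have hne' : K.subgroupOf P ≠ ⊥ := by
    rw [Ne, Subgroup.subgroupOf_eq_bot, disjoint_iff, inf_eq_left.2 hKP]; exact hne
  obtain ⟨w, hw⟩ : ∃ w, w ∈ K.subgroupOf P ⊓ Subgroup.center P ∧ w ≠ 1 := by
    by_contra h
    push Not at h
    exact Grp.inf_center_ne_bot _ hne' ((Subgroup.eq_bot_iff_forall _).2 h)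
  rintro _ ⟨z, hz, rfl⟩
  by_cases hz1 : z = 1
  · subst hz1; exact one_mem _
  · rw [two_elements hZ hz hw.1.2 hz1 hw.2]; exact hw.1.1

theorem frattini_big (h2 : IsPGroup 2 S) {P : Subgroup S} (hP : ¬ IsMulCommutative P) :
    4 ≤ ((frattini P).map P.subtype).relIndex P := by
  haveI : Fact (Nat.Prime 2) := ⟨Nat.prime_two⟩
  have e : ((frattini P).map P.subtype).relIndex P = (frattini P).index := by
    rw [Subgroup.relIndex, Subgroup.subgroupOf, Subgroup.comap_map_eq_self_of_injective P.subtype_injective]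
  rw [e]
  obtain ⟨k, hk⟩ := (h2.to_subgroup P).index (frattini P)
  rw [hk]
  by_contra hlt
  push Not at hlt
  apply hP
  have hk1 : k ≤ 1 := by
    by_contra h
    have := Nat.pow_le_pow_right two_pos (show 2 ≤ k by omega)
    omega
  haveI : IsCyclic (P ⧸ frattini P) := by
    rcases Nat.le_one_iff_eq_zero_or_eq_one.1 hk1 with rfl | rfl
    · haveI : Subsingleton (P ⧸ frattini P) := by
        rw [QuotientGroup.subsingleton_iff, ← Subgroup.index_eq_one, hk, pow_zero]
      infer_instance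
    · exact isCyclic_of_prime_card (p := 2) (by rw [← Subgroup.index_eq_card, hk, pow_one])
  obtain ⟨q, hq⟩ := IsCyclic.exists_generator (α := P ⧸ frattini P)
  obtain ⟨g, rfl⟩ := QuotientGroup.mk_surjective q
  have hgen : Subgroup.zpowers g = ⊤ := by
    refine frattini_nongenerating (eq_top_iff.2 fun x _ => ?_)
    obtain ⟨i, hi⟩ := Subgroup.mem_zpowers_iff.1 (hq (x : P ⧸ frattini P))
    rw [← QuotientGroup.mk_zpow, QuotientGroup.eq] at hi
    have := Subgroup.mul_mem_sup (zpow_mem (Subgroup.mem_zpowers g) i) hi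
    rwa [mul_inv_cancel_left] at this
  haveI : IsCyclic P := isCyclic_iff_exists_zpowers_eq_top.2 ⟨g, hgen⟩
  exact IsCyclic.isMulCommutative

theorem frattini_facts (h2 : IsPGroup 2 S) (P : Subgroup S) :
    (∀ x ∈ P, x ^ 2 ∈ (frattini P).map P.subtype) ∧ (∀ x ∈ P, ∀ y ∈ P, ⁅x, y⁆ ∈ (frattini P).map P.subtype) := by
  haveI : Fact (Nat.Prime 2) := ⟨Nat.prime_two⟩
  refine ⟨fun x hx => ⟨⟨x, hx⟩ ^ 2, Grp.pGroup_pow_mem_frattini (h2.to_subgroup P) _, rfl⟩, fun x hx y hy => ?_⟩
  exact ⟨⁅(⟨x, hx⟩ : P), ⟨y, hy⟩⁆, Grp.pGroup_commutator_le_frattini (h2.to_subgroup P)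
    (by rw [commutator_def]; exact Subgroup.commutator_mem_commutator (Subgroup.mem_top _) (Subgroup.mem_top _)), rfl⟩

theorem center_le_frattini (h2 : IsPGroup 2 S) {P : Subgroup S} (hP : ¬ IsMulCommutative P)
    (hZ : Nat.card (Subgroup.center P) = 2) :
    (Subgroup.center P).map P.subtype ≤ (frattini P).map P.subtype := by
  refine center_le_of_normal h2 hZ (Subgroup.map_subtype_le _) (fun x hx k hk => ?_) fun h => hP ?_
  · obtain ⟨k, hk, rfl⟩ := hk
    exact ⟨⟨x, hx⟩ * k * ⟨x, hx⟩⁻¹, Subgroup.Normal.conj_mem inferInstance k hk ⟨x, hx⟩, rfl⟩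
  · refine ⟨⟨fun a b => ?_⟩⟩
    have := (frattini_facts h2 P).2 a a.2 b b.2
    rw [h, Subgroup.mem_bot, commutatorElement_eq_one_iff_mul_comm] at this
    exact Subtype.ext this

theorem inf_eq_bot (h2 : IsPGroup 2 S) (P Q : Subgroup S) [P.Normal] [Q.Normal]
    (hZP : Nat.card (Subgroup.center P) = 2) (hZQ : Nat.card (Subgroup.center Q) = 2)
    (hne : (Subgroup.center P).map P.subtype ≠ (Subgroup.center Q).map Q.subtype) : P ⊓ Q = ⊥ := by
  by_contra h
  apply hne
  have hn : (P ⊓ Q).Normal := inferInstance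
  have h1 := center_le_of_normal h2 hZP inf_le_left (fun x _ k hk => hn.conj_mem k hk x) h
  have h3 := center_le_of_normal h2 hZQ inf_le_right (fun x _ k hk => hn.conj_mem k hk x) h
  -- each involution is central in both
  have hcard : ∀ R : Subgroup S, Nat.card ((Subgroup.center R).map R.subtype) = Nat.card (Subgroup.center R) :=
    fun R => Subgroup.card_map_of_injective R.subtype_injective
  refine (Subgroup.eq_of_le_of_card_ge (fun z hz => ?_) (by rw [hcard, hcard, hZP, hZQ])).symm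
  have hzP := (h3 hz).1
  refine center_mem.2 ⟨hzP, fun x hx => ?_⟩
  -- conjugation fixes the unique involution of the centre of Q
  have hconj : x * z * x⁻¹ ∈ (Subgroup.center Q).map Q.subtype := by
    obtain ⟨hzQ, hzc⟩ := center_mem.1 hz
    refine center_mem.2 ⟨Subgroup.Normal.conj_mem inferInstance z hzQ x, fun y hy => ?_⟩
    have := hzc (x⁻¹ * y * x) (by simpa using Subgroup.Normal.conj_mem (inferInstance : Q.Normal) y hy x⁻¹)
    calc y * (x * z * x⁻¹) = x * (x⁻¹ * y * x * z) * x⁻¹ := by group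
      _ = x * (z * (x⁻¹ * y * x)) * x⁻¹ := by rw [this]
      _ = x * z * x⁻¹ * y := by group
  by_cases hz1 : z = 1
  · simp [hz1]
  have : x * z * x⁻¹ = z := two_elements (Z := (Subgroup.center Q).map Q.subtype) (by rw [hcard, hZQ]) hconj hz
    (fun e => hz1 (by rwa [mul_inv_eq_one, mul_eq_left] at e)) hz1
  exact mul_inv_eq_iff_eq_mul.1 this

theorem commutator_eq_bot (P Q : Subgroup S) [P.Normal] [Q.Normal] (h : P ⊓ Q = ⊥) : ⁅P, Q⁆ = ⊥ :=
  le_bot_iff.1 (h ▸ Subgroup.commutator_le_inf P Q)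

theorem centralizer_le (h2 : IsPGroup 2 S) (hr : Cfsg.SectionalPRankLE 2 4 S)
    (P Q : Subgroup S) [P.Normal] [Q.Normal] (hP : ¬ IsMulCommutative P) (hQ : ¬ IsMulCommutative Q)
    (hZP : Nat.card (Subgroup.center P) = 2) (hZQ : Nat.card (Subgroup.center Q) = 2) (hPQ : P ⊓ Q = ⊥) :
    Subgroup.centralizer ((P ⊔ Q : Subgroup S) : Set S) ≤ P ⊔ Q := by
  haveI : Fact (Nat.Prime 2) := ⟨Nat.prime_two⟩
  have hc : ∀ p ∈ P, ∀ q ∈ Q, p * q = q * p := fun p hp q hq => by
    have := (commutator_eq_bot P Q hPQ).le (Subgroup.commutator_mem_commutator hp hq)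
    rwa [Subgroup.mem_bot, commutatorElement_eq_one_iff_mul_comm] at this
  set C := Subgroup.centralizer ((P ⊔ Q : Subgroup S) : Set S)
  set ΦP := (frattini P).map P.subtype with hΦP
  set ΦQ := (frattini Q).map Q.subtype with hΦQ
  set N := ΦP ⊔ ΦQ with hN
  have hPN : ΦP ≤ P := Subgroup.map_subtype_le _
  have hQN : ΦQ ≤ Q := Subgroup.map_subtype_le _
  haveI : ΦP.Normal := by rw [hΦP]; infer_instance
  haveI : ΦQ.Normal := by rw [hΦQ]; infer_instance
  haveI : N.Normal := Subgroup.sup_normal _ _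
  -- the centre of the product lies in N
  have hint : ∀ x ∈ C, x ∈ P ⊔ Q → x ∈ N := by
    intro x hxC hx
    rw [← SetLike.mem_coe, Subgroup.mul_normal] at hx
    obtain ⟨p, hp, q, hq, rfl⟩ := hx
    have hxc := Subgroup.mem_centralizer_iff.1 hxC
    refine mul_mem (Subgroup.mem_sup_left (center_le_frattini h2 hP hZP (center_mem.2 ⟨hp, fun y hy => ?_⟩)))
      (Subgroup.mem_sup_right (center_le_frattini h2 hQ hZQ (center_mem.2 ⟨hq, fun y hy => ?_⟩)))
    · have := hxc y (Subgroup.mem_sup_left hy)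
      rw [← mul_assoc, mul_assoc p q y, ← hc y hy q hq, ← mul_assoc, mul_left_inj] at this
      exact this
    · have := hxc y (Subgroup.mem_sup_right hy)
      rw [← mul_assoc, ← hc p hp y hy, mul_assoc, mul_assoc p q y, mul_right_inj] at this
      exact this
  intro c₀ hc₀
  by_contra hc₀'
  -- pick an element whose square lies in the product
  obtain ⟨c, hcC, hc', hc2⟩ : ∃ c ∈ C, c ∉ P ⊔ Q ∧ c ^ 2 ∈ P ⊔ Q := by
    obtain ⟨k, hk⟩ := h2 c₀
    classical
    have hex : ∃ i, c₀ ^ 2 ^ i ∈ P ⊔ Q := ⟨k, hk ▸ one_mem _⟩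
    have hfind := Nat.find_spec hex
    have hpos : Nat.find hex ≠ 0 := fun h => hc₀' (by rw [h, pow_zero, pow_one] at hfind; exact hfind)
    obtain ⟨i, hi⟩ := Nat.exists_eq_succ_of_ne_zero hpos
    refine ⟨c₀ ^ 2 ^ i, pow_mem hc₀ _, Nat.find_min hex (m := i) (by omega), ?_⟩
    rw [hi] at hfind; rw [← pow_mul, ← pow_succ]; exact hfind
  have hc2N : c ^ 2 ∈ N := hint _ (pow_mem hcC 2) hc2
  set H := P ⊔ Q ⊔ Subgroup.zpowers c with hH
  have hNH : N ≤ H := (sup_le_sup hPN hQN).trans le_sup_left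
  let F : S →* S ⧸ N := QuotientGroup.mk' N
  have hF : ∀ x, F x = 1 ↔ x ∈ N := fun x => QuotientGroup.eq_one_iff x
  -- generators commute and square into N
  set gens : Set S := (P : Set S) ∪ (Q : Set S) ∪ {c} with hgens
  have hHcl : H ≤ Subgroup.closure gens := by
    refine sup_le (sup_le ?_ ?_) (Subgroup.zpowers_le.2 (Subgroup.subset_closure (by simp [hgens])))
    · exact fun x hx => Subgroup.subset_closure (Or.inl (Or.inl hx))
    · exact fun x hx => Subgroup.subset_closure (Or.inl (Or.inr hx))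
  have hg2 : ∀ x ∈ gens, F x * F x = 1 := by
    intro x hx
    rw [← map_mul, ← pow_two, hF]
    rcases hx with (hx | hx) | rfl
    · exact Subgroup.mem_sup_left ((frattini_facts h2 P).1 x hx)
    · exact Subgroup.mem_sup_right ((frattini_facts h2 Q).1 x hx)
    · exact hc2N
  have hgc : ∀ x ∈ gens, ∀ y ∈ gens, Commute (F x) (F y) := by
    have hcc : ∀ x ∈ P ⊔ Q, x * c = c * x := fun x hx => Subgroup.mem_centralizer_iff.1 hcC x hx
    intro x hx y hy
    rw [← commutatorElement_eq_one_iff_commute, ← map_commutatorElement, hF]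
    have hone : ∀ a b : S, a * b = b * a → ⁅a, b⁆ ∈ N := fun a b h => by
      rw [commutatorElement_eq_one_iff_mul_comm.2 h]; exact one_mem _
    rcases hx with (hx | hx) | rfl <;> rcases hy with (hy | hy) | rfl
    · exact Subgroup.mem_sup_left ((frattini_facts h2 P).2 x hx y hy)
    · exact hone _ _ (hc x hx y hy)
    · exact hone _ _ (hcc x (Subgroup.mem_sup_left hx))
    · exact hone _ _ (hc y hy x hx).symm
    · exact Subgroup.mem_sup_right ((frattini_facts h2 Q).2 x hx y hy)
    · exact hone _ _ (hcc x (Subgroup.mem_sup_right hx))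
    · exact hone _ _ (hcc y (Subgroup.mem_sup_left hy)).symm
    · exact hone _ _ (hcc y (Subgroup.mem_sup_right hy)).symm
    · exact hone _ _ rfl
  have hab : ∀ a ∈ H, ∀ b ∈ H, Commute (F a) (F b) := by
    suffices hk : ∀ a ∈ Subgroup.closure gens, ∀ b ∈ Subgroup.closure gens, Commute (F a) (F b) from
      fun a ha b hb => hk a (hHcl ha) b (hHcl hb)
    intro a ha b hb
    induction ha, hb using Subgroup.closure_induction₂ with
    | mem x y hx hy => exact hgc x hx y hy
    | one_left x _ => simp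
    | one_right x _ => simp
    | mul_left x y z _ _ _ h h' => rw [map_mul]; exact Commute.mul_left h h'
    | mul_right x y z _ _ _ h h' => rw [map_mul]; exact Commute.mul_right h h'
    | inv_left x y _ _ h => rw [map_inv]; exact Commute.inv_left h
    | inv_right x y _ _ h => rw [map_inv]; exact Commute.inv_right h
  have hexp : ∀ a ∈ H, a ^ 2 ∈ N := by
    intro a ha
    rw [← hF, map_pow]
    revert ha
    intro ha
    have ha' := hHcl ha
    induction ha' using Subgroup.closure_induction with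
    | mem x hx => rw [pow_two]; exact hg2 x hx
    | one => simp
    | mul x y hx hy h h' =>
      have hle : Subgroup.closure gens ≤ H := (Subgroup.closure_le H).2 (by
        rintro x ((hx | hx) | rfl)
        · exact Subgroup.mem_sup_left (Subgroup.mem_sup_left hx)
        · exact Subgroup.mem_sup_left (Subgroup.mem_sup_right hx)
        · exact Subgroup.mem_sup_right (Subgroup.mem_zpowers _))
      rw [map_mul, (hab x (hle hx) y (hle hy)).mul_pow, h (hle hx), h' (hle hy), one_mul]
    | inv x hx h => rw [map_inv, inv_pow, h (by simpa using H.inv_mem ha), inv_one]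
  have hbound : N.relIndex H ≤ 2 ^ 4 := by
    have h := hr H (N.subgroupOf H) ⊤ ⟨⟨fun a b => Subtype.ext ?_⟩⟩ ?_
    · rwa [Subgroup.card_top, ← Subgroup.index_eq_card] at h
    · obtain ⟨a', ha⟩ := QuotientGroup.mk'_surjective (N.subgroupOf H) a.1
      obtain ⟨b', hb⟩ := QuotientGroup.mk'_surjective (N.subgroupOf H) b.1
      show a.1 * b.1 = b.1 * a.1
      rw [← ha, ← hb, ← commutatorElement_eq_one_iff_mul_comm, ← map_commutatorElement,
        QuotientGroup.mk'_apply, QuotientGroup.eq_one_iff]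
      show ⁅(a' : S), (b' : S)⁆ ∈ N
      rw [← hF, map_commutatorElement, commutatorElement_eq_one_iff_commute]
      exact hab _ a'.2 _ b'.2
    · intro a _
      obtain ⟨a', rfl⟩ := QuotientGroup.mk'_surjective (N.subgroupOf H) a
      rw [← map_pow, QuotientGroup.mk'_apply, QuotientGroup.eq_one_iff]
      exact hexp _ a'.2
  -- counting
  have hsup : ∀ A B : Subgroup S, B.Normal → A ⊓ B = ⊥ → Nat.card (A ⊔ B : Subgroup S) = Nat.card A * Nat.card B := by
    intro A B hB h
    haveI := hB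
    rw [← Subgroup.card_mul_index (B.subgroupOf (A ⊔ B)), Nat.card_congr (Subgroup.subgroupOfEquivOfLe le_sup_right).toEquiv,
      ← Subgroup.relIndex, Subgroup.relIndex_sup_right, ← Subgroup.inf_relIndex_right, inf_comm, h,
      Subgroup.relIndex_bot_left, mul_comm]
  have hcardN : Nat.card N = Nat.card ΦP * Nat.card ΦQ :=
    hsup _ _ inferInstance (le_bot_iff.1 (hPQ ▸ inf_le_inf hPN hQN))
  have hcardM : Nat.card (P ⊔ Q : Subgroup S) = Nat.card P * Nat.card Q := hsup _ _ inferInstance hPQ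
  have hmul : ∀ A B : Subgroup S, A ≤ B → Nat.card A * A.relIndex B = Nat.card B := fun A B h => by
    rw [← Subgroup.relIndex_bot_left, ← Subgroup.relIndex_bot_left]
    exact Subgroup.relIndex_mul_relIndex _ _ _ bot_le h
  have hrel : N.relIndex (P ⊔ Q) = ΦP.relIndex P * ΦQ.relIndex Q := by
    have h1 := hmul N (P ⊔ Q) (sup_le_sup hPN hQN)
    rw [hcardN, hcardM, ← hmul ΦP P hPN, ← hmul ΦQ Q hQN] at h1
    refine Nat.eq_of_mul_eq_mul_left (n := Nat.card ΦP * Nat.card ΦQ) (Nat.mul_pos Nat.card_pos Nat.card_pos) ?_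
    rw [h1]; ring
  have h16 : 16 ≤ N.relIndex (P ⊔ Q) := by
    rw [hrel]
    exact Nat.mul_le_mul (frattini_big h2 hP) (frattini_big h2 hQ)
  have h2' : 2 ≤ (P ⊔ Q).relIndex H := by
    have hne0 : (P ⊔ Q).relIndex H ≠ 0 := Subgroup.index_ne_zero_of_finite
    have hne1 : (P ⊔ Q).relIndex H ≠ 1 := by
      rw [Ne, Subgroup.relIndex_eq_one]
      exact fun h => hc' (h (Subgroup.mem_sup_right (Subgroup.mem_zpowers c)))
    omega
  have := Subgroup.relIndex_mul_relIndex N (P ⊔ Q) H (sup_le_sup hPN hQN) le_sup_left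
  have hfin := Nat.mul_le_mul h16 h2'
  omega

end Cfsg.Agent.Transfer.RankFourPairs
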