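import Mathlib
import Cfsg.Agent.Lib.Transfer.RankFourPairs

/-! The centralizer of the centre of a subgroup with centre of order two, in 2-groups of sectional rank four. -/

set_option autoImplicit false

namespace Cfsg.Agent.Transfer.RankFourConjugates

open RankFourPairs

universe u

variable {S : Type u} [Group S]

theorem prank_of_section {U V : Type*} [Group U] [Group V] {p k : ℕ} (hr : Cfsg.SectionalPRankLE p k S)
    (f : U →* S) (hf : Function.Injective f) (g : U →* V) (hg : Function.Surjective g) :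
    Cfsg.PRankLE p k V := by
  intro A hA hexp
  have e1 : U ≃* f.range := MonoidHom.ofInjective hf
  set g' : f.range →* V := g.comp e1.symm.toMonoidHom with hg'
  have hs' : Function.Surjective g' := hg.comp e1.symm.surjective
  let e := QuotientGroup.quotientKerEquivOfSurjective g' hs'
  have h := hr f.range g'.ker (A.map e.symm.toMonoidHom) ⟨⟨?_⟩⟩ ?_
  · rwa [Subgroup.card_map_of_injective e.symm.injective] at h
  · rintro ⟨_, a, ha, rfl⟩ ⟨_, b, hb, rfl⟩
    refine Subtype.ext ?_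
    show e.symm a * e.symm b = e.symm b * e.symm a
    rw [← map_mul, ← map_mul]
    exact congrArg e.symm (congrArg Subtype.val (hA.1.1 ⟨a, ha⟩ ⟨b, hb⟩))
  · rintro _ ⟨a, ha, rfl⟩
    rw [← map_pow, hexp a ha, map_one]

variable [Finite S]

theorem sectional_subgroup {p k : ℕ} (hr : Cfsg.SectionalPRankLE p k S) (T : Subgroup S) :
    Cfsg.SectionalPRankLE p k T := fun H N _ =>
  prank_of_section hr (T.subtype.comp H.subtype) (T.subtype_injective.comp H.subtype_injective)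
    (QuotientGroup.mk' N) (QuotientGroup.mk'_surjective N)

/-- The pair lemma inside a subgroup normalising both members. -/
theorem pair (h2 : IsPGroup 2 S) (hr : Cfsg.SectionalPRankLE 2 4 S) (T P Q : Subgroup S) (hPT : P ≤ T) (hQT : Q ≤ T)
    (hPn : ∀ x ∈ T, ∀ a ∈ P, x * a * x⁻¹ ∈ P) (hQn : ∀ x ∈ T, ∀ a ∈ Q, x * a * x⁻¹ ∈ Q)
    (hP : ¬ IsMulCommutative P) (hQ : ¬ IsMulCommutative Q)
    (hZP : Nat.card (Subgroup.center P) = 2) (hZQ : Nat.card (Subgroup.center Q) = 2)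
    {z z' : S} (hz : z ∈ (Subgroup.center P).map P.subtype) (hz' : z' ∈ (Subgroup.center Q).map Q.subtype)
    (hz1 : z ≠ 1) (hz'1 : z' ≠ 1) (hne : z ≠ z') :
    (∀ a ∈ P, ∀ b ∈ Q, a * b = b * a) ∧ P ⊓ Q = ⊥ ∧
      ∀ x ∈ T, (∀ a ∈ P, a * x = x * a) → (∀ b ∈ Q, b * x = x * b) → ∃ a ∈ P, ∃ b ∈ Q, x = a * b := by
  haveI : (P.subgroupOf T).Normal := ⟨fun a ha x => hPn x x.2 a ha⟩
  haveI : (Q.subgroupOf T).Normal := ⟨fun a ha x => hQn x x.2 a ha⟩
  have eP := Subgroup.subgroupOfEquivOfLe hPT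
  have eQ := Subgroup.subgroupOfEquivOfLe hQT
  have hP' : ¬ IsMulCommutative (P.subgroupOf T) := fun h => hP ⟨⟨fun a b => by
    have := h.1.1 (eP.symm a) (eP.symm b)
    rw [← map_mul, ← map_mul] at this
    exact eP.symm.injective this⟩⟩
  have hQ' : ¬ IsMulCommutative (Q.subgroupOf T) := fun h => hQ ⟨⟨fun a b => by
    have := h.1.1 (eQ.symm a) (eQ.symm b)
    rw [← map_mul, ← map_mul] at this
    exact eQ.symm.injective this⟩⟩
  have hZP' : Nat.card (Subgroup.center (P.subgroupOf T)) = 2 :=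
    (Nat.card_congr (Subgroup.centerCongr eP).toEquiv).trans hZP
  have hZQ' : Nat.card (Subgroup.center (Q.subgroupOf T)) = 2 :=
    (Nat.card_congr (Subgroup.centerCongr eQ).toEquiv).trans hZQ
  obtain ⟨hzP, hzc⟩ := center_mem.1 hz
  obtain ⟨hzQ, hzc'⟩ := center_mem.1 hz'
  have hne' : (Subgroup.center (P.subgroupOf T)).map (P.subgroupOf T).subtype ≠
      (Subgroup.center (Q.subgroupOf T)).map (Q.subgroupOf T).subtype := by
    intro h
    have m1 : (⟨z, hPT hzP⟩ : T) ∈ (Subgroup.center (P.subgroupOf T)).map (P.subgroupOf T).subtype :=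
      center_mem.2 ⟨hzP, fun x hx => Subtype.ext (hzc _ hx)⟩
    have m2 : (⟨z', hQT hzQ⟩ : T) ∈ (Subgroup.center (Q.subgroupOf T)).map (Q.subgroupOf T).subtype :=
      center_mem.2 ⟨hzQ, fun x hx => Subtype.ext (hzc' _ hx)⟩
    rw [h] at m1
    exact hne (congrArg Subtype.val (two_elements
      ((Subgroup.card_map_of_injective (Q.subgroupOf T).subtype_injective).trans hZQ') m1 m2
      (fun e => hz1 (congrArg Subtype.val e)) fun e => hz'1 (congrArg Subtype.val e)))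
  have h2T : IsPGroup 2 T := h2.to_subgroup T
  have hb := inf_eq_bot h2T (P.subgroupOf T) (Q.subgroupOf T) hZP' hZQ' hne'
  have hcl := centralizer_le h2T (sectional_subgroup hr T) (P.subgroupOf T) (Q.subgroupOf T) hP' hQ' hZP' hZQ' hb
  refine ⟨fun a ha b hb' => ?_, ?_, fun x hx h1 h3 => ?_⟩
  · have h := (commutator_eq_bot _ _ hb).le (Subgroup.commutator_mem_commutator
      (show (⟨a, hPT ha⟩ : T) ∈ P.subgroupOf T from ha) (show (⟨b, hQT hb'⟩ : T) ∈ Q.subgroupOf T from hb'))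
    rw [Subgroup.mem_bot, commutatorElement_eq_one_iff_mul_comm] at h
    exact congrArg Subtype.val h
  · rw [Subgroup.eq_bot_iff_forall]
    intro a ha
    have : (⟨a, hPT ha.1⟩ : T) ∈ P.subgroupOf T ⊓ Q.subgroupOf T := ⟨ha.1, ha.2⟩
    rw [hb, Subgroup.mem_bot] at this
    exact congrArg Subtype.val this
  · have hmem : (⟨x, hx⟩ : T) ∈ Subgroup.centralizer ((P.subgroupOf T ⊔ Q.subgroupOf T : Subgroup T) : Set T) := by
      rw [Subgroup.mem_centralizer_iff]
      intro y hy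
      rw [Subgroup.mul_normal] at hy
      obtain ⟨a, ha, b, hb', rfl⟩ := hy
      refine Subtype.ext ?_
      show (a : S) * b * x = x * ((a : S) * b)
      have e3 : (b : S) * x = x * b := h3 _ hb'
      have e1 : (a : S) * x = x * a := h1 _ ha
      rw [mul_assoc, e3, ← mul_assoc, e1, mul_assoc]
    have h := hcl hmem
    rw [← SetLike.mem_coe, Subgroup.mul_normal] at h
    obtain ⟨a, ha, b, hb', e⟩ := h
    exact ⟨a, ha, b, hb', (congrArg Subtype.val e).symm⟩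

theorem rank_two {P Q : Subgroup S} (h2 : IsPGroup 2 S) (hr : Cfsg.SectionalPRankLE 2 4 S) (hQ : ¬ IsMulCommutative Q)
    (hc : ∀ a ∈ P, ∀ b ∈ Q, a * b = b * a) (hdis : P ⊓ Q = ⊥) : Cfsg.SectionalPRankLE 2 2 P := by
  haveI : Fact (Nat.Prime 2) := ⟨Nat.prime_two⟩
  intro H N _ A hA hexp
  haveI := Grp.pGroup_commutator_le_frattini (h2.to_subgroup Q)
  let f : H × Q →* S :=
    MonoidHom.noncommCoprod (P.subtype.comp H.subtype) Q.subtype (fun a b => hc _ a.1.2 _ b.2)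
  have hf : Function.Injective f := by
    rw [injective_iff_map_eq_one]
    rintro ⟨a, b⟩ h
    change ((a : P) : S) * (b : S) = 1 at h
    have hb : (b : S) ∈ P ⊓ Q := ⟨by rw [eq_inv_of_mul_eq_one_right h]; exact P.inv_mem a.1.2, b.2⟩
    rw [hdis, Subgroup.mem_bot] at hb
    rw [hb, mul_one] at h
    exact Prod.ext (Subtype.ext (Subtype.ext h)) (Subtype.ext hb)
  let g : H × Q →* (H ⧸ N) × (Q ⧸ frattini Q) := (QuotientGroup.mk' N).prodMap (QuotientGroup.mk' (frattini Q))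
  have hg : Function.Surjective g :=
    Function.Surjective.prodMap (QuotientGroup.mk'_surjective N) (QuotientGroup.mk'_surjective _)
  have hcQ : IsMulCommutative (Q ⧸ frattini Q) :=
    Subgroup.Normal.quotient_commutative_iff_commutator_le.2 (Grp.pGroup_commutator_le_frattini (h2.to_subgroup Q))
  have h := prank_of_section hr f hf g hg (A.prod ⊤) ⟨⟨fun x y => Subtype.ext (Prod.ext
      (congrArg Subtype.val (hA.1.1 ⟨x.1.1, x.2.1⟩ ⟨y.1.1, y.2.1⟩)) (hcQ.1.1 _ _))⟩⟩ (by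
    rintro ⟨a, b⟩ ⟨ha, -⟩
    refine Prod.ext (hexp a ha) ?_
    induction b using QuotientGroup.induction_on with
    | H b => exact (QuotientGroup.eq_one_iff _).2 (Grp.pGroup_pow_mem_frattini (h2.to_subgroup Q) b))
  rw [Nat.card_congr (Subgroup.prodEquiv A ⊤).toEquiv, Nat.card_prod, Subgroup.card_top] at h
  have hbig := frattini_big h2 hQ
  rw [Subgroup.relIndex, Subgroup.subgroupOf, Subgroup.comap_map_eq_self_of_injective Q.subtype_injective,
    Subgroup.index_eq_card] at hbig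
  have := Nat.mul_le_mul_left (Nat.card A) hbig
  norm_num at h ⊢
  omega

/-- The main statement. -/
theorem main (h2 : IsPGroup 2 S) (hr : Cfsg.SectionalPRankLE 2 4 S) (P : Subgroup S) (hP : ¬ IsMulCommutative P)
    (hZP : Nat.card (Subgroup.center P) = 2) (S₀ : Subgroup S)
    (hS₀ : S₀ = Subgroup.centralizer (((Subgroup.center P).map P.subtype : Subgroup S) : Set S))
    (hPn : ∀ x ∈ S₀, ∀ a ∈ P, x * a * x⁻¹ ∈ P) :
    S₀ = ⊤ ∨ (Cfsg.SectionalPRankLE 2 2 P ∧ S₀.index = 2) := by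
  haveI : Fact (Nat.Prime 2) := ⟨Nat.prime_two⟩
  haveI : Group.IsNilpotent S := h2.isNilpotent
  rw [or_iff_not_imp_left]
  intro hne
  set Z := (Subgroup.center P).map P.subtype with hZ
  have hcardZ : Nat.card Z = 2 := (Subgroup.card_map_of_injective P.subtype_injective).trans hZP
  obtain ⟨z, hzZ, hz1⟩ : ∃ z ∈ Z, z ≠ 1 := by
    by_contra h
    push Not at h
    rw [(Subgroup.eq_bot_iff_forall Z).2 h, Subgroup.card_bot] at hcardZ
    omega
  have hS₀mem : ∀ x, x ∈ S₀ ↔ x * z * x⁻¹ = z := by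
    intro x
    rw [hS₀, Subgroup.mem_centralizer_iff]
    refine ⟨fun h => by rw [← h z hzZ, mul_inv_cancel_right], fun h y hy => ?_⟩
    by_cases hy1 : y = 1
    · simp [hy1]
    · rw [two_elements hcardZ hy hzZ hy1 hz1]; exact (mul_inv_eq_iff_eq_mul.1 h).symm
  obtain ⟨hzP, hzc⟩ := center_mem.1 hzZ
  have hPS₀ : P ≤ S₀ := fun x hx => (hS₀mem x).2 (by rw [hzc x hx, mul_inv_cancel_right])
  have hzS₀ : z ∈ S₀ := hPS₀ hzP
  let cP : S → Subgroup S := fun g => P.map (MulAut.conj g).toMonoidHom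
  have hmem : ∀ g x, x ∈ cP g ↔ g⁻¹ * x * g ∈ P := fun g x => by
    constructor
    · rintro ⟨a, ha, rfl⟩
      show g⁻¹ * (g * a * g⁻¹) * g ∈ P
      rwa [show g⁻¹ * (g * a * g⁻¹) * g = a by group]
    · intro h
      exact ⟨_, h, by show g * (g⁻¹ * x * g) * g⁻¹ = x; group⟩
  let ζ : S → S := fun g => g * z * g⁻¹
  have hcP : ∀ g h, ζ g = ζ h → cP g = cP h := by
    intro g h e
    have hk : h⁻¹ * g ∈ S₀ := (hS₀mem _).2 (by
      calc h⁻¹ * g * z * (h⁻¹ * g)⁻¹ = h⁻¹ * ζ g * h := by simp only [ζ]; group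
        _ = z := by rw [e]; simp only [ζ]; group)
    ext x
    rw [hmem, hmem]
    constructor <;> intro hx
    · have := hPn _ hk _ hx
      rwa [show h⁻¹ * g * (g⁻¹ * x * g) * (h⁻¹ * g)⁻¹ = h⁻¹ * x * h by group] at this
    · have := hPn _ (S₀.inv_mem hk) _ hx
      rwa [show (h⁻¹ * g)⁻¹ * (h⁻¹ * x * h) * (h⁻¹ * g)⁻¹⁻¹ = g⁻¹ * x * g by group] at this
  have hnc : ∀ g, ¬ IsMulCommutative (cP g) := fun g h => hP ⟨⟨fun a b => by
    have := h.1.1 ⟨_, a, a.2, rfl⟩ ⟨_, b, b.2, rfl⟩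
    refine Subtype.ext ((MulAut.conj g).injective ?_)
    show MulAut.conj g ((a : S) * b) = MulAut.conj g ((b : S) * a)
    rw [map_mul, map_mul]
    exact congrArg Subtype.val this⟩⟩
  have hZg : ∀ g, Nat.card (Subgroup.center (cP g)) = 2 := fun g =>
    (Nat.card_congr (Subgroup.centerCongr (P.equivMapOfInjective _ (MulAut.conj g).injective)).toEquiv).symm.trans hZP
  have hζc : ∀ g, ζ g ∈ (Subgroup.center (cP g)).map (cP g).subtype := fun g =>
    center_mem.2 ⟨⟨z, hzP, rfl⟩, by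
      rintro _ ⟨a, ha, rfl⟩
      show MulAut.conj g a * MulAut.conj g z = MulAut.conj g z * MulAut.conj g a
      rw [← map_mul, hzc a ha, map_mul]⟩
  have hζ1 : ∀ g, ζ g ≠ 1 := fun g h => hz1 (by
    simp only [ζ] at h
    rwa [mul_inv_eq_one, mul_eq_left] at h)
  -- the normalizer of the centralizer
  set N := Subgroup.normalizer (S₀ : Set S) with hN
  have hS₀N : S₀ ≤ N := Subgroup.le_normalizer
  have hNmem : ∀ n ∈ N, ∀ x, x ∈ S₀ ↔ n * x * n⁻¹ ∈ S₀ := fun n hn => Subgroup.mem_normalizer_iff.1 hn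
  have hlt : S₀ < N := Group.normalizerCondition_of_isNilpotent S₀ (lt_top_iff_ne_top.2 hne)
  obtain ⟨s, hsN, hs⟩ := SetLike.exists_of_lt hlt
  have hsz : ζ s ≠ z := fun h => hs ((hS₀mem s).2 h)
  have hPn' : ∀ n ∈ N, ∀ x ∈ S₀, ∀ a ∈ cP n, x * a * x⁻¹ ∈ cP n := by
    intro n hn x hx a ha
    rw [hmem] at ha ⊢
    have hy : n⁻¹ * x * n ∈ S₀ := by
      rw [hNmem n hn]; rwa [show n * (n⁻¹ * x * n) * n⁻¹ = x by group]
    have := hPn _ hy _ ha
    rwa [show n⁻¹ * x * n * (n⁻¹ * a * n) * (n⁻¹ * x * n)⁻¹ = n⁻¹ * (x * a * x⁻¹) * n by group] at this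
  have hcPS₀ : ∀ n ∈ N, cP n ≤ S₀ := by
    rintro n hn _ ⟨a, ha, rfl⟩
    exact (hNmem n hn a).1 (hPS₀ ha)
  have hc1 : cP 1 = P := by ext x; rw [hmem]; simp
  have hpair : ∀ n ∈ N, ∀ m ∈ N, ζ n ≠ ζ m → _ := fun n hn m hm h =>
    pair h2 hr S₀ (cP n) (cP m) (hcPS₀ n hn) (hcPS₀ m hm) (hPn' n hn) (hPn' m hm) (hnc n) (hnc m) (hZg n) (hZg m)
      (hζc n) (hζc m) (hζ1 n) (hζ1 m) h
  have hζone : ζ 1 = z := by simp [ζ]
  obtain ⟨hPQc, hPQd, hPQ⟩ := hpair 1 (one_mem _) s hsN (by rw [hζone]; exact Ne.symm hsz)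
  rw [hc1] at hPQc hPQd hPQ
  refine ⟨rank_two h2 hr (hnc s) hPQc hPQd, ?_⟩
  set z' := ζ s with hz'
  have hz'S₀ : z' ∈ S₀ := hcPS₀ s hsN ⟨z, hzP, rfl⟩
  have hzz' : z * z' = z' * z := hPQc z hzP z' ⟨z, hzP, rfl⟩
  -- only two conjugates under the normalizer
  have hcases : ∀ n ∈ N, ζ n = z ∨ ζ n = z' := by
    intro n hn
    by_contra h
    push Not at h
    obtain ⟨h1, -, -⟩ := hpair n hn 1 (one_mem _) (by rw [hζone]; exact h.1)
    obtain ⟨h3, -, -⟩ := hpair n hn s hsN h.2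
    rw [hc1] at h1
    have hcent : ∀ r ∈ cP n, ∀ x, x ∈ cP n → r * x = x * r := by
      intro r hr x hx
      obtain ⟨a, ha, b, hb, rfl⟩ := hPQ r (hcPS₀ n hn hr) (fun a ha => (h1 r hr a ha).symm) (fun b hb => (h3 r hr b hb).symm)
      obtain ⟨a', ha', b', hb', rfl⟩ := hPQ x (hcPS₀ n hn hx) (fun a ha => (h1 x hx a ha).symm) (fun b hb => (h3 x hx b hb).symm)
      have hA : a * a' = a' * a := by
        have := h1 _ hr a' ha'
        rw [mul_assoc, ← hPQc a' ha' b hb, ← mul_assoc, ← mul_assoc] at this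
        exact mul_right_cancel this
      have hB : b * b' = b' * b := by
        have := h3 _ hr b' hb'
        rw [mul_assoc, ← mul_assoc b', ← hPQc a ha b' hb', mul_assoc a] at this
        exact mul_left_cancel this
      calc a * b * (a' * b') = a * (b * a') * b' := by group
        _ = a * a' * (b * b') := by rw [← hPQc a' ha' b hb]; group
        _ = a' * (a * b') * b := by rw [hA, hB]; group
        _ = a' * b' * (a * b) := by rw [hPQc a ha b' hb']; group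
    exact hnc n ⟨⟨fun r x => Subtype.ext (hcent r r.2 x x.2)⟩⟩
  have hidx : ∀ n ∈ N, n ∈ S₀ ∨ s⁻¹ * n ∈ S₀ := fun n hn => by
    rcases hcases n hn with h | h
    · exact Or.inl ((hS₀mem n).2 h)
    · refine Or.inr ((hS₀mem _).2 ?_)
      calc s⁻¹ * n * z * (s⁻¹ * n)⁻¹ = s⁻¹ * ζ n * s := by simp only [ζ]; group
        _ = z := by rw [h, hz']; simp only [ζ]; group
  have hcpow : ∀ n ∈ N, n * (z * z') * n⁻¹ = z * z' := by
    intro n hn
    have hnS : ∀ m, ζ (n * m) = n * ζ m * n⁻¹ := fun m => by simp only [ζ]; group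
    have e2 := hnS s
    rcases hcases n hn with h1 | h1 <;> rcases hcases (n * s) (mul_mem hn hsN) with h3 | h3
    · refine absurd ?_ hsz
      rw [e2] at h3
      simp only [ζ] at h1
      exact mul_left_cancel (mul_right_cancel (h3.trans h1.symm))
    · rw [show n * (z * z') * n⁻¹ = ζ n * (n * z' * n⁻¹) by simp only [ζ]; group, h1, hz', ← e2, h3]
    · rw [show n * (z * z') * n⁻¹ = ζ n * (n * z' * n⁻¹) by simp only [ζ]; group, h1, hz', ← e2, h3, hzz']
    · refine absurd ?_ hsz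
      rw [e2] at h3
      simp only [ζ] at h1
      exact mul_left_cancel (mul_right_cancel (h3.trans h1.symm))
  by_cases hNtop : N = ⊤
  · rw [Subgroup.index_eq_two_iff]
    refine ⟨s⁻¹, fun b => ?_⟩
    rw [xor_iff_iff_not]
    have hn : ∀ x, x ∈ N := fun x => hNtop ▸ Subgroup.mem_top x
    have e : b * s⁻¹ ∈ S₀ ↔ s⁻¹ * b ∈ S₀ := by
      rw [hNmem s⁻¹ (hn _) (b * s⁻¹), show s⁻¹ * (b * s⁻¹) * s⁻¹⁻¹ = s⁻¹ * b by group]
    rw [e]
    constructor
    · intro hb hb'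
      exact hs (by simpa using S₀.mul_mem hb' (S₀.inv_mem hb))
    · intro hb
      exact (hidx b (hn b)).resolve_left hb
  exfalso
  obtain ⟨t, htN, ht⟩ := SetLike.exists_of_lt
    (Group.normalizerCondition_of_isNilpotent N (lt_top_iff_ne_top.2 hNtop))
  rw [Subgroup.mem_normalizer_iff] at htN
  set w := ζ t with hw
  set w' := ζ (t * s) with hw'
  have hS1 : ∀ x, x * w * x⁻¹ = w ↔ t⁻¹ * x * t ∈ S₀ := fun x => by
    rw [hS₀mem]
    constructor <;> intro h
    · calc t⁻¹ * x * t * z * (t⁻¹ * x * t)⁻¹ = t⁻¹ * (x * w * x⁻¹) * t := by rw [hw]; simp only [ζ]; group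
        _ = z := by rw [h, hw]; simp only [ζ]; group
    · calc x * w * x⁻¹ = t * (t⁻¹ * x * t * z * (t⁻¹ * x * t)⁻¹) * t⁻¹ := by rw [hw]; simp only [ζ]; group
        _ = w := by rw [h]
  have hback : ∀ x ∈ N, t⁻¹ * x * t ∈ N := fun x hx => by
    rw [SetLike.mem_coe.symm.trans Iff.rfl] at *
    refine (htN _).2 ?_
    rwa [show t * (t⁻¹ * x * t) * t⁻¹ = x by group]
  have hswap : ∀ x ∈ N, x * w * x⁻¹ = w ∨ x * w * x⁻¹ = w' := by
    intro x hx
    have e : x * w * x⁻¹ = t * ζ (t⁻¹ * x * t) * t⁻¹ := by rw [hw]; simp only [ζ]; group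
    rcases hcases _ (hback x hx) with h | h
    · left; rw [e, h]
    · right; rw [e, h, hz', hw']; simp only [ζ]; group
  have hRN : cP t ≤ N := by
    rintro _ ⟨a, ha, rfl⟩
    exact (htN a).1 (hS₀N (hPS₀ ha))
  have hRR : ∀ x, x ∈ cP t → x ∈ cP (t * s) → x = 1 := by
    intro x h1 h3
    rw [hmem] at h1 h3
    have : t⁻¹ * x * t ∈ P ⊓ cP s := ⟨h1, (hmem _ _).2 (by rwa [show s⁻¹ * (t⁻¹ * x * t) * s = (t * s)⁻¹ * x * (t * s) by group])⟩
    rw [hPQd, Subgroup.mem_bot] at this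
    calc x = t * (t⁻¹ * x * t) * t⁻¹ := by group
      _ = 1 := by rw [this]; group
  have hzN : z ∈ N := hS₀N hzS₀
  have hzS1 : z * w * z⁻¹ = w := by
    by_contra hzw
    have hzw' := (hswap z hzN).resolve_left hzw
    have hsame : cP (z * t) = cP (t * s) := hcP _ _ (by
      rw [← hw', ← hzw', hw]; simp only [ζ]; group)
    refine hnc t ⟨⟨fun a b => Subtype.ext ?_⟩⟩
    show (a : S) * b = b * a
    have htriv : ∀ x ∈ cP t, x ∈ S₀ → x = 1 := by
      intro x hx hxS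
      refine hRR x hx (hsame ▸ ?_)
      rw [hmem] at hx ⊢
      have hxz : x * z = z * x := mul_inv_eq_iff_eq_mul.1 ((hS₀mem x).1 hxS)
      rwa [show (z * t)⁻¹ * x * (z * t) = t⁻¹ * (z⁻¹ * (x * z)) * t by group, hxz, inv_mul_cancel_left]
    by_cases ha : (a : S) ∈ S₀
    · rw [htriv _ a.2 ha]; simp
    by_cases hb : (b : S) ∈ S₀
    · rw [htriv _ b.2 hb]; simp
    have hab : (a : S) * b ∈ S₀ := by
      have hsa := (hidx _ (hRN a.2)).resolve_left ha
      have hsb' := (hidx _ (N.inv_mem (hRN b.2))).resolve_left (fun h => hb (by simpa using S₀.inv_mem h))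
      have h4 : (a : S) * b = s * (s⁻¹ * a) * (s⁻¹ * (b : S)⁻¹)⁻¹ * s⁻¹ := by group
      rw [h4, show s * (s⁻¹ * a) * (s⁻¹ * (b : S)⁻¹)⁻¹ * s⁻¹ = s * ((s⁻¹ * a) * (s⁻¹ * (b : S)⁻¹)⁻¹) * s⁻¹ by group]
      exact (hNmem s hsN _).1 (S₀.mul_mem hsa (S₀.inv_mem hsb'))
    have := htriv _ ((cP t).mul_mem a.2 b.2) hab
    rw [this, eq_inv_of_mul_eq_one_right this, inv_mul_cancel]
  have hzt : t⁻¹ * z * t ∈ S₀ := (hS1 z).1 hzS1
  -- the conjugate lies in the centralizer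
  have hRS₀ : cP t ≤ S₀ := by
    intro r hr
    by_contra hrS
    have hrz : r * z * r⁻¹ = z' := (hcases r (hRN hr)).resolve_left fun h => hrS ((hS₀mem r).2 h)
    have hin : z * z'⁻¹ ∈ cP t := by
      have h1 : z * r * z⁻¹ ∈ cP t := by
        rw [hmem] at hr ⊢
        have := hPn _ hzt _ hr
        rwa [show t⁻¹ * z * t * (t⁻¹ * r * t) * (t⁻¹ * z * t)⁻¹ = t⁻¹ * (z * r * z⁻¹) * t by group] at this
      have h3 : (z * r * z⁻¹) * r⁻¹ ∈ cP t := Subgroup.mul_mem _ h1 (Subgroup.inv_mem _ hr)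
      rwa [show z * r * z⁻¹ * r⁻¹ = z * (r * z * r⁻¹)⁻¹ by group, hrz] at h3
    have hcomm : ∀ n ∈ N, n * (z * z'⁻¹) * n⁻¹ = z * z'⁻¹ := by
      have hsq : ∀ g, g ∈ Z → g * g = 1 := fun g hg => by
        have := pow_card_eq_one' (x := (⟨g, hg⟩ : Z))
        rw [hcardZ, pow_two] at this
        exact congrArg Subtype.val this
      have hinv : z'⁻¹ = z' := inv_eq_of_mul_eq_one_right (by
        rw [hz']; simp only [ζ]
        rw [show s * z * s⁻¹ * (s * z * s⁻¹) = s * (z * z) * s⁻¹ by group, hsq z hzZ]; group)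
      rw [hinv]; exact hcpow
    set n := t * s * t⁻¹ with hn
    have hnN : n ∈ N := (htN s).1 hsN
    have hin' : z * z'⁻¹ ∈ cP (t * s) := by
      rw [← hcomm n hnN, hmem]
      rw [hmem] at hin
      rwa [show (t * s)⁻¹ * (n * (z * z'⁻¹) * n⁻¹) * (t * s) = t⁻¹ * (z * z'⁻¹) * t by rw [hn]; group]
    have := hRR _ hin hin'
    exact hsz (mul_inv_eq_one.1 this).symm
  -- so the pair in the conjugate contains z
  obtain ⟨a, ha, b, hb, hy⟩ := hPQ _ hzt (fun a ha => by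
    have h1 : t * a * t⁻¹ ∈ S₀ := hRS₀ ⟨a, ha, rfl⟩
    have h3 := mul_inv_eq_iff_eq_mul.1 ((hS₀mem _).1 h1)
    calc a * (t⁻¹ * z * t) = t⁻¹ * (t * a * t⁻¹ * z) * t := by group
      _ = t⁻¹ * (z * (t * a * t⁻¹)) * t := by rw [h3]
      _ = t⁻¹ * z * t * a := by group) (fun b hb => by
    rw [hmem] at hb
    have h1 : t * (s⁻¹ * b * s) * t⁻¹ ∈ S₀ := hRS₀ ⟨_, hb, rfl⟩
    have hnN : t * s * t⁻¹ ∈ N := (htN s).1 hsN
    have h2' := (hNmem _ hnN _).1 h1
    rw [show t * s * t⁻¹ * (t * (s⁻¹ * b * s) * t⁻¹) * (t * s * t⁻¹)⁻¹ = t * b * t⁻¹ by group] at h2'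
    have h3 := mul_inv_eq_iff_eq_mul.1 ((hS₀mem _).1 h2')
    calc b * (t⁻¹ * z * t) = t⁻¹ * (t * b * t⁻¹ * z) * t := by group
      _ = t⁻¹ * (z * (t * b * t⁻¹)) * t := by rw [h3]
      _ = t⁻¹ * z * t * b := by group)
  have hcomm : ∀ x, x ∈ P ∨ x ∈ cP s → x * (a * b) = a * b * x := by
    intro x hx
    rw [← hy]
    have hxS : t * x * t⁻¹ ∈ S₀ := by
      rcases hx with hx | hx
      · exact hRS₀ ⟨x, hx, rfl⟩
      · rw [hmem] at hx
        have h1 : t * (s⁻¹ * x * s) * t⁻¹ ∈ S₀ := hRS₀ ⟨_, hx, rfl⟩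
        have h2' := (hNmem _ ((htN s).1 hsN) _).1 h1
        rwa [show t * s * t⁻¹ * (t * (s⁻¹ * x * s) * t⁻¹) * (t * s * t⁻¹)⁻¹ = t * x * t⁻¹ by group] at h2'
    have h3 := mul_inv_eq_iff_eq_mul.1 ((hS₀mem _).1 hxS)
    calc x * (t⁻¹ * z * t) = t⁻¹ * (t * x * t⁻¹ * z) * t := by group
      _ = t⁻¹ * (z * (t * x * t⁻¹)) * t := by rw [h3]
      _ = t⁻¹ * z * t * x := by group
  have haZ : a ∈ Z := center_mem.2 ⟨ha, fun x hx => by
    have := hcomm x (Or.inl hx)
    rw [← mul_assoc, mul_assoc a b x, ← hPQc x hx b hb, ← mul_assoc] at this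
    exact mul_right_cancel this⟩
  have hbZ : b ∈ (Subgroup.center (cP s)).map (cP s).subtype := center_mem.2 ⟨hb, fun x hx => by
    have := hcomm x (Or.inr hx)
    rw [← mul_assoc, ← hPQc a ha x hx, mul_assoc, mul_assoc a b x] at this
    exact mul_left_cancel this⟩
  have ha' : a = 1 ∨ a = z := (em (a = 1)).imp_right fun h => two_elements hcardZ haZ hzZ h hz1
  have hb' : b = 1 ∨ b = z' := (em (b = 1)).imp_right fun h =>
    two_elements ((Subgroup.card_map_of_injective (cP s).subtype_injective).trans (hZg s)) hbZ (hζc s) h (hζ1 s)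
  have hzy : z = t * (a * b) * t⁻¹ := by rw [← hy]; group
  have hnoteq : ∀ g, (∀ x, x ∈ S₀ ↔ g⁻¹ * x * g ∈ S₀) → g ∈ N := fun g h => by
    refine Subgroup.mem_normalizer_iff.2 fun x => ?_
    have e := h (g * x * g⁻¹)
    rw [show g⁻¹ * (g * x * g⁻¹) * g = x by group] at e
    exact e.symm
  rcases ha' with ha1 | ha1 <;> rcases hb' with hb1 | hb1 <;> rw [ha1, hb1] at hzy
  · exact hz1 (by rw [hzy]; group)
  · -- z = w'
    apply ht
    have hts : t * s ∈ N := hnoteq _ fun x => by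
      rw [hS₀mem, hS₀mem]
      have e : z = t * s * z * (t * s)⁻¹ := by
        conv_lhs => rw [hzy, hz']
        simp only [ζ]; group
      constructor <;> intro h
      · calc (t * s)⁻¹ * x * (t * s) * z * ((t * s)⁻¹ * x * (t * s))⁻¹
            = (t * s)⁻¹ * (x * (t * s * z * (t * s)⁻¹) * x⁻¹) * (t * s) := by group
          _ = z := by rw [← e, h]; conv_lhs => arg 1; arg 2; rw [e]
                      group
      · calc x * z * x⁻¹ = x * (t * s * z * (t * s)⁻¹) * x⁻¹ := by rw [← e]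
          _ = (t * s) * ((t * s)⁻¹ * x * (t * s) * z * ((t * s)⁻¹ * x * (t * s))⁻¹) * (t * s)⁻¹ := by group
          _ = z := by rw [h, ← e]
    simpa using N.mul_mem hts (N.inv_mem hsN)
  · apply ht
    refine hnoteq _ fun x => ?_
    rw [mul_one] at hzy
    rw [hS₀mem, ← hS1, hw]
    show _ ↔ x * (t * z * t⁻¹) * x⁻¹ = t * z * t⁻¹
    rw [← hzy]
  · -- the product is central in the normalizer
    apply hsz
    have h1 := hcpow (t⁻¹ * s * t) (hback s hsN)
    show s * z * s⁻¹ = z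
    conv_lhs => rw [hzy]
    conv_rhs => rw [hzy, ← h1]
    group

end Cfsg.Agent.Transfer.RankFourConjugates
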