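import Mathlib
import Cfsg.Agent.Lib.Classical.DicksonCentral
import Cfsg.Agent.Lib.Classical.DicksonClasses

/-!
Redundant Sylow subgroups of `PSL(2, F)` and `SL(2, F)`.
-/

set_option autoImplicit false
set_option maxHeartbeats 1000000

namespace Cfsg.Agent.Transfer.Redundant

open scoped Pointwise
open Cfsg.Agent.Dickson

/-- `Q` is redundant: every element of `p`-power order lies in another Sylow subgroup. -/
def Is {G : Type*} [Group G] {p : ℕ} (Q : Sylow p G) : Prop :=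
  ∀ x : G, (∃ k : ℕ, orderOf x = p ^ k) → ∃ P : Sylow p G, P ≠ Q ∧ x ∈ P

/-- Redundancy passes through a central extension. -/
theorem exists_iff_of_central {G H : Type*} [Group G] [Finite G] [Group H] [Finite H] (p : ℕ) [hp : Fact p.Prime]
    (π : G →* H) (hπ : Function.Surjective π) (hker : π.ker ≤ Subgroup.center G) :
    (∃ Q : Sylow p G, Is Q) ↔ ∃ Q : Sylow p H, Is Q := by
  -- an element of `p`-power order in the preimage of an image lies in the subgroup
  have hmem : ∀ (P : Sylow p G) (x : G), (∃ k, orderOf x = p ^ k) → π x ∈ (P : Subgroup G).map π → x ∈ P := by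
    intro P x ⟨k, hk⟩ hx
    obtain ⟨y, hy, hxy⟩ := hx
    have hz : y⁻¹ * x ∈ Subgroup.center G := hker (by rw [MonoidHom.mem_ker, map_mul, map_inv, hxy, inv_mul_cancel])
    -- `x` normalises `P`
    have hn : x ∈ Subgroup.normalizer ((P : Subgroup G) : Set G) := by
      rw [show x = y * (y⁻¹ * x) by group]
      refine mul_mem (Subgroup.le_normalizer hy) (Subgroup.mem_normalizer_fintype fun u hu => ?_)
      rw [← Subgroup.mem_center_iff.1 hz u, mul_inv_cancel_right]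
      exact hu
    have hpg : IsPGroup p (Subgroup.zpowers x) := IsPGroup.of_card (n := k) (by rw [Nat.card_zpowers, hk])
    have hsup := P.isPGroup'.to_sup_of_normal_left' hpg (Subgroup.zpowers_le.2 hn)
    have := P.is_maximal' hsup le_sup_left
    exact this.le (Subgroup.mem_sup_right (Subgroup.mem_zpowers x))
  have hlift : ∀ h : H, (∃ k, orderOf h = p ^ k) → ∀ P : Sylow p H, h ∈ P → ∀ P' : Sylow p G,
      (P' : Subgroup G).map π = P → ∃ x : G, x ∈ P' ∧ π x = h ∧ ∃ k, orderOf x = p ^ k := by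
    intro h _ P hh P' e
    obtain ⟨x, hx, rfl⟩ : h ∈ (P' : Subgroup G).map π := e.symm ▸ hh
    obtain ⟨k, hk⟩ := IsPGroup.iff_orderOf.1 P'.isPGroup' ⟨x, hx⟩
    exact ⟨x, hx, rfl, k, by rwa [← Subgroup.orderOf_coe] at hk⟩
  have hmap : ∀ P : Sylow p G, ∃ P₀ : Sylow p H, (P₀ : Subgroup H) = (P : Subgroup G).map π :=
    fun P => ⟨P.mapSurjective hπ, Sylow.coe_mapSurjective hπ P⟩
  choose f hf using hmap
  have hinj : Function.Injective f := fun P P' e => Sylow.ext (le_antisymm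
    (fun x hx => hmem P' x (by
      obtain ⟨k, hk⟩ := IsPGroup.iff_orderOf.1 P.isPGroup' ⟨x, hx⟩
      exact ⟨k, by rwa [← Subgroup.orderOf_coe] at hk⟩) (by rw [← hf, ← e, hf]; exact ⟨x, hx, rfl⟩))
    (fun x hx => hmem P x (by
      obtain ⟨k, hk⟩ := IsPGroup.iff_orderOf.1 P'.isPGroup' ⟨x, hx⟩
      exact ⟨k, by rwa [← Subgroup.orderOf_coe] at hk⟩) (by rw [← hf, e, hf]; exact ⟨x, hx, rfl⟩)))
  have hsurj : Function.Surjective f := fun P₀ => by
    obtain ⟨P⟩ : Nonempty (Sylow p G) := inferInstance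
    obtain ⟨h, hh⟩ := MulAction.exists_smul_eq H (f P) P₀
    obtain ⟨g, rfl⟩ := hπ h
    refine ⟨g • P, Sylow.ext ?_⟩
    rw [hf, ← hh]
    show (MulAut.conj g • (P : Subgroup G)).map π = MulAut.conj (π g) • (f P : Subgroup H)
    rw [hf]
    ext u
    constructor
    · rintro ⟨_, ⟨v, hv, rfl⟩, rfl⟩
      exact ⟨π v, ⟨v, hv, rfl⟩, by show π g * π v * (π g)⁻¹ = π (g * v * g⁻¹); rw [map_mul, map_mul, map_inv]⟩
    · rintro ⟨_, ⟨v, hv, rfl⟩, rfl⟩
      exact ⟨g * v * g⁻¹, ⟨v, hv, rfl⟩, by show π (g * v * g⁻¹) = π g * π v * (π g)⁻¹; rw [map_mul, map_mul, map_inv]⟩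
  have hpow : ∀ x : G, (∃ k, orderOf x = p ^ k) → ∃ k, orderOf (π x) = p ^ k := fun x ⟨k, hk⟩ => by
    obtain ⟨j, -, hj⟩ := (Nat.dvd_prime_pow hp.out).1 (hk ▸ orderOf_map_dvd π x)
    exact ⟨j, hj⟩
  constructor
  · rintro ⟨Q, hQ⟩
    refine ⟨f Q, fun h hh => ?_⟩
    by_cases hhQ : h ∈ f Q
    · obtain ⟨x, hxQ, rfl, hx⟩ := hlift h hh (f Q) hhQ Q (hf Q).symm
      obtain ⟨P, hne, hxP⟩ := hQ x hx
      refine ⟨f P, fun e => hne (hinj e), ?_⟩
      show π x ∈ (f P : Subgroup H)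
      rw [hf]; exact ⟨x, hxP, rfl⟩
    · obtain ⟨k, hk⟩ := hh
      obtain ⟨P, hP⟩ := (IsPGroup.of_card (n := k) (show Nat.card (Subgroup.zpowers h) = p ^ k by
        rw [Nat.card_zpowers, hk])).exists_le_sylow
      exact ⟨P, fun e => hhQ (e ▸ hP (Subgroup.mem_zpowers h)), hP (Subgroup.mem_zpowers h)⟩
  · rintro ⟨Q₀, hQ⟩
    obtain ⟨Q, rfl⟩ := hsurj Q₀
    refine ⟨Q, fun x hx => ?_⟩
    obtain ⟨P₀, hne, hxP⟩ := hQ (π x) (hpow x hx)
    obtain ⟨P, rfl⟩ := hsurj P₀
    refine ⟨P, fun e => hne (by rw [e]), hmem P x hx ?_⟩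
    rw [← hf]; exact hxP

section psl

variable {F : Type*} [Field F] [Fintype F] (r : ℕ) [hr : Fact r.Prime] [hc : CharP F r]
include hr hc

local notation "PSL₂" => Matrix.ProjectiveSpecialLinearGroup (Fin 2) F

theorem dvd_card_psl : r ∣ Nat.card PSL₂ := by
  have h := card_psl (F := F)
  have hd : r ∣ Nat.card PSL₂ * del F := h ▸ (dvd_card_field r).mul_right _
  rcases (hr.out.dvd_mul).1 hd with h' | h'
  · exact h'
  · exfalso
    rcases del_cases F with ⟨e, -⟩ | ⟨e, ho⟩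
    · rw [e] at h'; exact hr.out.one_lt.ne' (Nat.dvd_one.1 h')
    · rw [e] at h'
      have := (Nat.prime_dvd_prime_iff_eq hr.out Nat.prime_two).1 h'
      exact Nat.not_even_iff_odd.2 ho (even_iff_two_dvd.2 (this ▸ dvd_card_field r))

omit hr hc in
theorem two_le_dvd_part {p : ℕ} [hp : Fact p.Prime] {G : Type*} [Group G] [Finite G] (Q : Sylow p G) (T : Subgroup G)
    (hle : (Q : Subgroup G) ≤ T) (g : G) (hg : g ∈ Subgroup.normalizer (T : Set G)) (hgT : g ∉ T) (hgp : g ^ p = 1) :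
    False := by
  have h1 : IsPGroup p (Subgroup.zpowers g) := IsPGroup.of_card (n := 1) (by
    rw [Nat.card_zpowers, pow_one]; exact orderOf_eq_prime hgp (fun e => hgT (e ▸ one_mem T)))
  -- a Sylow subgroup of the normaliser containing `g`
  let N := Subgroup.normalizer (T : Set G)
  have h2 : IsPGroup p ((Subgroup.zpowers g).subgroupOf N) := h1.comap_of_injective _ N.subtype_injective
  obtain ⟨R, hR⟩ := h2.exists_le_sylow
  let Q' : Sylow p N := Q.subtype (hle.trans Subgroup.le_normalizer)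
  haveI : (T.subgroupOf N).Normal := Subgroup.normal_in_normalizer
  obtain ⟨n, hn⟩ := MulAction.exists_smul_eq N Q' R
  have hgR : (⟨g, hg⟩ : N) ∈ R := hR (Subgroup.mem_zpowers g)
  rw [← hn] at hgR
  obtain ⟨v, hv, hve⟩ := hgR
  have hvT : v ∈ T.subgroupOf N := hle hv
  have := (inferInstance : (T.subgroupOf N).Normal).conj_mem v hvT n
  have e : n * v * n⁻¹ = ⟨g, hg⟩ := hve
  rw [e] at this
  exact hgT this

theorem unique_of_char (Q : Sylow r PSL₂) : ¬ Is Q := by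
  intro hQ
  let D := pslData (F := F) r
  have hne : (Q : Subgroup PSL₂) ≠ ⊥ := Q.ne_bot_of_dvd_card (dvd_card_psl r)
  obtain ⟨a, ha, ha1⟩ := (Subgroup.bot_or_exists_ne_one _).resolve_left hne
  obtain ⟨k, hk⟩ := IsPGroup.iff_orderOf.1 Q.isPGroup' ⟨a, ha⟩
  obtain ⟨P, hP, haP⟩ := hQ a ⟨k, by rwa [← Subgroup.orderOf_coe] at hk⟩
  exact hP (Sylow.ext ((D.sylow_eq hr.out P haP ha1).2.trans (D.sylow_eq hr.out Q ha ha1).2.symm))

theorem semi_of_mem {p : ℕ} [hp : Fact p.Prime] (hpr : p ≠ r) {H : Subgroup PSL₂} (hH : IsPGroup p H) {x : PSL₂}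
    (hx : x ∈ H) (hx1 : x ≠ 1) : x ^ r ≠ 1 := fun e => by
  obtain ⟨k, hk⟩ := hH ⟨x, hx⟩
  have hk' : x ^ p ^ k = 1 := congrArg Subtype.val hk
  have := pow_gcd_eq_one.2 ⟨e, hk'⟩
  rw [show Nat.gcd r (p ^ k) = 1 from Nat.Coprime.pow_right k ((Nat.coprime_primes hr.out hp.out).2 (Ne.symm hpr)), pow_one] at this
  exact hx1 this

theorem unique_of_odd {p : ℕ} [hp : Fact p.Prime] (hpr : p ≠ r) (hp2 : p ≠ 2) (Q : Sylow p PSL₂) : ¬ Is Q := by
  intro hQ
  let D := pslData (F := F) r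
  rcases eq_or_ne (Q : Subgroup PSL₂) ⊥ with hb | hb
  · obtain ⟨P, hP, -⟩ := hQ 1 ⟨0, by rw [orderOf_one, pow_zero]⟩
    refine hP (Sylow.ext ?_)
    have hc := P.card_eq_multiplicity.trans Q.card_eq_multiplicity.symm
    change Nat.card (P : Subgroup PSL₂) = Nat.card (Q : Subgroup PSL₂) at hc
    rw [hb, Subgroup.card_bot] at hc
    rw [hb]
    exact Subgroup.card_eq_one.1 hc
  haveI : Nontrivial (Q : Subgroup PSL₂) := (Subgroup.nontrivial_iff_ne_bot _).2 hb
  haveI := Q.isPGroup'.center_nontrivial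
  obtain ⟨z, hz⟩ := exists_ne (1 : Subgroup.center (Q : Subgroup PSL₂))
  have hz1 : ((z : (Q : Subgroup PSL₂)) : PSL₂) ≠ 1 := fun e => hz (Subtype.ext (Subtype.ext e))
  have hzQ := (z : (Q : Subgroup PSL₂)).2
  have hzr := semi_of_mem r hpr Q.isPGroup' hzQ hz1
  have hz2 : ((z : (Q : Subgroup PSL₂)) : PSL₂) * ((z : (Q : Subgroup PSL₂)) : PSL₂) ≠ 1 := fun e => by
    obtain ⟨k, hk⟩ := Q.isPGroup' ⟨_, hzQ⟩
    have := pow_gcd_eq_one.2 ⟨(pow_two ((z : (Q : Subgroup PSL₂)) : PSL₂)).trans e, (congrArg Subtype.val hk : _ ^ p ^ k = (1 : PSL₂))⟩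
    rw [show Nat.gcd 2 (p ^ k) = 1 from Nat.Coprime.pow_right k ((Nat.coprime_primes Nat.prime_two hp.out).2 (Ne.symm hp2)), pow_one] at this
    exact hz1 this
  have hle : (Q : Subgroup PSL₂) ≤ tor ((z : (Q : Subgroup PSL₂)) : PSL₂) := by
    rw [← centralizer_eq_tor r hz1 (Or.inr hz2)]
    exact fun x hx => Subgroup.mem_centralizer_singleton_iff.2 (congrArg Subtype.val (Subgroup.mem_center_iff.1 z.2 ⟨x, hx⟩))
  haveI : IsCyclic (tor ((z : (Q : Subgroup PSL₂)) : PSL₂)) := D.semi_cyclic hz1 hzr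
  haveI : IsCyclic (Q : Subgroup PSL₂) := isCyclic_of_injective _ (Subgroup.inclusion_injective hle)
  obtain ⟨g, hg⟩ := IsCyclic.exists_generator (α := (Q : Subgroup PSL₂))
  obtain ⟨k, hk⟩ := IsPGroup.iff_orderOf.1 Q.isPGroup' g
  obtain ⟨P, hP, hgP⟩ := hQ g ⟨k, by rwa [← Subgroup.orderOf_coe] at hk⟩
  have hle' : (Q : Subgroup PSL₂) ≤ P := fun x hx => by
    obtain ⟨j, hj⟩ := hg ⟨x, hx⟩
    rw [show x = (g : PSL₂) ^ j from (congrArg Subtype.val hj).symm]
    exact zpow_mem hgP j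
  exact hP (Sylow.ext (Q.is_maximal' P.isPGroup' hle'))

omit hr hc in
theorem del_eq_two (hodd : Odd (Fintype.card F)) : del F = 2 := by
  rcases del_cases F with ⟨-, he⟩ | ⟨e, -⟩
  · exact absurd he (Nat.not_even_iff_odd.2 hodd)
  · exact e

/-- When a torus normaliser is a `2`-group, some element of each Sylow subgroup is in no other. -/
theorem unique_of_pow_two (hodd : Odd (Fintype.card F)) (k : ℕ) (hk : 2 ≤ k)
    (hq : Fintype.card F + 1 = 2 ^ k ∨ Fintype.card F = 2 ^ k + 1) (Q : Sylow 2 PSL₂) : ¬ Is Q := by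
  intro hQ
  haveI := Fact.mk Nat.prime_two
  let D := pslData (F := F) r
  have hdel := del_eq_two hodd
  have hk4 : 2 ^ 2 ≤ 2 ^ k := Nat.pow_le_pow_right two_pos hk
  have hkk : 2 ^ k = 2 * 2 ^ (k - 1) := by rw [← pow_succ', Nat.sub_add_cancel (by omega : 1 ≤ k)]
  obtain ⟨a, ha, har, hT⟩ : ∃ a : PSL₂, a ≠ 1 ∧ a ^ r ≠ 1 ∧ Nat.card (tor a) = 2 ^ (k - 1) := by
    rcases hq with h | h
    · obtain ⟨a, h1, h2, h3⟩ := exists_tor_plus (F := F) r
      refine ⟨a, h1, h2, ?_⟩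
      rw [h3, hdel]; omega
    · obtain ⟨a, h1, h2, h3⟩ := exists_tor_minus (F := F) r (by rw [hdel]; omega)
      refine ⟨a, h1, h2, ?_⟩
      rw [h3, hdel]; omega
  let N := Subgroup.normalizer (tor a : Set PSL₂)
  have hN : Nat.card N = 2 ^ k := by rw [(normalizer_tor r ha har).1, hT, ← hkk]
  have hfac : (Nat.card PSL₂).factorization 2 = k := by
    obtain ⟨m, hm, hcard⟩ : ∃ m, Odd m ∧ Nat.card PSL₂ = 2 ^ k * m := by
      have h := card_psl (F := F)
      rw [hdel] at h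
      obtain ⟨o, ho⟩ : ∃ o, Fintype.card F = 2 * o + 1 := id hodd
      rcases hq with h' | h'
      · refine ⟨Fintype.card F * (2 ^ (k - 1) - 1), Odd.mul hodd ?_, ?_⟩
        · exact Nat.Even.sub_odd (Nat.one_le_two_pow) (Nat.even_pow.2 ⟨even_two, by omega⟩) odd_one
        · have e : Fintype.card F - 1 = 2 * (2 ^ (k - 1) - 1) := by omega
          rw [e, h'] at h
          have : Nat.card PSL₂ * 2 = 2 ^ k * (Fintype.card F * (2 ^ (k - 1) - 1)) * 2 := by rw [h]; ring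
          exact Nat.eq_of_mul_eq_mul_right two_pos this
      · refine ⟨Fintype.card F * (2 ^ (k - 1) + 1), Odd.mul hodd ?_, ?_⟩
        · exact Even.add_one (Nat.even_pow.2 ⟨even_two, by omega⟩)
        · have e : Fintype.card F + 1 = 2 * (2 ^ (k - 1) + 1) := by omega
          have e' : Fintype.card F - 1 = 2 ^ k := by omega
          rw [e, e'] at h
          have : Nat.card PSL₂ * 2 = 2 ^ k * (Fintype.card F * (2 ^ (k - 1) + 1)) * 2 := by rw [h]; ring
          exact Nat.eq_of_mul_eq_mul_right two_pos this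
    rw [hcard, Nat.factorization_mul (by positivity) (Nat.pos_iff_ne_zero.1 hm.pos), Finsupp.add_apply,
      Nat.Prime.factorization_pow Nat.prime_two, Finsupp.single_eq_same,
      Nat.factorization_eq_zero_of_not_dvd (fun hd => Nat.not_even_iff_odd.2 hm (even_iff_two_dvd.2 hd)), add_zero]
  let S₀ : Sylow 2 PSL₂ := Sylow.ofCard N (by rw [hN, hfac])
  obtain ⟨t, ht1, htr, hto, htT⟩ := exists_generator r ha har
  obtain ⟨g, rfl⟩ := MulAction.exists_smul_eq PSL₂ S₀ Q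
  have htN : t ∈ N := Subgroup.le_normalizer (htT ▸ D.self t)
  have hgo : orderOf (g * t * g⁻¹) = 2 ^ (k - 1) := by
    rw [show g * t * g⁻¹ = MulAut.conj g t from rfl, MulEquiv.orderOf_eq, hto, hT]
  obtain ⟨P, hP, hxP⟩ := hQ (g * t * g⁻¹) ⟨k - 1, hgo⟩
  obtain ⟨h, rfl⟩ := MulAction.exists_smul_eq PSL₂ S₀ P
  obtain ⟨u, hu, hue⟩ := hxP
  have hue' : h * u * h⁻¹ = g * t * g⁻¹ := hue
  have hu' : u = (h⁻¹ * g) * t * (h⁻¹ * g)⁻¹ := by
    rw [show (h⁻¹ * g) * t * (h⁻¹ * g)⁻¹ = h⁻¹ * (g * t * g⁻¹) * h by group, ← hue']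
    group
  refine hP ?_
  have hn : h⁻¹ * g ∈ Subgroup.normalizer (N : Set PSL₂) := by
    by_cases ht2 : t * t = 1
    · -- the normaliser has order four and is abelian
      have hk2 : k = 2 := by
        have h2 : orderOf t = 2 := orderOf_eq_prime ((pow_two t).trans ht2) ht1
        rw [hto, hT] at h2
        have := (Nat.pow_eq_self_iff (by norm_num : 1 < 2)).1 h2
        omega
      have hab : IsMulCommutative N :=
        IsPGroup.isMulCommutative_of_card_eq_prime_sq (p := 2) (by rw [hN, hk2])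
      have hcu : Subgroup.centralizer ({u} : Set PSL₂) = N := by
        refine (Subgroup.eq_of_le_of_card_ge (fun v hv => Subgroup.mem_centralizer_singleton_iff.2
          (congrArg Subtype.val (mul_comm' (⟨v, hv⟩ : N) ⟨u, hu⟩))) ?_).symm
        have hu1 : u ≠ 1 := fun e => ht1 (conj_eq_one_iff.1 (hu'.symm.trans e))
        have hur : u ^ r ≠ 1 := fun e => htr (by rw [hu', conj_pow] at e; exact conj_eq_one_iff.1 e)
        have hu2 : u * u = 1 := by
          rw [hu', show h⁻¹ * g * t * (h⁻¹ * g)⁻¹ * (h⁻¹ * g * t * (h⁻¹ * g)⁻¹) = h⁻¹ * g * (t * t) * (h⁻¹ * g)⁻¹ by group,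
            ht2]
          group
        rw [centralizer_involution r hu1 hur hu2, (normalizer_tor r hu1 hur).1, hN, hkk]
        refine le_of_eq ?_
        congr 1
        show Nat.card (D.T u) = _
        rw [hu', D.T_conj _ ht1]
        show Nat.card (MulAut.conj (h⁻¹ * g) • tor t : Subgroup PSL₂) = _
        rw [htT, ← hT]
        exact Nat.card_congr (Subgroup.equivSMul _ _).symm.toEquiv
      have hct : Subgroup.centralizer ({t} : Set PSL₂) = N := by
        rw [centralizer_involution r ht1 htr ht2, htT]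
      refine Subgroup.mem_normalizer_fintype fun v hv => ?_
      have hv' : v ∈ Subgroup.centralizer ({t} : Set PSL₂) := hct.ge hv
      show (h⁻¹ * g) * v * (h⁻¹ * g)⁻¹ ∈ N
      rw [← hcu, Subgroup.mem_centralizer_singleton_iff, hu']
      have := Subgroup.mem_centralizer_singleton_iff.1 hv'
      calc _ = (h⁻¹ * g) * (v * t) * (h⁻¹ * g)⁻¹ := by group
        _ = (h⁻¹ * g) * (t * v) * (h⁻¹ * g)⁻¹ := by rw [this]
        _ = _ := by group
    · have huT : u ∈ tor a := by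
        by_contra hun
        have := (D.semi_flip ha har ((D.mem_normalizer_iff ha).1 hu) hun).1
        rw [hu', show h⁻¹ * g * t * (h⁻¹ * g)⁻¹ * (h⁻¹ * g * t * (h⁻¹ * g)⁻¹) = h⁻¹ * g * (t * t) * (h⁻¹ * g)⁻¹ by group] at this
        exact ht2 (conj_eq_one_iff.1 this)
      refine Subgroup.le_normalizer ?_
      show h⁻¹ * g ∈ Subgroup.normalizer (tor a : Set PSL₂)
      rw [← htT]
      refine (D.mem_normalizer_iff ht1).2 ?_
      rw [← hu']
      show u ∈ tor t
      rw [htT]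
      exact huT
  rw [← inv_smul_eq_iff, smul_smul, Sylow.smul_eq_iff_mem_normalizer]
  have h' : g⁻¹ * h = (h⁻¹ * g)⁻¹ := by group
  rw [h']
  exact inv_mem hn

/-- When no torus normaliser is a `2`-group, every Sylow `2`-subgroup is redundant. -/
theorem redundant_of_not_pow_two (hodd : Odd (Fintype.card F))
    (hplus : ¬ ∃ k : ℕ, Fintype.card F + 1 = 2 ^ k) (hminus : ¬ ∃ k : ℕ, Fintype.card F = 2 ^ k + 1)
    (Q : Sylow 2 PSL₂) : Is Q := by
  haveI := Fact.mk Nat.prime_two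
  let D := pslData (F := F) r
  have hdel := del_eq_two hodd
  have h2r : (2 : ℕ) ≠ r := fun e => by
    have h := dvd_card_field (F := F) r
    rw [← e] at h
    exact Nat.not_even_iff_odd.2 hodd (even_iff_two_dvd.2 h)
  -- an element of odd order commuting with `x` and moving `Q`
  have key : ∀ x ∈ (Q : Subgroup PSL₂), x ≠ 1 → ∃ P : Sylow 2 PSL₂, P ≠ Q ∧ x ∈ P := by
    intro x hx hx1
    have hxr := semi_of_mem r h2r Q.isPGroup' hx hx1
    obtain ⟨s, hs, hs2, hsd⟩ : ∃ s : ℕ, s.Prime ∧ s ≠ 2 ∧ s ∣ Nat.card (tor x) := by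
      by_contra hno
      push Not at hno
      have hpow : ∃ k, Nat.card (tor x) = 2 ^ k := ⟨_, Nat.eq_prime_pow_of_unique_prime_dvd (Nat.card_pos.ne')
        (fun {d} hd hdd => by by_contra hne; exact hno d hd hne hdd)⟩
      obtain ⟨k, hk⟩ := hpow
      rcases card_tor_semi r hx1 hxr with e | e <;> rw [hdel, hk] at e
      · exact hminus ⟨k + 1, by rw [pow_succ]; obtain ⟨o, ho⟩ := hodd; omega⟩
      · exact hplus ⟨k + 1, by rw [pow_succ]; obtain ⟨o, ho⟩ := hodd; omega⟩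
    obtain ⟨y, hyT, hyo⟩ := exists_orderOf_dvd r hx1 hxr hsd
    have hy1 : y ≠ 1 := fun e => hs.one_lt.ne (by rw [← hyo, e, orderOf_one])
    have hy2 : y * y ≠ 1 := fun e => hs2 ((Nat.prime_dvd_prime_iff_eq hs Nat.prime_two).1
      (hyo ▸ orderOf_dvd_of_pow_eq_one ((pow_two y).trans e)))
    have hyr := D.semi_of_ne hx1 hxr hyT hy1
    have hTy : tor y = tor x := D.same hx1 hyT hy1
    have hcomm : Commute y x := D.comm hx1 hyT (D.self x)
    refine ⟨y • Q, fun e => ?_, ⟨x, hx, by show y * x * y⁻¹ = x; rw [hcomm.eq, mul_inv_cancel_right]⟩⟩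
    have hyQ : y ∈ Subgroup.normalizer ((Q : Subgroup PSL₂) : Set PSL₂) := Sylow.smul_eq_iff_mem_normalizer.1 e
    -- `Q` normalises the torus
    have hQN : (Q : Subgroup PSL₂) ≤ Subgroup.normalizer (tor x : Set PSL₂) := by
      by_cases hall : ∀ b ∈ (Q : Subgroup PSL₂), b * b = 1
      · intro b hb
        rw [← centralizer_involution r hx1 hxr (hall x hx), Subgroup.mem_centralizer_singleton_iff]
        have h1 := hall _ ((Q : Subgroup PSL₂).mul_mem hb hx)
        calc b * x = (b * x)⁻¹ := (inv_eq_of_mul_eq_one_right h1).symm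
          _ = x * b := by rw [mul_inv_rev, inv_eq_of_mul_eq_one_right (hall x hx), inv_eq_of_mul_eq_one_right (hall b hb)]
      · push Not at hall
        obtain ⟨b, hb, hb2⟩ := hall
        have hb1 : b ≠ 1 := fun e => hb2 (by rw [e, one_mul])
        have hbr := semi_of_mem r h2r Q.isPGroup' hb hb1
        haveI : Nontrivial (Q : Subgroup PSL₂) := ⟨⟨⟨b, hb⟩, 1, fun e => hb1 (congrArg Subtype.val e)⟩⟩
        haveI := Q.isPGroup'.center_nontrivial
        obtain ⟨z', hz'⟩ := exists_ne (1 : Subgroup.center (Q : Subgroup PSL₂))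
        obtain ⟨z, hzQ, hz1, hzc⟩ : ∃ z : PSL₂, z ∈ (Q : Subgroup PSL₂) ∧ z ≠ 1 ∧ ∀ v ∈ (Q : Subgroup PSL₂), v * z = z * v :=
          ⟨_, (z' : (Q : Subgroup PSL₂)).2, fun e => hz' (Subtype.ext (Subtype.ext e)),
            fun v hv => congrArg Subtype.val (Subgroup.mem_center_iff.1 z'.2 ⟨v, hv⟩)⟩
        have hzr := semi_of_mem r h2r Q.isPGroup' hzQ hz1
        have hzb : z ∈ tor b := D.mem_of_commute hb1 hbr hb2 (hzc b hb).symm
        have hTz : tor z = tor b := D.same hb1 hzb hz1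
        have hQb : (Q : Subgroup PSL₂) ≤ Subgroup.normalizer (tor b : Set PSL₂) := fun v hv => by
          rw [← hTz]
          refine (D.mem_normalizer_iff hz1).2 ?_
          rw [hzc v hv, mul_inv_cancel_right]
          exact D.self z
        have hyb : y * b * y⁻¹ ∈ tor b := by
          have hm : y * b * y⁻¹ ∈ (Q : Subgroup PSL₂) := (Subgroup.mem_normalizer_iff.1 hyQ b).1 hb
          by_contra hn
          have := (D.semi_flip hb1 hbr ((D.mem_normalizer_iff hb1).1 (hQb hm)) hn).1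
          rw [show y * b * y⁻¹ * (y * b * y⁻¹) = y * (b * b) * y⁻¹ by group] at this
          exact hb2 (conj_eq_one_iff.1 this)
        have hyb' : y ∈ tor b := by
          by_contra hn
          exact hy2 (D.semi_flip hb1 hbr hyb hn).1
        rw [← hTy, show tor y = tor b from D.same hb1 hyb' hy1]
        exact hQb
    have hQT : (Q : Subgroup PSL₂) ≤ tor x := by
      intro f hf
      by_contra hn
      obtain ⟨-, hinv⟩ := D.semi_flip hx1 hxr ((D.mem_normalizer_iff hx1).1 (hQN hf)) hn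
      have hm : y * f * y⁻¹ * f⁻¹ ∈ (Q : Subgroup PSL₂) :=
        (Q : Subgroup PSL₂).mul_mem ((Subgroup.mem_normalizer_iff.1 hyQ f).1 hf) ((Q : Subgroup PSL₂).inv_mem hf)
      rw [show y * f * y⁻¹ * f⁻¹ = y * (f * y⁻¹ * f⁻¹) by group, hinv _ ((tor x).inv_mem hyT), inv_inv] at hm
      obtain ⟨k, hk⟩ := Q.isPGroup' ⟨_, hm⟩
      have hk' : (y * y) ^ 2 ^ k = 1 := congrArg Subtype.val hk
      rw [← pow_two, ← pow_mul, ← pow_succ'] at hk'
      have hd := hs.dvd_of_dvd_pow (hyo ▸ orderOf_dvd_of_pow_eq_one hk')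
      exact hs2 ((Nat.prime_dvd_prime_iff_eq hs Nat.prime_two).1 hd)
    obtain ⟨f, hf, hfn⟩ := exists_flip r hx1 hxr
    exact two_le_dvd_part Q (tor x) hQT f hf hfn
      (by rw [pow_two]; exact (D.semi_flip hx1 hxr ((D.mem_normalizer_iff hx1).1 hf) hfn).1)
  intro x hx
  by_cases hxQ : x ∈ (Q : Subgroup PSL₂)
  · by_cases hx1 : x = 1
    · obtain ⟨g, hg⟩ := exists_involution r hodd
      have hne : (Q : Subgroup PSL₂) ≠ ⊥ := Q.ne_bot_of_dvd_card (by have := orderOf_dvd_natCard g; rwa [hg] at this)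
      obtain ⟨a, ha, ha1⟩ := (Subgroup.bot_or_exists_ne_one _).resolve_left hne
      obtain ⟨P, hP, -⟩ := key a ha ha1
      exact ⟨P, hP, hx1 ▸ one_mem _⟩
    · exact key x hxQ hx1
  · obtain ⟨k, hk⟩ := hx
    obtain ⟨P, hP⟩ := (IsPGroup.of_card (n := k) (show Nat.card (Subgroup.zpowers x) = 2 ^ k by
      rw [Nat.card_zpowers, hk])).exists_le_sylow
    exact ⟨P, fun e => hxQ (e ▸ hP (Subgroup.mem_zpowers x)), hP (Subgroup.mem_zpowers x)⟩

end psl

theorem psl_iff {F : Type*} [Field F] [Fintype F] (p : ℕ) [hp : Fact p.Prime] :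
    (∃ Q : Sylow p (Matrix.ProjectiveSpecialLinearGroup (Fin 2) F), Is Q) ↔
      (p = 2 ∧ (¬ ∃ k : ℕ, Fintype.card F + 1 = 2 ^ k) ∧ (¬ ∃ k : ℕ, Fintype.card F = 2 ^ k) ∧
        ¬ ∃ k : ℕ, Fintype.card F = 2 ^ k + 1) := by
  obtain ⟨r, hr⟩ := CharP.exists F
  haveI := hr
  haveI : Fact r.Prime := ⟨CharP.char_is_prime F r⟩
  have hq1 := Fintype.one_lt_card (α := F)
  constructor
  · rintro ⟨Q, hQ⟩
    have hpr : p ≠ r := by rintro rfl; exact unique_of_char p Q hQ
    have hp2 : p = 2 := by by_contra h; exact unique_of_odd r hpr h Q hQ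
    subst hp2
    have hodd : Odd (Fintype.card F) := odd_of_p r (fun e => hpr e.symm)
    refine ⟨rfl, ?_, ?_, ?_⟩
    · rintro ⟨k, hk⟩
      refine unique_of_pow_two r hodd k ?_ (Or.inl hk) Q hQ
      by_contra h
      have : 2 ^ k ≤ 2 ^ 1 := Nat.pow_le_pow_right two_pos (by omega)
      omega
    · rintro ⟨k, hk⟩
      rcases k with _ | k
      · omega
      · exact Nat.not_even_iff_odd.2 hodd ⟨2 ^ k, by rw [hk, pow_succ]; ring⟩
    · rintro ⟨k, hk⟩
      obtain ⟨o, ho⟩ := hodd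
      rcases k with _ | _ | k
      · omega
      · refine unique_of_pow_two r ⟨o, ho⟩ 2 le_rfl (Or.inl ?_) Q hQ; omega
      · exact unique_of_pow_two r ⟨o, ho⟩ (k + 2) (by omega) (Or.inr hk) Q hQ
  · rintro ⟨rfl, h1, h2, h3⟩
    have hodd : Odd (Fintype.card F) := by
      refine odd_of_p r (fun e => h2 ?_)
      obtain ⟨n, -, hn⟩ := FiniteField.card F r
      exact ⟨n, by rw [hn, e]⟩
    obtain ⟨Q⟩ : Nonempty (Sylow 2 (Matrix.ProjectiveSpecialLinearGroup (Fin 2) F)) := inferInstance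
    exact ⟨Q, redundant_of_not_pow_two r hodd h1 h3 Q⟩

end Cfsg.Agent.Transfer.Redundant
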