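import Mathlib

/-!
The calculation behind Glauberman's replacement theorem: for an abelian `A` acting on `B` and
centralizing `[B, B]`, the translates `a v a⁻¹ v⁻¹` commute up to involutions of the centre of `B`.
-/

set_option autoImplicit false

namespace Cfsg.Agent.Transfer.ReplacementPieces

open scoped commutatorElement

variable {Ω : Type*} [Group Ω]

theorem comm_mul_left (x y z : Ω) : ⁅x * y, z⁆ = x * ⁅y, z⁆ * x⁻¹ * ⁅x, z⁆ := by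
  simp only [commutatorElement_def]; group

theorem comm_mul_right (x y z : Ω) : ⁅x, y * z⁆ = ⁅x, y⁆ * (y * ⁅x, z⁆ * y⁻¹) := by
  simp only [commutatorElement_def]; group

theorem conj_comm (g x y : Ω) : g * ⁅x, y⁆ * g⁻¹ = ⁅g * x * g⁻¹, g * y * g⁻¹⁆ := by
  simp only [commutatorElement_def]; group

theorem sq_eq_one {A B : Subgroup Ω} (hAB : A ≤ Subgroup.normalizer (B : Set Ω))
    (hA : ∀ x ∈ A, ∀ y ∈ A, x * y = y * x)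
    (hc : ∀ a ∈ A, ∀ x ∈ B, ∀ y ∈ B, Commute a ⁅x, y⁆) {v : Ω} (hv : v ∈ B)
    (hw : ∀ a ∈ A, ∀ b ∈ A, ∀ c ∈ A, Commute c ⁅a, ⁅b, v⁆⁆) :
    ∀ a ∈ A, ∀ b ∈ A, (∀ x ∈ B, Commute x ⁅⁅a, v⁆, ⁅b, v⁆⁆) ∧
      ⁅⁅a, v⁆, ⁅b, v⁆⁆ * ⁅⁅a, v⁆, ⁅b, v⁆⁆ = 1 := by
  have hcB : ∀ {a x : Ω}, a ∈ A → x ∈ B → a * x * a⁻¹ ∈ B := fun {a x} ha hx =>
    (Subgroup.mem_normalizer_iff.1 (hAB ha) x).1 hx
  have hdB : ∀ a ∈ A, ⁅a, v⁆ ∈ B := fun a ha => by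
    rw [commutatorElement_def]; exact B.mul_mem (hcB ha hv) (B.inv_mem hv)
  -- the centralizer of the commutators of `B`
  let C : Subgroup Ω := Subgroup.centralizer {z | ∃ x ∈ B, ∃ y ∈ B, z = ⁅x, y⁆}
  have hC : ∀ {g x y : Ω}, g ∈ C → x ∈ B → y ∈ B → Commute g ⁅x, y⁆ := fun {g x y} hg hx hy =>
    (Subgroup.mem_centralizer_iff.1 hg _ ⟨x, hx, y, hy, rfl⟩).symm
  have hCB : ∀ {g x : Ω}, g ∈ C → x ∈ B → x * g * x⁻¹ ∈ C := fun {g x} hg hx => by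
    refine Subgroup.mem_centralizer_iff.2 ?_
    rintro z ⟨y, hy, y', hy', rfl⟩
    have h1 := (hC hg (B.mul_mem (B.mul_mem (B.inv_mem hx) hy) hx)
      (B.mul_mem (B.mul_mem (B.inv_mem hx) hy') hx)).eq
    have h2 : ⁅x⁻¹ * y * x, x⁻¹ * y' * x⁆ = x⁻¹ * ⁅y, y'⁆ * x := by
      simp only [commutatorElement_def]; group
    rw [h2] at h1
    calc ⁅y, y'⁆ * (x * g * x⁻¹) = x * ((x⁻¹ * ⁅y, y'⁆ * x) * g) * x⁻¹ := by group
      _ = x * g * x⁻¹ * ⁅y, y'⁆ := by rw [← h1]; group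
  have hAC : ∀ a ∈ A, a ∈ C := fun a ha => Subgroup.mem_centralizer_iff.2 fun z ⟨x, hx, y, hy, e⟩ =>
    e ▸ (hc a ha x hx y hy).eq.symm
  have hdC : ∀ a ∈ A, ⁅a, v⁆ ∈ C := fun a ha => by
    rw [commutatorElement_def, mul_assoc a v, mul_assoc a]
    exact C.mul_mem (hAC a ha) (hCB (C.inv_mem (hAC a ha)) hv)
  have huC : ∀ a ∈ A, ∀ x ∈ B, ⁅x, ⁅a, v⁆⁆ ∈ C := fun a ha x hx => by
    rw [commutatorElement_def x]
    exact C.mul_mem (hCB (hdC a ha) hx) (C.inv_mem (hdC a ha))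
  -- commutators of translates are central in `B`
  have hcent : ∀ a ∈ A, ∀ b ∈ A, ∀ x ∈ B, Commute x ⁅⁅a, v⁆, ⁅b, v⁆⁆ := by
    intro a ha b hb x hx
    set p := ⁅a, v⁆ with hp
    set q := ⁅b, v⁆ with hq
    set s := ⁅x, p⁆ with hs
    set t := ⁅x, q⁆ with ht
    have h1 : x * p * x⁻¹ = s * p := by rw [hs, commutatorElement_def]; group
    have h2 : x * q * x⁻¹ = t * q := by rw [ht, commutatorElement_def]; group
    have e1 : Commute s t := hC (huC a ha x hx) hx (hdB b hb)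
    have e2 : Commute p t := hC (hdC a ha) hx (hdB b hb)
    have e3 : Commute q s := hC (hdC b hb) hx (hdB a ha)
    have e4 : Commute s ⁅p, q⁆ := (hC (huC a ha x hx) (hdB a ha) (hdB b hb))
    have e5 : Commute t ⁅p, q⁆ := (hC (huC b hb x hx) (hdB a ha) (hdB b hb))
    have h3 : x * ⁅p, q⁆ * x⁻¹ = ⁅p, q⁆ := by
      rw [conj_comm, h1, h2, comm_mul_left, comm_mul_right p, comm_mul_right s,
        commutatorElement_eq_one_iff_mul_comm.2 e2.eq, commutatorElement_eq_one_iff_mul_comm.2 e1.eq,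
        commutatorElement_eq_one_iff_mul_comm.2 e3.symm.eq, one_mul, one_mul, mul_one, mul_inv_cancel,
        mul_one, e5.eq, mul_inv_cancel_right, e4.eq, mul_inv_cancel_right]
    exact mul_inv_eq_iff_eq_mul.1 h3
  -- elements of `B` centralized by `A` commute with the translates
  have hwd : ∀ a ∈ A, ∀ b ∈ A, ∀ c ∈ A, Commute ⁅c, v⁆ ⁅a, ⁅b, v⁆⁆ := by
    intro a ha b hb c hc'
    set w := ⁅a, ⁅b, v⁆⁆ with hw'
    have hwB : w ∈ B := by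
      rw [hw', commutatorElement_def a]; exact B.mul_mem (hcB ha (hdB b hb)) (B.inv_mem (hdB b hb))
    have h0 := hc c hc' v hv w hwB
    have h1 : c * ⁅v, w⁆ * c⁻¹ = ⁅⁅c, v⁆ * v, w⁆ := by
      rw [conj_comm, (hw a ha b hb c hc').eq, mul_inv_cancel_right]
      congr 1
      rw [commutatorElement_def]; group
    rw [h0.eq, mul_inv_cancel_right, comm_mul_left, (hC (hdC c hc') hv hwB).eq, mul_inv_cancel_right] at h1
    exact commutatorElement_eq_one_iff_mul_comm.1 (mul_eq_left.1 h1.symm)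
  have hprod : ∀ a ∈ A, ∀ b ∈ A, ⁅a * b, v⁆ = a * ⁅b, v⁆ * a⁻¹ * ⁅a, v⁆ := fun a _ b _ =>
    comm_mul_left a b v
  have hwB : ∀ a ∈ A, ∀ b ∈ A, ⁅a, ⁅b, v⁆⁆ ∈ B := fun a ha b hb => by
    rw [commutatorElement_def a]; exact B.mul_mem (hcB ha (hdB b hb)) (B.inv_mem (hdB b hb))
  have hΓleft : ∀ a ∈ A, ∀ a' ∈ A, ∀ b ∈ A,
      ⁅⁅a * a', v⁆, ⁅b, v⁆⁆ = ⁅⁅a, v⁆, ⁅b, v⁆⁆ * ⁅⁅a', v⁆, ⁅b, v⁆⁆ := by
    intro a ha a' ha' b hb
    have e : a * ⁅a', v⁆ * a⁻¹ = ⁅a, ⁅a', v⁆⁆ * ⁅a', v⁆ := by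
      rw [commutatorElement_def a]; group
    rw [hprod a ha a' ha', comm_mul_left,
      (hcent a ha b hb _ (hcB ha (hdB a' ha'))).eq, mul_inv_cancel_right]
    congr 1
    rw [e, comm_mul_left, commutatorElement_eq_one_iff_mul_comm.2 (hwd a ha a' ha' b hb).symm.eq, mul_one,
      (hcent a' ha' b hb _ (hwB a ha a' ha')).eq, mul_inv_cancel_right]
  have hΓinv : ∀ a ∈ A, ∀ b ∈ A, ⁅⁅a⁻¹, v⁆, ⁅b, v⁆⁆ = (⁅⁅a, v⁆, ⁅b, v⁆⁆)⁻¹ := by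
    intro a ha b hb
    have h := hΓleft a ha a⁻¹ (A.inv_mem ha) b hb
    rw [mul_inv_cancel, commutatorElement_one_left v, commutatorElement_one_left] at h
    exact eq_inv_of_mul_eq_one_right h.symm
  have hφmul : ∀ a ∈ A, ∀ b ∈ A,
      ⁅v, ⁅a * b, v⁆⁆ = ⁅⁅a⁻¹, v⁆, ⁅b, v⁆⁆ * ⁅v, ⁅b, v⁆⁆ * ⁅v, ⁅a, v⁆⁆ := by
    intro a ha b hb
    have ha' := A.inv_mem ha
    have huC' : a * ⁅b, v⁆ * a⁻¹ ∈ C := C.mul_mem (C.mul_mem (hAC a ha) (hdC b hb)) (C.inv_mem (hAC a ha))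
    rw [hprod a ha b hb, comm_mul_right, (hC huC' hv (hdB a ha)).eq, mul_inv_cancel_right]
    congr 1
    have h1 : a⁻¹ * ⁅v, a * ⁅b, v⁆ * a⁻¹⁆ * a⁻¹⁻¹ = ⁅⁅a⁻¹, v⁆ * v, ⁅b, v⁆⁆ := by
      rw [conj_comm]
      congr 1
      · rw [commutatorElement_def]; group
      · group
    rw [(hc a⁻¹ ha' v hv _ (hcB ha (hdB b hb))).eq, mul_inv_cancel_right, comm_mul_left,
      (hC (hdC _ ha') hv (hdB b hb)).eq, mul_inv_cancel_right] at h1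
    rw [h1]
    exact (hcent _ ha' b hb _ (B.mul_mem (B.mul_mem (B.mul_mem hv (hdB b hb)) (B.inv_mem hv))
      (B.inv_mem (hdB b hb)))).eq
  refine fun a ha b hb => ⟨hcent a ha b hb, ?_⟩
  have hφc : Commute ⁅v, ⁅a, v⁆⁆ ⁅v, ⁅b, v⁆⁆ := hC (huC a ha v hv) hv (hdB b hb)
  have h1 : ⁅⁅b⁻¹, v⁆, ⁅a, v⁆⁆ * (⁅v, ⁅a, v⁆⁆ * ⁅v, ⁅b, v⁆⁆) =
      ⁅⁅a⁻¹, v⁆, ⁅b, v⁆⁆ * (⁅v, ⁅b, v⁆⁆ * ⁅v, ⁅a, v⁆⁆) :=
    (mul_assoc _ _ _).symm.trans ((hφmul b hb a ha).symm.trans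
      ((congrArg (fun g => ⁅v, ⁅g, v⁆⁆) (hA b hb a ha)).trans ((hφmul a ha b hb).trans (mul_assoc _ _ _))))
  rw [hφc.eq] at h1
  have h2 := mul_right_cancel h1
  rw [hΓinv a ha b hb, hΓinv b hb a ha, inv_inj, ← commutatorElement_inv] at h2
  nth_rewrite 1 [← h2]
  exact inv_mul_cancel _

end Cfsg.Agent.Transfer.ReplacementPieces
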