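import Cfsg.Agent.Lib.Invol.ReplacementExp
import Mathlib

/-!
The replacement property of families of abelian subgroups of largest order.
-/

set_option autoImplicit false

open scoped commutatorElement

namespace Cfsg.Agent.Transfer.ReplacementProperty

theorem exists_normalized {S : Type*} [Group S] [Finite S] {p : ℕ} [Fact p.Prime] (hS : IsPGroup p S) (hp : p ≠ 2)
    (D B : Subgroup S) [D.Normal] [B.Normal] (hB : ⁅⁅B, B⁆, B⁆ = ⊥) (F : Set (Subgroup S))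
    (hF : ∀ A ∈ F, A ≤ D ∧ ∀ x ∈ A, ∀ y ∈ A, x * y = y * x)
    (hclosed : ∀ A ∈ F, ∀ A' : Subgroup S, A' ≤ D → (∀ x ∈ A', ∀ y ∈ A', x * y = y * x) →
      Nat.card A' = Nat.card A → (∀ n : ℕ, n % 2 = 1 → (∀ a ∈ A, a ^ n = 1) → ∀ x ∈ A', x ^ n = 1) → A' ∈ F)
    (hex : ∃ U ∈ F, ⁅B, B⁆ ≤ U ∧ ¬ B ≤ U) :
    ∃ A ∈ F, ⁅B, B⁆ ≤ A ∧ ¬ B ≤ A ∧ B ≤ Subgroup.normalizer (A : Set S) := by
  classical
  let T : Set (Subgroup S) := {U | U ∈ F ∧ ⁅B, B⁆ ≤ U ∧ ¬ B ≤ U}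
  haveI : Nonempty T := ⟨⟨_, hex.choose_spec⟩⟩
  obtain ⟨⟨A, hAF, hBA, hBnA⟩, hmax⟩ := Finite.exists_max (fun U : T => Nat.card ↥(U.1 ⊓ B))
  refine ⟨A, hAF, hBA, hBnA, ?_⟩
  by_contra hnot
  have hBz : ∀ x ∈ B, ∀ y ∈ B, ∀ z ∈ B, Commute (x * y * x⁻¹ * y⁻¹) z := fun x hx y hy z hz => by
    have h := Subgroup.commutator_mem_commutator (Subgroup.commutator_mem_commutator hx hy) hz
    rw [hB, Subgroup.mem_bot, commutatorElement_eq_one_iff_mul_comm, commutatorElement_def] at h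
    exact h
  haveI : Finite (⊤ : Subgroup S) := inferInstance
  obtain ⟨A', -, hA'c, -, hlt, hA'N, hK, hcard, hexp, -⟩ := Cfsg.Agent.Invol.glauberman_replacement_exponent hp
    (R := ⊤) (A := A) (B := B) (hS.to_subgroup ⊤) le_top le_top
    (by rw [Subgroup.normalizer_eq_top_iff.2 (inferInstance : B.Normal)]; exact le_top) (hF A hAF).2 hBz
    (fun x hx y hy => hBA (Subgroup.commutator_mem_commutator hx hy)) hnot
  have hA'D : A' ≤ D := hK D (hF A hAF).1 (by rw [Subgroup.normalizer_eq_top_iff.2 (inferInstance : D.Normal)]; exact le_top)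
  have hA'F : A' ∈ F := hclosed A hAF A' hA'D hA'c hcard hexp
  have hBA' : ⁅B, B⁆ ≤ A' := fun x hx =>
    (hlt.le ⟨hBA hx, (Subgroup.commutator_le_self B) hx⟩).1
  have hBnA' : ¬ B ≤ A' := fun h => hnot (h.trans hA'N)
  have h := hmax ⟨A', hA'F, hBA', hBnA'⟩
  exact hlt.ne (Subgroup.eq_of_le_of_card_ge hlt.le h)

end Cfsg.Agent.Transfer.ReplacementProperty
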