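import Mathlib
import Cfsg.Agent.Lib.Transfer.SchmidtModule
import Cfsg.Agent.Lib.Grp.Frattini

/-!
A `p`-group with an automorphism of prime order `q` fixing every proper invariant subgroup.
-/

set_option autoImplicit false
set_option linter.style.haveILetI false
set_option maxHeartbeats 400000

namespace Cfsg.Agent.Transfer.Schmidt

open Subgroup
open scoped commutatorElement

variable {p q : ℕ} [hp : Fact p.Prime] [hq : Fact q.Prime]

/-- `α` has order `q` and fixes every proper invariant subgroup pointwise. -/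
structure IsSchmidt (p q : ℕ) (P : Type*) [Group P] (α : MulAut P) : Prop where
  pgroup : IsPGroup p P
  pow_eq : α ^ q = 1
  ne_one : α ≠ 1
  inv_fixed : ∀ U : Subgroup P, (∀ u ∈ U, α u ∈ U) → U ≠ ⊤ → ∀ u ∈ U, α u = u

variable {P : Type*} [Group P] [Finite P] {α : MulAut P}

omit hp hq [Finite P] in
theorem pow_apply_mem {U : Subgroup P} (h : ∀ u ∈ U, α u ∈ U) (n : ℕ) : ∀ u ∈ U, (α ^ n) u ∈ U := by
  induction n with
  | zero => exact fun u hu => hu
  | succ n ih => exact fun u hu => by rw [pow_succ', MulAut.mul_apply]; exact h _ (ih u hu)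

omit hp hq [Finite P] in
theorem pow_apply_fixed {u : P} (h : α u = u) (n : ℕ) : (α ^ n) u = u := by
  induction n with
  | zero => rfl
  | succ n ih => rw [pow_succ', MulAut.mul_apply, ih, h]

omit hp in
theorem exists_inverse_exponent {j : ℕ} (hj : j.Coprime q) :
    ∃ m : ℕ, m.Coprime q ∧ j * m % q = 1 := by
  have hj0 : (j : ZMod q) ≠ 0 := fun e => hq.out.coprime_iff_not_dvd.mp hj.symm
    ((ZMod.natCast_eq_zero_iff j q).mp e)
  refine ⟨((j : ZMod q)⁻¹).val, ?_, ?_⟩
  · refine (hq.out.coprime_iff_not_dvd.mpr fun h => inv_ne_zero hj0 ?_).symm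
    rw [← ZMod.natCast_zmod_val ((j : ZMod q)⁻¹), ZMod.natCast_eq_zero_iff]
    exact h
  · have h : (((j * ((j : ZMod q)⁻¹).val : ℕ)) : ZMod q) = ((1 : ℕ) : ZMod q) := by
      push_cast
      rw [ZMod.natCast_zmod_val, mul_inv_cancel₀ hj0]
    rw [ZMod.natCast_eq_natCast_iff', Nat.mod_eq_of_lt hq.out.one_lt] at h
    exact h

omit hp [Finite P] in
theorem pow_mod (hα : α ^ q = 1) (n : ℕ) : α ^ n = α ^ (n % q) := by
  conv_lhs => rw [← Nat.mod_add_div n q, pow_add, pow_mul, hα, one_pow, mul_one]

omit hp [Finite P] in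
theorem IsSchmidt.pow (h : IsSchmidt p q P α) {j : ℕ} (hj : j.Coprime q) :
    IsSchmidt p q P (α ^ j) := by
  obtain ⟨m, -, hm⟩ := exists_inverse_exponent hj
  have hback : (α ^ j) ^ m = α := by rw [← pow_mul, pow_mod h.pow_eq, hm, pow_one]
  refine ⟨h.pgroup, by rw [← pow_mul, mul_comm, pow_mul, h.pow_eq, one_pow],
    fun e => h.ne_one (by rw [← hback, e, one_pow]), fun U hU hne u hu => ?_⟩
  refine pow_apply_fixed (h.inv_fixed U (fun v hv => ?_) hne u hu) j
  have := pow_apply_mem hU m v hv
  rwa [hback] at this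

omit [Finite P] in
/-- The elements `x⁻¹ α(x)` generate. -/
theorem IsSchmidt.closure_eq_top (h : IsSchmidt p q P α) (hpq : p ≠ q) :
    Subgroup.closure (Set.range fun x : P => x⁻¹ * α x) = ⊤ := by
  set M := Subgroup.closure (Set.range fun x : P => x⁻¹ * α x) with hM
  by_contra hne
  have hinv : ∀ u ∈ M, α u ∈ M := by
    intro u hu
    induction hu using Subgroup.closure_induction with
    | mem u hu =>
      obtain ⟨x, rfl⟩ := hu
      exact Subgroup.subset_closure ⟨α x, by simp [map_mul, map_inv]⟩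
    | one => rw [map_one]; exact M.one_mem
    | mul a b _ _ ha hb => rw [map_mul]; exact M.mul_mem ha hb
    | inv a _ ha => rw [map_inv]; exact M.inv_mem ha
  refine h.ne_one (MulEquiv.ext fun x => ?_)
  set d := x⁻¹ * α x with hd
  have hdf : α d = d := h.inv_fixed M hinv hne d (Subgroup.subset_closure ⟨x, rfl⟩)
  have hpw : ∀ i : ℕ, (α ^ i) x = x * d ^ i := by
    intro i
    induction i with
    | zero => simp
    | succ i ih =>
      rw [pow_succ', MulAut.mul_apply, ih, map_mul, map_pow, hdf, pow_succ', ← mul_assoc, hd,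
        mul_inv_cancel_left]
  have h1 := hpw q
  rw [h.pow_eq, MulAut.one_apply] at h1
  obtain ⟨i, hi⟩ := IsPGroup.iff_orderOf.1 h.pgroup d
  have h2 : d = 1 := orderOf_eq_one_iff.1 (Nat.eq_one_of_dvd_coprimes
    (((Nat.coprime_primes hq.out hp.out).2 hpq.symm).pow_right i)
    (orderOf_dvd_of_pow_eq_one (mul_eq_left.1 h1.symm)) hi.dvd)
  rw [hd, inv_mul_eq_one] at h2
  exact h2.symm

omit [Finite P] in
/-- A normal subgroup fixed pointwise is central. -/
theorem IsSchmidt.le_center (h : IsSchmidt p q P α) (hpq : p ≠ q) {U : Subgroup P} [hn : U.Normal]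
    (hU : ∀ u ∈ U, α u = u) : U ≤ Subgroup.center P := by
  intro u hu
  have hle : Subgroup.closure (Set.range fun x : P => x⁻¹ * α x) ≤ Subgroup.centralizer {u} := by
    refine (Subgroup.closure_le _).mpr ?_
    rintro _ ⟨g, rfl⟩
    rw [SetLike.mem_coe, Subgroup.mem_centralizer_singleton_iff]
    have h1 := hU _ (hn.conj_mem u hu g)
    rw [map_mul, map_mul, map_inv, hU u hu] at h1
    calc g⁻¹ * α g * u = g⁻¹ * (α g * u * (α g)⁻¹) * α g := by group
      _ = u * (g⁻¹ * α g) := by rw [h1]; group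
  rw [h.closure_eq_top hpq] at hle
  exact Subgroup.mem_center_iff.mpr fun g => Subgroup.mem_centralizer_singleton_iff.mp (hle (Subgroup.mem_top g))

/-- The Frattini subgroup is fixed. -/
theorem IsSchmidt.frattini_fixed (h : IsSchmidt p q P α) : ∀ u ∈ frattini P, α u = u := by
  refine h.inv_fixed _ (fun u hu =>
    (Subgroup.characteristic_iff_map_le.1 inferInstance α) (Subgroup.mem_map_of_mem _ hu)) ?_
  haveI : Nontrivial P := by
    by_contra hn
    rw [not_nontrivial_iff_subsingleton] at hn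
    exact h.ne_one (MulEquiv.ext fun x => Subsingleton.elim _ _)
  intro e
  obtain ⟨M, hM, -⟩ := (eq_top_or_exists_le_coatom (⊥ : Subgroup P)).resolve_left bot_ne_top
  exact hM.1 (top_le_iff.1 (e ▸ frattini_le_coatom hM))

theorem IsSchmidt.frattini_le_center (h : IsSchmidt p q P α) (hpq : p ≠ q) :
    frattini P ≤ Subgroup.center P :=
  h.le_center hpq h.frattini_fixed

/-- The factor by the Frattini subgroup is the field with `p ^ a` elements. -/
theorem IsSchmidt.exists_proj (h : IsSchmidt p q P α) (hpq : p ≠ q) {a : ℕ}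
    (ha : a = orderOf (p : ZMod q)) (ζ : GaloisField p a) (hζ : IsPrimitiveRoot ζ q) :
    ∃ (j : ℕ) (π : P →* Multiplicative (GaloisField p a)), j.Coprime q ∧ Function.Surjective π ∧
      π.ker = frattini P ∧
      ∀ x, Multiplicative.toAdd (π ((α ^ j) x)) = ζ * Multiplicative.toAdd (π x) := by
  classical
  set Φ := frattini P with hΦ
  letI : CommGroup (P ⧸ Φ) :=
    { (inferInstance : Group (P ⧸ Φ)) with
      mul_comm := fun x y => by
        obtain ⟨x, rfl⟩ := QuotientGroup.mk_surjective x
        obtain ⟨y, rfl⟩ := QuotientGroup.mk_surjective y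
        rw [← QuotientGroup.mk_mul, ← QuotientGroup.mk_mul, QuotientGroup.eq]
        rw [show (x * y)⁻¹ * (y * x) = ⁅y⁻¹, x⁻¹⁆ by rw [commutatorElement_def]; group]
        exact Grp.pGroup_commutator_le_frattini h.pgroup
          (Subgroup.commutator_mem_commutator (Subgroup.mem_top _) (Subgroup.mem_top _)) }
  let mk : P → Additive (P ⧸ Φ) := fun x => Additive.ofMul (x : P ⧸ Φ)
  have hmk : ∀ v, ∃ x, mk x = v := fun v => QuotientGroup.mk_surjective (Additive.toMul v)
  have hmul : ∀ x y, mk (x * y) = mk x + mk y := fun x y => rfl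
  have hmk0 : ∀ x, mk x = 0 ↔ x ∈ Φ := fun x => QuotientGroup.eq_one_iff x
  have hle : Φ ≤ Φ.comap α.toMonoidHom := fun u hu =>
    show α u ∈ Φ from (h.frattini_fixed u hu).symm ▸ hu
  let T : AddMonoid.End (Additive (P ⧸ Φ)) :=
    MonoidHom.toAdditive (QuotientGroup.map Φ Φ α.toMonoidHom hle)
  have hT : ∀ x, T (mk x) = mk (α x) := fun x => rfl
  have hTpow : ∀ (n : ℕ) x, (T ^ n) (mk x) = mk ((α ^ n) x) := by
    intro n
    induction n with
    | zero => intro x; rfl
    | succ n ih =>
      intro x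
      rw [pow_succ', pow_succ', MulAut.mul_apply]
      show T ((T ^ n) (mk x)) = _
      rw [ih, hT]
  have hTq : T ^ q = 1 := AddMonoidHom.ext fun v => by
    obtain ⟨x, rfl⟩ := hmk v
    refine (hTpow q x).trans ?_
    rw [h.pow_eq]
    rfl
  have hpV : ∀ v : Additive (P ⧸ Φ), p • v = 0 := fun v => by
    obtain ⟨x, rfl⟩ := hmk v
    show mk (x ^ p) = 0
    exact (hmk0 _).mpr (Grp.pGroup_pow_mem_frattini h.pgroup x)
  -- invariant proper subgroups consist of fixed vectors
  have hsub : ∀ W : AddSubgroup (Additive (P ⧸ Φ)), (∀ w ∈ W, T w ∈ W) → W ≠ ⊤ → ∀ w ∈ W, T w = w := by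
    intro W hW hne w hw
    let U : Subgroup P :=
      { carrier := {x | mk x ∈ W}
        one_mem' := by show mk 1 ∈ W; rw [(hmk0 1).mpr Φ.one_mem]; exact W.zero_mem
        mul_mem' := fun {x y} hx hy => by show mk (x * y) ∈ W; rw [hmul]; exact W.add_mem hx hy
        inv_mem' := fun {x} hx => show -mk x ∈ W from W.neg_mem hx }
    obtain ⟨x, rfl⟩ := hmk w
    rw [hT, h.inv_fixed U (fun u hu => show mk (α u) ∈ W from hT u ▸ hW _ hu) (fun e => hne ?_) x hw]
    refine eq_top_iff.mpr fun v _ => ?_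
    obtain ⟨y, rfl⟩ := hmk v
    exact (show y ∈ U from e ▸ Subgroup.mem_top y)
  -- `T - 1` is onto
  let T' : Additive (P ⧸ Φ) →+ Additive (P ⧸ Φ) := T
  let D : Additive (P ⧸ Φ) →+ Additive (P ⧸ Φ) := T' - AddMonoidHom.id _
  have hDs : Function.Surjective D := by
    rw [← AddMonoidHom.range_eq_top, eq_top_iff]
    intro v hv
    clear hv
    obtain ⟨x, rfl⟩ := hmk v
    have hx : x ∈ Subgroup.closure (Set.range fun x : P => x⁻¹ * α x) :=
      (h.closure_eq_top hpq).ge (Subgroup.mem_top x)
    induction hx using Subgroup.closure_induction with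
    | mem u hu =>
      obtain ⟨y, rfl⟩ := hu
      refine ⟨mk y, ?_⟩
      rw [hmul, show mk y⁻¹ = -mk y from rfl, ← hT]
      rw [AddMonoidHom.sub_apply, AddMonoidHom.id_apply]
      show T (mk y) - mk y = _
      abel
    | one => rw [(hmk0 1).mpr Φ.one_mem]; exact zero_mem _
    | mul a b _ _ ha hb => rw [hmul]; exact add_mem ha hb
    | inv a _ ha => exact neg_mem ha
  have hDi : Function.Injective D := Finite.injective_iff_surjective.mpr hDs
  have hfix : ∀ v, T v = v → v = 0 := fun v hv => hDi (by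
    rw [map_zero, AddMonoidHom.sub_apply, AddMonoidHom.id_apply]
    show T v - v = 0
    rw [hv, sub_self])
  have hirr : ∀ W : AddSubgroup (Additive (P ⧸ Φ)), (∀ w ∈ W, T w ∈ W) → W = ⊥ ∨ W = ⊤ := fun W hW => by
    by_cases hne : W = ⊤
    · exact Or.inr hne
    · exact Or.inl ((AddSubgroup.eq_bot_iff_forall _).mpr fun w hw => hfix w (hsub W hW hne w hw))
  haveI : Nontrivial (Additive (P ⧸ Φ)) := by
    by_contra hn
    rw [not_nontrivial_iff_subsingleton] at hn
    refine h.ne_one (MulEquiv.ext fun x => h.frattini_fixed x ?_)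
    exact (hmk0 x).mp (Subsingleton.elim _ _)
  obtain ⟨k, e, hk, he⟩ := exists_field_equiv hpq hpV T hTq hirr hfix ha ζ hζ
  obtain ⟨j, hj, hkj⟩ := exists_inverse_exponent hk
  let π : P →* Multiplicative (GaloisField p a) :=
    { toFun := fun x => Multiplicative.ofAdd (e.symm (mk x))
      map_one' := by rw [(hmk0 1).mpr Φ.one_mem, map_zero]; rfl
      map_mul' := fun x y => by rw [hmul, map_add]; rfl }
  refine ⟨j, π, hj, fun z => ?_, ?_, fun x => ?_⟩
  · obtain ⟨x, hx⟩ := hmk (e (Multiplicative.toAdd z))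
    exact ⟨x, by show Multiplicative.ofAdd (e.symm (mk x)) = z; rw [hx, e.symm_apply_apply]; rfl⟩
  · ext x
    rw [MonoidHom.mem_ker, ← hmk0]
    show e.symm (mk x) = 0 ↔ _
    exact map_eq_zero_iff e.symm e.symm.injective
  · show e.symm (mk ((α ^ j) x)) = ζ * e.symm (mk x)
    rw [← hTpow]
    generalize mk x = v
    obtain ⟨y, rfl⟩ := e.surjective v
    have hn : ∀ (n : ℕ) (y : GaloisField p a), (T ^ n) (e y) = e ((ζ ^ k) ^ n * y) := by
      intro n
      induction n with
      | zero => intro y; simp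
      | succ n ih =>
        intro y
        rw [pow_succ']
        show T ((T ^ n) (e y)) = _
        rw [ih, ← he, ← mul_assoc, pow_succ' (ζ ^ k)]
    rw [hn, e.symm_apply_apply, e.symm_apply_apply, ← pow_mul, ← Nat.mod_add_div (k * j) q, hkj, pow_add,
      pow_mul, hζ.pow_eq_one, one_pow, mul_one, pow_one]

/-- The Frattini subgroup has order at most `p ^ (a / 2)`, and is trivial for odd `a`. -/
theorem IsSchmidt.card_le (h : IsSchmidt p q P α) (hpq : p ≠ q) {a : ℕ}
    (ha : a = orderOf (p : ZMod q)) (ζ : GaloisField p a) (hζ : IsPrimitiveRoot ζ q) :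
    Nat.card P ≤ p ^ (if a % 2 = 1 then a else 3 * a / 2) := by
  classical
  have ha0 : a ≠ 0 := ha ▸ (orderOf_pos p q hpq).ne'
  obtain ⟨j, π, hj, hπ, hker, hπα⟩ := h.exists_proj hpq ha ζ hζ
  have hs := h.pow hj
  set β := α ^ j with hβ
  obtain ⟨s, hsa, hS⟩ := card_trace_span hpq ha ζ hζ
  set S := AddSubgroup.closure (Set.range fun i : ℕ => ζ ^ i + (ζ ^ i)⁻¹)
  obtain ⟨c, hc⟩ := hπ (Multiplicative.ofAdd 1)
  have hcen : ∀ x y : P, ⁅x, y⁆ ∈ Subgroup.center P := fun x y =>
    hs.frattini_le_center hpq (Grp.pGroup_commutator_le_frattini hs.pgroup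
      (Subgroup.commutator_mem_commutator (Subgroup.mem_top x) (Subgroup.mem_top y)))
  have hcfix : ∀ x y : P, ∀ n : ℕ, (β ^ n) ⁅x, y⁆ = ⁅x, y⁆ := fun x y n =>
    pow_apply_fixed (hs.frattini_fixed _ (Grp.pGroup_commutator_le_frattini hs.pgroup
      (Subgroup.commutator_mem_commutator (Subgroup.mem_top x) (Subgroup.mem_top y)))) n
  let L : P →* P :=
    { toFun := fun x => ⁅x, c⁆
      map_one' := commutatorElement_one_left c
      map_mul' := fun x y => by
        rw [commutatorElement_mul_left_eq_conj_mul, Subgroup.mem_center_iff.mp (hcen y c) x,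
          mul_inv_cancel_right, Subgroup.mem_center_iff.mp (hcen y c)] }
  have hπpow : ∀ (n : ℕ) x, Multiplicative.toAdd (π ((β ^ n) x)) = ζ ^ n * Multiplicative.toAdd (π x) := by
    intro n
    induction n with
    | zero => intro x; simp
    | succ n ih => intro x; rw [pow_succ', MulAut.mul_apply, hπα, ih, pow_succ', mul_assoc]
  have hmod : ∀ n x, (β ^ (n % q)) x = (β ^ n) x := fun n x => by rw [← pow_mod hs.pow_eq]
  -- the preimage of `S` is killed by `L`
  have hSL : S.toSubgroup ≤ L.ker.map π := by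
    intro z hz
    have hz' : Multiplicative.toAdd z ∈ S := hz
    suffices hh : ∀ w ∈ S, Multiplicative.ofAdd w ∈ L.ker.map π from hh _ hz'
    intro w hw
    induction hw using AddSubgroup.closure_induction with
    | zero => exact one_mem _
    | add x y _ _ hx hy => exact mul_mem hx hy
    | neg x _ hx => exact inv_mem hx
    | mem w hw =>
      obtain ⟨i, rfl⟩ := hw
      refine ⟨(β ^ i) c * (β ^ ((q - 1) * i)) c, ?_, ?_⟩
      · rw [SetLike.mem_coe, MonoidHom.mem_ker, map_mul]
        show ⁅(β ^ i) c, c⁆ * ⁅(β ^ ((q - 1) * i)) c, c⁆ = 1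
        have e1 : ⁅(β ^ ((q - 1) * i)) c, c⁆ = ⁅c, (β ^ i) c⁆ := by
          rw [← hcfix ((β ^ ((q - 1) * i)) c) c i, map_commutatorElement, ← MulAut.mul_apply, ← pow_add,
            show i + (q - 1) * i = q * i by
              rw [Nat.sub_mul, one_mul]; have := Nat.le_mul_of_pos_left i hq.out.pos; omega,
            pow_mul, hs.pow_eq, one_pow]
          rfl
        rw [e1, ← commutatorElement_inv c ((β ^ i) c), inv_mul_cancel]
      · show π _ = _
        apply Multiplicative.toAdd.injective
        rw [map_mul, toAdd_mul, hπpow, hπpow, hc]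
        show ζ ^ i * 1 + ζ ^ ((q - 1) * i) * 1 = ζ ^ i + (ζ ^ i)⁻¹
        rw [mul_one, mul_one, add_right_inj]
        refine eq_inv_of_mul_eq_one_left ?_
        rw [← pow_add, show (q - 1) * i + i = q * i by
          rw [Nat.sub_mul, one_mul]; have := Nat.le_mul_of_pos_left i hq.out.pos; omega,
          pow_mul, hζ.pow_eq_one, one_pow]
  have hkerL : π.ker ≤ L.ker := fun x hx => by
    rw [hker] at hx
    exact commutatorElement_eq_one_iff_mul_comm.mpr
      (Subgroup.mem_center_iff.mp (h.frattini_le_center hpq hx) c).symm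
  have hindex : L.ker.index * p ^ s ≤ p ^ a := by
    have h1 : (L.ker.map π).index = L.ker.index :=
      Subgroup.index_map_eq _ hπ hkerL
    have h2 := (L.ker.map π).card_mul_index
    rw [h1, Nat.card_congr Multiplicative.toAdd, GaloisField.card p a ha0] at h2
    rw [← h2, mul_comm]
    refine Nat.mul_le_mul_right _ ?_
    rw [← hS]
    calc Nat.card S = Nat.card S.toSubgroup := Nat.card_congr (Equiv.subtypeEquiv Multiplicative.ofAdd fun _ => Iff.rfl)
      _ ≤ _ := Subgroup.card_le_of_le hSL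
  -- every commutator lies in the range of `L`
  set R := L.range with hR
  have hRc : ∀ x y : P, ⁅x, y⁆ ∈ R := by
    let M : Subgroup P :=
      { carrier := {y | ∀ x, ⁅x, y⁆ ∈ R}
        one_mem' := fun x => by rw [commutatorElement_one_right]; exact one_mem _
        mul_mem' := fun {y z} hy hz x => by
          rw [commutatorElement_mul_right_eq_mul_conj, mul_assoc ⁅x, y⁆, mul_assoc ⁅x, y⁆,
            Subgroup.mem_center_iff.mp (hcen x z) y, mul_inv_cancel_right]
          exact mul_mem (hy x) (hz x)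
        inv_mem' := fun {y} hy x => by
          have h1 : ⁅x, y⁻¹⁆ = ⁅x, y⁆⁻¹ := by
            refine eq_inv_of_mul_eq_one_right ?_
            have h2 : ⁅x, y * y⁻¹⁆ = ⁅x, y⁆ * ⁅x, y⁻¹⁆ := by
              rw [commutatorElement_mul_right_eq_mul_conj, mul_assoc ⁅x, y⁆, mul_assoc ⁅x, y⁆,
                Subgroup.mem_center_iff.mp (hcen x y⁻¹) y, mul_inv_cancel_right]
            rw [← h2, mul_inv_cancel, commutatorElement_one_right]
          rw [h1]
          exact inv_mem (hy x) }
    intro x y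
    suffices hM : M = ⊤ from (show y ∈ M from hM ▸ Subgroup.mem_top y) x
    set U := Subgroup.closure (Set.range fun i : ℕ => (β ^ i) c) ⊔ frattini P with hU
    have hUM : U ≤ M := by
      refine sup_le ((Subgroup.closure_le _).mpr ?_) fun y hy x => ?_
      · rintro _ ⟨i, rfl⟩ x
        obtain ⟨x, rfl⟩ := (β ^ i).surjective x
        rw [← map_commutatorElement, hcfix x c i]
        exact ⟨x, rfl⟩
      · rw [commutatorElement_eq_one_iff_mul_comm.mpr
          (Subgroup.mem_center_iff.mp (h.frattini_le_center hpq hy) x)]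
        exact one_mem _
    refine top_le_iff.mp (le_trans ?_ hUM)
    by_contra hne
    have hUi : ∀ u ∈ U, β u ∈ U := by
      have hle : U ≤ U.comap β.toMonoidHom := by
        refine sup_le ((Subgroup.closure_le _).mpr ?_) fun u hu => ?_
        · rintro _ ⟨i, rfl⟩
          exact Subgroup.mem_sup_left (Subgroup.subset_closure ⟨i + 1, by
            show (β ^ (i + 1)) c = β ((β ^ i) c)
            rw [pow_succ', MulAut.mul_apply]⟩)
        · show β u ∈ U
          rw [hs.frattini_fixed u hu]
          exact Subgroup.mem_sup_right hu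
      exact fun u hu => hle hu
    have h1 := hs.inv_fixed U hUi (fun e => hne e.ge) c (Subgroup.mem_sup_left
      (Subgroup.subset_closure ⟨0, rfl⟩))
    have h2 := hπα c
    rw [h1, hc] at h2
    exact hζ.ne_one hq.out.one_lt (by simpa using h2.symm)
  have hΦR : frattini P ≤ R := by
    haveI hRn : R.Normal := ⟨fun x hx g => by
      obtain ⟨w, rfl⟩ := hx
      rw [show g * L w * g⁻¹ = L w by
        show g * ⁅w, c⁆ * g⁻¹ = ⁅w, c⁆
        rw [Subgroup.mem_center_iff.mp (hcen w c) g, mul_inv_cancel_right]]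
      exact ⟨w, rfl⟩⟩
    letI : CommGroup (P ⧸ R) :=
      { (inferInstance : Group (P ⧸ R)) with
        mul_comm := fun x y => by
          obtain ⟨x, rfl⟩ := QuotientGroup.mk_surjective x
          obtain ⟨y, rfl⟩ := QuotientGroup.mk_surjective y
          rw [← QuotientGroup.mk_mul, ← QuotientGroup.mk_mul, QuotientGroup.eq]
          rw [show (x * y)⁻¹ * (y * x) = ⁅y⁻¹, x⁻¹⁆ by rw [commutatorElement_def]; group]
          exact hRc _ _ }
    let N : P →* P ⧸ R :=
      { toFun := fun x => ∏ i ∈ Finset.range q, (((β ^ i) x : P) : P ⧸ R)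
        map_one' := Finset.prod_eq_one fun i _ => by rw [map_one, QuotientGroup.mk_one]
        map_mul' := fun x y => by
          rw [← Finset.prod_mul_distrib]
          exact Finset.prod_congr rfl fun i _ => by rw [map_mul, QuotientGroup.mk_mul] }
    have hN : N = 1 := by
      refine MonoidHom.eq_of_eqOn_dense (hs.closure_eq_top hpq) ?_
      rintro _ ⟨y, rfl⟩
      show N (y⁻¹ * β y) = 1
      rw [map_mul, map_inv, inv_mul_eq_one]
      show ∏ i ∈ Finset.range q, (((β ^ i) y : P) : P ⧸ R) = ∏ i ∈ Finset.range q, (((β ^ i) (β y) : P) : P ⧸ R)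
      obtain ⟨q', hq'⟩ := Nat.exists_eq_add_of_le' hq.out.one_le
      conv_lhs => rw [hq', Finset.prod_range_succ']
      conv_rhs => rw [hq', Finset.prod_range_succ]
      have e1 : ∀ i : ℕ, (β ^ i) (β y) = (β ^ (i + 1)) y := fun i => by rw [← MulAut.mul_apply, ← pow_succ]
      simp only [e1]
      rw [← hq', hs.pow_eq, pow_zero]
    intro u hu
    have h1 : N u = 1 := by rw [hN]; rfl
    have h2 : (u : P ⧸ R) ^ q = 1 := by
      rw [← h1]
      show _ = ∏ i ∈ Finset.range q, (((β ^ i) u : P) : P ⧸ R)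
      rw [Finset.prod_congr rfl fun i _ => by rw [pow_apply_fixed (hs.frattini_fixed u hu) i],
        Finset.prod_const, Finset.card_range]
    obtain ⟨i, hi⟩ := IsPGroup.iff_orderOf.1 h.pgroup u
    refine (QuotientGroup.eq_one_iff u).mp (orderOf_eq_one_iff.mp (Nat.eq_one_of_dvd_coprimes
      (((Nat.coprime_primes hq.out hp.out).2 hpq.symm).pow_right i) (orderOf_dvd_of_pow_eq_one h2) ?_))
    rw [← hi]
    exact orderOf_map_dvd (QuotientGroup.mk' R) u
  have hcard : Nat.card P = p ^ a * Nat.card ↥(frattini P) := by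
    rw [← hker, ← π.ker.card_mul_index, Subgroup.index_ker, MonoidHom.range_eq_top.mpr hπ,
      Subgroup.card_top, Nat.card_congr Multiplicative.toAdd, GaloisField.card p a ha0, mul_comm]
  have hR' : Nat.card R = L.ker.index := (Subgroup.index_ker L).symm
  have hΦle : Nat.card ↥(frattini P) * p ^ s ≤ p ^ a :=
    (Nat.mul_le_mul_right _ ((Subgroup.card_le_of_le hΦR).trans hR'.le)).trans hindex
  rcases hsa with hsa' | hsa'
  · rw [hsa'] at hΦle
    have h1 : Nat.card ↥(frattini P) ≤ 1 :=
      Nat.le_of_mul_le_mul_right (by rw [one_mul]; exact hΦle) (pow_pos hp.out.pos a)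
    rw [hcard]
    calc p ^ a * Nat.card ↥(frattini P) ≤ p ^ a := by
          conv_rhs => rw [← mul_one (p ^ a)]
          exact Nat.mul_le_mul_left _ h1
      _ ≤ _ := Nat.pow_le_pow_right hp.out.pos (by split_ifs <;> omega)
  · rw [if_neg (by omega), hcard, show 3 * a / 2 = a + s by omega, pow_add]
    refine Nat.mul_le_mul_left _ (Nat.le_of_mul_le_mul_right (c := p ^ s) ?_ (pow_pos hp.out.pos s))
    rw [← pow_add, ← two_mul, hsa']
    exact hΦle

end Cfsg.Agent.Transfer.Schmidt
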