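import Mathlib
import Cfsg.Agent.Lib.Transfer.SchmidtStructure

/-!
The largest `p`-groups with an automorphism of order `q` fixing every proper invariant subgroup.
-/

set_option autoImplicit false
set_option linter.style.haveILetI false
set_option maxHeartbeats 400000

namespace Cfsg.Agent.Transfer.Schmidt

open Subgroup
open scoped commutatorElement

/-- A minimal subgroup with a given property. -/
theorem exists_minimal_subgroup {G : Type*} [Group G] [Finite G] (C : Subgroup G → Prop)
    (h : ∃ M, C M) : ∃ M, C M ∧ ∀ N, C N → N ≤ M → M ≤ N := by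
  haveI : Finite (Subgroup G) := Finite.of_injective (fun K => (K : Set G)) SetLike.coe_injective
  obtain ⟨M, hM⟩ := Set.Finite.exists_minimal (Set.toFinite {M | C M}) h
  exact ⟨M, hM.1, fun N hN hle => hM.2 hN hle⟩

section irred

variable {p q : ℕ} [hp : Fact p.Prime] [hq : Fact q.Prime]

/-- A subgroup of the field stable under the root of unity is trivial or everything. -/
theorem invariant_top (hpq : p ≠ q) {a : ℕ} (ha : a = orderOf (p : ZMod q)) {ζ : GaloisField p a}
    (hζ : IsPrimitiveRoot ζ q) {W : AddSubgroup (GaloisField p a)} (hW : ∀ w ∈ W, ζ * w ∈ W) :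
    W = ⊥ ∨ W = ⊤ := by
  classical
  have ha0 : a ≠ 0 := ha ▸ (orderOf_pos p q hpq).ne'
  refine or_iff_not_imp_left.mpr fun hne => ?_
  letI : Fintype (GaloisField p a) := Fintype.ofFinite _
  let R : Subring (GaloisField p a) :=
    { carrier := {z | ∀ w ∈ W, z * w ∈ W}
      zero_mem' := fun w _ => by rw [zero_mul]; exact W.zero_mem
      one_mem' := fun w hw => by rwa [one_mul]
      add_mem' := fun {x y} hx hy w hw => by rw [add_mul]; exact W.add_mem (hx w hw) (hy w hw)
      neg_mem' := fun {x} hx w hw => by rw [neg_mul]; exact W.neg_mem (hx w hw)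
      mul_mem' := fun {x y} hx hy w hw => by rw [mul_assoc]; exact hx _ (hy w hw) }
  letI : Fintype R := Fintype.ofFinite R
  letI : Field R := Fintype.fieldOfDomain R
  haveI : CharP R p := (RingHom.charP_iff R.subtype Subtype.val_injective p).mpr inferInstance
  obtain ⟨d, -, hd⟩ := FiniteField.card R p
  have had : a ∣ (d : ℕ) := by
    rw [ha, orderOf_dvd_iff_dvd_sub, ← hd]
    have h1 : (⟨ζ, hW⟩ : R) ^ (Fintype.card R - 1) = 1 :=
      FiniteField.pow_card_sub_one_eq_one _ fun e => hζ.ne_zero hq.out.ne_zero (congrArg Subtype.val e)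
    exact hζ.dvd_of_pow_eq_one _ (by simpa using congrArg Subtype.val h1)
  have hRtop : ∀ z, z ∈ R := by
    have hle : Fintype.card (GaloisField p a) ≤ Fintype.card R := by
      rw [hd, ← Nat.card_eq_fintype_card, GaloisField.card p a ha0]
      exact Nat.pow_le_pow_right hp.out.pos (Nat.le_of_dvd d.pos had)
    intro z
    have hbij : Function.Bijective (Subtype.val : R → GaloisField p a) :=
      (Fintype.bijective_iff_injective_and_card _).mpr
        ⟨Subtype.val_injective, le_antisymm (Fintype.card_subtype_le _) hle⟩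
    obtain ⟨r, rfl⟩ := hbij.2 z
    exact r.2
  obtain ⟨w, hw, hw0⟩ : ∃ w ∈ W, w ≠ 0 := by
    by_contra h
    push Not at h
    exact hne ((AddSubgroup.eq_bot_iff_forall _).mpr h)
  refine eq_top_iff.mpr fun z _ => ?_
  have := hRtop (z * w⁻¹) w hw
  rwa [inv_mul_cancel_right₀ hw0] at this

theorem exists_zeta (hpq : p ≠ q) {a : ℕ} (ha : a = orderOf (p : ZMod q)) :
    ∃ ζ : GaloisField p a, IsPrimitiveRoot ζ q := by
  have ha0 : a ≠ 0 := ha ▸ (orderOf_pos p q hpq).ne'
  letI : Fintype (GaloisField p a) := Fintype.ofFinite _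
  have hd : q ∣ Nat.card (GaloisField p a)ˣ := by
    rw [Nat.card_units, GaloisField.card p a ha0, ← orderOf_dvd_iff_dvd_sub]
    exact dvd_of_eq ha.symm
  obtain ⟨u, hu⟩ := exists_prime_orderOf_dvd_card' q hd
  exact ⟨u, by rw [← hu, ← orderOf_units]; exact IsPrimitiveRoot.orderOf _⟩

end irred

/-! ### The unitary group of order `p ^ (3 a / 2)` -/

section heis

variable {K : Type*} [CommRing K] (σ : K →+* K) (hσ : ∀ z, σ (σ z) = z)

/-- Pairs `(x, z)` with `z + σ z + x σ x = 0`. -/
@[ext]
structure Heis where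
  fst : K
  snd : K
  rel : snd + σ snd + fst * σ fst = 0

include hσ in
theorem heis_mul_rel (u v : Heis σ) :
    (u.snd + v.snd - u.fst * σ v.fst) + σ (u.snd + v.snd - u.fst * σ v.fst) +
      (u.fst + v.fst) * σ (u.fst + v.fst) = 0 := by
  rw [map_sub, map_add, map_mul, hσ, map_add]
  linear_combination u.rel + v.rel

/-- The group of pairs. -/
@[reducible]
def heisGroup : Group (Heis σ) where
  mul u v := ⟨u.fst + v.fst, u.snd + v.snd - u.fst * σ v.fst, heis_mul_rel σ hσ u v⟩
  one := ⟨0, 0, by simp⟩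
  inv u := ⟨-u.fst, σ u.snd, by rw [hσ, map_neg]; linear_combination u.rel⟩
  mul_assoc u v w := Heis.ext (add_assoc u.fst v.fst w.fst) (by
    show u.snd + v.snd - u.fst * σ v.fst + w.snd - (u.fst + v.fst) * σ w.fst =
      u.snd + (v.snd + w.snd - v.fst * σ w.fst) - u.fst * σ (v.fst + w.fst)
    rw [map_add]; ring)
  one_mul u := Heis.ext (zero_add u.fst) (by show 0 + u.snd - 0 * σ u.fst = u.snd; ring)
  mul_one u := Heis.ext (add_zero u.fst) (by show u.snd + 0 - u.fst * σ 0 = u.snd; rw [map_zero]; ring)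
  inv_mul_cancel u := Heis.ext (neg_add_cancel u.fst) (by
    show σ u.snd + u.snd - (-u.fst) * σ u.fst = 0
    linear_combination u.rel)

end heis

section models

variable {p q : ℕ} [hp : Fact p.Prime] [hq : Fact q.Prime]

/-- What the universal `p`-group provides. -/
def IsModel (p q : ℕ) [Fact p.Prime] {a : ℕ} (ζ : GaloisField p a) (P : Type) [Group P] (α : MulAut P)
    (π : P →* Multiplicative (GaloisField p a)) : Prop :=
  Nat.card P = p ^ (if a % 2 = 1 then a else 3 * a / 2) ∧ IsSchmidt p q P α ∧ Function.Surjective π ∧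
    (∀ x, Multiplicative.toAdd (π (α x)) = ζ * Multiplicative.toAdd (π x)) ∧
    ∀ x ∈ π.ker, x ∈ Subgroup.center P ∧ α x = x

omit hp in
theorem exists_model_odd [Fact p.Prime] (hpq : p ≠ q) {a : ℕ} (ha : a = orderOf (p : ZMod q))
    (hodd : a % 2 = 1) {ζ : GaloisField p a} (hζ : IsPrimitiveRoot ζ q) :
    ∃ (P : Type) (_ : Group P) (_ : Finite P) (α : MulAut P) (π : P →* Multiplicative (GaloisField p a)),
      IsModel p q ζ P α π := by
  have ha0 : a ≠ 0 := by omega
  have hζ0 : ζ ≠ 0 := hζ.ne_zero hq.out.ne_zero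
  let α : MulAut (Multiplicative (GaloisField p a)) :=
    { toFun := fun x => Multiplicative.ofAdd (ζ * Multiplicative.toAdd x)
      invFun := fun x => Multiplicative.ofAdd (ζ⁻¹ * Multiplicative.toAdd x)
      left_inv := fun x => by
        show Multiplicative.ofAdd (ζ⁻¹ * (ζ * Multiplicative.toAdd x)) = x
        rw [inv_mul_cancel_left₀ hζ0]; rfl
      right_inv := fun x => by
        show Multiplicative.ofAdd (ζ * (ζ⁻¹ * Multiplicative.toAdd x)) = x
        rw [mul_inv_cancel_left₀ hζ0]; rfl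
      map_mul' := fun x y => congrArg Multiplicative.ofAdd (mul_add ζ _ _) }
  have hpow : ∀ (n : ℕ) x, (α ^ n) x = Multiplicative.ofAdd (ζ ^ n * Multiplicative.toAdd x) := by
    intro n
    induction n with
    | zero => intro x; simp
    | succ n ih => intro x; rw [pow_succ', MulAut.mul_apply, ih, pow_succ', mul_assoc]; rfl
  refine ⟨_, inferInstance, inferInstance, α, MonoidHom.id _, ?_, ⟨?_, ?_, ?_, ?_⟩,
    Function.surjective_id, fun x => rfl, fun x hx => ?_⟩
  · rw [if_pos hodd, Nat.card_congr Multiplicative.toAdd, GaloisField.card p a ha0]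
  · exact IsPGroup.of_card (n := a) (by rw [Nat.card_congr Multiplicative.toAdd, GaloisField.card p a ha0])
  · refine MulEquiv.ext fun x => ?_
    rw [hpow, hζ.pow_eq_one, one_mul]
    rfl
  · intro e
    have h1 : ζ * 1 = 1 := congrArg Multiplicative.toAdd (DFunLike.congr_fun e (Multiplicative.ofAdd 1))
    rw [mul_one] at h1
    exact hζ.ne_one hq.out.one_lt h1
  · intro U hU hne u hu
    rcases invariant_top hpq ha hζ (W := Subgroup.toAddSubgroup' U) (fun w hw => hU _ hw) with h | h
    · have h1 : Multiplicative.toAdd u = 0 :=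
        (AddSubgroup.eq_bot_iff_forall _).mp h _ (show Multiplicative.toAdd u ∈ U.toAddSubgroup' from hu)
      rw [show u = 1 from h1, map_one]
    · exact absurd (eq_top_iff.mpr fun x _ =>
        (show Multiplicative.toAdd x ∈ U.toAddSubgroup' from h.ge (AddSubgroup.mem_top _))) hne
  · rw [MonoidHom.mem_ker, MonoidHom.id_apply] at hx
    rw [hx]
    exact ⟨one_mem _, map_one α⟩

theorem exists_model_even (hpq : p ≠ q) {a : ℕ} (ha : a = orderOf (p : ZMod q))
    (heven : a % 2 = 0) {ζ : GaloisField p a} (hζ : IsPrimitiveRoot ζ q) :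
    ∃ (P : Type) (_ : Group P) (_ : Finite P) (α : MulAut P) (π : P →* Multiplicative (GaloisField p a)),
      IsModel p q ζ P α π := by
  classical
  have ha0 : 0 < a := ha ▸ orderOf_pos p q hpq
  set h := a / 2 with hh
  have h2 : h + h = a := by omega
  have hh0 : h ≠ 0 := by omega
  letI : Fintype (GaloisField p a) := Fintype.ofFinite _
  have hcK : Fintype.card (GaloisField p a) = p ^ a := by
    rw [← Nat.card_eq_fintype_card, GaloisField.card p a ha0.ne']
  let σ : GaloisField p a →+* GaloisField p a := iterateFrobenius (GaloisField p a) p h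
  have hσdef : ∀ z, σ z = z ^ p ^ h := fun z => iterateFrobenius_def p h z
  have hσ : ∀ z, σ (σ z) = z := fun z => by
    rw [hσdef, hσdef, ← pow_mul, ← pow_add, h2, ← hcK, FiniteField.pow_card]
  have hζ0 : ζ ≠ 0 := hζ.ne_zero hq.out.ne_zero
  have hσζ : σ ζ = ζ⁻¹ := by
    have hq2 : ((p : ZMod q) ^ h) ^ 2 = 1 := by
      rw [← pow_mul, show h * 2 = a by omega, ha, pow_orderOf_eq_one]
    rcases sq_eq_one_iff.mp hq2 with h1 | h1
    · exact absurd (orderOf_dvd_of_pow_eq_one h1) fun hd => by
        have := Nat.le_of_dvd (by omega) hd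
        rw [← ha] at this
        omega
    · have hd : q ∣ p ^ h + 1 := by
        rw [← ZMod.natCast_eq_zero_iff]
        push_cast
        rw [h1]; ring
      rw [hσdef]
      refine eq_inv_of_mul_eq_one_left ?_
      rw [← pow_succ]
      exact (hζ.pow_eq_one_iff_dvd _).mpr hd
  -- sizes of the fixed elements and of the kernel of the trace
  let tr : GaloisField p a →+ GaloisField p a := AddMonoidHom.id _ + σ.toAddMonoidHom
  let df : GaloisField p a →+ GaloisField p a := σ.toAddMonoidHom - AddMonoidHom.id _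
  have htr : ∀ z, tr z = z + σ z := fun z => rfl
  have hdf : ∀ z, df z = σ z - z := fun z => rfl
  have hbound : ∀ c : GaloisField p a, ∀ S : AddSubgroup (GaloisField p a),
      (∀ z ∈ S, z ^ p ^ h + c * z = 0) → Nat.card S ≤ p ^ h := by
    intro c S hS
    have h1 : 1 < p ^ h := Nat.one_lt_pow hh0 hp.out.one_lt
    set f : Polynomial (GaloisField p a) := Polynomial.X ^ p ^ h + Polynomial.C c * Polynomial.X with hf
    have hfd : f.natDegree = p ^ h := by
      rw [hf]
      refine (Polynomial.natDegree_add_eq_left_of_natDegree_lt ?_).trans (Polynomial.natDegree_X_pow _)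
      rw [Polynomial.natDegree_X_pow]
      exact lt_of_le_of_lt ((Polynomial.natDegree_C_mul_le _ _).trans Polynomial.natDegree_X_le) h1
    have hf0 : f ≠ 0 := fun e => by rw [e, Polynomial.natDegree_zero] at hfd; omega
    have hsub : (Finset.univ.filter fun z => z ∈ S) ⊆ f.roots.toFinset := by
      intro z hz
      rw [Finset.mem_filter] at hz
      rw [Multiset.mem_toFinset, Polynomial.mem_roots hf0]
      simp [Polynomial.IsRoot, hf, hS z hz.2]
    calc Nat.card S = (Finset.univ.filter fun z => z ∈ S).card := by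
          rw [Nat.card_eq_fintype_card, Fintype.card_subtype]
      _ ≤ _ := Finset.card_le_card hsub
      _ ≤ _ := Multiset.toFinset_card_le _
      _ ≤ _ := Polynomial.card_roots' _
      _ = p ^ h := hfd
  have hkt : Nat.card tr.ker ≤ p ^ h := hbound 1 _ fun z hz => by
    have := AddMonoidHom.mem_ker.mp hz
    rw [htr, hσdef] at this
    rw [one_mul, add_comm]; exact this
  have hkd : Nat.card df.ker ≤ p ^ h := hbound (-1) _ fun z hz => by
    have := AddMonoidHom.mem_ker.mp hz
    rw [hdf, hσdef] at this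
    linear_combination this
  have hrt : tr.range ≤ df.ker := by
    rintro _ ⟨z, rfl⟩
    rw [AddMonoidHom.mem_ker, hdf, htr, map_add, hσ]
    ring
  have hrd : df.range ≤ tr.ker := by
    rintro _ ⟨z, rfl⟩
    rw [AddMonoidHom.mem_ker, htr, hdf, map_sub, hσ]
    ring
  have hprod : ∀ f : GaloisField p a →+ GaloisField p a, Nat.card f.ker * Nat.card f.range = p ^ h * p ^ h :=
    fun f => by
    rw [← Nat.card_congr (QuotientAddGroup.quotientKerEquivRange f).toEquiv, mul_comm,
      ← AddSubgroup.card_eq_card_quotient_mul_card_addSubgroup, ← pow_add, h2, GaloisField.card p a ha0.ne']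
  have hp1 := hprod tr
  have hp2 := hprod df
  have hrt' := (AddSubgroup.card_le_of_le hrt).trans hkd
  have hrd' := (AddSubgroup.card_le_of_le hrd).trans hkt
  have hph : 0 < p ^ h := pow_pos hp.out.pos h
  have ekt : Nat.card tr.ker = p ^ h := by
    refine le_antisymm hkt ?_
    have : p ^ h * p ^ h ≤ Nat.card tr.ker * p ^ h := hp1 ▸ Nat.mul_le_mul_left _ hrt'
    exact Nat.le_of_mul_le_mul_right this hph
  have ekd : Nat.card df.ker = p ^ h := by
    refine le_antisymm hkd ?_
    have : p ^ h * p ^ h ≤ Nat.card df.ker * p ^ h := hp2 ▸ Nat.mul_le_mul_left _ hrd'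
    exact Nat.le_of_mul_le_mul_right this hph
  have hsur : tr.range = df.ker := AddSubgroup.eq_of_le_of_card_ge hrt (by
    rw [ekd]; rw [ekt] at hp1; exact (Nat.eq_of_mul_eq_mul_left hph hp1).ge)
  have hsud : df.range = tr.ker := AddSubgroup.eq_of_le_of_card_ge hrd (by
    rw [ekt]; rw [ekd] at hp2; exact (Nat.eq_of_mul_eq_mul_left hph hp2).ge)
  -- the group
  letI : Group (Heis σ) := heisGroup σ hσ
  haveI : Finite (Heis σ) := Finite.of_injective (fun u => (u.fst, u.snd)) fun u v e =>
    Heis.ext (congrArg Prod.fst e) (congrArg Prod.snd e)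
  have hmul : ∀ u v : Heis σ, (u * v).fst = u.fst + v.fst ∧ (u * v).snd = u.snd + v.snd - u.fst * σ v.fst :=
    fun u v => ⟨rfl, rfl⟩
  let π : Heis σ →* Multiplicative (GaloisField p a) :=
    { toFun := fun u => Multiplicative.ofAdd u.fst
      map_one' := rfl
      map_mul' := fun u v => rfl }
  have hπ : Function.Surjective π := fun x => by
    have hx : -(Multiplicative.toAdd x * σ (Multiplicative.toAdd x)) ∈ df.ker := by
      rw [AddMonoidHom.mem_ker, hdf, map_neg, map_mul, hσ]; ring
    obtain ⟨z, hz⟩ := hsur.ge hx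
    exact ⟨⟨Multiplicative.toAdd x, z, by rw [← htr, hz]; ring⟩, rfl⟩
  have hker : ∀ u : Heis σ, u ∈ π.ker ↔ u.fst = 0 := fun u => MonoidHom.mem_ker.trans
    ⟨fun e => congrArg Multiplicative.toAdd e, fun e => congrArg Multiplicative.ofAdd e⟩
  have hcardker : Nat.card π.ker = p ^ h := by
    rw [← ekt]
    refine Nat.card_congr
      { toFun := fun u => ⟨(u : Heis σ).snd, AddMonoidHom.mem_ker.mpr (by
          have := (u : Heis σ).rel
          rw [(hker _).mp u.2, zero_mul, add_zero] at this
          exact this)⟩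
        invFun := fun z => ⟨⟨0, z, by
          rw [zero_mul, add_zero]; exact AddMonoidHom.mem_ker.mp z.2⟩, (hker _).mpr rfl⟩
        left_inv := fun u => Subtype.ext (Heis.ext ((hker _).mp u.2).symm rfl)
        right_inv := fun z => rfl }
  have hcard : Nat.card (Heis σ) = p ^ (3 * a / 2) := by
    rw [← π.ker.card_mul_index, Subgroup.index_ker, MonoidHom.range_eq_top.mpr hπ, Subgroup.card_top,
      Nat.card_congr Multiplicative.toAdd, GaloisField.card p a ha0.ne', hcardker, ← pow_add,
      show 3 * a / 2 = h + a by omega]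
  let α : MulAut (Heis σ) :=
    { toFun := fun u => ⟨ζ * u.fst, u.snd, by
        rw [map_mul, hσζ]
        have := u.rel
        field_simp
        linear_combination this⟩
      invFun := fun u => ⟨ζ⁻¹ * u.fst, u.snd, by
        rw [map_mul, map_inv₀, hσζ, inv_inv]
        have := u.rel
        field_simp
        linear_combination this⟩
      left_inv := fun u => Heis.ext (inv_mul_cancel_left₀ hζ0 _) rfl
      right_inv := fun u => Heis.ext (mul_inv_cancel_left₀ hζ0 _) rfl
      map_mul' := fun u v => Heis.ext (mul_add ζ u.fst v.fst) (by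
        show u.snd + v.snd - u.fst * σ v.fst = u.snd + v.snd - ζ * u.fst * σ (ζ * v.fst)
        rw [map_mul, hσζ]; field_simp) }
  have hπα : ∀ x, Multiplicative.toAdd (π (α x)) = ζ * Multiplicative.toAdd (π x) := fun x => rfl
  have hkf : ∀ x ∈ π.ker, α x = x := fun x hx => Heis.ext (by
    show ζ * x.fst = x.fst
    rw [(hker _).mp hx, mul_zero]) rfl
  have hpow : ∀ (n : ℕ) (u : Heis σ), ((α ^ n) u).fst = ζ ^ n * u.fst ∧ ((α ^ n) u).snd = u.snd := by
    intro n
    induction n with
    | zero => intro u; simp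
    | succ n ih =>
      intro u
      rw [pow_succ', MulAut.mul_apply]
      exact ⟨by show ζ * ((α ^ n) u).fst = _; rw [(ih u).1, pow_succ', mul_assoc], (ih u).2⟩
  refine ⟨Heis σ, inferInstance, inferInstance, α, π, by rw [if_neg (by omega), hcard],
    ⟨IsPGroup.of_card hcard, ?_, ?_, ?_⟩, hπ, hπα, fun x hx => ⟨?_, hkf x hx⟩⟩
  · refine MulEquiv.ext fun u => Heis.ext ?_ (hpow q u).2
    rw [(hpow q u).1, hζ.pow_eq_one, one_mul]
    rfl
  · intro e
    obtain ⟨u, hu⟩ := hπ (Multiplicative.ofAdd 1)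
    have h1 := hπα u
    rw [e, MulAut.one_apply, hu] at h1
    exact hζ.ne_one hq.out.one_lt (by simpa using h1.symm)
  · intro U hU hne u hu
    let W : AddSubgroup (GaloisField p a) := Subgroup.toAddSubgroup' (U.map π)
    rcases invariant_top hpq ha hζ (W := W) (by
        rintro w ⟨v, hv, hvw⟩
        refine ⟨α v, hU v hv, ?_⟩
        show π (α v) = Multiplicative.ofAdd (ζ * w)
        rw [← ofAdd_toAdd (π (α v)), hπα, hvw]
        rfl) with hW | hW
    · refine hkf u (MonoidHom.mem_ker.mpr ?_)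
      exact Multiplicative.toAdd.injective ((AddSubgroup.eq_bot_iff_forall _).mp hW (Multiplicative.toAdd (π u))
        ⟨u, hu, rfl⟩)
    · exfalso
      refine hne (eq_top_iff.mpr fun v _ => ?_)
      have hget : ∀ x : GaloisField p a, ∃ w ∈ U, w.fst = x := fun x => by
        obtain ⟨w, hw, e⟩ := hW.ge (AddSubgroup.mem_top x)
        exact ⟨w, hw, congrArg Multiplicative.toAdd e⟩
      have hZU : π.ker ≤ U := by
        intro z hz
        have hzt : z.snd ∈ tr.ker := by
          have := z.rel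
          rw [(hker _).mp hz, zero_mul, add_zero] at this
          exact AddMonoidHom.mem_ker.mpr this
        obtain ⟨x, hx⟩ := hsud.ge hzt
        obtain ⟨w, hw, hwx⟩ := hget x
        obtain ⟨o, ho, ho1⟩ := hget 1
        have : z = (o * w)⁻¹ * (w * o) := by
          refine eq_inv_mul_iff_mul_eq.mpr (Heis.ext ?_ ?_)
          · rw [(hmul (o * w) z).1, (hker _).mp hz, (hmul o w).1, (hmul w o).1]; ring
          · rw [(hmul (o * w) z).2, (hker _).mp hz, map_zero, (hmul o w).2, (hmul w o).2, ho1, hwx,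
              ← hx, hdf, map_one]
            ring
        rw [this]
        exact U.mul_mem (U.inv_mem (U.mul_mem ho hw)) (U.mul_mem hw ho)
      obtain ⟨w, hw, hwx⟩ := hget v.fst
      have hk : w⁻¹ * v ∈ π.ker := by
        rw [MonoidHom.mem_ker, map_mul, map_inv, inv_mul_eq_one]
        exact congrArg Multiplicative.ofAdd hwx
      have := U.mul_mem hw (hZU hk)
      rwa [mul_inv_cancel_left] at this
  · refine Subgroup.mem_center_iff.mpr fun v => Heis.ext ?_ ?_
    · rw [(hmul v x).1, (hmul x v).1, add_comm]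
    · rw [(hmul v x).2, (hmul x v).2, (hker _).mp hx, map_zero]; ring

theorem exists_model (hpq : p ≠ q) {a : ℕ} (ha : a = orderOf (p : ZMod q)) {ζ : GaloisField p a}
    (hζ : IsPrimitiveRoot ζ q) :
    ∃ (P : Type) (_ : Group P) (_ : Finite P) (α : MulAut P) (π : P →* Multiplicative (GaloisField p a)),
      IsModel p q ζ P α π := by
  rcases Nat.mod_two_eq_zero_or_one a with h | h
  · exact exists_model_even hpq ha h hζ
  · exact exists_model_odd hpq ha h hζ

/-- The model maps onto every group with such an automorphism. -/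
theorem exists_universal (hpq : p ≠ q) {a : ℕ} (ha : a = orderOf (p : ZMod q)) {ζ : GaloisField p a}
    (hζ : IsPrimitiveRoot ζ q) {P₀ : Type} [Group P₀] [Finite P₀] {α₀ : MulAut P₀}
    {π₀ : P₀ →* Multiplicative (GaloisField p a)} (hM : IsModel p q ζ P₀ α₀ π₀)
    {P : Type*} [Group P] [Finite P] {α : MulAut P} (h : IsSchmidt p q P α) :
    ∃ (j : ℕ) (φ : P₀ →* P), j.Coprime q ∧ Function.Surjective φ ∧ (∀ u, φ (α₀ u) = (α ^ j) (φ u)) ∧
      φ.ker ≤ π₀.ker := by
  classical
  obtain ⟨hcard, hs₀, hπ₀, hπα₀, hker₀⟩ := hM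
  obtain ⟨j, π, hj, hπ, hker, hπα⟩ := h.exists_proj hpq ha ζ hζ
  have hs := h.pow hj
  set β := α ^ j with hβ
  let η : MulAut (P₀ × P) := MulEquiv.prodCongr α₀ β
  let F : P₀ × P →* Multiplicative (GaloisField p a) := π₀.comp (MonoidHom.fst P₀ P)
  let F' : P₀ × P →* Multiplicative (GaloisField p a) := π.comp (MonoidHom.snd P₀ P)
  let L : Subgroup (P₀ × P) := MonoidHom.eqLocus F F'
  have hηF : ∀ x, Multiplicative.toAdd (F (η x)) = ζ * Multiplicative.toAdd (F x) := fun x => hπα₀ x.1
  have hLi : ∀ x ∈ L, η x ∈ L := fun x hx => by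
    show F (η x) = F' (η x)
    apply Multiplicative.toAdd.injective
    rw [hηF]
    show _ = Multiplicative.toAdd (π (β x.2))
    rw [hπα]
    exact congrArg (fun z => ζ * Multiplicative.toAdd z) hx
  have hLF : L.map F = ⊤ := by
    refine eq_top_iff.mpr fun z _ => ?_
    obtain ⟨u, hu⟩ := hπ₀ z
    obtain ⟨x, hx⟩ := hπ z
    exact ⟨(u, x), show π₀ u = π x by rw [hu, hx], hu⟩
  obtain ⟨L₁, ⟨hL₁L, hL₁i, hL₁F⟩, hmin⟩ := exists_minimal_subgroup
    (fun M : Subgroup (P₀ × P) => M ≤ L ∧ (∀ x ∈ M, η x ∈ M) ∧ M.map F = ⊤) ⟨L, le_rfl, hLi, hLF⟩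
  -- the restriction
  have hηpow : ∀ (n : ℕ) (x : P₀ × P), (η ^ n) x = ((α₀ ^ n) x.1, (β ^ n) x.2) := by
    intro n
    induction n with
    | zero => intro x; rfl
    | succ n ih => intro x; rw [pow_succ', MulAut.mul_apply, ih, pow_succ' α₀, pow_succ' β]; rfl
  have hηq : η ^ q = 1 := MulEquiv.ext fun x => by
    rw [hηpow, hs₀.pow_eq, hs.pow_eq]; rfl
  have hinv' : ∀ x ∈ L₁, η.symm x ∈ L₁ := fun x hx => by
    have h1 : η ((η ^ (q - 1)) x) = x := by
      rw [← MulAut.mul_apply, ← pow_succ', Nat.sub_add_cancel hq.out.one_le, hηq]; rfl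
    have h2 := pow_apply_mem hL₁i (q - 1) x hx
    rwa [show η.symm x = (η ^ (q - 1)) x from η.injective (by rw [h1, η.apply_symm_apply])]
  let γ : MulAut L₁ :=
    { toFun := fun x => ⟨η x, hL₁i _ x.2⟩
      invFun := fun x => ⟨η.symm x, hinv' _ x.2⟩
      left_inv := fun x => Subtype.ext (η.symm_apply_apply _)
      right_inv := fun x => Subtype.ext (η.apply_symm_apply _)
      map_mul' := fun x y => Subtype.ext (map_mul η _ _) }
  have hγpow : ∀ (n : ℕ) (x : L₁), (((γ ^ n) x : L₁) : P₀ × P) = (η ^ n) x := by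
    intro n
    induction n with
    | zero => intro x; rfl
    | succ n ih =>
      intro x
      rw [pow_succ', pow_succ', MulAut.mul_apply, MulAut.mul_apply, ← ih]
      rfl
  have hsL : IsSchmidt p q L₁ γ := by
    refine ⟨?_, MulEquiv.ext fun x => Subtype.ext (by rw [hγpow, hηq]; rfl), fun e => ?_, ?_⟩
    · obtain ⟨m, hm⟩ := IsPGroup.iff_card.mp hs₀.pgroup
      obtain ⟨n, hn⟩ := IsPGroup.iff_card.mp hs.pgroup
      exact (IsPGroup.of_card (n := m + n) (by rw [Nat.card_prod, hm, hn, pow_add])).to_subgroup L₁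
    · obtain ⟨x, hx, hxF⟩ := hL₁F.ge (Subgroup.mem_top (Multiplicative.ofAdd (1 : GaloisField p a)))
      have h1 : η x = x := congrArg Subtype.val (DFunLike.congr_fun e ⟨x, hx⟩)
      have h2 := hηF x
      rw [h1, hxF] at h2
      exact hζ.ne_one hq.out.one_lt (by simpa using h2.symm)
    · intro U hU hne u hu
      let U' : Subgroup (P₀ × P) := U.map L₁.subtype
      have hU'i : ∀ x ∈ U', η x ∈ U' := by
        rintro _ ⟨x, hx, rfl⟩; exact ⟨γ x, hU x hx, rfl⟩
      have hU'L : U' ≤ L₁ := Subgroup.map_subtype_le U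
      have hW : U'.map F ≠ ⊤ := fun e => hne (by
        have h1 := le_antisymm hU'L (hmin U' ⟨hU'L.trans hL₁L, hU'i, e⟩ hU'L)
        exact Subgroup.map_injective L₁.subtype_injective (h1.trans (by
          rw [← MonoidHom.range_eq_map, Subgroup.range_subtype])))
      have hF1 : F (u : P₀ × P) = 1 := by
        have hpre : ∀ v ∈ (U'.map F).comap π₀, α₀ v ∈ (U'.map F).comap π₀ := by
          rintro v ⟨x, hx, e⟩
          refine ⟨η x, hU'i x hx, Multiplicative.toAdd.injective ?_⟩
          rw [hηF, e, hπα₀]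
        have hne' : (U'.map F).comap π₀ ≠ ⊤ := fun e => hW (eq_top_iff.mpr fun z _ => by
          obtain ⟨v, rfl⟩ := hπ₀ z
          exact (show v ∈ (U'.map F).comap π₀ from e ▸ Subgroup.mem_top v))
        have h1 := hπα₀ (u : P₀ × P).1
        have hfx : α₀ (u : P₀ × P).1 = (u : P₀ × P).1 :=
          hs₀.inv_fixed _ hpre hne' _ ⟨(u : P₀ × P), ⟨u, hu, rfl⟩, rfl⟩
        rw [hfx] at h1
        refine Multiplicative.toAdd.injective ?_
        show Multiplicative.toAdd (π₀ (u : P₀ × P).1) = 0
        by_contra h0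
        exact hζ.ne_one hq.out.one_lt ((mul_eq_right₀ h0).mp h1.symm)
      refine Subtype.ext (Prod.ext (hker₀ _ hF1).2 (hs.frattini_fixed _ ?_))
      rw [← hker, MonoidHom.mem_ker]
      exact (show F (u : P₀ × P) = F' (u : P₀ × P) from hL₁L u.2).symm.trans hF1
  have hle : Nat.card L₁ ≤ Nat.card P₀ := (hsL.card_le hpq ha ζ hζ).trans hcard.ge
  let f₁ : L₁ →* P₀ := (MonoidHom.fst P₀ P).comp L₁.subtype
  let f₂ : L₁ →* P := (MonoidHom.snd P₀ P).comp L₁.subtype
  have hf₁ : Function.Surjective f₁ := by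
    rw [← MonoidHom.range_eq_top]
    by_contra hne
    obtain ⟨x, hx, hxF⟩ := hL₁F.ge (Subgroup.mem_top (Multiplicative.ofAdd (1 : GaloisField p a)))
    have h1 := hs₀.inv_fixed f₁.range (by rintro _ ⟨w, rfl⟩; exact ⟨γ w, rfl⟩) hne x.1 ⟨⟨x, hx⟩, rfl⟩
    have h2 := hπα₀ x.1
    rw [h1, show π₀ x.1 = Multiplicative.ofAdd (1 : GaloisField p a) from hxF] at h2
    exact hζ.ne_one hq.out.one_lt (by simpa using h2.symm)
  have hf₂ : Function.Surjective f₂ := by
    rw [← MonoidHom.range_eq_top]
    by_contra hne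
    obtain ⟨x, hx, hxF⟩ := hL₁F.ge (Subgroup.mem_top (Multiplicative.ofAdd (1 : GaloisField p a)))
    have h1 := hs.inv_fixed f₂.range (by rintro _ ⟨w, rfl⟩; exact ⟨γ w, rfl⟩) hne x.2 ⟨⟨x, hx⟩, rfl⟩
    have h2 := hπα x.2
    rw [h1, show π x.2 = Multiplicative.ofAdd (1 : GaloisField p a) from
      (show F x = F' x from hL₁L hx).symm.trans hxF] at h2
    exact hζ.ne_one hq.out.one_lt (by simpa using h2.symm)
  have hb : Function.Bijective f₁ :=
    hf₁.bijective_of_nat_card_le hle
  let e := MulEquiv.ofBijective f₁ hb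
  refine ⟨j, f₂.comp e.symm.toMonoidHom, hj, hf₂.comp e.symm.surjective, fun u => ?_, fun u hu => ?_⟩
  · obtain ⟨w, rfl⟩ := e.surjective u
    show f₂ (e.symm (α₀ (e w))) = β (f₂ (e.symm (e w)))
    rw [show α₀ (e w) = e (γ w) from rfl, e.symm_apply_apply, e.symm_apply_apply]
    rfl
  · obtain ⟨w, rfl⟩ := e.surjective u
    rw [MonoidHom.mem_ker] at hu ⊢
    change f₂ (e.symm (e w)) = 1 at hu
    rw [e.symm_apply_apply] at hu
    show F (w : P₀ × P) = 1
    rw [show F (w : P₀ × P) = F' (w : P₀ × P) from hL₁L w.2]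
    show π (f₂ w) = 1
    rw [hu, map_one]

end models

end Cfsg.Agent.Transfer.Schmidt
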