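import Cfsg.Agent.Lib.Transfer.OffenderFailure
import Cfsg.Agent.Lib.Transfer.Local.PLengthKey
import Cfsg.Agent.Lib.Grp.CoprimeAbelian
import Cfsg.Agent.Lib.Grp.Frattini
import Cfsg.Agent.Lib.Grp.TwoClassCore
import Cfsg.Agent.Lib.Block.TISylow
import Cfsg.Agent.Lib.Fus.ResidualSeries
import Cfsg.Agent.Lib.Invol.CharP

/-!
`p`-solvable groups whose Sylow `p`-subgroups are of class two with `[a, T] = T'` for every `a ∉ Z(T)`
have `p`-length one, outside two small exceptions.
-/

set_option autoImplicit false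
set_option maxHeartbeats 1000000
set_option linter.unusedSectionVars false
set_option linter.style.haveILetI false

namespace Cfsg.Agent.Transfer.SemiExtraLength

open Subgroup
open scoped commutatorElement IsMulCommutative Pointwise

universe u

variable {p : ℕ} [hp : Fact p.Prime]

theorem psolvable_pGroup {K : Type u} [Group K] [Finite K] (h : IsPGroup p K) : Cfsg.IsPSolvable p K := by
  obtain ⟨k, hk⟩ := IsPGroup.iff_card.1 h
  refine ⟨1, ![⊥, ⊤], rfl, rfl, Fin.monotone_iff_le_succ.2 fun i => ?_, fun i => ?_, fun i => Or.inl ⟨k, ?_⟩⟩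
  · fin_cases i; exact bot_le
  · fin_cases i
    · exact (inferInstance : (⊥ : Subgroup K).Normal)
    · exact (inferInstance : (⊤ : Subgroup K).Normal)
  · fin_cases i
    show (⊥ : Subgroup K).relIndex ⊤ = p ^ k
    rw [Subgroup.relIndex_bot_left, Subgroup.card_top, hk]

/-- The properties of the Sylow subgroup which are used. -/
def Good (p : ℕ) (T : Type*) [Group T] : Prop :=
  (∀ a b : T, ⁅a, b⁆ ∈ center T) ∧ (∀ a : T, a ^ p ∈ center T) ∧
    (∀ a : T, a ∉ center T → ∀ c ∈ commutator T, ∃ b : T, ⁅a, b⁆ = c) ∧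
    ((center T).index = p ^ 2 → p ≠ 3 ∧ (p = 2 → ∃ σ : T ≃* T, ∀ a : T, a ∉ center T → σ a * a⁻¹ ∉ center T))

theorem exists_pow_of_mem {M : Type u} [Group M] [Finite M] {x z : M} (h : z ∈ zpowers x) :
    ∃ n : ℕ, x ^ n = z :=
  (isOfFinOrder_of_finite x).mem_powers_iff_mem_zpowers.2 h

section Norm

variable {V H : Type u} [CommGroup V] [Finite V] [Group H] [Finite H] [MulDistribMulAction H V]

/-- `[V, B]`. -/
def moved (B : Subgroup H) : Subgroup V := closure {w | ∃ b ∈ B, ∃ v : V, b • v * v⁻¹ = w}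

/-- `C_V(B)`. -/
def fixedBy (B : Subgroup H) : Subgroup V where
  carrier := {v | ∀ b ∈ B, b • v = v}
  one_mem' := fun b _ => smul_one b
  mul_mem' := fun {a c} ha hc b hb => by rw [smul_mul', ha b hb, hc b hb]
  inv_mem' := fun {a} ha b hb => by rw [smul_inv', ha b hb]

theorem mem_moved {B : Subgroup H} {b : H} (hb : b ∈ B) (v : V) : b • v * v⁻¹ ∈ moved (V := V) B :=
  subset_closure ⟨b, hb, v, rfl⟩

theorem moved_le_iff {B : Subgroup H} {W : Subgroup V} :
    moved B ≤ W ↔ ∀ b ∈ B, ∀ v : V, b • v * v⁻¹ ∈ W :=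
  ⟨fun h b hb v => h (mem_moved hb v), fun h => (closure_le _).2 fun _ ⟨b, hb, v, e⟩ => e ▸ h b hb v⟩

theorem moved_invariant {B : Subgroup H} {g : H} (hg : g ∈ normalizer (B : Set H)) {w : V}
    (hw : w ∈ moved (V := V) B) : g • w ∈ moved (V := V) B := by
  refine closure_induction (p := fun x _ => g • x ∈ moved (V := V) B) ?_ (by rw [smul_one]; exact one_mem _)
    (fun a c _ _ h1 h2 => by rw [smul_mul']; exact mul_mem h1 h2)
    (fun a _ h1 => by rw [smul_inv']; exact inv_mem h1) hw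
  rintro _ ⟨b, hb, v, rfl⟩
  have e : g • (b • v * v⁻¹) = (g * b * g⁻¹) • (g • v) * (g • v)⁻¹ := by
    rw [smul_mul', smul_inv', smul_smul, smul_smul]
    congr 1
    group
  rw [e]
  exact mem_moved ((mem_normalizer_iff.1 hg b).1 hb) _

theorem fixedBy_invariant {B : Subgroup H} {g : H} (hg : g ∈ normalizer (B : Set H)) {v : V}
    (hv : v ∈ fixedBy (V := V) B) : g • v ∈ fixedBy (V := V) B := fun b hb => by
  have h1 : (g⁻¹ * b * g) • v = v := hv _ (by
    have := (mem_normalizer_iff.1 (inv_mem hg) b).1 hb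
    rwa [inv_inv] at this)
  calc b • g • v = g • ((g⁻¹ * b * g) • v) := by rw [smul_smul, smul_smul]; congr 1; group
    _ = g • v := by rw [h1]

/-- A coprime operator group splits an abelian group. -/
theorem moved_compl (B : Subgroup H) (hcop : (Nat.card B).Coprime (Nat.card V)) :
    moved (V := V) B ⊔ fixedBy B = ⊤ ∧ moved (V := V) B ⊓ fixedBy B = ⊥ := by
  classical
  haveI := Fintype.ofFinite B
  let ν : V →* V :=
    { toFun := fun v => ∏ b : B, (b : H) • v
      map_one' := by simp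
      map_mul' := fun a c => by simp [smul_mul', Finset.prod_mul_distrib] }
  have hfix : ∀ v : V, ν v ∈ fixedBy (V := V) B := fun v b hb => by
    show b • ∏ c : B, (c : H) • v = ∏ c : B, (c : H) • v
    rw [Finset.smul_prod']
    exact Fintype.prod_equiv (Equiv.mulLeft ⟨b, hb⟩) _ _ fun c => by
      rw [smul_smul]; rfl
  have hker : moved (V := V) B ≤ ν.ker := moved_le_iff.2 fun b hb v => by
    rw [MonoidHom.mem_ker, map_mul, map_inv, mul_inv_eq_one]
    exact Fintype.prod_equiv (Equiv.mulRight ⟨b, hb⟩) _ _ fun c => by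
      rw [smul_smul]; rfl
  have hmod : ∀ v : V, (v ^ Nat.card B)⁻¹ * ν v ∈ moved (V := V) B := fun v => by
    have e : (v ^ Nat.card B)⁻¹ * ν v = ∏ c : B, ((c : H) • v * v⁻¹) := by
      rw [Finset.prod_mul_distrib, Finset.prod_const, Finset.card_univ, Nat.card_eq_fintype_card,
        inv_pow, mul_comm]
      rfl
    rw [e]
    exact Subgroup.prod_mem _ fun c _ => mem_moved c.2 v
  refine ⟨eq_top_iff.2 fun v _ => ?_, eq_bot_iff.2 fun v hv => ?_⟩
  · have h1 : v ^ Nat.card B ∈ moved (V := V) B ⊔ fixedBy B := by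
      have e : v ^ Nat.card B = ((v ^ Nat.card B)⁻¹ * ν v)⁻¹ * ν v := by
        rw [mul_inv_rev, inv_inv, mul_right_comm, inv_mul_cancel, one_mul]
      rw [e]
      exact mul_mem_sup (inv_mem (hmod v)) (hfix v)
    obtain ⟨m, hm⟩ := exists_pow_eq_self_of_coprime (hcop.coprime_dvd_right (_root_.orderOf_dvd_natCard v))
    rw [← hm]
    exact pow_mem h1 m
  · obtain ⟨h1, h2⟩ := hv
    have h3 : ν v = v ^ Nat.card B := by
      show ∏ c : B, (c : H) • v = _
      rw [Finset.prod_congr rfl fun (c : B) _ => h2 (c : H) c.2, Finset.prod_const, Finset.card_univ,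
        Nat.card_eq_fintype_card]
    rw [MonoidHom.mem_ker.1 (hker h1)] at h3
    exact mem_bot.2 (orderOf_eq_one_iff.1 (Nat.eq_one_of_dvd_coprimes hcop
      (orderOf_dvd_of_pow_eq_one h3.symm) (_root_.orderOf_dvd_natCard v)))

theorem eq_bot_of_moved_eq_bot [FaithfulSMul H V] {B : Subgroup H} (h : moved (V := V) B = ⊥) : B = ⊥ :=
  eq_bot_iff.2 fun b hb => mem_bot.2 (eq_of_smul_eq_smul fun v : V => by
    rw [one_smul]
    have := mem_moved (V := V) hb v
    rwa [h, mem_bot, mul_inv_eq_one] at this)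

/-- A coprime automorphism fixing the elements of order `p` of an abelian `p`-group is trivial. -/
theorem eq_one_of_fix_omega [FaithfulSMul H V] (hV : IsPGroup p V) {x : H} (hx : (orderOf x).Coprime p)
    (hfix : ∀ v : V, v ^ p = 1 → x • v = v) : x = 1 := by
  obtain ⟨k, hk⟩ := IsPGroup.iff_card.1 hV
  obtain ⟨h1, h2⟩ := moved_compl (V := V) (zpowers x) (by rw [Nat.card_zpowers, hk]; exact hx.pow_right k)
  refine zpowers_eq_bot.1 (eq_bot_of_moved_eq_bot (V := V) ?_)
  by_contra hne
  haveI : Nontrivial (moved (V := V) (zpowers x)) := (nontrivial_iff_ne_bot _).2 hne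
  obtain ⟨i, hi, hcard⟩ := (IsPGroup.nontrivial_iff_card (hV.to_subgroup _)).1
    (inferInstance : Nontrivial (moved (V := V) (zpowers x)))
  obtain ⟨w, hw⟩ := exists_prime_orderOf_dvd_card' (G := moved (V := V) (zpowers x)) p
    (hcard ▸ dvd_pow_self p hi.ne')
  rw [← Subgroup.orderOf_coe] at hw
  have hwp : (w : V) ^ p = 1 := hw ▸ pow_orderOf_eq_one _
  have hmem : (w : V) ∈ moved (V := V) (zpowers x) ⊓ fixedBy (zpowers x) := by
    refine ⟨w.2, fun b hb => ?_⟩
    exact (Subgroup.zpowers_le (H := MulAction.stabilizer H (w : V))).2 (hfix _ hwp) hb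
  rw [h2, mem_bot] at hmem
  rw [hmem, orderOf_one] at hw
  exact hp.out.ne_one hw.symm

end Norm

section Offender

variable {V H : Type u} [CommGroup V] [Finite V] [Group H] [Finite H]

/-- A transvection in a `p`-solvable group of automorphisms with trivial `p`-core forces `p ≤ 3`. -/
theorem transvection_small (hV : IsPGroup p V) (hVe : ∀ v : V, v ^ p = 1) (φ : H →* MulAut V)
    (hφ : Function.Injective φ) (hH : Cfsg.IsPSolvable p H) (hO : Cfsg.pCore p H = ⊥)
    (T : Sylow p H) (hT : Nat.card T = p) (D : Subgroup V) (hD : ∀ t ∈ (T : Subgroup H), ∀ d ∈ D, φ t d = d)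
    (hDi : D.index ∣ p) : p = 2 ∨ p = 3 := by
  obtain ⟨k, hk⟩ := IsPGroup.iff_card.1 hV
  haveI : Finite (V ⋊[φ] H) := Finite.of_equiv (V × H) SemidirectProduct.equivProd.symm
  set N := (SemidirectProduct.inl : V →* V ⋊[φ] H).range with hN
  have hNker : N = (SemidirectProduct.rightHom : V ⋊[φ] H →* H).ker := SemidirectProduct.range_inl_eq_ker_rightHom
  haveI : N.Normal := hNker ▸ inferInstance
  have hNe : Cfsg.IsElementaryAbelian p N :=
    ⟨⟨⟨fun a b => by
      obtain ⟨a', ha⟩ := a.2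
      obtain ⟨b', hb⟩ := b.2
      exact Subtype.ext (show (a : V ⋊[φ] H) * b = b * a by rw [← ha, ← hb, ← map_mul, ← map_mul, mul_comm])⟩⟩,
    by rintro _ ⟨v, rfl⟩; rw [← map_pow, hVe, map_one]⟩
  have hC : Subgroup.centralizer (N : Set (V ⋊[φ] H)) = N := by
    refine le_antisymm (fun x hx => ?_) fun x hx => mem_centralizer_iff.2 fun y hy =>
      congrArg Subtype.val (hNe.1.1.comm (⟨y, hy⟩ : N) ⟨x, hx⟩)
    have hr : x.right = 1 := hφ (MulEquiv.ext fun v => by
      have h1 := mem_centralizer_iff.1 hx (SemidirectProduct.inl v) ⟨v, rfl⟩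
      have h2 := congrArg SemidirectProduct.left h1
      simp only [SemidirectProduct.mul_left, SemidirectProduct.left_inl, SemidirectProduct.right_inl, map_one,
        MulAut.one_apply] at h2
      rw [mul_comm] at h2
      rw [map_one, MulAut.one_apply]
      exact (mul_left_cancel h2).symm)
    exact ⟨x.left, SemidirectProduct.ext (by simp) (by simp [hr])⟩
  have hcardG : Nat.card (V ⋊[φ] H) = Nat.card V * Nat.card H := SemidirectProduct.card
  have hcardN : Nat.card N = Nat.card V :=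
    (Nat.card_congr (MonoidHom.ofInjective SemidirectProduct.inl_injective).toEquiv).symm
  let eQ : (V ⋊[φ] H) ⧸ N ≃* H := (QuotientGroup.quotientMulEquivOfEq hNker).trans
    (QuotientGroup.quotientKerEquivOfSurjective _ SemidirectProduct.rightHom_surjective)
  have hsep : Cfsg.IsPSolvable p (V ⋊[φ] H) :=
    Fus.ResSeries.isPSolvable_extension _ _ le_rfl N
      (psolvable_pGroup (IsPGroup.of_card (n := k) (hcardN.trans hk)))
      (Grp.isPSolvable_map hH eQ.symm.toMonoidHom eQ.symm.surjective)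
  haveI : (Subgroup.centralizer (N : Set (V ⋊[φ] H))).Normal := Subgroup.normal_centralizer
  have hO' : Cfsg.pCore p ((V ⋊[φ] H) ⧸ Subgroup.centralizer (N : Set (V ⋊[φ] H))) = ⊥ := by
    let e := (QuotientGroup.quotientMulEquivOfEq hC).trans eQ
    refine (Subgroup.map_eq_bot_iff_of_injective _ (f := e.toMonoidHom) e.injective).1 (le_bot_iff.1 ?_)
    rw [← hO, Subgroup.map_le_iff_le_comap]
    refine sSup_le fun K hK => ?_
    rw [← Subgroup.map_le_iff_le_comap]
    exact le_sSup ⟨hK.1.map _ e.surjective, hK.2.map _⟩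
  refine (Offender.exists_SL2_quotient hNe hsep hO' fun hJ => ?_).1
  -- an elementary abelian subgroup of largest order outside `N`
  obtain ⟨y, hy⟩ : ∃ y ∈ (T : Subgroup H), y ≠ 1 := by
    have h1 : (T : Subgroup H) ≠ ⊥ := fun e => hp.out.ne_one (by
      rw [← hT]; show Nat.card (T : Subgroup H) = 1; rw [e, Subgroup.card_bot])
    exact ((T : Subgroup H).bot_or_exists_ne_one).resolve_left h1
  have hyp : y ^ p = 1 := orderOf_dvd_iff_pow_eq_one.1 (hT ▸ Subgroup.orderOf_dvd_natCard _ hy.1)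
  set A := closure ((D.map (SemidirectProduct.inl : V →* V ⋊[φ] H) : Set (V ⋊[φ] H)) ∪
    {SemidirectProduct.inr y}) with hA
  have hAe : Cfsg.IsElementaryAbelian p A := by
    have hcy : ∀ d ∈ D, (SemidirectProduct.inr y : V ⋊[φ] H) * SemidirectProduct.inl d =
        SemidirectProduct.inl d * SemidirectProduct.inr y := fun d hd => by
      have h1 := SemidirectProduct.inl_aut (φ := φ) y d
      rw [hD y hy.1 d hd, map_inv] at h1
      exact (eq_mul_inv_iff_mul_eq.1 h1).symm
    refine Thompson.isElementaryAbelian_closure ?_ ?_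
    · rintro a (⟨d, hd, rfl⟩ | rfl) b (⟨d', hd', rfl⟩ | rfl)
      · rw [← map_mul, ← map_mul, mul_comm]
      · exact (hcy d hd).symm
      · exact hcy d' hd'
      · rfl
    · rintro a (⟨d, -, rfl⟩ | rfl)
      · rw [← map_pow, hVe, map_one]
      · rw [← map_pow, hyp, map_one]
  have hyA : (SemidirectProduct.inr y : V ⋊[φ] H) ∈ A := subset_closure (Or.inr rfl)
  have hyN : (SemidirectProduct.inr y : V ⋊[φ] H) ∉ N := fun h => hy.2 (by
    rw [hNker, MonoidHom.mem_ker, SemidirectProduct.rightHom_inr] at h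
    exact h)
  have hAcard : Nat.card V ≤ Nat.card A := by
    have hlt : Nat.card D < Nat.card A := by
      rw [← Subgroup.card_map_of_injective (SemidirectProduct.inl_injective (φ := φ)) (K := D)]
      refine lt_of_le_of_ne (Subgroup.card_le_of_le fun x hx => subset_closure (Or.inl hx)) fun e => hyN ?_
      have := Subgroup.eq_of_le_of_card_ge (show D.map SemidirectProduct.inl ≤ A from
        fun x hx => subset_closure (Or.inl hx)) e.ge
      rw [← this] at hyA
      exact Subgroup.map_le_range _ _ hyA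
    obtain ⟨j, hj⟩ := IsPGroup.iff_card.1 (Thompson.isPGroup_of hAe)
    obtain ⟨i, hi⟩ := IsPGroup.iff_card.1 (hV.to_subgroup D)
    have hmul := D.card_mul_index
    rw [hi, hk] at hmul
    rw [hi, hj] at hlt
    rw [hk, hj]
    refine Nat.pow_le_pow_right hp.out.pos ?_
    have h1 : i < j := (Nat.pow_lt_pow_iff_right hp.out.one_lt).1 hlt
    have h2 : p ^ k ≤ p ^ (i + 1) := by
      rw [← hmul, pow_succ]
      exact Nat.mul_le_mul_left _ (Nat.le_of_dvd hp.out.pos hDi)
    have := (Nat.pow_le_pow_iff_right hp.out.one_lt).1 h2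
    omega
  have hmax : ∀ B : Subgroup (V ⋊[φ] H), Cfsg.IsElementaryAbelian p B → Nat.card B ≤ Nat.card V := by
    intro B hB
    by_contra hlt
    obtain ⟨S, hS⟩ := (Thompson.isPGroup_of hB).exists_le_sylow
    have hScard : Nat.card S = p ^ (k + 1) := by
      rw [S.card_eq_multiplicity, hcardG, Nat.factorization_mul Nat.card_pos.ne' Nat.card_pos.ne']
      have h1 : (Nat.card H).factorization p = 1 := by
        have := T.card_eq_multiplicity
        rw [hT] at this
        exact (Nat.pow_right_injective hp.out.two_le (by simpa using this)).symm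
      rw [Finsupp.add_apply, h1, hk, Nat.factorization_pow, Finsupp.smul_apply,
        hp.out.factorization_self, smul_eq_mul, mul_one]
    obtain ⟨j, hj⟩ := IsPGroup.iff_card.1 (Thompson.isPGroup_of hB)
    have hBS : B = (S : Subgroup (V ⋊[φ] H)) := Subgroup.eq_of_le_of_card_ge hS (by
      show Nat.card S ≤ _
      rw [hScard, hj]
      refine Nat.pow_le_pow_right hp.out.pos ?_
      rw [hk, hj, not_le, Nat.pow_lt_pow_iff_right hp.out.one_lt] at hlt
      omega)
    have hNS : N ≤ B := by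
      rw [hBS]
      obtain ⟨g, hg⟩ := ((IsPGroup.of_card (n := k) (hcardN.trans hk)).exists_le_sylow (G := V ⋊[φ] H))
      obtain ⟨c, hc⟩ := MulAction.exists_smul_eq (V ⋊[φ] H) g S
      rw [← hc]
      intro x hx
      refine ⟨c⁻¹ * x * c, hg ?_, show c * (c⁻¹ * x * c) * c⁻¹ = x by group⟩
      have := (inferInstance : N.Normal).conj_mem x hx c⁻¹
      rwa [inv_inv] at this
    have hBN : B ≤ N := fun b hb => by
      rw [← hC]
      exact mem_centralizer_iff.2 fun n hn => congrArg Subtype.val (hB.1.1.comm (⟨n, hNS hn⟩ : B) ⟨b, hb⟩)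
    exact hlt ((Subgroup.card_le_of_le hBN).trans hcardN.le)
  exact hyN (hC.le (hJ (Thompson.le_thompsonSubgroup
    (show A ∈ Cfsg.maxElementaryAbelianSubgroups p (V ⋊[φ] H) from ⟨hAe, fun B hB => (hmax B hB).trans hAcard⟩) hyA)))

end Offender

section Quad

variable {V H : Type u} [CommGroup V] [Finite V] [Group H] [Finite H] [MulDistribMulAction H V]
  [FaithfulSMul H V]

/-- The conclusion about a quadratic action whose nonfixed elements have the whole commutator as image. -/
theorem quad (hV : IsPGroup p V) (hH : Cfsg.IsPSolvable p H) (hO : Cfsg.pCore p H = ⊥) (T : Sylow p H)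
    (hTp : ∀ t ∈ (T : Subgroup H), t ^ p = 1)
    (hTc : ∀ t ∈ (T : Subgroup H), ∀ t' ∈ (T : Subgroup H), t * t' = t' * t)
    (hT1 : (T : Subgroup H) ≠ ⊥) (D E : Subgroup V) (hED : E ≤ D)
    (hD : ∀ t ∈ (T : Subgroup H), ∀ d ∈ D, t • d = d)
    (hE : ∀ t ∈ (T : Subgroup H), ∀ v : V, t • v * v⁻¹ ∈ E)
    (hsurj : ∀ v : V, v ∉ D → ∀ e ∈ E, ∃ t ∈ (T : Subgroup H), t • v * v⁻¹ = e) :
    Nat.card T = p ∧ D.index = p ∧ (p = 2 ∨ p = 3) ∧
      (p = 2 → ∃ C : Subgroup V, E ⊓ C = ⊥ ∧ (∃ a : V, a ∉ D ∧ a ^ 2 = 1) ∧ ∀ v : V, v ^ 2 ∈ C) := by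
  obtain ⟨kV, hkV⟩ := IsPGroup.iff_card.1 hV
  set R := Cfsg.pPrimeCore p H with hR
  haveI hRn : R.Normal := Grp.pPrimeCore_isNormal
  have hRcop : (Nat.card R).Coprime p := Grp.pPrimeCore_coprime
  have hCR : centralizer (R : Set H) ≤ R := Block.centralizer_pPrimeCore_le hH hO
  have hTR : ∀ x, x ∈ (T : Subgroup H) → x ∈ R → x = 1 := fun x hx hx' => orderOf_eq_one_iff.1
    (Nat.eq_one_of_dvd_coprimes hRcop (Subgroup.orderOf_dvd_natCard _ hx')
      (orderOf_dvd_of_pow_eq_one (hTp x hx)))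
  -- a subgroup of `T` whose centraliser in `R` is not centralised by `T`, as large as possible
  haveI : Nonempty {A : Subgroup H // A ≤ (T : Subgroup H) ∧
      ¬ R ⊓ centralizer (A : Set H) ≤ centralizer ((T : Subgroup H) : Set H)} :=
    ⟨⟨⊥, bot_le, fun h => hT1 (eq_bot_iff.2 fun t ht => mem_bot.2 (hTR t ht (hCR
      (mem_centralizer_iff.2 fun r hr => (mem_centralizer_iff.1 (h ⟨hr, mem_centralizer_iff.2 fun x hx => by
        rw [mem_bot.1 hx, one_mul, mul_one]⟩) t ht).symm))))⟩⟩
  obtain ⟨⟨A, hAT, hA⟩, hAmax⟩ := Finite.exists_max (fun A : {A : Subgroup H // A ≤ (T : Subgroup H) ∧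
      ¬ R ⊓ centralizer (A : Set H) ≤ centralizer ((T : Subgroup H) : Set H)} => Nat.card A.1)
  set S := R ⊓ centralizer (A : Set H) with hS
  have hbig : ∀ B : Subgroup H, B ≤ (T : Subgroup H) → A < B →
      R ⊓ centralizer (B : Set H) ≤ centralizer ((T : Subgroup H) : Set H) := fun B hB hAB => by
    by_contra hne
    have := hAmax ⟨B, hB, hne⟩
    exact absurd (Subgroup.eq_of_le_of_card_ge hAB.le this) hAB.ne
  obtain ⟨y, hyT, hyA⟩ : ∃ y ∈ (T : Subgroup H), y ∉ A := by
    by_contra h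
    push Not at h
    exact hA fun r hr => mem_centralizer_iff.2 fun t ht => mem_centralizer_iff.1 hr.2 t (h t ht)
  have hTS : ∀ t ∈ (T : Subgroup H), t ∈ normalizer (S : Set H) := fun t ht =>
    Subgroup.mem_normalizer_fintype fun r hr => ⟨hRn.conj_mem r hr.1 t, mem_centralizer_iff.2 fun a ha => by
      have h1 : a * t = t * a := hTc a (hAT ha) t ht
      have h2 : a * r = r * a := mem_centralizer_iff.1 hr.2 a ha
      have h3 : a * t⁻¹ = t⁻¹ * a := ((Commute.inv_right (h1 : Commute a t))).eq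
      calc a * (t * r * t⁻¹) = (a * t) * r * t⁻¹ := by group
        _ = t * (a * r) * t⁻¹ := by rw [h1]; group
        _ = t * r * (a * t⁻¹) := by rw [h2]; group
        _ = t * r * t⁻¹ * a := by rw [h3]; group⟩
  have hTgen : ∀ t ∈ (T : Subgroup H), t ∈ A ⊔ zpowers y := by
    intro b hbT
    by_contra hb
    set B := closure ({y, b} : Set H) with hB
    have hBT : B ≤ (T : Subgroup H) := (closure_le _).2 (by
      rintro x (rfl | rfl)
      exacts [hyT, hbT])
    haveI : IsMulCommutative B := ⟨⟨fun x z => Subtype.ext (hTc x (hBT x.2) z (hBT z.2))⟩⟩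
    have hBnc : ¬ IsCyclic B := by
      intro hc
      obtain ⟨g, hg⟩ := (Subgroup.isCyclic_iff_exists_zpowers_eq_top B).1 hc
      have hord : orderOf g ∣ p := orderOf_dvd_of_pow_eq_one (hTp g (hBT (hg ▸ mem_zpowers g)))
      have hyg : zpowers y = zpowers g := by
        refine Subgroup.eq_of_le_of_card_ge (zpowers_le.2 (hg ▸ subset_closure (Or.inl rfl))) ?_
        rw [Nat.card_zpowers, Nat.card_zpowers]
        rcases (Nat.dvd_prime hp.out).1 (orderOf_dvd_of_pow_eq_one (hTp y hyT)) with h | h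
        · exact absurd (orderOf_eq_one_iff.1 h ▸ one_mem A) hyA
        · rw [h]; exact Nat.le_of_dvd hp.out.pos hord
      exact hb (mem_sup_right (hyg ▸ hg ▸ subset_closure (Or.inr rfl)))
    have hgen := Grp.generated_by_centralizers B S hBnc (fun x hx => hTS x (hBT hx)) (by
      obtain ⟨j, hj⟩ := IsPGroup.iff_card.1 (T.isPGroup'.to_le hBT)
      rw [hj]
      exact ((hRcop.coprime_dvd_left (card_dvd_of_le inf_le_left)).symm.pow_left j))
    refine hA (hgen.ge.trans (iSup₂_le fun c hc => ?_))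
    obtain ⟨hcB, hc1⟩ := hc
    have hcA : c ∉ A := by
      intro hcA
      -- `c` is `y^i b^j`
      obtain ⟨i, j, hij⟩ : ∃ i j : ℤ, c = y ^ i * b ^ j := by
        have hle : c ∈ zpowers y ⊔ zpowers b := by
          refine (closure_le _).2 ?_ hcB
          rintro x (rfl | rfl)
          exacts [mem_sup_left (mem_zpowers _), mem_sup_right (mem_zpowers _)]
        rw [← SetLike.mem_coe, Subgroup.coe_mul_of_left_le_normalizer_right _ _ (fun x hx =>
          Subgroup.mem_normalizer_fintype fun z hz => by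
            rw [show x * z * x⁻¹ = z by rw [hTc x (zpowers_le.2 hyT hx) z (zpowers_le.2 hbT hz), mul_inv_cancel_right]]
            exact hz)] at hle
        obtain ⟨_, ⟨i, rfl⟩, _, ⟨j, rfl⟩, e⟩ := hle
        exact ⟨i, j, e.symm⟩
      have hbj : b ^ j ∈ A ⊔ zpowers y := by
        rw [show b ^ j = (y ^ i)⁻¹ * c by rw [hij]; group]
        exact mul_mem (inv_mem (mem_sup_right (zpow_mem_zpowers y i))) (mem_sup_left hcA)
      rcases (Nat.dvd_prime hp.out).1 (orderOf_dvd_of_pow_eq_one (hTp b hbT)) with h | h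
      · exact hb (orderOf_eq_one_iff.1 h ▸ one_mem _)
      by_cases hpj : (p : ℤ) ∣ j
      · have hbj1 : b ^ j = 1 := orderOf_dvd_iff_zpow_eq_one.1 (h ▸ hpj)
        rw [hbj1, mul_one] at hij
        rcases (Nat.dvd_prime hp.out).1 (orderOf_dvd_of_pow_eq_one (hTp y hyT)) with h' | h'
        · exact hyA (orderOf_eq_one_iff.1 h' ▸ one_mem _)
        have hpi : ¬ (p : ℤ) ∣ i := fun hpi => hc1 (by
          rw [hij]; exact orderOf_dvd_iff_zpow_eq_one.1 (h' ▸ hpi))
        obtain ⟨u, v, huv⟩ : IsCoprime i (p : ℤ) := (((Nat.prime_iff_prime_int.1 hp.out).coprime_iff_not_dvd).2 hpi).symm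
        refine hyA ?_
        have : y = c ^ u := by
          rw [hij, ← zpow_mul, mul_comm i u]
          calc y = y ^ (u * i + v * (p : ℤ)) := by rw [huv, zpow_one]
            _ = y ^ (u * i) := by rw [zpow_add, mul_comm v, zpow_mul y (p : ℤ), zpow_natCast, hTp y hyT, one_zpow, mul_one]
        rw [this]
        exact zpow_mem hcA u
      · obtain ⟨u, v, huv⟩ : IsCoprime j (p : ℤ) := (((Nat.prime_iff_prime_int.1 hp.out).coprime_iff_not_dvd).2 hpj).symm
        refine hb ?_
        have : b = (b ^ j) ^ u := by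
          rw [← zpow_mul, mul_comm j u]
          calc b = b ^ (u * j + v * (p : ℤ)) := by rw [huv, zpow_one]
            _ = b ^ (u * j) := by rw [zpow_add, mul_comm v, zpow_mul b (p : ℤ), zpow_natCast, hTp b hbT, one_zpow, mul_one]
        rw [this]
        exact zpow_mem hbj u
    have hlt : A < A ⊔ zpowers c := lt_of_le_of_ne le_sup_left fun e => hcA (e ▸ mem_sup_right (mem_zpowers c))
    intro r hr
    refine hbig _ (sup_le hAT (zpowers_le.2 (hBT hcB))) hlt ⟨hr.1.1, ?_⟩
    show r ∈ centralizer ((A ⊔ zpowers c : Subgroup H) : Set H)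
    rw [mem_centralizer_iff]
    have hle : A ⊔ zpowers c ≤ centralizer ({r} : Set H) :=
      sup_le (fun a ha => mem_centralizer_iff.2 fun x hx => by
        rw [Set.mem_singleton_iff.1 hx]; exact (mem_centralizer_iff.1 hr.1.2 a ha).symm)
      (zpowers_le.2 (mem_centralizer_iff.2 fun x hx => by
        rw [Set.mem_singleton_iff.1 hx]; exact (mem_centralizer_iff.1 hr.2 c rfl).symm))
    exact fun z hz => (mem_centralizer_iff.1 (hle hz) r rfl).symm
  obtain ⟨s, hsS, hsy⟩ : ∃ s ∈ S, s * y ≠ y * s := by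
    by_contra h
    push Not at h
    refine hA fun s hs => mem_centralizer_iff.2 fun t ht => ?_
    have h1 : A ⊔ zpowers y ≤ centralizer ({s} : Set H) := sup_le
      (fun a ha => mem_centralizer_iff.2 fun x hx => by
        rw [Set.mem_singleton_iff.1 hx]; exact (mem_centralizer_iff.1 hs.2 a ha).symm)
      (zpowers_le.2 (mem_centralizer_iff.2 fun x hx => by rw [Set.mem_singleton_iff.1 hx]; exact h s hs))
    exact (mem_centralizer_iff.1 (h1 (hTgen t ht)) s rfl).symm
  set B := ⁅S, zpowers y⁆ with hB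
  have hBS : B ≤ S := Grp.commutator_le_left_of_le_normalizer (zpowers_le.2 (hTS y hyT))
  have hBcop : (Nat.card B).Coprime (Nat.card V) := by
    rw [hkV]
    exact ((hRcop.coprime_dvd_left (card_dvd_of_le (hBS.trans inf_le_left))).pow_right kV)
  obtain ⟨hWC, hWC'⟩ := moved_compl (V := V) B hBcop
  set W := moved (V := V) B with hW
  set C := fixedBy (V := V) B with hC
  have hyB : y ∈ normalizer (B : Set H) := Grp.right_le_normalizer_commutator _ _ (mem_zpowers y)
  have hAB : ∀ a ∈ A, a ∈ normalizer (B : Set H) := fun a ha => Subgroup.mem_normalizer_fintype fun b hb => by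
    rw [show a * b * a⁻¹ = b by rw [mem_centralizer_iff.1 (hBS hb).2 a ha, mul_inv_cancel_right]]
    exact hb
  have hdisj : ∀ w : V, w ∈ W → w ∈ C → w = 1 := fun w h1 h2 => by
    have : w ∈ W ⊓ C := ⟨h1, h2⟩
    rwa [hWC', mem_bot] at this
  -- `A` centralises `W`
  have hAW : ∀ a ∈ A, ∀ v ∈ W, a • v = v := fun a ha v hv => by
    refine mul_inv_eq_one.1 (hdisj _ (mul_mem (moved_invariant (hAB a ha) hv) (inv_mem hv)) fun b hb => ?_)
    have hstab : B ≤ MulAction.stabilizer H (a • v * v⁻¹) := by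
      rw [hB, commutator_le]
      intro s' hs' z hz
      have hy' : ∀ g ∈ zpowers y, ∀ u : V, u ∈ E → g • u = u := fun g hg u hu =>
        hD g (zpowers_le.2 hyT hg) u (hED hu)
      show (s' * z * s'⁻¹ * z⁻¹) • (a • v * v⁻¹) = a • v * v⁻¹
      have hc : a * s'⁻¹ = s'⁻¹ * a :=
        (Commute.inv_right (mem_centralizer_iff.1 hs'.2 a ha : Commute a s')).eq
      have h1 : s'⁻¹ • (a • v * v⁻¹) ∈ E := by
        rw [smul_mul', smul_inv', smul_smul, ← hc, ← smul_smul]
        exact hE a (hAT ha) _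
      rw [mul_smul, hy' _ (inv_mem hz) _ (hE a (hAT ha) v), mul_smul, mul_smul, hy' z hz _ h1, smul_smul,
        mul_inv_cancel, one_smul]
    exact hstab hb
  -- `W` is not contained in `D`
  have hWD : ¬ W ≤ D := by
    intro hle
    have hBW : W ≤ C := fun w hw b hb => by
      have hstab : B ≤ MulAction.stabilizer H w := by
        rw [hB, commutator_le]
        intro s' hs' z hz
        have hs'B : s'⁻¹ ∈ normalizer (B : Set H) := Grp.left_le_normalizer_commutator _ _ (inv_mem hs')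
        have hfix : ∀ g ∈ zpowers y, ∀ u : V, u ∈ W → g • u = u := fun g hg u hu =>
          hD g (zpowers_le.2 hyT hg) u (hle hu)
        show (s' * z * s'⁻¹ * z⁻¹) • w = w
        rw [mul_smul, hfix _ (inv_mem hz) w hw, mul_smul, mul_smul, hfix z hz _ (moved_invariant hs'B hw),
          smul_smul, mul_inv_cancel, one_smul]
      exact hstab hb
    have hb1 : B = ⊥ := eq_bot_of_moved_eq_bot (V := V) (eq_bot_iff.2 fun w hw => mem_bot.2 (hdisj w hw (hBW hw)))
    apply hsy
    have h1 : ⁅s, y⁆ ∈ B := commutator_mem_commutator hsS (mem_zpowers y)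
    rw [hb1, mem_bot, commutatorElement_eq_one_iff_mul_comm] at h1
    exact h1
  obtain ⟨a₀, ha₀, ha₀D⟩ := SetLike.not_le_iff_exists.1 hWD
  set ε := y • a₀ * a₀⁻¹ with hε
  have hεW : ε ∈ W := mul_mem (moved_invariant hyB ha₀) (inv_mem ha₀)
  have hεE : ε ∈ E := hE y hyT a₀
  have hpow : ∀ n : ℕ, y ^ n • a₀ = a₀ * ε ^ n := by
    intro n
    induction n with
    | zero => simp
    | succ n ih =>
      rw [pow_succ', mul_smul, ih, smul_mul', hD y hyT _ (hED (pow_mem hεE n)), pow_succ', ← mul_assoc]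
      congr 1
      rw [hε, mul_comm a₀, inv_mul_cancel_right]
  have hεp : ε ^ p = 1 := by
    have := hpow p
    rw [hTp y hyT, one_smul] at this
    exact mul_eq_left.1 this.symm
  have hfixA : ∀ t ∈ (T : Subgroup H), ∃ a ∈ A, ∃ n : ℕ, t = y ^ n * a := by
    intro t ht
    have h1 := hTgen t ht
    rw [sup_comm, ← SetLike.mem_coe, Subgroup.coe_mul_of_right_le_normalizer_left _ _ (fun a ha =>
      Subgroup.mem_normalizer_fintype fun x hx => by
        rw [show a * x * a⁻¹ = x by rw [hTc a (hAT ha) x (zpowers_le.2 hyT hx), mul_inv_cancel_right]]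
        exact hx)] at h1
    obtain ⟨z, hz, a, ha, e⟩ := h1
    obtain ⟨n, rfl⟩ := exists_pow_of_mem hz
    exact ⟨a, ha, n, e.symm⟩
  have hEε : E = zpowers ε := by
    refine le_antisymm (fun e he => ?_) (zpowers_le.2 hεE)
    obtain ⟨t, ht, hte⟩ := hsurj a₀ ha₀D e he
    obtain ⟨a, ha, n, rfl⟩ := hfixA t ht
    rw [mul_smul, hAW a ha a₀ ha₀, hpow, mul_inv_cancel_comm] at hte
    rw [← hte]
    exact pow_mem (mem_zpowers ε) n
  have hε1 : ε ≠ 1 := by
    intro e1
    rw [e1, zpowers_one_eq_bot] at hEε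
    refine hT1 (eq_bot_iff.2 fun t ht => mem_bot.2 (eq_of_smul_eq_smul fun v : V => ?_))
    rw [one_smul]
    have := hE t ht v
    rwa [hEε, mem_bot, mul_inv_eq_one] at this
  have hEW : E ≤ W := hEε ▸ zpowers_le.2 hεW
  have hCfix : ∀ t ∈ (T : Subgroup H), ∀ c ∈ C, t • c = c := by
    have key : ∀ t ∈ (T : Subgroup H), t ∈ normalizer (B : Set H) → ∀ c ∈ C, t • c = c := fun t ht hn c hc =>
      mul_inv_eq_one.1 (hdisj _ (hEW (hE t ht c)) (mul_mem (fixedBy_invariant hn hc) (inv_mem hc)))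
    intro t ht c hc
    obtain ⟨a, ha, n, rfl⟩ := hfixA t ht
    rw [mul_smul, key a (hAT ha) (hAB a ha) c hc]
    exact key _ (pow_mem hyT n) (pow_mem hyB n) c hc
  have hA1 : A = ⊥ := eq_bot_iff.2 fun a ha => mem_bot.2 (eq_of_smul_eq_smul fun v : V => by
    rw [one_smul]
    obtain ⟨w, hw, c, hc, rfl⟩ : ∃ w ∈ W, ∃ c ∈ C, w * c = v := mem_sup.1 (hWC.ge (mem_top v))
    rw [smul_mul', hAW a ha w hw, hCfix a (hAT ha) c hc])
  have hTy : (T : Subgroup H) = zpowers y := le_antisymm
    (fun t ht => by have := hTgen t ht; rwa [hA1, bot_sup_eq] at this) (zpowers_le.2 hyT)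
  have hy1 : y ≠ 1 := fun e => hyA (e ▸ one_mem A)
  have hTcard : Nat.card T = p := by
    show Nat.card (T : Subgroup H) = p
    rw [hTy, Nat.card_zpowers]
    exact orderOf_eq_prime (hTp y hyT) hy1
  -- the commutator map of `y`
  let δ : V →* V :=
    { toFun := fun v => y • v * v⁻¹
      map_one' := by simp
      map_mul' := fun a c => by rw [smul_mul', mul_inv, mul_mul_mul_comm] }
  have hδker : δ.ker = D := by
    ext v
    refine ⟨fun hv => ?_, fun hv => mul_inv_eq_one.2 (hD y hyT v hv)⟩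
    by_contra hvD
    obtain ⟨t, ht, hte⟩ := hsurj v hvD ε hεE
    rw [hTy] at ht
    have : t • v = v := (zpowers_le (H := MulAction.stabilizer H v)).2
      (mul_inv_eq_one.1 (MonoidHom.mem_ker.1 hv)) ht
    rw [this, mul_inv_cancel] at hte
    exact hε1 hte.symm
  have hδrange : δ.range = E := le_antisymm (by rintro _ ⟨v, rfl⟩; exact hE y hyT v)
    (hEε ▸ zpowers_le.2 ⟨a₀, rfl⟩)
  have hDi : D.index = p := by
    rw [← hδker, Subgroup.index_ker]
    show Nat.card δ.range = p
    rw [hδrange, hEε, Nat.card_zpowers]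
    exact orderOf_eq_prime hεp hε1
  refine ⟨hTcard, hDi, ?_, fun h2 => ?_⟩
  · -- restrict to the elements of order `p`
    let V₁ : Subgroup V := (powMonoidHom p : V →* V).ker
    have hV₁ : ∀ (h : H) (v : V), v ∈ V₁ → h • v ∈ V₁ := fun h v hv => by
      show (h • v) ^ p = 1
      rw [← smul_pow', show v ^ p = 1 from hv, smul_one]
    let φ : H →* MulAut V₁ :=
      { toFun := fun h =>
          { toFun := fun v => ⟨h • (v : V), hV₁ h v v.2⟩
            invFun := fun v => ⟨h⁻¹ • (v : V), hV₁ h⁻¹ v v.2⟩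
            left_inv := fun v => Subtype.ext (inv_smul_smul h (v : V))
            right_inv := fun v => Subtype.ext (smul_inv_smul h (v : V))
            map_mul' := fun a c => Subtype.ext (smul_mul' h (a : V) (c : V)) }
        map_one' := MulEquiv.ext fun v => Subtype.ext (one_smul H (v : V))
        map_mul' := fun a c => MulEquiv.ext fun v => Subtype.ext (mul_smul a c (v : V)) }
    have hφ : Function.Injective φ := by
      rw [← MonoidHom.ker_eq_bot_iff]
      refine le_bot_iff.1 (hO ▸ le_sSup ⟨inferInstance, fun x => ?_⟩)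
      obtain ⟨k, m, hm, hkm⟩ := Nat.exists_eq_pow_mul_and_not_dvd (orderOf_pos (x : H)).ne' p hp.out.ne_one
      refine ⟨k, Subtype.ext ?_⟩
      show (x : H) ^ p ^ k = 1
      refine eq_one_of_fix_omega (V := V) hV ?_ fun v hv => ?_
      · rw [orderOf_pow' _ (pow_ne_zero _ hp.out.ne_zero), hkm, Nat.gcd_eq_right (dvd_mul_right _ _),
          Nat.mul_div_cancel_left _ (pow_pos hp.out.pos k)]
        exact (hp.out.coprime_iff_not_dvd.2 hm).symm
      · exact congrArg Subtype.val (DFunLike.congr_fun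
          (MonoidHom.mem_ker.1 (pow_mem x.2 (p ^ k))) (⟨v, hv⟩ : V₁))
    refine transvection_small (hV.to_subgroup V₁) (fun v => Subtype.ext v.2) φ hφ hH hO T hTcard
      (D.subgroupOf V₁) (fun t ht d hd => Subtype.ext (hD t ht d hd)) ?_
    rw [← hDi]
    exact (Subgroup.relIndex_dvd_index_of_normal D V₁)
  · -- a dihedral group
    set y' := s * y * s⁻¹ with hy'
    set r := y' * y⁻¹ with hr
    have hr1 : r ≠ 1 := fun e => hsy (by
      rw [hr, mul_inv_eq_one] at e
      calc s * y = (s * y * s⁻¹) * s := by group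
        _ = y * s := by rw [← hy', e])
    have hrR : r ∈ R := by
      have e : r = s * (y * s⁻¹ * y⁻¹) := by rw [hr, hy']; group
      rw [e]
      exact mul_mem hsS.1 (hRn.conj_mem _ (inv_mem hsS.1) y)
    have hyy : y⁻¹ = y := inv_eq_of_mul_eq_one_left (by rw [← sq, ← h2, hTp y hyT])
    have hy'y : y'⁻¹ = y' := by rw [hy', mul_inv_rev, mul_inv_rev, hyy, inv_inv, mul_assoc]
    have hyr : y ∈ normalizer ((zpowers r : Subgroup H) : Set H) := Subgroup.mem_normalizer_fintype fun x hx => by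
      obtain ⟨i, rfl⟩ := hx
      show y * r ^ i * y⁻¹ ∈ zpowers r
      rw [← conj_zpow, show y * r * y⁻¹ = r⁻¹ from by
        rw [hr, mul_inv_rev, inv_inv, hy'y, hyy]
        calc y * (y' * y) * y = y * y' * (y * y) := by group
          _ = y * y' := by rw [← sq y, ← h2, hTp y hyT, mul_one]]
      exact zpow_mem (inv_mem (mem_zpowers r)) i
    have hrodd : (orderOf r).Coprime p := hRcop.coprime_dvd_left (Subgroup.orderOf_dvd_natCard _ hrR)
    obtain ⟨hW'C, hW'C'⟩ := moved_compl (V := V) (zpowers r) (by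
      rw [Nat.card_zpowers, hkV]; exact hrodd.pow_right kV)
    set W' := moved (V := V) (zpowers r) with hW'
    set C' := fixedBy (V := V) (zpowers r) with hC'
    have hd' : ∀ w : V, w ∈ W' → w ∈ C' → w = 1 := fun w h1 h2 => by
      have : w ∈ W' ⊓ C' := ⟨h1, h2⟩
      rwa [hW'C', mem_bot] at this
    have hC'i : C'.index ≤ 4 := by
      let f : V →* V := MulDistribMulAction.toMonoidHom V s⁻¹
      have hle : D ⊓ D.comap f ≤ C' := fun v hv b hb => by
        refine (zpowers_le (H := MulAction.stabilizer H v)).2 ?_ hb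
        show r • v = v
        have h3 : y • (s⁻¹ • v) = s⁻¹ • v := hD y hyT _ hv.2
        rw [hr, mul_smul, hD y⁻¹ (inv_mem hyT) v hv.1, hy', mul_smul, mul_smul, h3, smul_inv_smul]
      have h4 : (D.comap f).index ≤ 2 := by
        rw [Subgroup.index_comap_of_surjective _ (fun w => ⟨s • w, inv_smul_smul s w⟩), hDi, h2]
      calc C'.index ≤ (D ⊓ D.comap f).index :=
            Nat.le_of_dvd (Nat.pos_of_ne_zero index_ne_zero_of_finite) (index_dvd_of_le hle)
        _ ≤ D.index * (D.comap f).index := Subgroup.index_inf_le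
        _ ≤ 2 * 2 := Nat.mul_le_mul (by rw [hDi, h2]) h4
    have hW'card : Nat.card W' ≤ 4 := by
      have hcc : IsComplement' W' C' :=
        isComplement'_of_disjoint_and_mul_eq_univ (disjoint_iff.2 hW'C') (by
          rw [← Subgroup.coe_mul_of_left_le_normalizer_right _ _ (by rw [normalizer_eq_top]; exact le_top),
            hW'C, Subgroup.coe_top])
      rw [← hcc.index_eq_card]
      exact hC'i
    have hW'1 : W' ≠ ⊥ := fun e => hr1 (zpowers_eq_bot.1 (eq_bot_of_moved_eq_bot (V := V) e))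
    have hrW : ∀ w ∈ W', r • w ∈ W' := fun w hw =>
      moved_invariant (Subgroup.le_normalizer (mem_zpowers r)) hw
    have hrfix : ¬ ∀ w ∈ W', r • w = w := fun h => hW'1 (eq_bot_iff.2 fun w hw => mem_bot.2
      (hd' w hw fun b hb => (zpowers_le (H := MulAction.stabilizer H w)).2 (h w hw) hb))
    have hrrfix : ∀ w : V, r ^ 2 • w = w → r • w = w := fun w hw => by
      obtain ⟨m, hm⟩ := exists_pow_eq_self_of_coprime
        (show (2 : ℕ).Coprime (orderOf r) from h2 ▸ hrodd.symm)
      rw [← hm]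
      have hmem : r ^ 2 ∈ MulAction.stabilizer H w := hw
      exact pow_mem hmem m
    have hW'sq : ∀ w ∈ W', w ^ 2 = 1 := by
      intro w hw
      by_contra hw2
      obtain ⟨j, hj⟩ := IsPGroup.iff_orderOf.1 hV w
      have hle : orderOf w ≤ 4 := (Subgroup.orderOf_dvd_natCard _ hw |> Nat.le_of_dvd Nat.card_pos).trans hW'card
      have hj2 : orderOf w = 4 := by
        rw [hj, h2] at hle ⊢
        match j, hle, hj with
        | 0, _, hj => exact absurd (by rw [orderOf_eq_one_iff.1 hj, one_pow]) hw2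
        | 1, _, hj => exact absurd (by rw [← pow_orderOf_eq_one w, hj, h2]; rfl) hw2
        | 2, _, _ => rfl
        | j + 3, hle, _ => exact absurd hle (by rw [pow_add]; have := Nat.one_le_two_pow (n := j); omega)
      have hWw : W' = zpowers w := (Subgroup.eq_of_le_of_card_ge (zpowers_le.2 hw) (by
        rw [Nat.card_zpowers, hj2]; exact hW'card)).symm
      have hrw : r • w = w ∨ r • w = w⁻¹ := by
        have hmem := hrW w hw
        rw [hWw] at hmem
        obtain ⟨n, hn⟩ := exists_pow_of_mem hmem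
        have hw4 : w ^ 4 = 1 := hj2 ▸ pow_orderOf_eq_one w
        have hne : (r • w) ^ 2 ≠ 1 := fun e => hw2 (by
          rw [← smul_pow', ← smul_one r] at e
          exact MulAction.injective r e)
        rw [← Nat.div_add_mod n 4, pow_add, pow_mul, hw4, one_pow, one_mul] at hn
        have h4 := Nat.mod_lt n (show 4 > 0 by norm_num)
        interval_cases hm : n % 4
        · exact absurd (by rw [← hn, pow_zero, one_pow]) hne
        · left; rw [← hn, pow_one]
        · exact absurd (by rw [← hn, ← pow_mul, hw4]) hne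
        · right
          rw [← hn]
          exact eq_inv_of_mul_eq_one_left (by rw [← pow_succ, hw4])
      refine hrfix fun u hu => ?_
      rw [hWw] at hu
      obtain ⟨n, rfl⟩ := exists_pow_of_mem hu
      rw [smul_pow']
      congr 1
      refine hrrfix w ?_
      rw [sq, mul_smul]
      rcases hrw with e | e <;> simp [e, smul_inv']
    have hW'D : ¬ W' ≤ D := by
      intro hle
      refine hrfix fun w hw => hrrfix w ?_
      have hy2 : ∀ u ∈ W', y • u = u := fun u hu => hD y hyT u (hle hu)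
      have hyrw : ∀ u ∈ W', y' • u = r • u := fun u hu => by
        conv_rhs => rw [hr, mul_smul, hD y⁻¹ (inv_mem hyT) u (hle hu)]
      rw [sq, mul_smul, ← hyrw _ (hrW w hw), ← hyrw w hw, smul_smul, hy']
      rw [show s * y * s⁻¹ * (s * y * s⁻¹) = s * y ^ 2 * s⁻¹ by rw [sq]; group, ← h2, hTp y hyT, mul_one,
        mul_inv_cancel, one_smul]
    obtain ⟨a, haW, haD⟩ := SetLike.not_le_iff_exists.1 hW'D
    refine ⟨C', ?_, ⟨a, haD, hW'sq a haW⟩, fun v => ?_⟩
    · have hEW' : E ≤ W' := by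
        have hne : y • a * a⁻¹ ≠ 1 := fun e => haD (hδker ▸ MonoidHom.mem_ker.2 e)
        have hin : y • a * a⁻¹ ∈ W' := mul_mem (moved_invariant hyr haW) (inv_mem haW)
        intro e he
        obtain ⟨t, ht, hte⟩ := hsurj a haD e he
        rw [hTy] at ht
        obtain ⟨n, rfl⟩ := exists_pow_of_mem ht
        rw [← hte]
        exact mul_mem (moved_invariant (pow_mem hyr n) haW) (inv_mem haW)
      exact le_bot_iff.1 ((inf_le_inf_right C' hEW').trans hW'C'.le)
    · obtain ⟨w, hw, c, hc, rfl⟩ := mem_sup.1 (hW'C.ge (mem_top v))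
      rw [mul_pow, hW'sq w hw, one_mul]
      exact pow_mem hc 2

end Quad

section Main

variable {K : Type u} [Group K] [Finite K]

theorem good_of_equiv {T T' : Type*} [Group T] [Group T'] [Finite T] (e : T ≃* T') (h : Good p T) :
    Good p T' := by
  have hz : ∀ x : T, e x ∈ center T' ↔ x ∈ center T := fun x => by
    rw [mem_center_iff, mem_center_iff]
    refine ⟨fun h y => e.injective (by rw [map_mul, map_mul, h]), fun h y => ?_⟩
    obtain ⟨y, rfl⟩ := e.surjective y
    rw [← map_mul, ← map_mul, h]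
  have hidx : (center T').index = (center T).index := by
    rw [← Subgroup.index_comap_of_surjective (f := e.toMonoidHom) (center T') e.surjective]
    congr 1
    ext x
    exact hz x
  obtain ⟨h1, h2, h3, h4⟩ := h
  refine ⟨fun a b => ?_, fun a => ?_, fun a ha c hc => ?_, fun hi => ?_⟩
  · obtain ⟨a, rfl⟩ := e.surjective a
    obtain ⟨b, rfl⟩ := e.surjective b
    rw [← map_commutatorElement, hz]
    exact h1 a b
  · obtain ⟨a, rfl⟩ := e.surjective a
    rw [← map_pow, hz]
    exact h2 a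
  · obtain ⟨a, rfl⟩ := e.surjective a
    have hce : commutator T' ≤ (commutator T).map e.toMonoidHom := by
      rw [_root_.commutator_def, _root_.commutator_def, Subgroup.map_commutator,
        Subgroup.map_top_of_surjective e.toMonoidHom e.surjective]
    obtain ⟨c, hc', rfl⟩ := hce hc
    obtain ⟨b, hb⟩ := h3 a (fun h => ha ((hz a).2 h)) c hc'
    exact ⟨e b, by rw [← map_commutatorElement, hb]; rfl⟩
  · obtain ⟨h5, h6⟩ := h4 (hidx ▸ hi)
    refine ⟨h5, fun hp2 => ?_⟩
    obtain ⟨σ, hσ⟩ := h6 hp2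
    refine ⟨(e.symm.trans σ).trans e, fun a ha => ?_⟩
    obtain ⟨a, rfl⟩ := e.surjective a
    simp only [MulEquiv.trans_apply, MulEquiv.symm_apply_apply]
    rw [← map_inv, ← map_mul, hz]
    exact hσ a fun h => ha ((hz a).2 h)

/-- The theorem. -/
theorem not_dvd_index (hK : Cfsg.IsPSolvable p K) (hO : Cfsg.pPrimeCore p K = ⊥) (Q : Sylow p K)
    (hQ : Good p (Q : Subgroup K)) : ¬ p ∣ (Cfsg.pCore p K).index := by
  set U := Cfsg.pCore p K with hU
  haveI hUn : U.Normal := Grp.pCore_isNormal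
  have hUp : IsPGroup p U := Grp.pCore_isPGroup
  have hCU : centralizer (U : Set K) ≤ U := Grp.centralizer_pCore_le_of_pSolvable hK hO
  have hUQ : U ≤ (Q : Subgroup K) := by
    obtain ⟨S, hS⟩ := hUp.exists_le_sylow
    obtain ⟨c, rfl⟩ := MulAction.exists_smul_eq K S Q
    intro x hx
    refine ⟨c⁻¹ * x * c, hS ?_, show c * (c⁻¹ * x * c) * c⁻¹ = x by group⟩
    have := hUn.conj_mem x hx c⁻¹
    rwa [inv_inv] at this
  by_contra hne
  have hnle : ¬ (Q : Subgroup K) ≤ U := fun h => by
    rw [le_antisymm hUQ h] at hne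
    exact Q.not_dvd_index hne
  obtain ⟨hc2, hpz, hsurj, hsmall⟩ := hQ
  have hZU : ∀ z : (Q : Subgroup K), z ∈ center (Q : Subgroup K) → (z : K) ∈ U := fun z hz => hCU
    (mem_centralizer_iff.2 fun u hu => congrArg Subtype.val (mem_center_iff.1 hz ⟨u, hUQ hu⟩))
  have hcU : ∀ a b : (Q : Subgroup K), ((⁅a, b⁆ : (Q : Subgroup K)) : K) ∈ U := fun a b => hZU _ (hc2 a b)
  -- the quotient by `U'`
  set N := ⁅U, U⁆ with hN
  haveI : N.Normal := Subgroup.commutator_normal U U
  have hNU : N ≤ U := Subgroup.commutator_le_self U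
  have hNQ : ∀ n ∈ N, ∃ c : (Q : Subgroup K), c ∈ commutator (Q : Subgroup K) ∧ (c : K) = n := by
    have h1 : N ≤ (commutator (Q : Subgroup K)).map (Q : Subgroup K).subtype := by
      rw [Subgroup.map_subtype_commutator]
      exact Subgroup.commutator_mono hUQ hUQ
    intro n hn
    obtain ⟨c, hc, e⟩ := h1 hn
    exact ⟨c, hc, e⟩
  set π := QuotientGroup.mk' N with hπ
  have hπs : Function.Surjective π := QuotientGroup.mk'_surjective N
  set V := U.map π with hV
  haveI hVn : V.Normal := hUn.map π hπs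
  have hVcore : V = Cfsg.pCore p (K ⧸ N) := by
    refine le_antisymm (le_sSup ⟨hVn, hUp.map π⟩) (sSup_le fun M hM => ?_)
    rintro x hx
    obtain ⟨x, rfl⟩ := hπs x
    refine mem_map_of_mem π ((le_sSup (⟨hM.1.comap π, hM.2.comap_of_ker_isPGroup π ?_⟩ :
      M.comap π ∈ {H : Subgroup K | H.Normal ∧ IsPGroup p H}) : M.comap π ≤ U) hx)
    rw [QuotientGroup.ker_mk']
    exact hUp.to_le hNU
  haveI : IsMulCommutative V := ⟨⟨fun a b => Subtype.ext (by
    obtain ⟨a', ha, ea⟩ := a.2
    obtain ⟨b', hb, eb⟩ := b.2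
    show (a : K ⧸ N) * b = b * a
    rw [← ea, ← eb, ← map_mul, ← map_mul]
    refine QuotientGroup.eq.2 ?_
    rw [show (a' * b')⁻¹ * (b' * a') = ⁅b'⁻¹, a'⁻¹⁆ by group]
    exact commutator_mem_commutator (inv_mem hb) (inv_mem ha))⟩⟩
  have hCV : centralizer (V : Set (K ⧸ N)) = V := by
    refine le_antisymm ?_ (fun x hx => mem_centralizer_iff.2 fun y hy =>
      congrArg Subtype.val (IsMulCommutative.is_comm.comm (⟨y, hy⟩ : V) ⟨x, hx⟩))
    have hM : IsPGroup p ((centralizer (V : Set (K ⧸ N))).comap π) := by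
      intro x
      obtain ⟨k, m, hm, hkm⟩ := Nat.exists_eq_pow_mul_and_not_dvd (orderOf_pos (x : K)).ne' p hp.out.ne_one
      refine ⟨k, Subtype.ext ?_⟩
      show (x : K) ^ p ^ k = 1
      set z := (x : K) ^ p ^ k with hz
      have hzord : orderOf z = m := by
        rw [hz, orderOf_pow' _ (pow_ne_zero _ hp.out.ne_zero), hkm, Nat.gcd_eq_right (dvd_mul_right _ _),
          Nat.mul_div_cancel_left _ (pow_pos hp.out.pos k)]
      obtain ⟨j, hj⟩ := IsPGroup.iff_card.1 hUp
      have hcen : zpowers z ≤ centralizer (U : Set K) := by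
        refine Loc.le_centralizer_of_mod_frattini (fun g _ => by rw [normalizer_eq_top]; exact mem_top g) ?_
          (Or.inl ?_) ?_
        · rw [Nat.card_zpowers, hzord, hj]
          exact ((hp.out.coprime_iff_not_dvd.2 hm).symm.pow_right j)
        · exact inferInstance
        · rw [commutator_le]
          intro u hu g hg
          have hle : N ≤ (frattini U).map U.subtype := by
            rw [hN, ← Subgroup.map_subtype_commutator]
            exact Subgroup.map_mono (Grp.pGroup_commutator_le_frattini hUp)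
          refine hle ?_
          obtain ⟨i, rfl⟩ := hg
          have h1 : π (z ^ i) ∈ centralizer (V : Set (K ⧸ N)) := by
            rw [map_zpow, hz, map_pow]
            exact zpow_mem (pow_mem x.2 _) i
          rw [← QuotientGroup.eq_one_iff, ← QuotientGroup.mk'_apply, map_commutatorElement,
            commutatorElement_eq_one_iff_mul_comm]
          exact mem_centralizer_iff.1 h1 (π u) (mem_map_of_mem π hu)
      have hzU : z ∈ U := hCU (hcen (mem_zpowers z))
      obtain ⟨i, hi⟩ := IsPGroup.iff_orderOf.1 hUp ⟨z, hzU⟩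
      rw [Subgroup.orderOf_mk] at hi
      refine orderOf_eq_one_iff.1 (Nat.eq_one_of_dvd_coprimes
        ((hp.out.coprime_iff_not_dvd.2 hm).pow_left i) hi.dvd hzord.dvd)
    haveI : (centralizer (V : Set (K ⧸ N))).Normal := Subgroup.normal_centralizer
    have h1 : (centralizer (V : Set (K ⧸ N))).comap π ≤ U := le_sSup ⟨Subgroup.Normal.comap inferInstance π, hM⟩
    intro x hx
    obtain ⟨x, rfl⟩ := hπs x
    exact mem_map_of_mem π (h1 hx)
  let φ : (K ⧸ N) ⧸ V →* MulAut V := QuotientGroup.lift V MulAut.conjNormal fun v hv => MulEquiv.ext fun w =>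
    Subtype.ext (by
      rw [MulAut.conjNormal_apply]
      show v * w * v⁻¹ = _
      rw [show v * (w : K ⧸ N) = w * v from
        congrArg Subtype.val (IsMulCommutative.is_comm.comm (⟨v, hv⟩ : V) w), mul_inv_cancel_right]
      rfl)
  letI : MulDistribMulAction ((K ⧸ N) ⧸ V) V := MulDistribMulAction.compHom V φ
  have hact : ∀ (g : K ⧸ N) (v : V), (((g : (K ⧸ N) ⧸ V) • v : V) : K ⧸ N) = g * v * g⁻¹ := fun g v =>
    MulAut.conjNormal_apply g v
  haveI : FaithfulSMul ((K ⧸ N) ⧸ V) V := ⟨fun {a b} h => by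
    obtain ⟨a, rfl⟩ := QuotientGroup.mk_surjective a
    obtain ⟨b, rfl⟩ := QuotientGroup.mk_surjective b
    refine QuotientGroup.eq.2 (hCV.le (mem_centralizer_iff.2 fun v hv => ?_))
    have h1 : a * v * a⁻¹ = b * v * b⁻¹ := by
      rw [← hact a ⟨v, hv⟩, ← hact b ⟨v, hv⟩, h]
    calc v * (a⁻¹ * b) = a⁻¹ * (a * v * a⁻¹) * b := by group
      _ = a⁻¹ * b * v := by rw [h1]; group⟩
  set ρ : K →* (K ⧸ N) ⧸ V := (QuotientGroup.mk' V).comp π with hρ
  have hρs : Function.Surjective ρ := (QuotientGroup.mk'_surjective V).comp hπs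
  set T := Q.mapSurjective hρs with hT
  have hTmem : ∀ t, t ∈ (T : Subgroup ((K ⧸ N) ⧸ V)) → ∃ q : (Q : Subgroup K), ρ q = t := by
    rintro _ ⟨q, hq, rfl⟩
    exact ⟨⟨q, hq⟩, rfl⟩
  have hρU : ∀ x ∈ U, ρ x = 1 := fun x hx => (QuotientGroup.eq_one_iff _).2 (mem_map_of_mem π hx)
  let inV : U →* V := π.subgroupMap U
  have hinV : Function.Surjective inV := π.subgroupMap_surjective U
  have hsmul : ∀ (q : (Q : Subgroup K)) (u : U),
      ((ρ q • inV u * (inV u)⁻¹ : V) : K ⧸ N) = π ((⁅q, ⟨u, hUQ u.2⟩⁆ : (Q : Subgroup K)) : K) := fun q u => by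
    rw [Subgroup.coe_mul, Subgroup.coe_inv]
    show ((((π q : K ⧸ N) : (K ⧸ N) ⧸ V) • inV u : V) : K ⧸ N) * (π u)⁻¹ = _
    rw [hact]
    show π q * π u * (π q)⁻¹ * (π u)⁻¹ = π ((q : K) * u * (q : K)⁻¹ * (u : K)⁻¹)
    simp only [map_mul, map_inv]
  set D : Subgroup V := (((center (Q : Subgroup K)).map (Q : Subgroup K).subtype).map π).subgroupOf V with hD
  set E : Subgroup V := (((commutator (Q : Subgroup K)).map (Q : Subgroup K).subtype).map π).subgroupOf V with hE
  have hcomZ : commutator (Q : Subgroup K) ≤ center (Q : Subgroup K) := by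
    rw [_root_.commutator_def, commutator_le]
    exact fun a _ b _ => hc2 a b
  have hDmem : ∀ u : U, inV u ∈ D ↔ (⟨u, hUQ u.2⟩ : (Q : Subgroup K)) ∈ center (Q : Subgroup K) := by
    intro u
    refine ⟨fun h => ?_, fun h => ⟨u, ⟨⟨u, hUQ u.2⟩, h, rfl⟩, rfl⟩⟩
    obtain ⟨_, ⟨z, hz, rfl⟩, e⟩ := h
    obtain ⟨c, hc, ec⟩ := hNQ _ (QuotientGroup.eq.1 e)
    have : (⟨u, hUQ u.2⟩ : (Q : Subgroup K)) = z * c := Subtype.ext (by
      rw [Subgroup.coe_mul, ec]; exact (mul_inv_cancel_left (z : K) (u : K)).symm)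
    rw [this]
    exact mul_mem hz (hcomZ hc)
  obtain ⟨hTcard, hDi, h23, htwo⟩ := quad (p := p) (hUp.map π) (Grp.isPSolvable_map hK ρ hρs)
    (Grp.TwoClassCore.pCore_quotient_eq_bot V (hUp.map π) hVcore) T
    (by
      intro t ht
      obtain ⟨q, rfl⟩ := hTmem t ht
      rw [← map_pow]
      exact hρU _ (hZU _ (hpz q)))
    (by
      intro t ht t' ht'
      obtain ⟨q, rfl⟩ := hTmem t ht
      obtain ⟨q', rfl⟩ := hTmem t' ht'
      rw [← commutatorElement_eq_one_iff_mul_comm, ← map_commutatorElement]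
      exact hρU _ (hcU q q'))
    (fun e => hnle fun x hx => by
      have h1 : ρ x ∈ (T : Subgroup ((K ⧸ N) ⧸ V)) := mem_map_of_mem ρ hx
      rw [e, mem_bot] at h1
      obtain ⟨u, hu, eu⟩ := (QuotientGroup.eq_one_iff _).1 h1
      have := mul_mem hu (hNU (QuotientGroup.eq.1 eu))
      rwa [mul_inv_cancel_left] at this)
    D E (Subgroup.comap_mono (Subgroup.map_mono (Subgroup.map_mono hcomZ)))
    (by
      intro t ht d hd
      obtain ⟨q, rfl⟩ := hTmem t ht
      obtain ⟨u, rfl⟩ := hinV d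
      refine mul_inv_eq_one.1 (Subtype.ext ?_)
      rw [hsmul, (commutatorElement_eq_one_iff_mul_comm.2 (mem_center_iff.1 ((hDmem u).1 hd) q)),
        Subgroup.coe_one, map_one, Subgroup.coe_one])
    (by
      intro t ht v
      obtain ⟨q, rfl⟩ := hTmem t ht
      obtain ⟨u, rfl⟩ := hinV v
      rw [hE, mem_subgroupOf, hsmul]
      exact mem_map_of_mem π (mem_map_of_mem _
        (Subgroup.commutator_mem_commutator (mem_top _) (mem_top _))))
    (by
      intro v hv e he
      obtain ⟨u, rfl⟩ := hinV v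
      obtain ⟨_, ⟨c, hc, rfl⟩, ec⟩ := he
      obtain ⟨b, hb⟩ := hsurj _ (fun h => hv ((hDmem u).2 h)) c⁻¹ (inv_mem hc)
      refine ⟨ρ b, mem_map_of_mem ρ b.2, Subtype.ext ?_⟩
      rw [hsmul, ← commutatorElement_inv, hb, inv_inv]
      exact ec)
  -- `U` is abelian
  set Z' := ((center (Q : Subgroup K)).map (Q : Subgroup K).subtype).subgroupOf U with hZ'
  have hZcomap : D.comap inV = Z' := by
    ext u
    refine (hDmem u).trans ⟨fun h => ⟨⟨u, hUQ u.2⟩, h, rfl⟩, ?_⟩
    rintro ⟨z, hz, e⟩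
    rwa [show (⟨u, hUQ u.2⟩ : (Q : Subgroup K)) = z from Subtype.ext e.symm]
  have hZ'i : Z'.index = p := by rw [← hZcomap, Subgroup.index_comap_of_surjective _ hinV, hDi]
  have hN1 : N = ⊥ := by
    rw [hN, commutator_eq_bot_iff_le_centralizer]
    intro a ha
    rw [mem_centralizer_iff]
    intro b hb
    by_cases haz : (⟨a, ha⟩ : U) ∈ Z'
    · obtain ⟨z, hz, e⟩ := haz
      change (z : K) = a at e
      rw [← e]
      exact congrArg Subtype.val (mem_center_iff.1 hz ⟨b, hUQ hb⟩)
    · haveI : Z'.Normal := ⟨fun x hx g => by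
        obtain ⟨z, hz, e⟩ := hx
        refine ⟨z, hz, ?_⟩
        show (z : K) = (g : K) * x * (g : K)⁻¹
        change (z : K) = x at e
        rw [← e, show (g : K) * z = z * g from congrArg Subtype.val (mem_center_iff.1 hz ⟨g, hUQ g.2⟩),
          mul_inv_cancel_right]⟩
      have hgen : Z' ⊔ zpowers (⟨a, ha⟩ : U) = ⊤ := by
        refine index_eq_one.1 ?_
        have h1 := relIndex_mul_index (show Z' ≤ Z' ⊔ zpowers (⟨a, ha⟩ : U) from le_sup_left)
        rw [hZ'i] at h1
        rcases (Nat.dvd_prime hp.out).1 (Dvd.intro_left _ h1) with h | h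
        · exact h
        · rw [h] at h1
          have h2 := relIndex_eq_one.1 (Nat.eq_of_mul_eq_mul_right hp.out.pos (h1.trans (one_mul p).symm))
          exact absurd (h2 (mem_sup_right (mem_zpowers _))) haz
      have hb' : (⟨b, hb⟩ : U) ∈ centralizer ({(⟨a, ha⟩ : U)} : Set U) := by
        have hle : Z' ⊔ zpowers (⟨a, ha⟩ : U) ≤ centralizer ({(⟨a, ha⟩ : U)} : Set U) := by
          refine sup_le (fun x hx => ?_) (zpowers_le.2 (mem_centralizer_iff.2 fun y hy => by
            rw [Set.mem_singleton_iff.1 hy]))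
          obtain ⟨z, hz, e⟩ := hx
          refine mem_centralizer_iff.2 fun y hy => ?_
          rw [Set.mem_singleton_iff.1 hy]
          refine Subtype.ext ?_
          show a * (x : K) = (x : K) * a
          change (z : K) = x at e
          rw [← e]
          exact congrArg Subtype.val (mem_center_iff.1 hz ⟨a, hUQ ha⟩)
        exact hle (hgen.ge (mem_top _))
      exact (congrArg Subtype.val (mem_centralizer_iff.1 hb' _ rfl)).symm
  have hπi : ∀ x y : K, π x = π y → x = y := fun x y h => by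
    have := QuotientGroup.eq.1 h
    rwa [hN1, mem_bot, inv_mul_eq_one] at this
  have hQU : (U.subgroupOf (Q : Subgroup K)).index = p := by
    have hker : (ρ.comp (Q : Subgroup K).subtype).ker = U.subgroupOf (Q : Subgroup K) := by
      ext x
      refine ⟨fun h => ?_, fun h => hρU _ h⟩
      obtain ⟨u, hu, e⟩ := (QuotientGroup.eq_one_iff _).1 h
      have := hπi _ _ e
      show (x : K) ∈ U
      exact (show u = (x : K) from this) ▸ hu
    rw [← hker, index_ker, MonoidHom.range_comp, Subgroup.range_subtype]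
    exact hTcard
  have hidx : (center (Q : Subgroup K)).index = p ^ 2 := by
    have hle : center (Q : Subgroup K) ≤ U.subgroupOf (Q : Subgroup K) := fun z hz => hZU z hz
    have hrel : (center (Q : Subgroup K)).relIndex (U.subgroupOf (Q : Subgroup K)) = p := by
      have h1 : (center (Q : Subgroup K)).map (Q : Subgroup K).subtype ≤ U := by
        rintro _ ⟨z, hz, rfl⟩; exact hZU z hz
      have h2 : ((center (Q : Subgroup K)).map (Q : Subgroup K).subtype).relIndex
          ((U.subgroupOf (Q : Subgroup K)).map (Q : Subgroup K).subtype) = p := by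
        rw [map_subgroupOf_eq_of_le hUQ]
        exact hZ'i
      rwa [Subgroup.relIndex_map_map_of_injective _ _ (Q : Subgroup K).subtype_injective] at h2
    rw [← relIndex_mul_index hle, hrel, hQU, sq]
  obtain ⟨hp3, hσ⟩ := hsmall hidx
  rcases h23 with h2 | h3
  swap
  · exact hp3 h3
  obtain ⟨σ, hσ⟩ := hσ h2
  obtain ⟨C, hEC, ⟨v₁, hv₁D, hv₁2⟩, hsq⟩ := htwo h2
  obtain ⟨u₁, rfl⟩ := hinV v₁
  set a₁ : (Q : Subgroup K) := ⟨u₁, hUQ u₁.2⟩ with ha₁
  have ha₁Z : a₁ ∉ center (Q : Subgroup K) := fun h => hv₁D ((hDmem u₁).2 h)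
  have ha₁2 : a₁ * a₁ = 1 := Subtype.ext (hπi _ 1 (by
    have := congrArg Subtype.val hv₁2
    rw [sq] at this
    rw [map_one, Subgroup.coe_mul, map_mul]
    exact this))
  set a₂ := σ a₁ with ha₂
  set a₃ := σ a₂ with ha₃
  have ha₂Z : a₂ ∉ center (Q : Subgroup K) := fun h => ha₁Z (by
    rw [mem_center_iff] at h ⊢
    intro g
    refine σ.injective ?_
    rw [map_mul, map_mul]
    exact h (σ g))
  have hd12 : a₂ * a₁⁻¹ ∉ center (Q : Subgroup K) := hσ a₁ ha₁Z
  have hd23 : a₃ * a₂⁻¹ ∉ center (Q : Subgroup K) := hσ a₂ ha₂Z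
  -- the four cosets of the centre
  have hcard4 : Nat.card ((Q : Subgroup K) ⧸ center (Q : Subgroup K)) = 4 := by
    rw [← Subgroup.index_eq_card, hidx, h2]; norm_num
  have hfour : ∀ x : (Q : Subgroup K), x ∈ center (Q : Subgroup K) ∨ x * a₁⁻¹ ∈ center (Q : Subgroup K) ∨
      x * a₂⁻¹ ∈ center (Q : Subgroup K) ∨ x * (a₁ * a₂)⁻¹ ∈ center (Q : Subgroup K) := by
    intro x
    by_contra hx
    push Not at hx
    obtain ⟨h0, h1, h2', h3⟩ := hx
    have hq : ∀ a b : (Q : Subgroup K), (a : (Q : Subgroup K) ⧸ center (Q : Subgroup K)) = b →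
        a * b⁻¹ ∈ center (Q : Subgroup K) := fun a b e => by
      rw [← QuotientGroup.eq_one_iff, QuotientGroup.mk_mul, QuotientGroup.mk_inv, e, mul_inv_cancel]
    have hinv : a₁⁻¹ = a₁ := inv_eq_of_mul_eq_one_left ha₁2
    have n12 : a₁ * a₂ ∉ center (Q : Subgroup K) := fun h => hd12 (by
      rw [hinv]
      have := (inferInstance : (center (Q : Subgroup K)).Normal).conj_mem _ h a₂
      rwa [show a₂ * (a₁ * a₂) * a₂⁻¹ = a₂ * a₁ by group] at this)
    let f : Fin 5 → (Q : Subgroup K) ⧸ center (Q : Subgroup K) := ![1, a₁, a₂, (a₁ * a₂ : (Q : Subgroup K)), x]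
    have hf : Function.Injective f := by
      have e0 : ∀ a : (Q : Subgroup K), (1 : (Q : Subgroup K) ⧸ center (Q : Subgroup K)) = a →
          a ∈ center (Q : Subgroup K) := fun a e => (QuotientGroup.eq_one_iff a).1 e.symm
      intro i j hij
      fin_cases i <;> fin_cases j <;> try rfl
      all_goals exfalso
      all_goals simp [f] at hij
      all_goals first
        | exact ha₁Z hij | exact ha₂Z hij | exact h0 hij | exact n12 hij
        | exact ha₁Z (e0 _ hij) | exact ha₁Z (e0 _ hij.symm)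
        | exact ha₂Z (e0 _ hij) | exact ha₂Z (e0 _ hij.symm)
        | exact n12 (e0 _ hij) | exact n12 (e0 _ hij.symm)
        | exact h0 (e0 _ hij) | exact h0 (e0 _ hij.symm)
        | exact hd12 (hq _ _ hij) | exact hd12 (hq _ _ hij.symm)
        | exact h1 (hq _ _ hij) | exact h1 (hq _ _ hij.symm)
        | exact h2' (hq _ _ hij) | exact h2' (hq _ _ hij.symm)
        | exact h3 (hq _ _ hij) | exact h3 (hq _ _ hij.symm)
    have := Nat.card_le_card_of_injective f hf
    rw [hcard4, Nat.card_fin] at this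
    omega
  have hnc : ⁅a₁, a₂⁆ ≠ 1 := by
    intro e
    refine ha₁Z (mem_center_iff.2 fun g => ?_)
    have hc : ∀ z ∈ center (Q : Subgroup K), ∀ w, z * w = w * z := fun z hz w => (mem_center_iff.1 hz w).symm
    have h12 : a₂ * a₁ = a₁ * a₂ := (commutatorElement_eq_one_iff_mul_comm.1 e).symm
    rcases hfour g with h | h | h | h
    · exact hc g h a₁
    · obtain ⟨z, hz, rfl⟩ : ∃ z ∈ center (Q : Subgroup K), g = z * a₁ := ⟨_, h, by group⟩
      rw [← mul_assoc, ← hc z hz a₁]
    · obtain ⟨z, hz, rfl⟩ : ∃ z ∈ center (Q : Subgroup K), g = z * a₂ := ⟨_, h, by group⟩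
      rw [← mul_assoc, ← hc z hz a₁, mul_assoc, h12, mul_assoc]
    · obtain ⟨z, hz, rfl⟩ : ∃ z ∈ center (Q : Subgroup K), g = z * (a₁ * a₂) := ⟨_, h, by group⟩
      rw [← mul_assoc a₁ z, ← hc z hz a₁]
      simp only [mul_assoc]
      rw [h12]
  have ha₂2 : a₂ * a₂ = 1 := by rw [ha₂, ← map_mul, ha₁2, map_one]
  have ha₃2 : a₃ * a₃ = 1 := by rw [ha₃, ← map_mul, ha₂2, map_one]
  -- `a₃` lies in the coset of `a₁ a₂`
  rcases hfour a₃ with h | h | h | h
  · exact ha₂Z ((mem_center_iff).2 fun g => σ.injective (by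
      rw [map_mul, map_mul]; exact mem_center_iff.1 h (σ g)))
  · -- `σ` would swap `a₁` and `a₂`
    set w := a₁ * a₂ with hw
    have hwZ : w ∉ center (Q : Subgroup K) := fun hwz => hd12 (by
      rw [inv_eq_of_mul_eq_one_left ha₁2]
      have := (inferInstance : (center (Q : Subgroup K)).Normal).conj_mem _ hwz a₂
      rwa [show a₂ * (a₁ * a₂) * a₂⁻¹ = a₂ * a₁ by group] at this)
    refine hσ w hwZ ?_
    rw [hw, map_mul, ← ha₂, ← ha₃, ← QuotientGroup.eq_one_iff]
    have e3 : (a₃ : (Q : Subgroup K) ⧸ center (Q : Subgroup K)) = a₁ := by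
      rw [← QuotientGroup.eq_one_iff, QuotientGroup.mk_mul, QuotientGroup.mk_inv, mul_inv_eq_one] at h
      exact h
    have hcomm : (a₁ : (Q : Subgroup K) ⧸ center (Q : Subgroup K)) * a₂ = a₂ * a₁ := by
      rw [← commutatorElement_eq_one_iff_mul_comm]
      exact (QuotientGroup.eq_one_iff _).2 (hc2 a₁ a₂)
    simp only [QuotientGroup.mk_mul, QuotientGroup.mk_inv, e3, hcomm]
    group
  · exact hd23 h
  · obtain ⟨z, hz, hz3⟩ : ∃ z ∈ center (Q : Subgroup K), a₃ = a₁ * a₂ * z :=
      ⟨(a₁ * a₂)⁻¹ * a₃, by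
        have := (inferInstance : (center (Q : Subgroup K)).Normal).conj_mem _ h (a₁ * a₂)⁻¹
        rwa [inv_inv, show (a₁ * a₂)⁻¹ * (a₃ * (a₁ * a₂)⁻¹) * (a₁ * a₂) = (a₁ * a₂)⁻¹ * a₃ by group] at this,
        by group⟩
    -- the commutator is a square in the centre
    have hcom : ⁅a₁, a₂⁆ = a₁ * a₂ * (a₁ * a₂) := by
      rw [commutatorElement_def, inv_eq_of_mul_eq_one_left ha₁2, inv_eq_of_mul_eq_one_left ha₂2]
      group
    have hzz : ⁅a₁, a₂⁆ * (z * z) = 1 := by
      have hc : z * (a₁ * a₂) = a₁ * a₂ * z := (mem_center_iff.1 hz _).symm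
      rw [hcom, ← ha₃2, hz3]
      calc a₁ * a₂ * (a₁ * a₂) * (z * z) = a₁ * a₂ * ((a₁ * a₂) * z) * z := by group
        _ = a₁ * a₂ * (z * (a₁ * a₂)) * z := by rw [hc]
        _ = a₁ * a₂ * z * (a₁ * a₂ * z) := by group
    set e := ⁅a₁, a₂⁆ with he
    set eU : U := ⟨(e : K), hcU a₁ a₂⟩
    have heC : inV eU ∈ C := by
      have hzU : (z : K) ∈ U := hZU z hz
      have : inV eU = ((inV ⟨z, hzU⟩) ^ 2)⁻¹ := by
        refine eq_inv_of_mul_eq_one_left ?_
        rw [sq, ← map_mul, ← map_mul, show eU * (⟨z, hzU⟩ * ⟨z, hzU⟩) = 1 from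
          Subtype.ext (show ((e * (z * z) : (Q : Subgroup K)) : K) = 1 by rw [hzz]; rfl), map_one]
      rw [this]
      exact inv_mem (hsq _)
    have heE : inV eU ∈ E := mem_map_of_mem π (mem_map_of_mem _
      (Subgroup.commutator_mem_commutator (mem_top a₁) (mem_top a₂)))
    have he1 : inV eU = 1 := by
      have : inV eU ∈ E ⊓ C := ⟨heE, heC⟩
      rwa [hEC, mem_bot] at this
    exact hnc (Subtype.ext (hπi _ 1 (by rw [map_one]; exact congrArg Subtype.val he1)))

end Main

end Cfsg.Agent.Transfer.SemiExtraLength
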