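import Cfsg.Agent.Lib.Transfer.TwoClassOrder

/-!
A group with a central element of order seven and two classes of involutions with prescribed centralisers is the
product of the cyclic group of order seven and the symmetric group of degree five.
-/

set_option autoImplicit false
set_option linter.style.haveILetI false

namespace Cfsg.Agent.Transfer.SevenS5

/-- The hypotheses. -/
structure Data (C : Type*) [Group C] where
  /-- the central element -/
  n : C
  /-- the first involution -/
  t : C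
  /-- its companion -/
  t2 : C
  /-- the second involution -/
  u : C
  /-- the element of order three centralising the second involution -/
  q : C
  /-- the element permuting the three conjugates of the first involution -/
  r : C
  n_pow : n ^ 7 = 1
  n_ne : n ≠ 1
  n_cen : ∀ x, x * n = n * x
  tt : t * t = 1
  t_ne : t ≠ 1
  t2t2 : t2 * t2 = 1
  t2_ne : t2 ≠ 1
  t2_ne_t : t2 ≠ t
  t_t2 : t * t2 = t2 * t
  uu : u * u = 1
  u_ne : u ≠ 1
  u_t : u * t = t * u
  u_t2 : u * t2 = t * t2 * u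
  q3 : q * q * q = 1
  q_ne : q ≠ 1
  q_u : q * u = u * q
  t_q : t * q = q * q * t
  r_t : r * t * r⁻¹ = t2
  r_t2 : r * t2 * r⁻¹ = t * t2
  r_t3 : r * (t * t2) * r⁻¹ = t
  cent_t : ∀ x, x * t = t * x → ∃ a b c l : ℕ, x = t ^ a * t2 ^ b * u ^ c * n ^ l
  cent_u : ∀ x, x * u = u * x → ∃ a b c l : ℕ, x = u ^ a * q ^ b * t ^ c * n ^ l
  not_conj : ¬ IsConj t u

variable {C : Type*} [Group C] (d : Data C)

theorem pow_mod_two {x : C} (h : x * x = 1) (a : ℕ) : x ^ a = x ^ (a % 2) :=
  pow_eq_pow_mod a (by rw [pow_two]; exact h)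

theorem bool_pow {x : C} (h : x * x = 1) (a : ℕ) : x ^ a = 1 ∨ x ^ a = x := by
  rw [pow_mod_two h]
  rcases Nat.mod_two_eq_zero_or_one a with e | e <;> rw [e]
  exacts [Or.inl (pow_zero x), Or.inr (pow_one x)]

theorem three_pow {x : C} (h : x * x * x = 1) (a : ℕ) : x ^ a = 1 ∨ x ^ a = x ∨ x ^ a = x * x := by
  rw [pow_eq_pow_mod a (show x ^ 3 = 1 by rw [pow_succ, pow_two]; exact h)]
  have : a % 3 < 3 := Nat.mod_lt _ (by norm_num)
  interval_cases a % 3
  exacts [Or.inl (pow_zero _), Or.inr (Or.inl (pow_one _)), Or.inr (Or.inr (pow_two _))]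

/-- The eight elements of the two-group. -/
def wD (a b c : Bool) : C := (if a then d.t else 1) * (if b then d.t2 else 1) * (if c then d.u else 1)

/-- The twelve elements of the centraliser of the second involution modulo the centre. -/
def wE (a : Bool) (j : Fin 3) (c : Bool) : C := (if a then d.u else 1) * d.q ^ (j : ℕ) * (if c then d.t else 1)

theorem wD_mul (a b c a' b' c' : Bool) :
    wD d a b c * wD d a' b' c' = wD d (xor (xor a a') (c && b')) (xor b b') (xor c c') := by
  have cu : ∀ e : Bool, (if c then d.u else 1) * (if e then d.t else 1) = (if e then d.t else 1) * (if c then d.u else 1) :=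
    fun e => by cases e <;> cases c <;> simp [d.u_t]
  have cb : (if c then d.u else 1) * (if b' then d.t2 else 1) =
      (if c && b' then d.t else 1) * (if b' then d.t2 else 1) * (if c then d.u else 1) := by
    cases b' <;> cases c <;> simp [d.u_t2]
  have ab : ∀ e : Bool, (if b then d.t2 else 1) * (if e then d.t else 1) = (if e then d.t else 1) * (if b then d.t2 else 1) :=
    fun e => by cases e <;> cases b <;> simp [d.t_t2]
  have mt : ∀ {x : C}, x * x = 1 → ∀ e f : Bool,
      (if e then x else 1) * (if f then x else 1) = (if xor e f then x else 1) := fun h e f => by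
    cases e <;> cases f <;> simp [h]
  unfold wD
  calc (if a then d.t else 1) * (if b then d.t2 else 1) * (if c then d.u else 1) *
        ((if a' then d.t else 1) * (if b' then d.t2 else 1) * (if c' then d.u else 1))
      = (if a then d.t else 1) * (if b then d.t2 else 1) * ((if c then d.u else 1) * (if a' then d.t else 1)) *
          (if b' then d.t2 else 1) * (if c' then d.u else 1) := by group
    _ = (if a then d.t else 1) * ((if b then d.t2 else 1) * (if a' then d.t else 1)) *
          ((if c then d.u else 1) * (if b' then d.t2 else 1)) * (if c' then d.u else 1) := by rw [cu]; group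
    _ = ((if a then d.t else 1) * (if a' then d.t else 1)) *
          ((if b then d.t2 else 1) * (if c && b' then d.t else 1)) * (if b' then d.t2 else 1) *
          ((if c then d.u else 1) * (if c' then d.u else 1)) := by rw [ab, cb]; group
    _ = ((if a then d.t else 1) * (if a' then d.t else 1) * (if c && b' then d.t else 1)) *
          ((if b then d.t2 else 1) * (if b' then d.t2 else 1)) *
          ((if c then d.u else 1) * (if c' then d.u else 1)) := by rw [ab]; group
    _ = _ := by rw [mt d.tt, mt d.tt, mt d.t2t2, mt d.uu]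

theorem wD_zero : wD d false false false = 1 := by simp [wD]

theorem wD_eq_one {a b c : Bool} (h : wD d a b c = 1) : a = false ∧ b = false ∧ c = false := by
  have t3 : d.t * d.t2 ≠ 1 := fun e => d.t2_ne_t (mul_left_cancel (e.trans d.tt.symm))
  cases c
  · cases a <;> cases b <;> simp [wD, d.t_ne, d.t2_ne, t3] at h ⊢
  · exfalso
    -- the last factor does not commute with the companion
    have hu : d.u * d.t2 = d.t2 * d.u := by
      have h' : (if a then d.t else 1) * (if b then d.t2 else 1) * d.u = 1 := by simpa [wD] using h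
      have hc : Commute ((if a then d.t else 1) * (if b then d.t2 else 1)) d.t2 := by
        refine Commute.mul_left ?_ ?_
        · cases a <;> simp [Commute, SemiconjBy, d.t_t2]
        · cases b <;> simp [Commute, SemiconjBy]
      rw [eq_inv_of_mul_eq_one_right h']
      exact hc.inv_left.eq
    rw [d.u_t2] at hu
    exact d.t_ne (mul_eq_right.1 (mul_right_cancel hu))

theorem wD_sq (a b c : Bool) : wD d a b c * wD d a b c = wD d (c && b) false false := by
  rw [wD_mul]; simp

/-- The two-group. -/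
def D : Subgroup C where
  carrier := {x | ∃ a b c, x = wD d a b c}
  one_mem' := ⟨false, false, false, (wD_zero d).symm⟩
  mul_mem' := by
    rintro _ _ ⟨a, b, c, rfl⟩ ⟨a', b', c', rfl⟩
    exact ⟨_, _, _, wD_mul d a b c a' b' c'⟩
  inv_mem' := by
    rintro _ ⟨a, b, c, rfl⟩
    refine ⟨xor a (c && b), b, c, inv_eq_of_mul_eq_one_right ?_⟩
    rw [wD_mul, ← wD_zero d]
    congr 1 <;> cases a <;> cases b <;> cases c <;> rfl

theorem mem_D {x : C} : x ∈ D d ↔ ∃ a b c, x = wD d a b c := Iff.rfl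

theorem wD_mem (a b c : Bool) : wD d a b c ∈ D d := ⟨a, b, c, rfl⟩

theorem t_eq : d.t = wD d true false false := by simp [wD]
theorem t2_eq : d.t2 = wD d false true false := by simp [wD]
theorem u_eq : d.u = wD d false false true := by simp [wD]
theorem t3_eq : d.t * d.t2 = wD d true true false := by simp [wD]
theorem tu_eq : d.t * d.u = wD d true false true := by simp [wD]

theorem wD_inj {a b c a' b' c' : Bool} (h : wD d a b c = wD d a' b' c') : a = a' ∧ b = b' ∧ c = c' := by
  have h1 : wD d a b c * (wD d a' b' c')⁻¹ = 1 := by rw [h, mul_inv_cancel]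
  have hi : (wD d a' b' c')⁻¹ = wD d (xor a' (c' && b')) b' c' := inv_eq_of_mul_eq_one_right (by
    rw [wD_mul, ← wD_zero d]
    congr 1 <;> cases a' <;> cases b' <;> cases c' <;> rfl)
  rw [hi, wD_mul] at h1
  obtain ⟨e1, e2, e3⟩ := wD_eq_one d h1
  revert e1 e2 e3
  cases a <;> cases b <;> cases c <;> cases a' <;> cases b' <;> cases c' <;> simp

variable [Finite C]

theorem card_D : Nat.card ↥(D d) = 8 := by
  rw [← show Nat.card (Bool × Bool × Bool) = 8 by simp [Nat.card_eq_fintype_card]]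
  refine (Nat.card_eq_of_bijective (fun x : Bool × Bool × Bool =>
    (⟨wD d x.1 x.2.1 x.2.2, wD_mem d _ _ _⟩ : ↥(D d))) ⟨fun x y e => ?_, fun x => ?_⟩).symm
  · obtain ⟨e1, e2, e3⟩ := wD_inj d (congrArg Subtype.val e)
    exact Prod.ext e1 (Prod.ext e2 e3)
  · obtain ⟨a, b, c, e⟩ := x.2
    exact ⟨(a, b, c), Subtype.ext e.symm⟩

theorem orderOf_n : orderOf d.n = 7 := by
  haveI : Fact (Nat.Prime 7) := ⟨by norm_num⟩
  exact orderOf_eq_prime d.n_pow d.n_ne

theorem card_prod_n {k : ℕ} (X : Subgroup C) (hX : Nat.card ↥X = k) (hk : Nat.Coprime k 7) {S : Subgroup C}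
    (hS : ∀ x, x ∈ S ↔ ∃ y ∈ X, ∃ l : ℕ, x = y * d.n ^ l) : Nat.card ↥S = k * 7 := by
  have hdisj : X ⊓ Subgroup.zpowers d.n = ⊥ := Subgroup.inf_eq_bot_of_coprime (by
    rw [hX, Nat.card_zpowers, orderOf_n]; exact hk)
  rw [← hX, ← orderOf_n d, ← Nat.card_zpowers, ← Nat.card_prod]
  refine (Nat.card_eq_of_bijective (fun p : ↥X × ↥(Subgroup.zpowers d.n) =>
    (⟨(p.1 : C) * p.2, (hS _).2 ?_⟩ : ↥S)) ⟨fun p p' e => ?_, fun x => ?_⟩).symm
  · obtain ⟨l, hl⟩ := (isOfFinOrder_of_finite d.n).mem_powers_iff_mem_zpowers.2 p.2.2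
    exact ⟨p.1, p.1.2, l, congrArg _ hl.symm⟩
  · exact Subgroup.mul_injective_of_disjoint (disjoint_iff.2 hdisj) (congrArg Subtype.val e)
  · obtain ⟨y, hy, l, e⟩ := (hS _).1 x.2
    exact ⟨(⟨y, hy⟩, ⟨d.n ^ l, pow_mem (Subgroup.mem_zpowers _) l⟩), Subtype.ext e.symm⟩

theorem mem_cent_t {x : C} :
    x ∈ Subgroup.centralizer ({d.t} : Set C) ↔ ∃ y ∈ D d, ∃ l : ℕ, x = y * d.n ^ l := by
  rw [Subgroup.mem_centralizer_singleton_iff]
  constructor
  · intro h
    obtain ⟨a, b, c, l, rfl⟩ := d.cent_t x h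
    refine ⟨_, ?_, l, rfl⟩
    exact mul_mem (mul_mem (pow_mem (t_eq d ▸ wD_mem d _ _ _) a) (pow_mem (t2_eq d ▸ wD_mem d _ _ _) b))
      (pow_mem (u_eq d ▸ wD_mem d _ _ _) c)
  · rintro ⟨_, ⟨a, b, c, rfl⟩, l, rfl⟩
    have h1 : Commute (wD d a b c) d.t := by
      show _ = _
      conv_lhs => rw [t_eq d, wD_mul]
      conv_rhs => rw [t_eq d, wD_mul]
      congr 1 <;> cases a <;> cases b <;> cases c <;> rfl
    exact (h1.mul_left ((show Commute d.t d.n from d.n_cen d.t).symm.pow_left l)).eq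

theorem card_cent_t : Nat.card ↥(Subgroup.centralizer ({d.t} : Set C)) = 56 := by
  rw [card_prod_n d (D d) (card_D d) (by norm_num) fun x => mem_cent_t d]

theorem part_eq {X : Subgroup C} {k : ℕ} (hX : Nat.card ↥X = k) (hk : Nat.Coprime k 7) {y : C} (hy : y ∈ X) {l : ℕ}
    (h : y * d.n ^ l * (y * d.n ^ l) = 1) : d.n ^ l = 1 ∧ y * y = 1 := by
  have hc : Commute y (d.n ^ l) := (show Commute y d.n from d.n_cen y).pow_right l
  have h2 : y * y * d.n ^ (2 * l) = 1 := by
    rw [two_mul, pow_add, ← h]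
    rw [mul_assoc y (d.n ^ l), ← mul_assoc (d.n ^ l) y, ← hc.eq]
    group
  have hm : y * y ∈ X ⊓ Subgroup.zpowers d.n := by
    refine Subgroup.mem_inf.2 ⟨mul_mem hy hy, ?_⟩
    rw [eq_inv_of_mul_eq_one_left h2]
    exact inv_mem (pow_mem (Subgroup.mem_zpowers _) _)
  rw [Subgroup.inf_eq_bot_of_coprime (by rw [hX, Nat.card_zpowers, orderOf_n]; exact hk), Subgroup.mem_bot] at hm
  rw [hm, one_mul] at h2
  refine ⟨?_, hm⟩
  rw [show d.n ^ l = (d.n ^ 7) ^ l * ((d.n ^ (2 * l)) ^ 3)⁻¹ by rw [← pow_mul, ← pow_mul]; group, d.n_pow, h2,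
    one_pow, one_pow, inv_one, mul_one]

/-- The involutions of the centraliser of the first involution. -/
theorem invol_cent_t {x : C} (hx : orderOf x = 2) (hc : x * d.t = d.t * x) :
    x = d.t ∨ x = d.t2 ∨ x = d.t * d.t2 ∨ x = d.u ∨ x = d.t * d.u := by
  obtain ⟨y, hy, l, rfl⟩ := (mem_cent_t d).1 (Subgroup.mem_centralizer_singleton_iff.2 hc)
  obtain ⟨h1, h2⟩ := part_eq d (card_D d) (by norm_num) hy (TwoClass.sq_eq_one hx)
  obtain ⟨a, b, c, rfl⟩ := hy
  rw [h1, mul_one] at hx ⊢
  rw [wD_sq] at h2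
  have hcb := (wD_eq_one d h2).1
  revert hx hcb
  cases a <;> cases b <;> cases c <;> simp [wD]

/-- The group of order twelve. -/
theorem wE_mul (a : Bool) (j : Fin 3) (c : Bool) (a' : Bool) (j' : Fin 3) (c' : Bool) :
    wE d a j c * wE d a' j' c' = wE d (xor a a') (if c then j + (j' + j') else j + j') (xor c c') := by
  have q3' : d.q ^ 3 = 1 := by rw [pow_succ, pow_two]; exact d.q3
  have fin : ∀ x y : Fin 3, d.q ^ ((x + y : Fin 3) : ℕ) = d.q ^ (x : ℕ) * d.q ^ (y : ℕ) := fun x y => by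
    rw [← pow_add, Fin.val_add, ← pow_eq_pow_mod _ q3']
  have tq : ∀ k : ℕ, d.t * d.q ^ k = d.q ^ (k + k) * d.t := fun k => by
    induction k with
    | zero => simp
    | succ k ih =>
      rw [pow_succ, ← mul_assoc, ih, mul_assoc, d.t_q, ← mul_assoc, show k + 1 + (k + 1) = k + k + 2 by ring,
        pow_add d.q (k + k) 2, pow_two]
  have qu : ∀ k : ℕ, Commute (d.q ^ k) d.u := fun k => (show Commute d.q d.u from d.q_u).pow_left k
  have ct : (if c then d.t else 1) * (if a' then d.u else 1) = (if a' then d.u else 1) * (if c then d.t else 1) := by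
    cases a' <;> cases c <;> simp [d.u_t]
  have cq : (if c then d.t else 1) * d.q ^ (j' : ℕ) =
      d.q ^ ((if c then (j' + j' : Fin 3) else j' : Fin 3) : ℕ) * (if c then d.t else 1) := by
    cases c
    · simp
    · simp only [↓reduceIte, fin, tq, ← pow_add]
  have mt : ∀ {x : C}, x * x = 1 → ∀ e f : Bool,
      (if e then x else 1) * (if f then x else 1) = (if xor e f then x else 1) := fun h e f => by
    cases e <;> cases f <;> simp [h]
  unfold wE
  calc (if a then d.u else 1) * d.q ^ (j : ℕ) * (if c then d.t else 1) *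
        ((if a' then d.u else 1) * d.q ^ (j' : ℕ) * (if c' then d.t else 1))
      = (if a then d.u else 1) * d.q ^ (j : ℕ) * ((if c then d.t else 1) * (if a' then d.u else 1)) *
          d.q ^ (j' : ℕ) * (if c' then d.t else 1) := by group
    _ = (if a then d.u else 1) * (d.q ^ (j : ℕ) * (if a' then d.u else 1)) *
          ((if c then d.t else 1) * d.q ^ (j' : ℕ)) * (if c' then d.t else 1) := by rw [ct]; group
    _ = ((if a then d.u else 1) * (if a' then d.u else 1)) *
          (d.q ^ (j : ℕ) * d.q ^ ((if c then (j' + j' : Fin 3) else j' : Fin 3) : ℕ)) *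
          ((if c then d.t else 1) * (if c' then d.t else 1)) := by
        have : d.q ^ (j : ℕ) * (if a' then d.u else 1) = (if a' then d.u else 1) * d.q ^ (j : ℕ) := by
          cases a' <;> simp [(qu j).eq]
        rw [this, cq]; group
    _ = _ := by
        rw [mt d.uu, mt d.tt, ← fin]
        cases c <;> rfl

theorem wE_eq_one {a : Bool} {j : Fin 3} {c : Bool} (h : wE d a j c = 1) : a = false ∧ j = 0 ∧ c = false := by
  have qq : d.q * d.q ≠ 1 := fun e => d.q_ne (by simpa [e] using d.q3)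
  have hut : d.u * d.t ≠ 1 := fun e => d.not_conj (by
    rw [show d.u = d.t by rw [eq_inv_of_mul_eq_one_left e, inv_eq_of_mul_eq_one_right d.tt]])
  -- the square
  have h2 := wE_mul d a j c a j c
  rw [h, one_mul] at h2
  cases c
  · fin_cases j <;> cases a <;> simp [wE, pow_succ, d.u_ne] at h h2 ⊢
    · exact d.q_ne h
    · have e : d.q = d.u := by rw [eq_inv_of_mul_eq_one_right h, inv_eq_of_mul_eq_one_right d.uu]
      have e' := d.q3
      rw [e, d.uu, one_mul] at e'
      exact d.u_ne e'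
    · exact qq h
    · exact d.q_ne (by
        have e := congrArg (fun x => x * x) h
        rw [show d.u * (d.q * d.q) * (d.u * (d.q * d.q)) = (d.u * d.u) * ((d.q * d.q * d.q) * d.q) by
          have hc : Commute (d.q * d.q) d.u := (show Commute d.q d.u from d.q_u).mul_left (show Commute d.q d.u from d.q_u)
          rw [mul_assoc d.u (d.q * d.q), ← mul_assoc (d.q * d.q) d.u, hc.eq]; group,
          d.uu, d.q3, one_mul, one_mul, mul_one] at e
        exact e)
  · exfalso
    -- it would centralise the element of order three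
    have h' : (if a then d.u else 1) * d.q ^ (j : ℕ) * d.t = 1 := by simpa [wE] using h
    have hc : Commute ((if a then d.u else 1) * d.q ^ (j : ℕ)) d.q :=
      Commute.mul_left (by cases a <;> simp [Commute, SemiconjBy, d.q_u]) ((Commute.refl d.q).pow_left _)
    have : Commute d.t d.q := by rw [eq_inv_of_mul_eq_one_right h']; exact hc.inv_left
    have e := this.eq
    rw [d.t_q] at e
    exact d.q_ne (mul_eq_left.1 (mul_right_cancel e))

/-- The centraliser of the second involution modulo the centre. -/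
def E : Subgroup C where
  carrier := {x | ∃ a j c, x = wE d a j c}
  one_mem' := ⟨false, 0, false, by simp [wE]⟩
  mul_mem' := by
    rintro _ _ ⟨a, j, c, rfl⟩ ⟨a', j', c', rfl⟩
    exact ⟨_, _, _, wE_mul d a j c a' j' c'⟩
  inv_mem' := by
    rintro _ ⟨a, j, c, rfl⟩
    refine ⟨a, if c then j else -j, c, inv_eq_of_mul_eq_one_right ?_⟩
    rw [wE_mul]
    cases a <;> cases c <;> fin_cases j <;> simp [wE]

theorem wE_mem (a : Bool) (j : Fin 3) (c : Bool) : wE d a j c ∈ E d := ⟨a, j, c, rfl⟩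

theorem u_eq' : d.u = wE d true 0 false := by simp [wE]
theorem q_eq' : d.q = wE d false 1 false := by simp [wE]
theorem t_eq' : d.t = wE d false 0 true := by simp [wE]

theorem wE_inj {a : Bool} {j : Fin 3} {c : Bool} {a' : Bool} {j' : Fin 3} {c' : Bool}
    (h : wE d a j c = wE d a' j' c') : a = a' ∧ j = j' ∧ c = c' := by
  have h1 : wE d a j c * (wE d a' j' c')⁻¹ = 1 := by rw [h, mul_inv_cancel]
  have hi : (wE d a' j' c')⁻¹ = wE d a' (if c' then j' else -j') c' := inv_eq_of_mul_eq_one_right (by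
    rw [wE_mul]
    cases a' <;> cases c' <;> fin_cases j' <;> simp [wE])
  rw [hi, wE_mul] at h1
  obtain ⟨e1, e2, e3⟩ := wE_eq_one d h1
  revert e1 e2 e3
  cases a <;> cases c <;> cases a' <;> cases c' <;> fin_cases j <;> fin_cases j' <;> simp <;> decide

theorem card_E : Nat.card ↥(E d) = 12 := by
  rw [← show Nat.card (Bool × Fin 3 × Bool) = 12 by simp [Nat.card_eq_fintype_card]]
  refine (Nat.card_eq_of_bijective (fun x : Bool × Fin 3 × Bool =>
    (⟨wE d x.1 x.2.1 x.2.2, wE_mem d _ _ _⟩ : ↥(E d))) ⟨fun x y e => ?_, fun x => ?_⟩).symm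
  · obtain ⟨e1, e2, e3⟩ := wE_inj d (congrArg Subtype.val e)
    exact Prod.ext e1 (Prod.ext e2 e3)
  · obtain ⟨a, j, c, e⟩ := x.2
    exact ⟨(a, j, c), Subtype.ext e.symm⟩

theorem mem_cent_u {x : C} :
    x ∈ Subgroup.centralizer ({d.u} : Set C) ↔ ∃ y ∈ E d, ∃ l : ℕ, x = y * d.n ^ l := by
  rw [Subgroup.mem_centralizer_singleton_iff]
  constructor
  · intro h
    obtain ⟨a, b, c, l, rfl⟩ := d.cent_u x h
    refine ⟨_, ?_, l, rfl⟩
    exact mul_mem (mul_mem (pow_mem (u_eq' d ▸ wE_mem d _ _ _) a) (pow_mem (q_eq' d ▸ wE_mem d _ _ _) b))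
      (pow_mem (t_eq' d ▸ wE_mem d _ _ _) c)
  · rintro ⟨_, ⟨a, j, c, rfl⟩, l, rfl⟩
    have h1 : Commute (wE d a j c) d.u := by
      show _ = _
      conv_lhs => rw [u_eq' d, wE_mul]
      conv_rhs => rw [u_eq' d, wE_mul]
      cases a <;> cases c <;> fin_cases j <;> rfl
    exact (h1.mul_left ((show Commute d.u d.n from d.n_cen d.u).symm.pow_left l)).eq

theorem card_cent_u : Nat.card ↥(Subgroup.centralizer ({d.u} : Set C)) = 84 := by
  rw [card_prod_n d (E d) (card_E d) (by norm_num) fun x => mem_cent_u d]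

theorem invol_cent_u {x : C} (hx : orderOf x = 2) (hc : x * d.u = d.u * x) :
    x = d.u ∨ (∃ j : Fin 3, x = wE d false j true) ∨ ∃ j : Fin 3, x = wE d true j true := by
  obtain ⟨y, hy, l, rfl⟩ := (mem_cent_u d).1 (Subgroup.mem_centralizer_singleton_iff.2 hc)
  obtain ⟨h1, h2⟩ := part_eq d (card_E d) (by norm_num) hy (TwoClass.sq_eq_one hx)
  obtain ⟨a, j, c, rfl⟩ := hy
  rw [h1, mul_one] at hx ⊢
  cases c
  · rw [wE_mul] at h2
    have hj := (wE_eq_one d h2).2.1
    revert hx hj
    fin_cases j <;> cases a <;> simp [wE]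
  · cases a
    · exact Or.inr (Or.inl ⟨j, rfl⟩)
    · exact Or.inr (Or.inr ⟨j, rfl⟩)

theorem conj_t2 : IsConj d.t d.t2 := isConj_iff.2 ⟨d.r, d.r_t⟩

theorem conj_t3 : IsConj d.t (d.t * d.t2) := (conj_t2 d).trans (isConj_iff.2 ⟨d.r, d.r_t2⟩)

theorem conj_tu : IsConj d.u (d.t * d.u) := by
  refine isConj_iff.2 ⟨d.t2, ?_⟩
  rw [inv_eq_of_mul_eq_one_right d.t2t2, mul_assoc, d.u_t2, d.t_t2, ← mul_assoc, ← mul_assoc, d.t2t2, one_mul]

theorem conj_E (a : Bool) (j : Fin 3) : IsConj (wE d a 0 true) (wE d a j true) := by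
  refine isConj_iff.2 ⟨wE d false (j + j) false, ?_⟩
  have hi : (wE d false (j + j) false)⁻¹ = wE d false (-(j + j)) false := inv_eq_of_mul_eq_one_right (by
    rw [wE_mul]; simp [wE])
  rw [hi, wE_mul, wE_mul]
  cases a <;> fin_cases j <;> rfl

theorem class_E (j : Fin 3) : IsConj d.t (wE d false j true) ∧ IsConj d.u (wE d true j true) := by
  refine ⟨t_eq' d ▸ conj_E d false j, (conj_tu d).trans ?_⟩
  rw [show d.t * d.u = wE d true 0 true by simp [wE, d.u_t]]
  exact conj_E d true j

theorem D_sylow (P : Sylow 2 C) (hP : D d ≤ (P : Subgroup C)) : (P : Subgroup C) = D d := by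
  haveI : Fact (Nat.Prime 2) := ⟨Nat.prime_two⟩
  by_contra hne
  haveI := P.2.isNilpotent
  have hlt : (D d).subgroupOf (P : Subgroup C) < ⊤ := lt_top_iff_ne_top.2 fun e => hne
    (le_antisymm (Subgroup.subgroupOf_eq_top.1 e) hP)
  obtain ⟨x, hx, hxn⟩ := SetLike.exists_of_lt (Group.normalizerCondition_of_isNilpotent _ hlt)
  have htD : d.t ∈ D d := t_eq d ▸ wD_mem d _ _ _
  have hm : (x : C) * d.t * (x : C)⁻¹ ∈ D d :=
    Subgroup.mem_subgroupOf.1 ((Subgroup.mem_normalizer_iff.1 hx ⟨d.t, hP htD⟩).1 (Subgroup.mem_subgroupOf.2 htD))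
  have hcent : ∀ y ∈ D d, y * ((x : C) * d.t * (x : C)⁻¹) = (x : C) * d.t * (x : C)⁻¹ * y := by
    intro y hy
    have hy' : (x : C)⁻¹ * y * x ∈ D d :=
      Subgroup.mem_subgroupOf.1 ((Subgroup.mem_normalizer_iff''.1 hx ⟨y, hP hy⟩).1 (Subgroup.mem_subgroupOf.2 hy))
    have h1 := Subgroup.mem_centralizer_singleton_iff.1 ((mem_cent_t d (x := (x : C)⁻¹ * y * x)).2 ⟨_, hy', 0, by simp⟩)
    calc y * ((x : C) * d.t * (x : C)⁻¹) = x * ((x : C)⁻¹ * y * x * d.t) * (x : C)⁻¹ := by group
      _ = x * (d.t * ((x : C)⁻¹ * y * x)) * (x : C)⁻¹ := by rw [h1]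
      _ = _ := by group
  obtain ⟨a, b, c, e⟩ := hm
  have h2 := hcent _ (t2_eq d ▸ wD_mem d _ _ _)
  have h3 := hcent _ (u_eq d ▸ wD_mem d _ _ _)
  rw [e] at h2 h3
  conv at h2 => rw [t2_eq d, wD_mul, wD_mul]
  conv at h3 => rw [u_eq d, wD_mul, wD_mul]
  have ec : c = false := by have := (wD_inj d h2).1; revert this; cases a <;> cases c <;> simp
  have eb : b = false := by have := (wD_inj d h3).1; revert this; cases a <;> cases b <;> simp
  subst eb ec
  have ea : a = true := by
    cases a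
    · rw [wD_zero, mul_inv_eq_one, mul_eq_left] at e
      exact absurd e d.t_ne
    · rfl
  subst ea
  rw [← t_eq] at e
  obtain ⟨y, hy, l, hxy⟩ := (mem_cent_t d).1 (Subgroup.mem_centralizer_singleton_iff.2 (mul_inv_eq_iff_eq_mul.1 e))
  refine hxn (Subgroup.mem_subgroupOf.2 ?_)
  have hl : d.n ^ l ∈ (P : Subgroup C) ⊓ Subgroup.zpowers d.n := by
    refine Subgroup.mem_inf.2 ⟨?_, pow_mem (Subgroup.mem_zpowers _) l⟩
    rw [show d.n ^ l = y⁻¹ * x by rw [hxy, inv_mul_cancel_left]]
    exact mul_mem (inv_mem (hP hy)) x.2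
  obtain ⟨k, hk⟩ := P.2.exists_card_eq
  rw [Subgroup.inf_eq_bot_of_coprime (by rw [hk, Nat.card_zpowers, orderOf_n]; exact Nat.Coprime.pow_left _ (by norm_num)),
    Subgroup.mem_bot] at hl
  rw [hxy, hl, mul_one]
  exact hy

theorem all_classes (x : C) (hx : orderOf x = 2) : IsConj d.t x ∨ IsConj d.u x := by
  haveI : Fact (Nat.Prime 2) := ⟨Nat.prime_two⟩
  obtain ⟨P, hP⟩ := (IsPGroup.of_card (p := 2) (n := 3) (by rw [card_D]; norm_num) : IsPGroup 2 ↥(D d)).exists_le_sylow
  obtain ⟨Q, hQ⟩ := (IsPGroup.of_card (p := 2) (n := 1) (by rw [Nat.card_zpowers, hx, pow_one]) :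
    IsPGroup 2 ↥(Subgroup.zpowers x)).exists_le_sylow
  obtain ⟨g, hg⟩ := MulAction.exists_smul_eq C Q P
  have hy : g * x * g⁻¹ ∈ D d := by
    rw [← D_sylow d P hP]
    have := Subgroup.smul_mem_pointwise_smul _ (MulAut.conj g) _ (hQ (Subgroup.mem_zpowers x))
    change _ ∈ ((g • Q : Sylow 2 C) : Subgroup C) at this
    rw [hg] at this
    simpa [MulAut.smul_def] using this
  have hcj : IsConj x (g * x * g⁻¹) := isConj_iff.2 ⟨g, rfl⟩
  have h2 : orderOf (g * x * g⁻¹) = 2 := TwoClass.conj_invol hx hcj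
  rcases invol_cent_t d h2 (Subgroup.mem_centralizer_singleton_iff.1 ((mem_cent_t d).2 ⟨_, hy, 0, by simp⟩)) with
    e | e | e | e | e <;> rw [e] at hcj
  exacts [Or.inl hcj.symm, Or.inl ((conj_t2 d).trans hcj.symm), Or.inl ((conj_t3 d).trans hcj.symm),
    Or.inr hcj.symm, Or.inr ((conj_tu d).trans hcj.symm)]

theorem ord_t : orderOf d.t = 2 := orderOf_eq_prime (by rw [pow_two]; exact d.tt) d.t_ne
theorem ord_u : orderOf d.u = 2 := orderOf_eq_prime (by rw [pow_two]; exact d.uu) d.u_ne

theorem not_mem_zpowers {c x : C} (hx : x * x = 1) (hc : c ≠ 1) (hne : c ≠ x) : c ∉ Subgroup.zpowers x := fun h => by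
  obtain ⟨i, hi⟩ := (isOfFinOrder_of_finite x).mem_powers_iff_mem_zpowers.2 h
  rcases bool_pow hx i with e | e
  · exact hc (hi.symm.trans e)
  · exact hne (hi.symm.trans e)

theorem pairs_t : Nat.card (TwoClass.pairsAt d.t d.u d.t) = 4 := by
  have hset : TwoClass.pairsAt d.t d.u d.t =
      Set.range fun p : Bool × Bool => (wD d p.1 true false, wD d p.2 false true) := by
    ext ⟨a, b⟩
    constructor
    · rintro ⟨h1, h2, h3⟩
      have ha := TwoClass.conj_invol (ord_t d) h1
      have hb := TwoClass.conj_invol (ord_u d) h2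
      obtain ⟨ca, cb⟩ := TwoClass.comm_of_mem_zpowers (TwoClass.sq_eq_one ha) (TwoClass.sq_eq_one hb) d.tt h3
      dsimp only at h1 h2 h3 ha hb ca cb
      have nu : ∀ v, IsConj d.t v → ¬ IsConj d.u v := fun v hv hv' => d.not_conj (hv.trans hv'.symm)
      have hb' : b = d.u ∨ b = d.t * d.u := by
        rcases invol_cent_t d hb cb with e | e | e | e | e
        exacts [absurd (e ▸ h2) (nu _ (IsConj.refl _)), absurd (e ▸ h2) (nu _ (conj_t2 d)),
          absurd (e ▸ h2) (nu _ (conj_t3 d)), Or.inl e, Or.inr e]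
      have ha' : a = d.t2 ∨ a = d.t * d.t2 := by
        rcases invol_cent_t d ha ca with e | e | e | e | e
        · exfalso
          subst e
          rcases hb' with rfl | rfl
          · refine not_mem_zpowers (x := d.t * d.u) ?_ d.t_ne ?_ h3
            · rw [mul_assoc, ← mul_assoc d.u, d.u_t, mul_assoc, d.uu, mul_one, d.tt]
            · exact fun h => d.u_ne (mul_eq_left.1 h.symm)
          · rw [← mul_assoc, d.tt, one_mul] at h3
            exact not_mem_zpowers d.uu d.t_ne (fun h => d.not_conj (h ▸ IsConj.refl _)) h3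
        exacts [Or.inl e, Or.inr e, absurd (e ▸ IsConj.refl _) (nu _ h1), absurd (e ▸ conj_tu d) (nu _ h1)]
      rcases ha' with rfl | rfl <;> rcases hb' with rfl | rfl
      · exact ⟨(false, false), Prod.ext (t2_eq d).symm (u_eq d).symm⟩
      · exact ⟨(false, true), Prod.ext (t2_eq d).symm (tu_eq d).symm⟩
      · exact ⟨(true, false), Prod.ext (t3_eq d).symm (u_eq d).symm⟩
      · exact ⟨(true, true), Prod.ext (t3_eq d).symm (tu_eq d).symm⟩
    · rintro ⟨⟨e, f⟩, rfl, rfl⟩
      refine ⟨?_, ?_, Subgroup.mem_zpowers_iff.2 ⟨2, ?_⟩⟩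
      · cases e
        · exact t2_eq d ▸ conj_t2 d
        · exact t3_eq d ▸ conj_t3 d
      · cases f
        · exact u_eq d ▸ IsConj.refl _
        · exact tu_eq d ▸ conj_tu d
      · show (wD d e true false * wD d f false true) ^ (2 : ℤ) = d.t
        rw [zpow_two, wD_mul, wD_mul, t_eq d]
        cases e <;> cases f <;> rfl
  rw [hset]
  have hinj : Function.Injective fun p : Bool × Bool => (wD d p.1 true false, wD d p.2 false true) :=
    fun p p' h => Prod.ext (wD_inj d (congrArg Prod.fst h)).1 (wD_inj d (congrArg Prod.snd h)).1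
  rw [Nat.card_congr (Equiv.ofInjective _ hinj).symm]
  simp [Nat.card_eq_fintype_card]

theorem pairs_u : Nat.card (TwoClass.pairsAt d.t d.u d.u) = 9 := by
  have hset : TwoClass.pairsAt d.t d.u d.u =
      Set.range fun p : Fin 3 × Fin 3 => (wE d false p.1 true, wE d true p.2 true) := by
    ext ⟨a, b⟩
    constructor
    · rintro ⟨h1, h2, h3⟩
      have ha := TwoClass.conj_invol (ord_t d) h1
      have hb := TwoClass.conj_invol (ord_u d) h2
      obtain ⟨ca, cb⟩ := TwoClass.comm_of_mem_zpowers (TwoClass.sq_eq_one ha) (TwoClass.sq_eq_one hb) d.uu h3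
      dsimp only at h1 h2 h3 ha hb ca cb
      have nu : ∀ v, IsConj d.t v → ¬ IsConj d.u v := fun v hv hv' => d.not_conj (hv.trans hv'.symm)
      obtain ⟨i, ea⟩ : ∃ j, a = wE d false j true := by
        rcases invol_cent_u d ha ca with e | ⟨j, e⟩ | ⟨j, e⟩
        exacts [absurd (e ▸ IsConj.refl _) (nu _ h1), ⟨j, e⟩, absurd (e ▸ (class_E d j).2) (nu _ h1)]
      obtain ⟨j, eb⟩ : ∃ j, b = wE d true j true := by
        rcases invol_cent_u d hb cb with e | ⟨j, e⟩ | ⟨j, e⟩
        · exfalso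
          subst e ea
          rw [u_eq' d, wE_mul, ← u_eq' d] at h3
          refine not_mem_zpowers (x := wE d true _ true) ?_ d.u_ne ?_ h3
          · rw [wE_mul]; fin_cases i <;> simp [wE]
          · rw [u_eq' d]; exact fun h => Bool.false_ne_true (wE_inj d h).2.2
        · exact absurd (e ▸ (class_E d j).1) fun h => nu _ h h2
        · exact ⟨j, e⟩
      exact ⟨(i, j), by rw [ea, eb]⟩
    · rintro ⟨⟨i, j⟩, rfl, rfl⟩
      refine ⟨(class_E d i).1, (class_E d j).2, Subgroup.mem_zpowers_iff.2 ⟨3, ?_⟩⟩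
      show (wE d false i true * wE d true j true) ^ (3 : ℤ) = d.u
      rw [show (3 : ℤ) = ((3 : ℕ) : ℤ) from rfl, zpow_natCast, pow_succ, pow_two, wE_mul, wE_mul, wE_mul, u_eq' d]
      fin_cases i <;> fin_cases j <;> rfl
  rw [hset]
  have hinj : Function.Injective fun p : Fin 3 × Fin 3 => (wE d false p.1 true, wE d true p.2 true) :=
    fun p p' h => Prod.ext (wE_inj d (congrArg Prod.fst h)).2.1 (wE_inj d (congrArg Prod.snd h)).2.1
  rw [Nat.card_congr (Equiv.ofInjective _ hinj).symm]
  simp [Nat.card_eq_fintype_card]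

include d in
theorem card_C : Nat.card C = 840 := by
  rw [TwoClass.card_eq (ord_t d) (ord_u d) (all_classes d) d.not_conj, card_cent_u, card_cent_t, pairs_t, pairs_u]

end Cfsg.Agent.Transfer.SevenS5
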