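import Mathlib
import Cfsg.Agent.Lib.Char.Integral
import Cfsg.Agent.Lib.Transfer.Kazarin

/-!
Isaacs: the subgroup generated by the two smallest class sizes has nilpotency class at most three when there is
a self-centralizing abelian normal subgroup.
-/

set_option autoImplicit false
set_option maxHeartbeats 1000000

open scoped Pointwise commutatorElement

universe u

namespace Cfsg.Agent.Transfer.SmallClasses

open Cfsg Cfsg.Agent

variable {G : Type u} [Group G] [Finite G]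

theorem commutator_mem_center (A : Subgroup G) [A.Normal] (hA : IsMulCommutative A) {m : ℕ}
    (hmin : ∀ g : G, 1 < (Subgroup.centralizer ({g} : Set G)).index → m ≤ (Subgroup.centralizer ({g} : Set G)).index)
    {x : G} (hx : (Subgroup.centralizer ({x} : Set G)).index ≤ m) {a : G} (ha : a ∈ A) :
    ⁅a, x⁆ ∈ Subgroup.center G := by
  have hcom : ∀ u ∈ A, ∀ v ∈ A, u * v = v * u := fun u hu v hv => congrArg Subtype.val (hA.is_comm.comm ⟨u, hu⟩ ⟨v, hv⟩)
  set C := Subgroup.centralizer ({x} : Set G) with hC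
  set H := A ⊔ C with hH
  set y := x⁻¹ * (a * x * a⁻¹) with hy
  have hyA : y ∈ A := by
    rw [hy, show x⁻¹ * (a * x * a⁻¹) = (x⁻¹ * a * x⁻¹⁻¹) * a⁻¹ by group]
    exact A.mul_mem (Subgroup.Normal.conj_mem inferInstance a ha x⁻¹) (A.inv_mem ha)
  suffices hz : y ∈ Subgroup.center G by
    have e : ⁅a, x⁆ = x * y * x⁻¹ := by rw [commutatorElement_def, hy]; group
    rw [e]
    exact Subgroup.Normal.conj_mem inferInstance y hz x
  by_contra hyc
  -- the `H`-conjugates of `y`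
  let d : A → G := fun b => x⁻¹ * ((b : G) * x * (b : G)⁻¹)
  have hdA : ∀ b : A, d b ∈ A := by
    intro b
    show x⁻¹ * ((b : G) * x * (b : G)⁻¹) ∈ A
    rw [show x⁻¹ * ((b : G) * x * (b : G)⁻¹) = (x⁻¹ * b * x⁻¹⁻¹) * (b : G)⁻¹ by group]
    exact A.mul_mem (Subgroup.Normal.conj_mem inferInstance _ b.2 x⁻¹) (A.inv_mem b.2)
  let δ : A ⧸ C.subgroupOf A → G := fun q => d q.out
  have hδ : ∀ b : A, δ (b : A ⧸ C.subgroupOf A) = d b := by
    intro b
    obtain ⟨c, hc⟩ := QuotientGroup.mk_out_eq_mul (C.subgroupOf A) b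
    show d (Quotient.out (b : A ⧸ C.subgroupOf A)) = d b
    rw [hc]
    show x⁻¹ * (((b : G) * (c : A)) * x * ((b : G) * (c : A))⁻¹) = _
    have h1 := Subgroup.mem_centralizer_singleton_iff.1 (Subgroup.mem_subgroupOf.1 c.2)
    calc x⁻¹ * (((b : G) * (c : A)) * x * ((b : G) * (c : A))⁻¹)
        = x⁻¹ * ((b : G) * (((c : A) : G) * x) * ((c : A) : G)⁻¹ * (b : G)⁻¹) := by group
      _ = x⁻¹ * ((b : G) * x * (b : G)⁻¹) := by rw [h1]; group
  have horb : ∀ h ∈ H, ∃ b : A, h * y * h⁻¹ = d b := by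
    intro h hh
    obtain ⟨e, he, c, hc, rfl⟩ := Subgroup.mem_sup_of_normal_left.1 hh
    refine ⟨⟨c * a * c⁻¹, Subgroup.Normal.conj_mem inferInstance a ha c⟩, ?_⟩
    have h1 : c * x = x * c := Subgroup.mem_centralizer_singleton_iff.1 hc
    have h2 : c * y * c⁻¹ = x⁻¹ * (c * a * c⁻¹ * x * (c * a * c⁻¹)⁻¹) := by
      have h3 : c * x⁻¹ = x⁻¹ * c := ((show Commute c x from h1).inv_right).eq
      calc c * y * c⁻¹ = (c * x⁻¹) * (a * x * a⁻¹) * c⁻¹ := by rw [hy]; group
        _ = x⁻¹ * c * (a * x * a⁻¹) * c⁻¹ := by rw [h3]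
        _ = x⁻¹ * (c * a * (x * c⁻¹) * (c * a⁻¹ * c⁻¹)) := by group
        _ = x⁻¹ * (c * a * (c⁻¹ * x) * (c * a⁻¹ * c⁻¹)) := by
              rw [((show Commute c x from h1).inv_left).eq]
        _ = _ := by group
    show e * c * y * (e * c)⁻¹ = x⁻¹ * (c * a * c⁻¹ * x * (c * a * c⁻¹)⁻¹)
    rw [show e * c * y * (e * c)⁻¹ = e * (c * y * c⁻¹) * e⁻¹ by group,
      hcom e he _ (Subgroup.Normal.conj_mem inferInstance y hyA c), mul_inv_cancel_right, h2]
  have hyH : y ∈ H := Subgroup.mem_sup_left hyA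
  have hy1 : y ≠ 1 := fun h => hyc (h ▸ one_mem _)
  have horbcard : (Subgroup.centralizer ({y} : Set G)).relIndex H < C.relIndex A := by
    rw [Subgroup.relIndex, Subgroup.relIndex]
    have e : (Subgroup.centralizer ({y} : Set G)).subgroupOf H = Subgroup.centralizer ({⟨y, hyH⟩} : Set H) := by
      ext u
      rw [Subgroup.mem_subgroupOf, Subgroup.mem_centralizer_singleton_iff, Subgroup.mem_centralizer_singleton_iff,
        Subtype.ext_iff]
      rfl
    rw [e, ← Cfsg.Agent.Char.card_conjClass, Subgroup.index_eq_card]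
    have hb : ∀ u : {u : H // IsConj (⟨y, hyH⟩ : H) u}, ∃ q : A ⧸ C.subgroupOf A, ((u : H) : G) = δ q := by
      intro u
      obtain ⟨h, hh⟩ := isConj_iff.1 u.2
      obtain ⟨b, hb⟩ := horb h h.2
      exact ⟨b, by rw [hδ, ← hb, ← hh]; rfl⟩
    choose g hg using hb
    have hinj : Function.Injective g := fun u v huv => Subtype.ext (Subtype.ext (by rw [hg u, hg v, huv]))
    refine lt_of_le_of_ne (Nat.card_le_card_of_injective g hinj) fun heq => ?_
    obtain ⟨u, hu⟩ := (Function.Injective.bijective_of_nat_card_le hinj heq.ge).2 ((1 : A) : A ⧸ C.subgroupOf A)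
    have h1 : ((u : H) : G) = 1 := by
      rw [hg u, hu, hδ]
      show x⁻¹ * ((1 : G) * x * (1 : G)⁻¹) = 1
      group
    obtain ⟨h, hh⟩ := isConj_iff.1 u.2
    have h2 : (h : G) * y * (h : G)⁻¹ = 1 := by rw [← h1, ← hh]; rfl
    exact hy1 (conj_eq_one_iff.1 h2)
  have hrel : C.relIndex H = C.relIndex A := by
    have h1 := Grp.card_sup_mul_card_inf_normal (H := C) (N := A)
    rw [sup_comm, ← hH] at h1
    have a1 : Nat.card C * C.relIndex H = Nat.card H := by
      rw [← Subgroup.relIndex_bot_left, ← Subgroup.relIndex_bot_left, Subgroup.relIndex_mul_relIndex ⊥ C H bot_le le_sup_right]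
    have b1 : Nat.card ↥(C ⊓ A) * C.relIndex A = Nat.card A := by
      rw [← Subgroup.inf_relIndex_right, ← Subgroup.relIndex_bot_left, ← Subgroup.relIndex_bot_left,
        Subgroup.relIndex_mul_relIndex ⊥ (C ⊓ A) A bot_le inf_le_right]
    refine Nat.eq_of_mul_eq_mul_left (Nat.mul_pos Nat.card_pos Nat.card_pos : 0 < Nat.card C * Nat.card ↥(C ⊓ A)) ?_
    calc Nat.card C * Nat.card ↥(C ⊓ A) * C.relIndex H = (Nat.card C * C.relIndex H) * Nat.card ↥(C ⊓ A) := by ring
      _ = Nat.card C * (Nat.card ↥(C ⊓ A) * C.relIndex A) := by rw [a1, b1, h1]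
      _ = _ := by ring
  have hCi : C.relIndex A * H.index = C.index := by rw [← hrel, Subgroup.relIndex_mul_index le_sup_right]
  have hyi : (Subgroup.centralizer ({y} : Set G)).index < C.index := by
    refine lt_of_le_of_lt (Nat.le_of_dvd (Nat.pos_of_ne_zero Subgroup.index_ne_zero_of_finite)
      (Subgroup.index_dvd_of_le (inf_le_left : Subgroup.centralizer ({y} : Set G) ⊓ H ≤ _))) ?_
    rw [← Subgroup.relIndex_mul_index (inf_le_right : Subgroup.centralizer ({y} : Set G) ⊓ H ≤ H),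
      Subgroup.inf_relIndex_right, ← hCi]
    exact Nat.mul_lt_mul_of_pos_right horbcard (Nat.pos_of_ne_zero Subgroup.index_ne_zero_of_finite)
  refine hyc ?_
  have h1 : ¬ 1 < (Subgroup.centralizer ({y} : Set G)).index := fun h => by
    have := hmin y h
    omega
  have h0 : (Subgroup.centralizer ({y} : Set G)).index ≠ 0 := Subgroup.index_ne_zero_of_finite
  have h2 : (Subgroup.centralizer ({y} : Set G)).index = 1 := by omega
  exact Subgroup.mem_center_iff.2 fun v => Subgroup.mem_centralizer_singleton_iff.1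
    (Subgroup.index_eq_one.1 h2 ▸ Subgroup.mem_top v)

/-- A subgroup generated by elements of class size at most `m` has nilpotency class at most three. -/
theorem upperCentralSeries_three (A : Subgroup G) [A.Normal] (hA : IsMulCommutative A)
    (hCA : Subgroup.centralizer (A : Set G) = A) {m : ℕ}
    (hmin : ∀ g : G, 1 < (Subgroup.centralizer ({g} : Set G)).index → m ≤ (Subgroup.centralizer ({g} : Set G)).index)
    (S : Set G) (hS : ∀ x ∈ S, (Subgroup.centralizer ({x} : Set G)).index ≤ m) :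
    Subgroup.upperCentralSeries ↥(Subgroup.closure S) 3 = ⊤ := by
  set M := Subgroup.closure S with hM
  have hAM : ∀ a ∈ A, ∀ g ∈ M, ⁅a, g⁆ ∈ Subgroup.center G := by
    intro a ha g hg
    refine Subgroup.closure_induction (p := fun g _ => ⁅a, g⁆ ∈ Subgroup.center G)
      (fun x hx => commutator_mem_center A hA hmin (hS x hx) ha) (by simp) (fun u v _ _ hu hv => ?_) (fun u _ hu => ?_) hg
    · rw [show ⁅a, u * v⁆ = ⁅a, u⁆ * (u * ⁅a, v⁆ * u⁻¹) by simp only [commutatorElement_def]; group]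
      exact Subgroup.mul_mem _ hu (Subgroup.Normal.conj_mem inferInstance _ hv u)
    · rw [show ⁅a, u⁻¹⁆ = u⁻¹ * ⁅a, u⁆⁻¹ * u⁻¹⁻¹ by simp only [commutatorElement_def]; group]
      exact Subgroup.Normal.conj_mem inferInstance _ (Subgroup.inv_mem _ hu) u⁻¹
  have hMA : ∀ g ∈ M, ∀ h ∈ M, ⁅g, h⁆ ∈ A := by
    intro g hg h hh
    rw [← hCA, Subgroup.mem_centralizer_iff]
    intro a₀ ha₀
    set a := (h * g)⁻¹ * a₀ * (h * g) with hadef
    have ha : a ∈ A := by
      have := Subgroup.Normal.conj_mem inferInstance a₀ ha₀ (h * g)⁻¹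
      rwa [inv_inv] at this
    have hz : ∀ k, k * a * k⁻¹ = ⁅a, k⁆⁻¹ * a := by
      intro k; simp only [commutatorElement_def]; group
    have hcen : ∀ k ∈ M, ∀ v : G, v * ⁅a, k⁆ = ⁅a, k⁆ * v := fun k hk v => Subgroup.mem_center_iff.1 (hAM a ha k hk) v
    have h1 : ∀ u ∈ M, ∀ v ∈ M, ⁅a, u * v⁆ = ⁅a, u⁆ * ⁅a, v⁆ := by
      intro u _ v hv
      rw [show ⁅a, u * v⁆ = ⁅a, u⁆ * (u * ⁅a, v⁆ * u⁻¹) by simp only [commutatorElement_def]; group,
        hcen v hv u, mul_inv_cancel_right]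
    have e3 : g * h * a * (g * h)⁻¹ = a₀ := by
      rw [hz, show ⁅a, g * h⁆ = ⁅a, h * g⁆ by rw [h1 g hg h hh, h1 h hh g hg, hcen h hh], ← hz, hadef]
      group
    calc a₀ * ⁅g, h⁆ = (g * h * a * (g * h)⁻¹) * ⁅g, h⁆ := by rw [e3]
      _ = ⁅g, h⁆ * a₀ := by rw [hadef, commutatorElement_def]; group
  rw [eq_top_iff]
  intro g _
  rw [Subgroup.mem_upperCentralSeries_succ_iff]
  intro h
  rw [Subgroup.mem_upperCentralSeries_succ_iff]
  intro k
  rw [Subgroup.upperCentralSeries_one, Subgroup.mem_center_iff]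
  intro l
  refine Subtype.ext ?_
  show (l : G) * ⁅⁅(g : G), (h : G)⁆, (k : G)⁆ = ⁅⁅(g : G), (h : G)⁆, (k : G)⁆ * (l : G)
  exact Subgroup.mem_center_iff.1 (hAM _ (hMA g g.2 h h.2) k k.2) l

end Cfsg.Agent.Transfer.SmallClasses
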