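import Mathlib
import Cfsg.Prelude
import Cfsg.Agent.Lib.Grp.Basic
import Cfsg.Agent.Lib.Grp.SchurZassenhaus
import Cfsg.Agent.Lib.Grp.Signalizer

/-!
Operators commuting up to small error with an element `x` whose commutator image on an elementary abelian
`2`-group has order four.
-/

set_option autoImplicit false
set_option maxHeartbeats 1000000
set_option linter.unusedSectionVars false

namespace Cfsg.Agent.Transfer.SmallComm

open Subgroup
open scoped commutatorElement Pointwise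

universe u

variable {G : Type u} [Group G]

theorem cent_iff {a v : G} : v ∈ centralizer ({a} : Set G) ↔ a * v * a⁻¹ = v := by
  rw [mem_centralizer_singleton_iff]
  exact ⟨fun h => by rw [← h, mul_inv_cancel_right], fun h => (mul_inv_eq_iff_eq_mul.1 h).symm⟩

theorem mem_cent_set {K : Subgroup G} {v : G} :
    v ∈ centralizer (K : Set G) ↔ ∀ k ∈ K, k * v * k⁻¹ = v := by
  rw [mem_centralizer_iff]
  exact forall₂_congr fun k _ => (mul_inv_eq_iff_eq_mul).symm

/-- The commutators of `a` with the elements of `U`. -/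
def cimg (U : Subgroup G) (a : G) : Subgroup G :=
  closure {y : G | ∃ v ∈ U, ⁅a, v⁆ = y}

variable {U : Subgroup G}

theorem cent_swap {a v : G} (h : a * v * a⁻¹ = v) : a ∈ centralizer ({v} : Set G) :=
  mem_centralizer_singleton_iff.2 (mul_inv_eq_iff_eq_mul.1 h)

theorem elem_comm (hU : Cfsg.IsElementaryAbelian 2 U) {v w : G} (hv : v ∈ U) (hw : w ∈ U) : v * w = w * v :=
  congrArg Subtype.val (hU.1.is_comm.comm ⟨v, hv⟩ ⟨w, hw⟩)

theorem elem_inv (hU : Cfsg.IsElementaryAbelian 2 U) {v : G} (hv : v ∈ U) : v⁻¹ = v :=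
  inv_eq_of_mul_eq_one_right (by rw [← pow_two]; exact hU.2 v hv)

theorem comm_mem {a v : G} (ha : a ∈ normalizer (U : Set G)) (hv : v ∈ U) : ⁅a, v⁆ ∈ U := by
  rw [commutatorElement_def]
  exact U.mul_mem ((mem_normalizer_iff.1 ha v).1 hv) (U.inv_mem hv)

theorem comm_mul (hU : Cfsg.IsElementaryAbelian 2 U) {a v w : G} (ha : a ∈ normalizer (U : Set G)) (hv : v ∈ U)
    (hw : w ∈ U) : ⁅a, v * w⁆ = ⁅a, v⁆ * ⁅a, w⁆ := by
  have h1 : ⁅a, w⁆ * v⁻¹ = v⁻¹ * ⁅a, w⁆ := elem_comm hU (comm_mem ha hw) (U.inv_mem hv)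
  calc ⁅a, v * w⁆ = a * v * a⁻¹ * (⁅a, w⁆ * v⁻¹) := by rw [commutatorElement_def, commutatorElement_def]; group
    _ = ⁅a, v⁆ * ⁅a, w⁆ := by rw [h1, commutatorElement_def, commutatorElement_def]; group

theorem mem_cimg (hU : Cfsg.IsElementaryAbelian 2 U) {a y : G} (ha : a ∈ normalizer (U : Set G)) :
    y ∈ cimg U a ↔ ∃ v ∈ U, ⁅a, v⁆ = y := by
  refine ⟨fun h => ?_, fun h => subset_closure h⟩
  induction h using closure_induction with
  | mem z hz => exact hz
  | one => exact ⟨1, U.one_mem, by simp⟩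
  | mul a b _ _ iha ihb =>
    obtain ⟨v, hv, rfl⟩ := iha
    obtain ⟨w, hw, rfl⟩ := ihb
    exact ⟨v * w, U.mul_mem hv hw, comm_mul hU ha hv hw⟩
  | inv b _ ih =>
    obtain ⟨v, hv, rfl⟩ := ih
    exact ⟨v, hv, (elem_inv hU (comm_mem ha hv)).symm⟩

theorem conj_comm (a b v : G) : b * ⁅a, v⁆ * b⁻¹ = ⁅b * a * b⁻¹, b * v * b⁻¹⁆ := by
  simp only [commutatorElement_def]; group

theorem conj_self_comm (a v : G) : a * ⁅a, v⁆ * a⁻¹ = ⁅a, a * v * a⁻¹⁆ := by
  simp only [commutatorElement_def]; group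

/-- The setting. -/
structure Ctx (U : Subgroup G) (x : G) : Prop where
  elem : Cfsg.IsElementaryAbelian 2 U
  norm : x ∈ normalizer (U : Set G)
  cube : x ^ 3 ∈ centralizer (U : Set G)
  card : Nat.card (cimg U x) = 4

namespace Ctx

variable [Finite G] {x : G} (h : Ctx U x)
include h

theorem cimg_le : cimg U x ≤ U := fun y hy => by
  obtain ⟨v, hv, rfl⟩ := (mem_cimg h.elem h.norm).1 hy
  exact comm_mem h.norm hv

theorem fixed_eq_one {y : G} (hy : y ∈ cimg U x) (hfix : x * y * x⁻¹ = y) : y = 1 := by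
  obtain ⟨v, hv, rfl⟩ := (mem_cimg h.elem h.norm).1 hy
  set y := ⁅x, v⁆ with hyd
  have hyU : y ∈ U := comm_mem h.norm hv
  have e1 : x * v * x⁻¹ = y * v := by rw [hyd, commutatorElement_def]; group
  have e3 : x ^ 3 * v * (x ^ 3)⁻¹ = y * y * y * v := by
    have e2 : ∀ w : G, x * (y * w) * x⁻¹ = y * (x * w * x⁻¹) := fun w => by
      nth_rw 2 [← hfix]
      group
    calc x ^ 3 * v * (x ^ 3)⁻¹ = x * (x * (x * v * x⁻¹) * x⁻¹) * x⁻¹ := by
          simp only [pow_succ, pow_zero, one_mul, mul_inv_rev, mul_assoc]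
      _ = y * y * y * v := by rw [e1, e2, e1, e2, e2, e1]; simp only [mul_assoc]
  rw [show x ^ 3 * v * (x ^ 3)⁻¹ = v by
      rw [← mem_centralizer_iff.1 h.cube v hv, mul_inv_cancel_right],
    show y * y = 1 by rw [← pow_two]; exact h.elem.2 y hyU, one_mul] at e3
  exact mul_eq_right.1 e3.symm

/-- A nontrivial invariant subgroup of the commutator image is the whole image. -/
theorem eq_of_invariant {L : Subgroup G} (hL : L ≤ cimg U x) (hinv : ∀ v ∈ L, x * v * x⁻¹ ∈ L) (hL1 : L ≠ ⊥) :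
    L = cimg U x := by
  refine Subgroup.eq_of_le_of_card_ge hL ?_
  rw [h.card]
  obtain ⟨v, hv, hv1⟩ := (bot_or_exists_ne_one L).resolve_left hL1
  have h3 : 3 ≤ Nat.card L := by
    classical
    have h1 : (1 : G) ≠ v := Ne.symm hv1
    have h2 : (1 : G) ≠ x * v * x⁻¹ := fun e => hv1 (conj_eq_one_iff.1 e.symm)
    have h4 : v ≠ x * v * x⁻¹ := fun e => hv1 (h.fixed_eq_one (hL hv) e.symm)
    haveI := Fintype.ofFinite L
    rw [Nat.card_eq_fintype_card]
    refine le_trans (Finset.card_eq_three.2 ⟨(1 : L), ⟨v, hv⟩, ⟨x * v * x⁻¹, hinv v hv⟩,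
      fun e => h1 (congrArg Subtype.val e), fun e => h2 (congrArg Subtype.val e),
      fun e => h4 (congrArg Subtype.val e), rfl⟩).ge (Finset.card_le_univ _)
  have hd := card_dvd_of_le hL
  rw [h.card] at hd
  have := Nat.le_of_dvd (by norm_num) hd
  interval_cases (Nat.card L) <;> norm_num at hd; norm_num

/-- An invariant subgroup not centralised by `x` contains the commutator image. -/
theorem le_of_not_cent {V : Subgroup G} (hV : V ≤ U) (hinv : ∀ v ∈ V, x * v * x⁻¹ ∈ V)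
    (hne : ¬ V ≤ centralizer ({x} : Set G)) : cimg U x ≤ V := by
  have e : ⊥ ≠ V ⊓ cimg U x := by
    intro e
    refine hne fun v hv => cent_iff.2 ?_
    have h1 : ⁅x, v⁆ ∈ V ⊓ cimg U x :=
      ⟨by rw [commutatorElement_def]; exact V.mul_mem (hinv v hv) (V.inv_mem hv),
        (mem_cimg h.elem h.norm).2 ⟨v, hV hv, rfl⟩⟩
    rw [← e, mem_bot, commutatorElement_def] at h1
    exact mul_inv_eq_one.1 h1
  rw [← h.eq_of_invariant (inf_le_right : V ⊓ cimg U x ≤ _) (fun v hv => ⟨hinv v hv.1, by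
    obtain ⟨w, hw, rfl⟩ := (mem_cimg h.elem h.norm).1 hv.2
    rw [conj_self_comm]
    exact (mem_cimg h.elem h.norm).2 ⟨_, (mem_normalizer_iff.1 h.norm w).1 hw, rfl⟩⟩) e.symm]
  exact inf_le_left

theorem not_cent : ¬ U ≤ centralizer ({x} : Set G) := fun hle => by
  have : cimg U x = ⊥ := (Subgroup.eq_bot_iff_forall _).2 fun y hy => by
    obtain ⟨v, hv, rfl⟩ := (mem_cimg h.elem h.norm).1 hy
    rw [commutatorElement_def, cent_iff.1 (hle hv), mul_inv_cancel]
  have hc := h.card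
  rw [this, Subgroup.card_bot] at hc
  norm_num at hc

/-- `x` has four cosets of fixed elements. -/
theorem card_fixed : Nat.card ↥(U ⊓ centralizer ({x} : Set G)) * 4 = Nat.card U := by
  let f : U →* G :=
    { toFun := fun v => ⁅x, (v : G)⁆
      map_one' := by simp
      map_mul' := fun v w => comm_mul h.elem h.norm v.2 w.2 }
  have hr : f.range = cimg U x := by
    ext y
    rw [mem_cimg h.elem h.norm]
    exact ⟨fun ⟨v, hv⟩ => ⟨v, v.2, hv⟩, fun ⟨v, hv, e⟩ => ⟨⟨v, hv⟩, e⟩⟩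
  have hk : f.ker.map U.subtype = U ⊓ centralizer ({x} : Set G) := by
    ext y
    constructor
    · rintro ⟨v, hv, rfl⟩
      exact ⟨v.2, cent_iff.2 (mul_inv_eq_one.1 hv)⟩
    · rintro ⟨hy, hc⟩
      exact ⟨⟨y, hy⟩, by show ⁅x, y⁆ = 1; rw [commutatorElement_def, cent_iff.1 hc, mul_inv_cancel], rfl⟩
  rw [← hk, Subgroup.card_map_of_injective U.subtype_injective, ← h.card, ← hr,
    ← Nat.card_congr (QuotientGroup.quotientKerEquivRange f).toEquiv,
    Subgroup.card_eq_card_quotient_mul_card_subgroup f.ker, mul_comm]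

end Ctx

/-- Stability: an element fixed up to a fixed factor is fixed. -/
theorem fixed_of_step (hU : Cfsg.IsElementaryAbelian 2 U) {r : ℕ} (hr : Odd r) {a v c : G}
    (har : a ^ r ∈ centralizer (U : Set G)) (hv : v ∈ U) (hc : c ∈ U) (hac : a * c * a⁻¹ = c)
    (hav : a * v * a⁻¹ = v * c) : a * v * a⁻¹ = v := by
  have key : ∀ n : ℕ, a ^ n * v * (a ^ n)⁻¹ = v * c ^ n := by
    intro n
    induction n with
    | zero => simp
    | succ n ih =>
      calc a ^ (n + 1) * v * (a ^ (n + 1))⁻¹ = a * (a ^ n * v * (a ^ n)⁻¹) * a⁻¹ := by rw [pow_succ']; group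
        _ = a * v * a⁻¹ * (a * c * a⁻¹) ^ n := by rw [ih, conj_pow]; group
        _ = v * c ^ (n + 1) := by rw [hav, hac, pow_succ']; group
  have e := key r
  rw [show a ^ r * v * (a ^ r)⁻¹ = v by rw [← mem_centralizer_iff.1 har v hv, mul_inv_cancel_right]] at e
  obtain ⟨k, rfl⟩ := hr
  rw [pow_succ, pow_mul, hU.2 c hc, one_pow, one_mul] at e
  rw [hav, ← e]

variable [Finite G]

/-- An abelian group of odd exponent is generated, on fixed points, by its hyperplanes. -/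
theorem le_of_hyperplanes {r : ℕ} [hr : Fact r.Prime] (hr2 : r ≠ 2) {F W : Subgroup G}
    (hU : Cfsg.IsElementaryAbelian 2 U) (hFU : F ≤ normalizer (U : Set G))
    (hpow : ∀ a ∈ F, a ^ r ∈ centralizer (U : Set G))
    (hcomm : ∀ a ∈ F, ∀ b ∈ F, ⁅a, b⁆ ∈ centralizer (U : Set G))
    (hhyp : ∀ L : Subgroup G, L ≤ F → F ⊓ centralizer (U : Set G) ≤ L → L.relIndex F ∣ r →
      U ⊓ centralizer (L : Set G) ≤ W) : U ≤ W := by
  suffices key : ∀ (n : ℕ) (L : Subgroup G), L ≤ F → F ⊓ centralizer (U : Set G) ≤ L →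
      Nat.card F ≤ n + Nat.card L → U ⊓ centralizer (L : Set G) ≤ W by
    intro v hv
    exact key (Nat.card F) _ inf_le_left le_rfl (Nat.le_add_right _ _)
      ⟨hv, le_centralizer_iff.1 inf_le_right hv⟩
  intro n
  induction n with
  | zero =>
    intro L hLF hCL hc
    refine hhyp L hLF hCL ?_
    rw [Subgroup.eq_of_le_of_card_ge hLF (by simpa using hc), Subgroup.relIndex_self]
    exact one_dvd _
  | succ n ih =>
    intro L hLF hCL hc
    -- `L` is normalised by `F`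
    have hLn : F ≤ normalizer (L : Set G) := fun a ha => Subgroup.mem_normalizer_fintype fun l hl => by
      have e : a * l * a⁻¹ = ⁅a, l⁆ * l := by rw [commutatorElement_def]; group
      rw [SetLike.mem_coe, e]
      exact L.mul_mem (hCL ⟨F.mul_mem (F.mul_mem (F.mul_mem ha (hLF hl)) (F.inv_mem ha)) (F.inv_mem (hLF hl)),
        hcomm a ha l (hLF hl)⟩) hl
    by_cases hone : ∃ g ∈ F, F ≤ zpowers g ⊔ L
    · obtain ⟨g, hg, hgF⟩ := hone
      refine hhyp L hLF hCL ?_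
      have hgr : g ^ r ∈ zpowers g ⊓ L := ⟨pow_mem (mem_zpowers g) r, hCL ⟨F.pow_mem hg r, hpow g hg⟩⟩
      have h1 := Grp.card_sup_mul_card_inf (H := zpowers g) (N := L) ((zpowers_le.2 hg).trans hLn)
      rw [show zpowers g ⊔ L = F from le_antisymm (sup_le (zpowers_le.2 hg) hLF) hgF,
        ← Grp.card_mul_relIndex hLF, mul_comm (Nat.card (zpowers g)) (Nat.card L), mul_assoc] at h1
      have h2 : L.relIndex F * Nat.card ↥(zpowers g ⊓ L) = Nat.card (zpowers g) :=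
        Nat.eq_of_mul_eq_mul_left Nat.card_pos h1
      have h3 : Nat.card (zpowers g) ∣ r * Nat.card (zpowers (g ^ r)) := by
        rw [Nat.card_zpowers, Nat.card_zpowers]
        refine orderOf_dvd_of_pow_eq_one ?_
        rw [pow_mul, pow_orderOf_eq_one]
      refine Nat.dvd_of_mul_dvd_mul_right Nat.card_pos (h2.dvd.trans (h3.trans ?_))
      exact mul_dvd_mul_left r (card_dvd_of_le (zpowers_le.2 hgr))
    push Not at hone
    obtain ⟨b, hbF, hbL⟩ : ∃ b ∈ F, b ∉ L := by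
      by_contra hcon
      push Not at hcon
      exact hone 1 F.one_mem (fun a ha => mem_sup_right (hcon a ha))
    obtain ⟨c, hcF, hcL⟩ := SetLike.not_le_iff_exists.1 (hone b hbF)
    -- the overgroups
    have hstep : ∀ g ∈ F, g ∉ L → U ⊓ centralizer ((zpowers g ⊔ L : Subgroup G) : Set G) ≤ W := by
      intro g hg hgL
      refine ih _ (sup_le (zpowers_le.2 hg) hLF) (hCL.trans le_sup_right) ?_
      have : Nat.card L < Nat.card ↥(zpowers g ⊔ L) :=
        lt_of_not_ge fun hh => hgL (Subgroup.eq_of_le_of_card_ge (le_sup_right : L ≤ zpowers g ⊔ L) hh ▸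
          mem_sup_left (mem_zpowers g))
      omega
    rintro v ⟨hvU, hvL⟩
    letI : CommGroup U := { (inferInstance : Group U) with mul_comm := hU.1.is_comm.comm }
    set φ : F →* MulAut U := (Subgroup.normalizerMonoidHom U).comp (Subgroup.inclusion hFU) with hφ
    have hφv : ∀ (a : F) (w : U), ((φ a w : U) : G) = a * w * (a : G)⁻¹ := fun a w => rfl
    set v' : U := ⟨v, hvU⟩
    set σ := φ ⟨b, hbF⟩
    set τ := φ ⟨c, hcF⟩
    have htriv : ∀ a : F, (a : G) ∈ centralizer (U : Set G) → φ a = 1 := fun a ha => MulEquiv.ext fun w =>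
      Subtype.ext (show (a : G) * w * (a : G)⁻¹ = w by
        rw [← mem_centralizer_iff.1 ha w w.2, mul_inv_cancel_right])
    have hσ : σ ^ r = 1 := by rw [← map_pow]; exact htriv _ (hpow b hbF)
    have hτ : τ ^ r = 1 := by rw [← map_pow]; exact htriv _ (hpow c hcF)
    have hcommφ : ∀ a d : F, Commute (φ a) (φ d) := fun a d => by
      have h1 : φ ⁅a, d⁆ = 1 := htriv _ (hcomm a a.2 d d.2)
      rw [map_commutatorElement] at h1
      exact commutatorElement_eq_one_iff_commute.1 h1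
    have hστ : Commute σ τ := hcommφ _ _
    have hvφ : ∀ (a : F) (w : U), φ a w = w → (a : G) ∈ centralizer ({(w : G)} : Set G) := fun a w e => by
      rw [mem_centralizer_singleton_iff]
      exact mul_inv_eq_iff_eq_mul.1 ((hφv a w).symm.trans (congrArg Subtype.val e))
    -- the norms
    have hnorm : ∀ (g : F) (w : U), (∀ l : F, (l : G) ∈ L → φ l w = w) → (g : G) ∉ L →
        ((∏ k ∈ Finset.range r, (φ g ^ k) w : U) : G) ∈ W := by
      intro g w hw hg
      refine hstep g g.2 hg ⟨SetLike.coe_mem _, ?_⟩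
      set w' : U := ∏ k ∈ Finset.range r, (φ g ^ k) w with hw'
      have hρr : φ g ^ r = 1 := by rw [← map_pow]; exact htriv _ (hpow g g.2)
      have h1 : φ g w' = w' := by
        rw [hw', map_prod]
        simp_rw [← MulAut.mul_apply, ← pow_succ']
        have h2 := Finset.prod_range_succ' (fun k => (φ g ^ k) w) r
        rw [Finset.prod_range_succ, hρr, pow_zero] at h2
        exact mul_right_cancel h2.symm
      have hmem : zpowers (g : G) ⊔ L ≤ centralizer ({(w' : G)} : Set G) := by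
        refine sup_le (zpowers_le.2 (hvφ g w' h1)) fun l hl => hvφ ⟨l, hLF hl⟩ w' ?_
        rw [hw', map_prod]
        refine Finset.prod_congr rfl fun k _ => ?_
        rw [← MulAut.mul_apply, ((hcommφ ⟨l, hLF hl⟩ g).pow_right k).eq, MulAut.mul_apply, hw _ hl]
      exact mem_centralizer_iff.2 fun a ha => mem_centralizer_singleton_iff.1 (hmem ha)
    have hv' : ∀ l : F, (l : G) ∈ L → φ l v' = v' := fun l hl => Subtype.ext (mem_cent_set.1 hvL l hl)
    have hline : ∀ i : ℕ, ((∏ k ∈ Finset.range r, ((σ ^ i * τ) ^ k) v' : U) : G) ∈ W := by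
      intro i
      have := hnorm (⟨b, hbF⟩ ^ i * ⟨c, hcF⟩) v' hv' fun hh => hcL ?_
      · rwa [map_mul, map_pow] at this
      · have h1 : b ^ i * c ∈ L := by simpa using hh
        exact ((zpowers b ⊔ L).mul_mem_cancel_left (mem_sup_left (pow_mem (mem_zpowers b) i))).1 (mem_sup_right h1)
    have hcol : ∀ k < r, k ≠ 0 →
        ((∏ i ∈ Finset.range r, ((σ ^ i * τ) ^ k) v' : U) : G) ∈ W := by
      intro k hk hk0
      have h1 : ∀ i, ((σ ^ i * τ) ^ k) v' = ((σ ^ k) ^ i) ((τ ^ k) v') := fun i => by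
        rw [(hστ.pow_left i).mul_pow, MulAut.mul_apply, ← pow_mul, ← pow_mul, mul_comm i k]
      simp_rw [h1]
      have := hnorm (⟨b, hbF⟩ ^ k) ((τ ^ k) v') ?_ fun hh => hbL ?_
      · rwa [map_pow] at this
      · intro l hl
        rw [← MulAut.mul_apply, ((hcommφ l ⟨c, hcF⟩).pow_right k).eq, MulAut.mul_apply, hv' l hl]
      · have h2 : b ^ k ∈ L := by simpa using hh
        have h3 : b ^ r ∈ L := hCL ⟨F.pow_mem hbF r, hpow b hbF⟩
        have hcop : Nat.gcd k r = 1 := Nat.Coprime.gcd_eq_one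
          ((hr.out.coprime_iff_not_dvd.2 fun hd => absurd (Nat.le_of_dvd (Nat.pos_of_ne_zero hk0) hd) (not_le.2 hk)).symm)
        have h5 := Nat.gcd_eq_gcd_ab k r
        rw [hcop, Nat.cast_one] at h5
        have h6 : b ^ ((k : ℤ) * Nat.gcdA k r + (r : ℤ) * Nat.gcdB k r) ∈ L := by
          rw [zpow_add, zpow_mul, zpow_mul, zpow_natCast, zpow_natCast]
          exact L.mul_mem (L.zpow_mem h2 _) (L.zpow_mem h3 _)
        rwa [← h5, zpow_one] at h6
    -- the double sum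
    have hv2 : v' ^ r = v' := by
      obtain ⟨j, hj⟩ := hr.out.odd_of_ne_two hr2
      rw [hj, pow_succ, pow_mul, show v' ^ 2 = 1 from Subtype.ext (hU.2 v hvU), one_pow, one_mul]
    have hrow : ((∏ i ∈ Finset.range r, ∏ k ∈ Finset.range r, ((σ ^ i * τ) ^ k) v' : U) : G) ∈ W := by
      exact show (∏ i ∈ Finset.range r, ∏ k ∈ Finset.range r, ((σ ^ i * τ) ^ k) v' : U) ∈ W.subgroupOf U from
        prod_mem fun i _ => hline i
    rw [Finset.prod_comm, ← Finset.mul_prod_erase _ _ (Finset.mem_range.2 hr.out.pos)] at hrow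
    simp only [pow_zero, MulAut.one_apply, Finset.prod_const, Finset.card_range, hv2, Subgroup.coe_mul] at hrow
    refine (W.mul_mem_cancel_right ?_).1 hrow
    refine (?_ : _ ∈ W.subgroupOf U)
    exact prod_mem fun k hk => hcol k (Finset.mem_range.1 (Finset.mem_of_mem_erase hk)) (Finset.ne_of_mem_erase hk)

theorem conj_centralizer_inf {F K : Subgroup G} (hFU : F ≤ normalizer (U : Set G))
    (hcomm : ∀ a ∈ F, ∀ b ∈ F, ⁅a, b⁆ ∈ centralizer (U : Set G)) (hKF : K ≤ F) :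
    ∀ a ∈ F, ∀ v ∈ U ⊓ centralizer (K : Set G), a * v * a⁻¹ ∈ U ⊓ centralizer (K : Set G) := by
  intro a ha v hv
  refine ⟨(mem_normalizer_iff.1 (hFU ha) v).1 hv.1, mem_cent_set.2 fun k hk => ?_⟩
  have hkv := mem_cent_set.1 hv.2 k hk
  have hc := mem_centralizer_iff.1 (hcomm a⁻¹ (F.inv_mem ha) k (hKF hk)) v hv.1
  rw [commutatorElement_def, inv_inv] at hc
  calc k * (a * v * a⁻¹) * k⁻¹ = a * (a⁻¹ * k * a * k⁻¹ * (k * v * k⁻¹) * (k * a⁻¹ * k⁻¹ * a)) * a⁻¹ := by group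
    _ = a * v * a⁻¹ := by
      rw [hkv, show a⁻¹ * k * a * k⁻¹ * v = v * (a⁻¹ * k * a * k⁻¹) from hc.symm]
      group

theorem conj_mem_smul {K : Subgroup G} {x v : G} (hv : v ∈ U ⊓ centralizer (K : Set G))
    (hx : x ∈ normalizer (U : Set G)) :
    x * v * x⁻¹ ∈ U ⊓ centralizer ((MulAut.conj x • K : Subgroup G) : Set G) := by
  refine ⟨(mem_normalizer_iff.1 hx v).1 hv.1, mem_cent_set.2 ?_⟩
  rintro _ ⟨k, hk, rfl⟩
  show x * k * x⁻¹ * (x * v * x⁻¹) * (x * k * x⁻¹)⁻¹ = x * v * x⁻¹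
  conv_rhs => rw [← mem_cent_set.1 hv.2 k hk]
  group

/-- The main lemma: the commutator image is centralised by a hyperplane. -/
theorem Ctx.exists_hyperplane {x : G} (h : Ctx U x) {r : ℕ} [hr : Fact r.Prime] (hr2 : r ≠ 2) {F : Subgroup G}
    (hFU : F ≤ normalizer (U : Set G)) (hFx : x ∈ normalizer (F : Set G))
    (hpow : ∀ a ∈ F, a ^ r ∈ centralizer (U : Set G))
    (hcomm : ∀ a ∈ F, ∀ b ∈ F, ⁅a, b⁆ ∈ centralizer (U : Set G)) :
    ∃ L : Subgroup G, L ≤ F ∧ F ⊓ centralizer (U : Set G) ≤ L ∧ L.relIndex F ∣ r ∧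
      cimg U x ≤ centralizer (L : Set G) := by
  have hxF : ∀ v ∈ U ⊓ centralizer (F : Set G), x * v * x⁻¹ ∈ U ⊓ centralizer (F : Set G) := fun v hv => by
    have := conj_mem_smul hv h.norm
    rwa [Grp.mem_normalizer_iff_smul.1 hFx] at this
  by_cases hC0 : U ⊓ centralizer (F : Set G) ≤ centralizer ({x} : Set G)
  swap
  · exact ⟨F, le_rfl, inf_le_left, by rw [Subgroup.relIndex_self]; exact one_dvd _,
      (h.le_of_not_cent inf_le_left hxF hC0).trans inf_le_right⟩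
  obtain ⟨K, hKF, hCK, hKr, hKc⟩ : ∃ K : Subgroup G, K ≤ F ∧ F ⊓ centralizer (U : Set G) ≤ K ∧
      K.relIndex F ∣ r ∧ ¬ U ⊓ centralizer (K : Set G) ≤ centralizer ({x} : Set G) := by
    by_contra hcon
    push Not at hcon
    exact h.not_cent (le_of_hyperplanes hr2 h.elem hFU hpow hcomm hcon)
  set K1 := MulAut.conj x • K with hK1
  set K2 := MulAut.conj x • K1 with hK2
  have hF1 : MulAut.conj x • F = F := Grp.mem_normalizer_iff_smul.1 hFx
  have hK1F : K1 ≤ F := (Subgroup.pointwise_smul_le_pointwise_smul_iff.2 hKF).trans hF1.le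
  have hCx : MulAut.conj x • (F ⊓ centralizer (U : Set G)) = F ⊓ centralizer (U : Set G) := by
    refine Grp.mem_normalizer_iff_smul.1 (Subgroup.mem_normalizer_fintype fun a ha => ?_)
    refine ⟨(mem_normalizer_iff.1 hFx a).1 ha.1, mem_centralizer_iff.2 fun v hv => ?_⟩
    have h1 := mem_centralizer_iff.1 ha.2 (x⁻¹ * v * x) (by
      have := (mem_normalizer_iff.1 (inv_mem h.norm) v).1 hv
      rwa [inv_inv] at this)
    calc v * (x * a * x⁻¹) = x * ((x⁻¹ * v * x) * a) * x⁻¹ := by group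
      _ = x * a * x⁻¹ * v := by rw [h1]; group
  have hCK1 : F ⊓ centralizer (U : Set G) ≤ K1 := hCx.ge.trans (Subgroup.pointwise_smul_le_pointwise_smul_iff.2 hCK)
  have hK1r : K1.relIndex F ∣ r := by
    rwa [show K1.relIndex F = K.relIndex F by
      conv_lhs => rw [← hF1, hK1]
      exact Subgroup.relIndex_pointwise_smul _ _ _]
  set V := U ⊓ centralizer (K : Set G) with hV
  set V1 := U ⊓ centralizer (K1 : Set G) with hV1
  by_cases hKK : K1 = K
  · refine ⟨K, hKF, hCK, hKr, (h.le_of_not_cent (V := V) inf_le_left (fun v hv => ?_) hKc).trans inf_le_right⟩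
    have := conj_mem_smul hv h.norm
    rwa [← hK1, hKK] at this
  -- two different hyperplanes generate `F`
  have hgen : ∀ {A B : Subgroup G}, A ≤ F → B ≤ F → A.relIndex F ∣ r → ¬ B ≤ A → F ≤ A ⊔ B := by
    intro A B hA hB hAr hAB
    have h1 := Subgroup.relIndex_mul_relIndex A (A ⊔ B) F le_sup_left (sup_le hA hB)
    have h2 : A.relIndex (A ⊔ B) ≠ 1 := fun e => hAB (le_sup_right.trans (Subgroup.relIndex_eq_one.1 e))
    rcases (Nat.dvd_prime hr.out).1 hAr with e | e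
    · rw [e] at h1
      exact absurd (Nat.eq_one_of_mul_eq_one_right h1) h2
    · rw [e] at h1
      refine Subgroup.relIndex_eq_one.1 ?_
      rcases (Nat.dvd_prime hr.out).1 (Dvd.intro _ h1) with e' | e'
      · exact absurd e' h2
      · rw [e'] at h1
        exact (Nat.mul_eq_left hr.out.ne_zero).1 h1
  have hne1 : ¬ K1 ≤ K := fun hle => hKK (Subgroup.eq_of_le_of_card_ge hle
    (by rw [hK1, Grp.card_conj_smul]))
  have hVV : V ⊓ V1 ≤ U ⊓ centralizer (F : Set G) := fun v hv => ⟨hv.1.1, mem_centralizer_iff.2 fun a ha =>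
    mem_centralizer_singleton_iff.1 ((hgen hKF hK1F hKr hne1).trans (sup_le
      (fun k hk => mem_centralizer_singleton_iff.2 (mem_centralizer_iff.1 hv.1.2 k hk))
      (fun k hk => mem_centralizer_singleton_iff.2 (mem_centralizer_iff.1 hv.2.2 k hk))) ha)⟩
  have hker : ∀ v ∈ V, ⁅x, v⁆ = 1 → v ∈ U ⊓ centralizer (F : Set G) := fun v hv e => by
    have e' : x * v * x⁻¹ = v := mul_inv_eq_one.1 e
    refine hVV ⟨hv, ?_⟩
    rw [← e']
    exact conj_mem_smul hv h.norm
  have himg : ∀ {W : Subgroup G}, W ≤ U → cimg W x ≤ cimg U x := fun hW =>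
    closure_mono fun y ⟨v, hv, e⟩ => ⟨v, hW hv, e⟩
  set D := cimg U x with hD
  have hVelem : ∀ {y : G}, y ∈ cimg V x ↔ ∃ v ∈ V, ⁅x, v⁆ = y := by
    intro y
    refine ⟨fun hy => ?_, fun hy => subset_closure hy⟩
    induction hy using closure_induction with
    | mem z hz => exact hz
    | one => exact ⟨1, V.one_mem, by simp⟩
    | mul a b _ _ iha ihb =>
      obtain ⟨v, hv, rfl⟩ := iha
      obtain ⟨w, hw, rfl⟩ := ihb
      exact ⟨v * w, V.mul_mem hv hw, comm_mul h.elem h.norm hv.1 hw.1⟩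
    | inv b _ ih =>
      obtain ⟨v, hv, rfl⟩ := ih
      exact ⟨v, hv, (elem_inv h.elem (comm_mem h.norm hv.1)).symm⟩
  have hVD : cimg V x = D := by
    refine Subgroup.eq_of_le_of_card_ge (himg inf_le_left) ?_
    by_contra hlt
    push Not at hlt
    rw [h.card] at hlt
    obtain ⟨v, hv, hvx⟩ := SetLike.not_le_iff_exists.1 hKc
    set y := ⁅x, v⁆ with hy
    have hy1 : y ≠ 1 := fun e => hvx (cent_iff.2 (mul_inv_eq_one.1 e))
    have hdvd : Nat.card ↥(cimg V x) ∣ 4 := h.card ▸ card_dvd_of_le (himg inf_le_left)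
    have hle : ∀ w ∈ cimg V x, w = 1 ∨ w = y := by
      intro w hw
      by_contra hcon
      push Not at hcon
      classical
      haveI := Fintype.ofFinite ↥(cimg V x)
      have h3 : 3 ≤ Fintype.card ↥(cimg V x) := le_trans (Finset.card_eq_three.2
        ⟨(1 : cimg V x), ⟨y, hVelem.2 ⟨v, hv, rfl⟩⟩, ⟨w, hw⟩,
        fun e => hy1 (congrArg Subtype.val e).symm, fun e => hcon.1 (congrArg Subtype.val e).symm,
        fun e => hcon.2 (congrArg Subtype.val e).symm, rfl⟩).ge (Finset.card_le_univ _)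
      rw [← Nat.card_eq_fintype_card] at h3
      interval_cases (Nat.card ↥(cimg V x)) <;> norm_num at hdvd
    have hvF : v ∈ centralizer (F : Set G) := mem_cent_set.2 fun a ha => by
      have hav : a * v * a⁻¹ ∈ V := conj_centralizer_inf hFU hcomm hKF a ha v hv
      have hne : ⁅x, a * v * a⁻¹⁆ ≠ 1 := fun e => by
        have h2 := conj_centralizer_inf hFU hcomm le_rfl a⁻¹ (F.inv_mem ha) _ (hker _ hav e)
        rw [inv_inv, show a⁻¹ * (a * v * a⁻¹) * a = v by group] at h2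
        exact hy1 (by rw [hy, commutatorElement_def, cent_iff.1 (hC0 h2), mul_inv_cancel])
      have he : ⁅x, a * v * a⁻¹ * v⁆ = 1 := by
        rw [comm_mul h.elem h.norm hav.1 hv.1, (hle _ (hVelem.2 ⟨_, hav, rfl⟩)).resolve_left hne,
          ← pow_two, h.elem.2 _ (comm_mem h.norm hv.1)]
      set c := a * v * a⁻¹ * v with hc
      have hc0 := hker c (V.mul_mem hav hv) he
      refine fixed_of_step h.elem (hr.out.odd_of_ne_two hr2) (hpow a ha) hv.1 hc0.1 (mem_cent_set.1 hc0.2 a ha) ?_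
      rw [hc, elem_comm h.elem hav.1 hv.1, ← mul_assoc, ← pow_two, h.elem.2 v hv.1, one_mul]
    exact hvx (hC0 ⟨hv.1, hvF⟩)
  -- the image lies in `V V₁` and in `V₁ V₂`
  have hK2K : ¬ K2 ≤ K := fun hle => hKK (by
    have h2 : K2 = K := Subgroup.eq_of_le_of_card_ge hle (by rw [hK2, hK1, Grp.card_conj_smul, Grp.card_conj_smul])
    have h3 : MulAut.conj x • K2 = K := by
      rw [hK2, hK1, Grp.conj_smul_conj_smul, Grp.conj_smul_conj_smul]
      refine Subgroup.eq_of_le_of_card_ge ?_ (by rw [Grp.card_conj_smul])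
      rintro _ ⟨k, hk, rfl⟩
      show x * x * x * k * (x * x * x)⁻¹ ∈ K
      have e : x * x * x = x ^ 3 := by rw [pow_succ, pow_two]
      rw [e]
      have h4 : x ^ 3 * k * (x ^ 3)⁻¹ * k⁻¹ ∈ F ⊓ centralizer (U : Set G) := by
        refine ⟨F.mul_mem ((mem_normalizer_iff.1 (pow_mem hFx 3) k).1 (hKF hk)) (F.inv_mem (hKF hk)), ?_⟩
        have h5 : k * (x ^ 3)⁻¹ * k⁻¹ ∈ centralizer (U : Set G) := by
          refine mem_centralizer_iff.2 fun u hu => ?_
          have h6 := mem_centralizer_iff.1 (inv_mem h.cube) (k⁻¹ * u * k) (by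
            have := (mem_normalizer_iff.1 (inv_mem (hFU (hKF hk))) u).1 hu
            rwa [inv_inv] at this)
          calc u * (k * (x ^ 3)⁻¹ * k⁻¹) = k * ((k⁻¹ * u * k) * (x ^ 3)⁻¹) * k⁻¹ := by group
            _ = k * (x ^ 3)⁻¹ * k⁻¹ * u := by rw [h6]; group
        have := mul_mem h.cube h5
        show x ^ 3 * k * (x ^ 3)⁻¹ * k⁻¹ ∈ centralizer (U : Set G)
        simpa only [mul_assoc] using this
      have := K.mul_mem (hCK h4) hk
      rwa [inv_mul_cancel_right] at this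
    rw [h2, ← hK1] at h3
    exact h3)
  refine ⟨K1, hK1F, hCK1, hK1r, fun d hd => ?_⟩
  have hd2 : x⁻¹ * d * x⁻¹⁻¹ ∈ D := by
    obtain ⟨w, hw, rfl⟩ := (mem_cimg h.elem h.norm).1 hd
    rw [conj_comm, show x⁻¹ * x * x⁻¹⁻¹ = x by group]
    exact (mem_cimg h.elem h.norm).2 ⟨_, (mem_normalizer_iff.1 (inv_mem h.norm) w).1 hw, rfl⟩
  rw [← hVD] at hd hd2
  obtain ⟨v, hv, hvd⟩ := hVelem.1 hd
  obtain ⟨w, hw, hwd⟩ := hVelem.1 hd2
  set a1 := x * v * x⁻¹ with ha1
  set b1 := x * (x * w * x⁻¹) * x⁻¹ with hb1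
  have ha1V : a1 ∈ V1 := conj_mem_smul hv h.norm
  have hwV : x * w * x⁻¹ ∈ V1 := conj_mem_smul hw h.norm
  have hb1V : b1 ∈ U ⊓ centralizer (K2 : Set G) := conj_mem_smul hwV h.norm
  have e1 : d = a1 * v := by rw [← hvd, commutatorElement_def, elem_inv h.elem hv.1]
  have e2 : d = b1 * (x * w * x⁻¹) := by
    have : d = x * ⁅x, w⁆ * x⁻¹ := by rw [hwd]; group
    rw [this, conj_self_comm, commutatorElement_def, elem_inv h.elem hwV.1]
  -- `v` agrees with an element of `V₁` and is fixed by `K₂`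
  set e := a1 * (x * w * x⁻¹) with he
  have heV1 : e ∈ V1 := V1.mul_mem ha1V hwV
  have hve : v * e = b1 := by
    rw [he, ← mul_assoc, ← elem_comm h.elem ha1V.1 hv.1, ← e1, e2, mul_assoc, ← pow_two, h.elem.2 _ hwV.1, mul_one]
  have hvK2 : ∀ k ∈ K2, k * v * k⁻¹ = v := by
    intro k hk
    have hkF : k ∈ F := by
      have : K2 ≤ F := (Subgroup.pointwise_smul_le_pointwise_smul_iff.2 hK1F).trans hF1.le
      exact this hk
    have h1 : k * v * k⁻¹ * (k * e * k⁻¹) = v * e := by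
      rw [hve, show k * v * k⁻¹ * (k * e * k⁻¹) = k * (v * e) * k⁻¹ by group, hve]
      exact mem_cent_set.1 hb1V.2 k hk
    have hkv := conj_centralizer_inf hFU hcomm hKF k hkF v hv
    have hke := conj_centralizer_inf hFU hcomm hK1F k hkF e heV1
    set c := k * v * k⁻¹ * v with hc
    have hc2 : c = e * (k * e * k⁻¹) := by
      rw [hc, elem_comm h.elem hkv.1 hv.1]
      calc v * (k * v * k⁻¹) = v * (k * v * k⁻¹ * ((k * e * k⁻¹) * (k * e * k⁻¹))) := by
            rw [← pow_two, h.elem.2 _ hke.1, mul_one]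
        _ = v * (v * e * (k * e * k⁻¹)) := by rw [← mul_assoc (k * v * k⁻¹), h1]
        _ = e * (k * e * k⁻¹) := by
          have h2 : v * v = 1 := by rw [← pow_two]; exact h.elem.2 v hv.1
          rw [show v * (v * e * (k * e * k⁻¹)) = v * v * (e * (k * e * k⁻¹)) by group, h2, one_mul]
    have hcV : c ∈ U ⊓ centralizer (F : Set G) :=
      hVV ⟨V.mul_mem hkv hv, hc2 ▸ V1.mul_mem heV1 hke⟩
    refine fixed_of_step h.elem (hr.out.odd_of_ne_two hr2) (hpow k hkF) hv.1 hcV.1 (mem_cent_set.1 hcV.2 k hkF) ?_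
    rw [hc, elem_comm h.elem hkv.1 hv.1, ← mul_assoc, ← pow_two, h.elem.2 v hv.1, one_mul]
  have hK2F : K2 ≤ F := (Subgroup.pointwise_smul_le_pointwise_smul_iff.2 hK1F).trans hF1.le
  have hvF : v ∈ U ⊓ centralizer (F : Set G) := ⟨hv.1, mem_centralizer_iff.2 fun a ha =>
    mem_centralizer_singleton_iff.1 ((hgen hKF hK2F hKr hK2K).trans (sup_le
      (fun k hk => mem_centralizer_singleton_iff.2 (mem_centralizer_iff.1 hv.2 k hk))
      (fun k hk => mem_centralizer_singleton_iff.2 (mul_inv_eq_iff_eq_mul.1 (hvK2 k hk)))) ha)⟩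
  rw [e1]
  exact mul_mem ha1V.2 (centralizer_le (fun a ha => hK1F ha) hvF.2)

theorem conj_fix {a k v : G} (hv : v ∈ U) (hc : ⁅a⁻¹, k⁆ ∈ centralizer (U : Set G)) (hkv : k * v * k⁻¹ = v) :
    k * (a * v * a⁻¹) * k⁻¹ = a * v * a⁻¹ := by
  have h1 := mem_centralizer_iff.1 hc v hv
  rw [commutatorElement_def, inv_inv] at h1
  calc k * (a * v * a⁻¹) * k⁻¹ = a * (a⁻¹ * k * a * k⁻¹ * (k * v * k⁻¹) * (k * a⁻¹ * k⁻¹ * a)) * a⁻¹ := by group
    _ = a * v * a⁻¹ := by
      rw [hkv, show a⁻¹ * k * a * k⁻¹ * v = v * (a⁻¹ * k * a * k⁻¹) from h1.symm]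
      group

theorem comm_mul_cent {a c v : G} (hc : c ∈ centralizer (U : Set G)) (hv : v ∈ U) : ⁅a * c, v⁆ = ⁅a, v⁆ := by
  have h1 := mem_centralizer_iff.1 hc v hv
  calc ⁅a * c, v⁆ = a * (c * v) * c⁻¹ * a⁻¹ * v⁻¹ := by rw [commutatorElement_def]; group
    _ = ⁅a, v⁆ := by rw [← h1, commutatorElement_def]; group

/-- For a `p`-group, `p ≥ 5`, the commutator image is centralised by a normal subgroup of index at most `p`. -/
theorem Ctx.exists_normal_of_pgroup {x : G} (h : Ctx U x) {p : ℕ} [hp : Fact p.Prime] (hp5 : 5 ≤ p)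
    {P : Subgroup G} (hP : IsPGroup p P) (hPU : P ≤ normalizer (U : Set G)) (hxP : x ∈ normalizer (P : Set G)) :
    ∃ L : Subgroup G, L ≤ P ∧ P ≤ normalizer (L : Set G) ∧ L.relIndex P ∣ p ∧
      cimg U x ≤ centralizer (L : Set G) := by
  classical
  set D := cimg U x with hD
  have hxD : x ∈ normalizer (D : Set G) := Subgroup.mem_normalizer_fintype fun y hy => by
    obtain ⟨w, hw, rfl⟩ := (mem_cimg h.elem h.norm).1 hy
    rw [SetLike.mem_coe, conj_self_comm]
    exact (mem_cimg h.elem h.norm).2 ⟨_, (mem_normalizer_iff.1 h.norm w).1 hw, rfl⟩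
  -- a minimal invariant section
  haveI : Nonempty {W : Subgroup G // W ≤ U ∧ D ≤ W ∧ P ≤ normalizer (W : Set G) ∧ x ∈ normalizer (W : Set G)} :=
    ⟨⟨U, le_rfl, h.cimg_le, hPU, h.norm⟩⟩
  obtain ⟨⟨U0, hU0, hDU0, hPU0, hxU0⟩, hmin⟩ := Finite.exists_min
    (fun W : {W : Subgroup G // W ≤ U ∧ D ≤ W ∧ P ≤ normalizer (W : Set G) ∧ x ∈ normalizer (W : Set G)} =>
      Nat.card W.1)
  have hmin' : ∀ W : Subgroup G, W ≤ U0 → D ≤ W → P ≤ normalizer (W : Set G) → x ∈ normalizer (W : Set G) →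
      U0 ≤ W := fun W h1 h2 h3 h4 =>
    (Subgroup.eq_of_le_of_card_ge h1 (hmin ⟨W, h1.trans hU0, h2, h3, h4⟩)).ge
  have hel0 : Cfsg.IsElementaryAbelian 2 U0 :=
    ⟨⟨⟨fun a b => Subtype.ext (elem_comm h.elem (hU0 a.2) (hU0 b.2))⟩⟩, fun a ha => h.elem.2 a (hU0 ha)⟩
  have hcimg : cimg U0 x = D := h.eq_of_invariant (closure_mono fun y ⟨v, hv, e⟩ => ⟨v, hU0 hv, e⟩)
    (fun y hy => by
      obtain ⟨w, hw, rfl⟩ := (mem_cimg hel0 hxU0).1 hy
      rw [conj_self_comm]
      exact (mem_cimg hel0 hxU0).2 ⟨_, (mem_normalizer_iff.1 hxU0 w).1 hw, rfl⟩) fun e => by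
      have h1 : D = ⊥ := (Subgroup.eq_bot_iff_forall _).2 fun y hy => by
        have h2 : ⁅x, y⁆ ∈ cimg U0 x := (mem_cimg hel0 hxU0).2 ⟨y, hDU0 hy, rfl⟩
        rw [e, mem_bot, commutatorElement_def] at h2
        exact h.fixed_eq_one hy (mul_inv_eq_one.1 h2)
      have := h.card
      rw [← hD, h1, Subgroup.card_bot] at this
      norm_num at this
  have h0 : Ctx U0 x := ⟨hel0, hxU0, centralizer_le hU0 h.cube, by rw [hcimg]; exact h.card⟩
  set P1 := P ⊓ centralizer (U0 : Set G) with hP1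
  have hP1n : P ≤ normalizer (P1 : Set G) := Grp.le_normalizer_inf' le_normalizer
    (hPU0.trans (fun g hg => by
      refine Subgroup.mem_normalizer_fintype fun c hc => mem_centralizer_iff.2 fun u hu => ?_
      have h1 := mem_centralizer_iff.1 hc (g⁻¹ * u * g) (by
        have := (mem_normalizer_iff.1 (inv_mem hg) u).1 hu
        rwa [inv_inv] at this)
      calc u * (g * c * g⁻¹) = g * ((g⁻¹ * u * g) * c) * g⁻¹ := by group
        _ = g * c * g⁻¹ * u := by rw [h1]; group))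
  by_cases htriv : P ≤ centralizer (U0 : Set G)
  · exact ⟨P, le_rfl, le_normalizer, by rw [Subgroup.relIndex_self]; exact one_dvd _,
      hDU0.trans (le_centralizer_iff.1 htriv)⟩
  -- the central part `A`
  haveI : (P1.subgroupOf P).Normal := (Subgroup.normal_subgroupOf_iff_le_normalizer inf_le_left).2 hP1n
  set π := QuotientGroup.mk' (P1.subgroupOf P) with hπ
  haveI : Nontrivial (↥P ⧸ P1.subgroupOf P) := QuotientGroup.nontrivial_iff.2 fun e => htriv fun g hg => by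
    have : (⟨g, hg⟩ : P) ∈ P1.subgroupOf P := by rw [e]; exact mem_top _
    exact this.2
  have hQ : IsPGroup p (↥P ⧸ P1.subgroupOf P) := hP.to_quotient _
  haveI := IsPGroup.center_nontrivial hQ
  let Z : Subgroup (↥P ⧸ P1.subgroupOf P) :=
    { carrier := {z | z ∈ center _ ∧ z ^ p = 1}
      one_mem' := ⟨one_mem _, one_pow _⟩
      mul_mem' := fun {a b} ha hb => ⟨mul_mem ha.1 hb.1, by
        rw [Commute.mul_pow (mem_center_iff.1 hb.1 a : Commute a b), ha.2, hb.2, one_mul]⟩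
      inv_mem' := fun {a} ha => ⟨inv_mem ha.1, by rw [inv_pow, ha.2, inv_one]⟩ }
  set A := (Z.comap π).map P.subtype with hA
  have hmemA : ∀ {g : G}, g ∈ A ↔ g ∈ P ∧ g ^ p ∈ centralizer (U0 : Set G) ∧
      ∀ k ∈ P, ⁅k, g⁆ ∈ centralizer (U0 : Set G) := by
    intro g
    constructor
    · rintro ⟨g', ⟨hc, hpw⟩, rfl⟩
      refine ⟨g'.2, ?_, fun k hk => ?_⟩
      · have h1 : g' ^ p ∈ P1.subgroupOf P := (QuotientGroup.eq_one_iff _).1 (by rw [QuotientGroup.mk_pow]; exact hpw)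
        exact (h1 : ((g' ^ p : P) : G) ∈ P1).2
      · have h1 : ⁅(⟨k, hk⟩ : P), g'⁆ ∈ P1.subgroupOf P := by
          refine (QuotientGroup.eq_one_iff _).1 ?_
          show π ⁅(⟨k, hk⟩ : P), g'⁆ = 1
          rw [map_commutatorElement, commutatorElement_eq_one_iff_commute]
          exact mem_center_iff.1 hc (π ⟨k, hk⟩)
        exact (h1 : ((⁅(⟨k, hk⟩ : P), g'⁆ : P) : G) ∈ P1).2
    · rintro ⟨hg, hpw, hc⟩
      refine ⟨⟨g, hg⟩, ⟨mem_center_iff.2 fun z => ?_, ?_⟩, rfl⟩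
      · obtain ⟨k, rfl⟩ := QuotientGroup.mk'_surjective _ z
        refine commutatorElement_eq_one_iff_commute.1 ?_
        rw [← map_commutatorElement]
        exact (QuotientGroup.eq_one_iff _).2 ⟨(⁅k, (⟨g, hg⟩ : P)⁆).2, hc k k.2⟩
      · show π ⟨g, hg⟩ ^ p = 1
        rw [← map_pow]
        exact (QuotientGroup.eq_one_iff _).2 ⟨P.pow_mem hg p, hpw⟩
  have hAP : A ≤ P := fun g hg => (hmemA.1 hg).1
  have hAne : ¬ A ≤ centralizer (U0 : Set G) := by
    intro hle
    obtain ⟨⟨z, hz⟩, hz1⟩ := exists_ne (1 : center (↥P ⧸ P1.subgroupOf P))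
    have hzo : z ≠ 1 := fun e => hz1 (Subtype.ext e)
    obtain ⟨k, hk⟩ := IsPGroup.iff_orderOf.1 hQ z
    obtain ⟨m, rfl⟩ : ∃ m, k = m + 1 :=
      ⟨k - 1, (Nat.succ_pred_eq_of_pos (Nat.pos_of_ne_zero fun e => hzo (orderOf_eq_one_iff.1 (by rw [hk, e, pow_zero])))).symm⟩
    have h1 : z ^ p ^ m ≠ 1 := fun e => by
      have := Nat.le_of_dvd (pow_pos hp.out.pos m) (orderOf_dvd_of_pow_eq_one e)
      rw [hk, pow_succ] at this
      nlinarith [hp.out.two_le, pow_pos hp.out.pos m]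
    obtain ⟨g, hg⟩ := QuotientGroup.mk'_surjective _ (z ^ p ^ m)
    have hgA : (g : G) ∈ A := ⟨g, (show π g ∈ center _ ∧ π g ^ p = 1 from hg ▸
      ⟨pow_mem hz _, by rw [← pow_mul, ← pow_succ, ← hk, pow_orderOf_eq_one]⟩), rfl⟩
    exact h1 (hg ▸ (QuotientGroup.eq_one_iff _).2 ⟨g.2, hle hgA⟩)
  have hxA : x ∈ normalizer (A : Set G) := by
    refine Subgroup.mem_normalizer_fintype fun g hg => ?_
    obtain ⟨hgP, hgp, hgc⟩ := hmemA.1 hg
    have hxc : ∀ c ∈ centralizer (U0 : Set G), x * c * x⁻¹ ∈ centralizer (U0 : Set G) := fun c hc =>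
      mem_centralizer_iff.2 fun u hu => by
        have h1 := mem_centralizer_iff.1 hc (x⁻¹ * u * x) (by
          have := (mem_normalizer_iff.1 (inv_mem hxU0) u).1 hu
          rwa [inv_inv] at this)
        calc u * (x * c * x⁻¹) = x * ((x⁻¹ * u * x) * c) * x⁻¹ := by group
          _ = x * c * x⁻¹ * u := by rw [h1]; group
    refine hmemA.2 ⟨(mem_normalizer_iff.1 hxP g).1 hgP, by rw [conj_pow]; exact hxc _ hgp, fun k hk => ?_⟩
    have := hxc _ (hgc (x⁻¹ * k * x) (by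
      have := (mem_normalizer_iff.1 (inv_mem hxP) k).1 hk
      rwa [inv_inv] at this))
    rwa [conj_comm, show x * (x⁻¹ * k * x) * x⁻¹ = k by group] at this
  have hAcomm : ∀ a ∈ A, ∀ b ∈ A, ⁅a, b⁆ ∈ centralizer (U0 : Set G) := fun a ha b hb =>
    (hmemA.1 hb).2.2 a (hAP ha)
  obtain ⟨L0, hL0A, hCL0, hL0r, hL0D⟩ := h0.exists_hyperplane (r := p) (by omega) (hAP.trans hPU0) hxA
    (fun a ha => (hmemA.1 ha).2.1) hAcomm
  rw [hcimg] at hL0D
  set L := A ⊓ centralizer (D : Set G) with hL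
  -- `L` centralises `U₀`
  have hW : U0 ≤ U0 ⊓ centralizer (L : Set G) := by
    refine hmin' _ inf_le_left (le_inf hDU0 (le_centralizer_iff.1 inf_le_right)) (fun g hg => ?_) ?_
    · refine Subgroup.mem_normalizer_fintype fun v hv => ⟨(mem_normalizer_iff.1 (hPU0 hg) v).1 hv.1,
        mem_cent_set.2 fun k hk => conj_fix hv.1 ((hmemA.1 hk.1).2.2 g⁻¹ (P.inv_mem hg)) (mem_cent_set.1 hv.2 k hk)⟩
    · have hxL : MulAut.conj x • L = L := by
        rw [hL, Subgroup.smul_inf, Grp.mem_normalizer_iff_smul.1 hxA]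
        congr 1
        refine Grp.mem_normalizer_iff_smul.1 (Subgroup.mem_normalizer_fintype fun c hc => mem_centralizer_iff.2 fun u hu => ?_)
        have h1 := mem_centralizer_iff.1 hc (x⁻¹ * u * x) (by
          have := (mem_normalizer_iff.1 (inv_mem hxD) u).1 hu
          rwa [inv_inv] at this)
        calc u * (x * c * x⁻¹) = x * ((x⁻¹ * u * x) * c) * x⁻¹ := by group
          _ = x * c * x⁻¹ * u := by rw [h1]; group
      refine Subgroup.mem_normalizer_fintype fun v hv => ?_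
      have h1 := conj_mem_smul hv hxU0
      rw [hxL] at h1
      exact h1
  have hLC : L ≤ centralizer (U0 : Set G) := le_centralizer_iff.1 (hW.trans inf_le_right)
  have hL0L : L0 ≤ L := le_inf hL0A (le_centralizer_iff.1 hL0D)
  have hLr : L.relIndex A ∣ p := (Dvd.intro_left _
    (Subgroup.relIndex_mul_relIndex L0 L A hL0L inf_le_left)).trans hL0r
  obtain ⟨a, haA, haU⟩ := SetLike.not_le_iff_exists.1 hAne
  have haP : a ∈ P := hAP haA
  have haD : ¬ D ≤ centralizer ({a} : Set G) := fun hle => haU (hLC ⟨haA, mem_centralizer_iff.2 fun d hd =>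
    mem_centralizer_singleton_iff.1 (hle hd)⟩)
  have hapow : a ^ p ∈ centralizer (U0 : Set G) := (hmemA.1 haA).2.1
  have hgenA : A ≤ zpowers a ⊔ L := by
    have h1 := Subgroup.relIndex_mul_relIndex L (zpowers a ⊔ L) A le_sup_right
      (sup_le (zpowers_le.2 haA) inf_le_left)
    have h2 : L.relIndex (zpowers a ⊔ L) ≠ 1 := fun e =>
      haU (hLC (Subgroup.relIndex_eq_one.1 e (mem_sup_left (mem_zpowers a))))
    refine Subgroup.relIndex_eq_one.1 ?_
    rcases (Nat.dvd_prime hp.out).1 hLr with e | e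
    · exact absurd (Nat.eq_one_of_mul_eq_one_right (h1.trans e)) h2
    · rcases (Nat.dvd_prime hp.out).1 (Dvd.intro _ (h1.trans e)) with e' | e'
      · exact absurd e' h2
      · rw [e', e] at h1
        exact (Nat.mul_eq_left hp.out.ne_zero).1 h1
  have hAform : ∀ g ∈ A, ∃ n : ℕ, ∃ c ∈ centralizer (U0 : Set G), g = a ^ n * c := by
    intro g hg
    have hgm := hgenA hg
    have hLn : zpowers a ≤ normalizer (L : Set G) := zpowers_le.2 (Subgroup.mem_normalizer_fintype fun l hl => by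
      refine ⟨A.mul_mem (A.mul_mem haA hl.1) (A.inv_mem haA), mem_centralizer_iff.2 fun d hd => ?_⟩
      have hc : a * l * a⁻¹ ∈ centralizer (U0 : Set G) := by
        have : ⁅a, l⁆ * l ∈ centralizer (U0 : Set G) := mul_mem (hAcomm a haA l hl.1) (hLC hl)
        rwa [commutatorElement_def, inv_mul_cancel_right] at this
      exact mem_centralizer_iff.1 hc d (hDU0 hd))
    rw [← SetLike.mem_coe, Subgroup.coe_mul_of_left_le_normalizer_right _ _ hLn] at hgm
    obtain ⟨y, hy, c, hc, rfl⟩ := hgm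
    obtain ⟨n, rfl⟩ := (isOfFinOrder_of_finite a).mem_zpowers_iff_mem_range_orderOf.1 hy |> fun h => by
      simp only [Finset.mem_image, Finset.mem_range] at h
      exact h.imp fun n hn => hn.2
    exact ⟨n, c, hLC hc, rfl⟩
  -- the fixed points and the commutators of `a`
  set C := U0 ⊓ centralizer ({a} : Set G) with hC
  set R := cimg U0 a with hR
  have hcomm_pow : ∀ n : ℕ, ∀ v ∈ U0, ⁅a ^ n, v⁆ ∈ R := by
    intro n
    induction n with
    | zero => intro v _; rw [pow_zero, commutatorElement_one_left]; exact R.one_mem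
    | succ n ih =>
      intro v hv
      have hw : a ^ n * v * (a ^ n)⁻¹ ∈ U0 := (mem_normalizer_iff.1 (pow_mem (hPU0 haP) n) v).1 hv
      have e : ⁅a ^ (n + 1), v⁆ = ⁅a, a ^ n * v * (a ^ n)⁻¹⁆ * ⁅a ^ n, v⁆ := by
        simp only [commutatorElement_def, pow_succ']; group
      rw [e]
      exact R.mul_mem ((mem_cimg hel0 (hPU0 haP)).2 ⟨_, hw, rfl⟩) (ih v hv)
  have hRconj : ∀ g : G, g ∈ normalizer (U0 : Set G) → g * a * g⁻¹ ∈ A → ∀ y ∈ R, g * y * g⁻¹ ∈ R := by
    intro g hg hga y hy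
    obtain ⟨v, hv, rfl⟩ := (mem_cimg hel0 (hPU0 haP)).1 hy
    rw [conj_comm]
    obtain ⟨n, c, hc, e⟩ := hAform _ hga
    rw [e, comm_mul_cent hc ((mem_normalizer_iff.1 hg v).1 hv)]
    exact hcomm_pow n _ ((mem_normalizer_iff.1 hg v).1 hv)
  have hgaA : ∀ g ∈ P, g * a * g⁻¹ ∈ A := fun g hg => by
    have h1 : ⁅g, a⁆ * a = g * a * g⁻¹ := by rw [commutatorElement_def]; group
    have h2 : ⁅g, a⁆ ∈ A := hmemA.2 ⟨P.mul_mem (P.mul_mem (P.mul_mem hg haP) (P.inv_mem hg)) (P.inv_mem haP),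
      pow_mem ((hmemA.1 haA).2.2 g hg) p, fun k hk => ?_⟩
    · rw [← h1]
      exact A.mul_mem h2 haA
    · have hc := (hmemA.1 haA).2.2 g hg
      have h3 : k * ⁅g, a⁆ * k⁻¹ ∈ centralizer (U0 : Set G) := mem_centralizer_iff.2 fun u hu => by
        have h4 := mem_centralizer_iff.1 hc (k⁻¹ * u * k) (by
          have := (mem_normalizer_iff.1 (inv_mem (hPU0 hk)) u).1 hu
          rwa [inv_inv] at this)
        calc u * (k * ⁅g, a⁆ * k⁻¹) = k * ((k⁻¹ * u * k) * ⁅g, a⁆) * k⁻¹ := by group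
          _ = k * ⁅g, a⁆ * k⁻¹ * u := by rw [h4]; group
      rw [commutatorElement_def k ⁅g, a⁆]
      exact mul_mem h3 (inv_mem hc)
  have hRU : R ≤ U0 := fun y hy => by
    obtain ⟨v, hv, rfl⟩ := (mem_cimg hel0 (hPU0 haP)).1 hy
    exact comm_mem (hPU0 haP) hv
  have hRC : ∀ y ∈ R, y ∈ C → y = 1 := by
    intro y hy hyC
    obtain ⟨v, hv, rfl⟩ := (mem_cimg hel0 (hPU0 haP)).1 hy
    have e1 : a * v * a⁻¹ = v * ⁅a, v⁆ := by
      rw [elem_comm hel0 hv (comm_mem (hPU0 haP) hv), commutatorElement_def]; group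
    have := fixed_of_step hel0 (hp.out.odd_of_ne_two (by omega)) hapow hv (comm_mem (hPU0 haP) hv)
      (cent_iff.1 hyC.2) e1
    rw [commutatorElement_def, this, mul_inv_cancel]
  have hCC : ∀ v ∈ C, ∀ g ∈ A, g * v * g⁻¹ = v := fun v hv g hg => by
    obtain ⟨n, c, hc, rfl⟩ := hAform g hg
    have h1 : c * v * c⁻¹ = v := by rw [← mem_centralizer_iff.1 hc v hv.1, mul_inv_cancel_right]
    have h2 : v ∈ centralizer ({a} : Set G) := hv.2
    have h3 : a ^ n * v = v * a ^ n := (mem_centralizer_iff.1 (show a ^ n ∈ centralizer ({v} : Set G) from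
      pow_mem (mem_centralizer_singleton_iff.2 (mem_centralizer_singleton_iff.1 h2).symm) n) v rfl).symm
    calc a ^ n * c * v * (a ^ n * c)⁻¹ = a ^ n * (c * v * c⁻¹) * (a ^ n)⁻¹ := by group
      _ = v := by rw [h1, h3, mul_inv_cancel_right]
  have hCx : C ≤ centralizer ({x} : Set G) := by
    by_contra hne
    have hDC := h0.le_of_not_cent (V := C) inf_le_left (fun v hv => ?_) hne
    · rw [hcimg] at hDC
      exact haD (hDC.trans inf_le_right)
    · refine ⟨(mem_normalizer_iff.1 hxU0 v).1 hv.1, cent_iff.2 ?_⟩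
      have h1 := hCC v hv _ ((mem_normalizer_iff.1 (inv_mem hxA) a).1 haA)
      calc a * (x * v * x⁻¹) * a⁻¹ = x * ((x⁻¹ * a * x⁻¹⁻¹) * v * (x⁻¹ * a * x⁻¹⁻¹)⁻¹) * x⁻¹ := by group
        _ = x * v * x⁻¹ := by rw [h1]
  -- `R = U₀`, so `a` is fixed point free
  let fa : U0 →* G :=
    { toFun := fun v => ⁅a, (v : G)⁆
      map_one' := by simp
      map_mul' := fun v w => comm_mul hel0 (hPU0 haP) v.2 w.2 }
  have hfa : fa.range = R := by
    ext y
    rw [hR, mem_cimg hel0 (hPU0 haP)]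
    exact ⟨fun ⟨v, hv⟩ => ⟨v, v.2, hv⟩, fun ⟨v, hv, e⟩ => ⟨⟨v, hv⟩, e⟩⟩
  have hkerfa : ∀ v : U0, fa v = 1 ↔ (v : G) ∈ C := fun v =>
    ⟨fun e => ⟨v.2, cent_iff.2 (mul_inv_eq_one.1 e)⟩, fun hv => by
      show ⁅a, (v : G)⁆ = 1; rw [commutatorElement_def, cent_iff.1 hv.2, mul_inv_cancel]⟩
  have hdec : ∀ v ∈ U0, ∃ y ∈ R, ∃ c ∈ C, v = y * c := by
    intro v hv
    have hinj : Function.Injective (fun y : R => (⟨⁅a, (y : G)⁆, (mem_cimg hel0 (hPU0 haP)).2 ⟨y, hRU y.2, rfl⟩⟩ : R)) := by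
      intro y z e
      have e' : ⁅a, (y : G)⁆ = ⁅a, (z : G)⁆ := congrArg Subtype.val e
      have h1 : fa ⟨(y : G) * z, U0.mul_mem (hRU y.2) (hRU z.2)⟩ = 1 := by
        show ⁅a, (y : G) * z⁆ = 1
        rw [comm_mul hel0 (hPU0 haP) (hRU y.2) (hRU z.2), e', ← pow_two,
          hel0.2 _ (comm_mem (hPU0 haP) (hRU z.2))]
      have h2 := hRC _ (R.mul_mem y.2 z.2) ((hkerfa _).1 h1)
      exact Subtype.ext ((eq_inv_of_mul_eq_one_left h2).trans (elem_inv hel0 (hRU z.2)))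
    obtain ⟨y, hy⟩ := (Finite.injective_iff_surjective.1 hinj) ⟨⁅a, v⁆, (mem_cimg hel0 (hPU0 haP)).2 ⟨v, hv, rfl⟩⟩
    have hy' : ⁅a, (y : G)⁆ = ⁅a, v⁆ := congrArg Subtype.val hy
    refine ⟨y, y.2, (y : G)⁻¹ * v, (hkerfa ⟨(y : G)⁻¹ * v, U0.mul_mem (U0.inv_mem (hRU y.2)) hv⟩).1 ?_, by group⟩
    show ⁅a, (y : G)⁻¹ * v⁆ = 1
    rw [elem_inv hel0 (hRU y.2), comm_mul hel0 (hPU0 haP) (hRU y.2) hv, hy', ← pow_two,
      hel0.2 _ (comm_mem (hPU0 haP) hv)]
  have hxR : ∀ y ∈ R, x * y * x⁻¹ ∈ R :=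
    hRconj x hxU0 ((mem_normalizer_iff.1 hxA a).1 haA)
  have hRall : U0 ≤ R := by
    refine hmin' R hRU ?_ (fun g hg => Subgroup.mem_normalizer_fintype (hRconj g (hPU0 hg) (hgaA g hg)))
      (Subgroup.mem_normalizer_fintype hxR)
    rw [← hcimg]
    intro d hd
    obtain ⟨v, hv, rfl⟩ := (mem_cimg hel0 hxU0).1 hd
    obtain ⟨y, hy, c, hc, rfl⟩ := hdec v hv
    rw [comm_mul hel0 hxU0 (hRU hy) hc.1, show ⁅x, c⁆ = 1 by
      rw [commutatorElement_def, cent_iff.1 (hCx hc), mul_inv_cancel], mul_one, commutatorElement_def]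
    exact R.mul_mem (hxR y hy) (R.inv_mem hy)
  have hfree : ∀ v ∈ U0, a * v * a⁻¹ = v → v = 1 := fun v hv e => hRC v (hRall hv) ⟨hv, cent_iff.2 e⟩
  -- `x` twists `a`
  obtain ⟨j, c0, hc0, hja⟩ := hAform _ ((mem_normalizer_iff.1 hxA a).1 haA)
  have hxa : ∀ v ∈ U0, x * (a * v * a⁻¹) * x⁻¹ = a ^ j * (x * v * x⁻¹) * (a ^ j)⁻¹ := by
    intro v hv
    have h1 : c0 * (x * v * x⁻¹) * c0⁻¹ = x * v * x⁻¹ := by
      rw [← mem_centralizer_iff.1 hc0 _ ((mem_normalizer_iff.1 hxU0 v).1 hv), mul_inv_cancel_right]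
    calc x * (a * v * a⁻¹) * x⁻¹ = (x * a * x⁻¹) * (x * v * x⁻¹) * (x * a * x⁻¹)⁻¹ := by group
      _ = a ^ j * (c0 * (x * v * x⁻¹) * c0⁻¹) * (a ^ j)⁻¹ := by rw [hja]; group
      _ = a ^ j * (x * v * x⁻¹) * (a ^ j)⁻¹ := by rw [h1]
  have hpowfix : ∀ (i : ℕ), ¬ p ∣ i → ∀ v ∈ U0, a ^ i * v * (a ^ i)⁻¹ = v → v = 1 := by
    intro i hi v hv e
    refine hfree v hv ?_
    have hg : a ∈ zpowers (a ^ i) ⊔ zpowers (a ^ p) := by
      have hcop : Nat.gcd i p = 1 := Nat.Coprime.gcd_eq_one ((hp.out.coprime_iff_not_dvd.2 hi).symm)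
      have h5 := Nat.gcd_eq_gcd_ab i p
      rw [hcop, Nat.cast_one] at h5
      have hae : (a ^ i) ^ Nat.gcdA i p * (a ^ p) ^ Nat.gcdB i p = a := by
        rw [← zpow_natCast, ← zpow_natCast a p, ← zpow_mul, ← zpow_mul, ← zpow_add, ← h5, zpow_one]
      exact (congrArg (· ∈ zpowers (a ^ i) ⊔ zpowers (a ^ p)) hae).mp
        (mul_mem (mem_sup_left (zpow_mem (mem_zpowers _) _)) (mem_sup_right (zpow_mem (mem_zpowers _) _)))
    have hle : zpowers (a ^ i) ⊔ zpowers (a ^ p) ≤ centralizer ({v} : Set G) := sup_le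
      (zpowers_le.2 (mem_centralizer_singleton_iff.2 (mul_inv_eq_iff_eq_mul.1 e)))
      (zpowers_le.2 (mem_centralizer_singleton_iff.2 (mem_centralizer_iff.1 hapow v hv).symm))
    exact mul_inv_eq_iff_eq_mul.2 (mem_centralizer_singleton_iff.1 (hle hg))
  have hpowid : ∀ (i : ℕ), ∀ v ∈ U0, a ^ i * v * (a ^ i)⁻¹ = a ^ (i % p) * v * (a ^ (i % p))⁻¹ := by
    intro i v hv
    have h1 : a ^ i = a ^ (i % p) * (a ^ p) ^ (i / p) := by rw [← pow_mul, ← pow_add, Nat.mod_add_div]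
    have h2 : (a ^ p) ^ (i / p) * v = v * (a ^ p) ^ (i / p) :=
      (mem_centralizer_iff.1 (pow_mem hapow _) v hv).symm
    rw [h1]
    calc a ^ (i % p) * (a ^ p) ^ (i / p) * v * (a ^ (i % p) * (a ^ p) ^ (i / p))⁻¹
        = a ^ (i % p) * ((a ^ p) ^ (i / p) * v * ((a ^ p) ^ (i / p))⁻¹) * (a ^ (i % p))⁻¹ := by group
      _ = a ^ (i % p) * v * (a ^ (i % p))⁻¹ := by rw [h2, mul_inv_cancel_right]
  have hj1 : j % p ≠ 1 := by
    intro hj
    have hnorm : ∀ d ∈ D, a * d * a⁻¹ ∈ D := by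
      intro d hd
      rw [← hcimg] at hd ⊢
      obtain ⟨v, hv, rfl⟩ := (mem_cimg hel0 hxU0).1 hd
      refine (mem_cimg hel0 hxU0).2 ⟨a * v * a⁻¹, (mem_normalizer_iff.1 (hPU0 haP) v).1 hv, ?_⟩
      rw [commutatorElement_def, hxa v hv, hpowid j _ ((mem_normalizer_iff.1 hxU0 v).1 hv), hj, pow_one,
        commutatorElement_def]
      group
    refine haD fun d hd => cent_iff.2 ?_
    have hseq : ∀ i : ℕ, a ^ i * d * (a ^ i)⁻¹ ∈ D := by
      intro i
      induction i with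
      | zero => simpa using hd
      | succ i ih =>
        have := hnorm _ ih
        rwa [show a * (a ^ i * d * (a ^ i)⁻¹) * a⁻¹ = a ^ (i + 1) * d * (a ^ (i + 1))⁻¹ by rw [pow_succ']; group] at this
    obtain ⟨i, k, hne, e⟩ : ∃ i k : Fin 5, i ≠ k ∧
        a ^ (i : ℕ) * d * (a ^ (i : ℕ))⁻¹ = a ^ (k : ℕ) * d * (a ^ (k : ℕ))⁻¹ := by
      by_contra hcon
      push Not at hcon
      have := Nat.card_le_card_of_injective (fun i : Fin 5 => (⟨_, hseq i⟩ : D))
        fun i k e => by_contra fun hne => hcon i k hne (congrArg Subtype.val e)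
      rw [Nat.card_fin, h.card] at this
      omega
    wlog hik : (i : ℕ) < k generalizing i k
    · exact this k i hne.symm e.symm (lt_of_le_of_ne (not_lt.1 hik) fun h' => hne (Fin.ext h').symm)
    have hd0 : d ∈ U0 := hDU0 hd
    have h1 := hpowfix ((k : ℕ) - i) (fun hh => absurd (Nat.le_of_dvd (by omega) hh) (by omega)) d hd0 (by
      calc a ^ ((k : ℕ) - i) * d * (a ^ ((k : ℕ) - i))⁻¹
          = (a ^ (i : ℕ))⁻¹ * (a ^ (k : ℕ) * d * (a ^ (k : ℕ))⁻¹) * a ^ (i : ℕ) := by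
            rw [show a ^ (k : ℕ) = a ^ (i : ℕ) * a ^ ((k : ℕ) - i) by rw [← pow_add]; congr 1; omega]; group
        _ = d := by rw [← e]; group)
    rw [h1, mul_one, mul_inv_cancel]
  -- the size of `U₀`
  set CX := U0 ⊓ centralizer ({x} : Set G) with hCX
  have hsq : Nat.card CX * Nat.card CX ≤ Nat.card U0 := by
    rw [← Nat.card_prod]
    refine Nat.card_le_card_of_injective (fun q => (⟨q.1.1 * (a * q.2.1 * a⁻¹),
      U0.mul_mem q.1.2.1 ((mem_normalizer_iff.1 (hPU0 haP) _).1 q.2.2.1)⟩ : U0)) ?_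
    intro q q' e
    have e' : (q.1 : G) * (a * q.2 * a⁻¹) = q'.1 * (a * q'.2 * a⁻¹) := congrArg Subtype.val e
    set w := (q.2 : G) * (q'.2 : G)⁻¹ with hw
    have hwC : w ∈ CX := CX.mul_mem q.2.2 (CX.inv_mem q'.2.2)
    have e1 : a * w * a⁻¹ = (q.1 : G)⁻¹ * q'.1 := by
      calc a * w * a⁻¹ = (q.1 : G)⁻¹ * ((q.1 : G) * (a * q.2 * a⁻¹)) * (a * (q'.2 : G) * a⁻¹)⁻¹ := by rw [hw]; group
        _ = (q.1 : G)⁻¹ * q'.1 := by rw [e']; group
    have hfx : x * (a * w * a⁻¹) * x⁻¹ = a * w * a⁻¹ := by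
      rw [e1]; exact cent_iff.1 (mul_mem (inv_mem q.1.2.2) q'.1.2.2)
    rw [hxa w hwC.1, cent_iff.1 hwC.2, hpowid j w hwC.1] at hfx
    have hw1 : w = 1 := by
      by_cases hj0 : j % p = 0
      · rw [hj0, pow_zero, inv_one, mul_one, one_mul] at hfx
        exact hfree w hwC.1 hfx.symm
      · obtain ⟨m, hm⟩ : ∃ m, j % p = m + 1 := ⟨j % p - 1, by omega⟩
        have hlt := Nat.mod_lt j hp.out.pos
        refine hpowfix m (fun hh => absurd (Nat.le_of_dvd (by omega) hh) (by omega)) w hwC.1 ?_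
        have h2 := congrArg (fun t => a⁻¹ * t * a) hfx
        simp only [hm, pow_succ'] at h2
        calc a ^ m * w * (a ^ m)⁻¹ = a⁻¹ * (a * a ^ m * w * (a * a ^ m)⁻¹) * a := by group
          _ = a⁻¹ * (a * w * a⁻¹) * a := h2
          _ = w := by group
    have h2 : (q.2 : G) = q'.2 := by rw [← mul_inv_eq_one, ← hw, hw1]
    rw [h2, mul_left_inj] at e'
    exact Prod.ext (Subtype.ext e') (Subtype.ext h2)
  have hU16 : Nat.card U0 ≤ 16 := by
    have h1 := h0.card_fixed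
    rw [← hCX] at h1
    have h2 : Nat.card CX ≤ 4 := Nat.le_of_mul_le_mul_left (h1 ▸ hsq : Nat.card CX * Nat.card CX ≤ Nat.card CX * 4) Nat.card_pos
    omega
  -- stabilisers centralise `U₀`
  have hmod : ∀ W : Subgroup G, W ≤ U0 → (∀ w ∈ W, a * w * a⁻¹ ∈ W) → Nat.card W ≡ 1 [MOD p] := by
    intro W hWU hWa
    have haW : a ∈ normalizer (W : Set G) := Subgroup.mem_normalizer_fintype hWa
    set φ : MulAut W := Subgroup.normalizerMonoidHom W ⟨a, haW⟩
    have hφ : ∀ (i : ℕ) (w : W), (((φ ^ i) w : W) : G) = a ^ i * w * (a ^ i)⁻¹ := by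
      intro i w
      rw [← map_pow]
      rfl
    have hφp : φ ^ p = 1 := MulEquiv.ext fun w => Subtype.ext (by
      rw [hφ, ← mem_centralizer_iff.1 hapow w (hWU w.2), mul_inv_cancel_right]
      rfl)
    have hA : IsPGroup p (zpowers φ) := by
      rintro ⟨g, k, rfl⟩
      refine ⟨1, Subtype.ext ?_⟩
      show (φ ^ k) ^ p ^ 1 = 1
      rw [pow_one, ← zpow_natCast, ← zpow_mul, mul_comm, zpow_mul, zpow_natCast, hφp, one_zpow]
    have h1 := hA.card_modEq_card_fixedPoints (α := W)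
    refine h1.trans (congrArg (· % p) ?_)
    have hsub : Subsingleton ↥(MulAction.fixedPoints (zpowers φ) W) := ⟨fun w w' => Subtype.ext ?_⟩
    · haveI : Nonempty ↥(MulAction.fixedPoints (zpowers φ) W) :=
        ⟨⟨1, fun g => map_one (g : MulAut W)⟩⟩
      exact Nat.card_unique
    · have hone : ∀ w : ↥(MulAction.fixedPoints (zpowers φ) W), (w : W) = 1 := fun w => Subtype.ext (hfree _ (hWU (w : W).2) (by
        have := congrArg Subtype.val (w.2 ⟨φ, mem_zpowers φ⟩)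
        rw [show ((⟨φ, mem_zpowers φ⟩ : zpowers φ) • (w : W)) = (φ ^ 1) (w : W) by rw [pow_one]; rfl, hφ, pow_one] at this
        exact this))
      rw [hone w, hone w']
  obtain ⟨d, hd, hd1⟩ := (bot_or_exists_ne_one U0).resolve_left fun e => by
    have := card_dvd_of_le (show D ≤ U0 from hDU0)
    rw [e, Subgroup.card_bot, hD, h.card] at this
    norm_num at this
  set St := P ⊓ centralizer ({d} : Set G) with hSt
  have hStC : St ≤ centralizer (U0 : Set G) := by
    set W := U0 ⊓ centralizer (St : Set G) with hWd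
    have hWa : ∀ w ∈ W, a * w * a⁻¹ ∈ W := fun w hw => ⟨(mem_normalizer_iff.1 (hPU0 haP) w).1 hw.1,
      mem_cent_set.2 fun k hk => conj_fix hw.1 (by
        have h1 := (hmemA.1 (A.inv_mem haA)).2.2 k hk.1
        have h2 := inv_mem h1
        rwa [commutatorElement_inv] at h2) (mem_cent_set.1 hw.2 k hk)⟩
    have hW1 : d ∈ W := ⟨hd, mem_centralizer_iff.2 fun k hk => mem_centralizer_singleton_iff.1 (hk : k ∈ St).2⟩
    have hcW : 1 < Nat.card W := by
      rw [Finite.one_lt_card_iff_nontrivial, Subgroup.nontrivial_iff_ne_bot]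
      exact fun e => hd1 (by simpa [e] using hW1)
    have hdvd : Nat.card W ∣ Nat.card U0 := card_dvd_of_le inf_le_left
    have heq : Nat.card W = Nat.card U0 := by
      by_contra hne
      obtain ⟨t, ht⟩ := hdvd
      have ht2 : 2 ≤ t := by
        rcases t with _ | _ | t
        · rw [mul_zero] at ht; exact absurd ht Nat.card_pos.ne'
        · exact absurd (by rw [ht]; norm_num) hne
        · omega
      have hm1 := hmod W inf_le_left hWa
      have hm2 := hmod U0 le_rfl (fun w hw => (mem_normalizer_iff.1 (hPU0 haP) w).1 hw)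
      have hWle : Nat.card W ≤ 8 := by
        by_contra hgt
        push Not at hgt
        have : 9 * 2 ≤ Nat.card W * t := Nat.mul_le_mul hgt ht2
        omega
      have hp8 : p ≤ Nat.card W - 1 := Nat.le_of_dvd (by omega) ((Nat.modEq_iff_dvd' hcW.le).1 hm1.symm)
      obtain ⟨k, hk⟩ := IsPGroup.iff_card.1 (Grp.elemAb_isPGroup hel0)
      obtain ⟨l, hl, hl'⟩ := (Nat.dvd_prime_pow Nat.prime_two).1 (hk ▸ (⟨t, ht⟩ : Nat.card W ∣ Nat.card U0))
      have hkb : k ≤ 4 := (Nat.pow_le_pow_iff_right (by norm_num : 1 < 2)).1 (by rw [← hk]; exact le_trans hU16 (by norm_num))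
      rw [Nat.ModEq, hk] at hm2
      rw [Nat.ModEq, hl'] at hm1
      rw [hl'] at hp8 hne hWle
      rw [hk] at hne
      have h4 : l ≤ 3 := (Nat.pow_le_pow_iff_right (by norm_num : 1 < 2)).1 (le_trans hWle (by norm_num))
      have hp7 : p ≤ 7 := by omega
      have hp' := hp.out
      interval_cases p <;> interval_cases l <;> interval_cases k <;> revert hp8 hne hm1 hm2 hp' <;> norm_num
    rw [← Subgroup.eq_of_le_of_card_ge (inf_le_left : W ≤ U0) heq.ge]
    exact le_centralizer_iff.1 inf_le_right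
  have hlast : P1.relIndex P ∣ p := by
    show (P1.subgroupOf P).index ∣ p
    obtain ⟨k, hk⟩ := IsPGroup.iff_card.1 hQ
    rw [Subgroup.index_eq_card, hk]
    refine (pow_dvd_pow p (?_ : k ≤ 1)).trans (pow_one p).dvd
    have hle : Nat.card (↥P ⧸ P1.subgroupOf P) ≤ Nat.card U0 := by
      refine Nat.card_le_card_of_injective (Quotient.lift (fun g : P => (⟨(g : G) * d * (g : G)⁻¹,
        (mem_normalizer_iff.1 (hPU0 g.2) d).1 hd⟩ : U0)) ?_) ?_
      · intro g g' hgg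
        have h1 : g⁻¹ * g' ∈ P1.subgroupOf P := QuotientGroup.leftRel_apply.1 hgg
        have h2 : ((g : G)⁻¹ * g') * d = d * ((g : G)⁻¹ * g') := (mem_centralizer_iff.1 (h1 : _ ∈ P1).2 d hd).symm
        refine Subtype.ext ?_
        calc (g : G) * d * (g : G)⁻¹ = (g : G) * (d * ((g : G)⁻¹ * g')) * (g' : G)⁻¹ := by group
          _ = (g' : G) * d * (g' : G)⁻¹ := by rw [← h2]; group
      · rintro ⟨g⟩ ⟨g'⟩ e
        have e' : (g : G) * d * (g : G)⁻¹ = g' * d * (g' : G)⁻¹ := congrArg Subtype.val e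
        refine QuotientGroup.eq.2 ?_
        have hmem : (g : G)⁻¹ * g' ∈ St := ⟨P.mul_mem (P.inv_mem g.2) g'.2, cent_swap (by
          calc (g : G)⁻¹ * g' * d * ((g : G)⁻¹ * g')⁻¹ = (g : G)⁻¹ * (g' * d * (g' : G)⁻¹) * g := by group
            _ = d := by rw [← e']; group)⟩
        exact ⟨hmem.1, hStC hmem⟩
    rw [hk] at hle
    by_contra hk2
    push Not at hk2
    have := (Nat.pow_le_pow_right hp.out.pos hk2).trans (hle.trans hU16)
    nlinarith
  exact ⟨P1, inf_le_left, hP1n, hlast, hDU0.trans (le_centralizer_iff.1 inf_le_right)⟩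

end Cfsg.Agent.Transfer.SmallComm
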