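import Mathlib
import Cfsg.Agent.Lib.Transfer.CycleLocal
import Cfsg.Agent.Lib.Transfer.JordanPrimeCycle

/-! Even groups of degree 6, 7 and 13 containing two large prime cycles. -/

set_option autoImplicit false
set_option maxHeartbeats 1000000

open scoped Pointwise

namespace Cfsg.Agent.Transfer.SmallDegree

open Equiv Equiv.Perm MulAction

section Abstract

variable {X : Type*} [Group X] [Finite X] {r : ℕ} [hr : Fact r.Prime]

theorem sylow_of_not_sq {g : X} (hgo : orderOf g = r) (hr2 : ¬ r ^ 2 ∣ Nat.card X) :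
    ∃ P : Sylow r X, (P : Subgroup X) = Subgroup.zpowers g := by
  have hd : r ∣ Nat.card X := hgo ▸ orderOf_dvd_natCard g
  have h1 := (hr.out.pow_dvd_iff_le_factorization Nat.card_pos.ne').not.mp hr2
  have h2 : 1 ≤ (Nat.card X).factorization r :=
    (hr.out.pow_dvd_iff_le_factorization Nat.card_pos.ne').mp (by rwa [pow_one])
  exact ⟨Sylow.ofCard (Subgroup.zpowers g) (by
    rw [Nat.card_zpowers, hgo, show (Nat.card X).factorization r = 1 by omega, pow_one]), rfl⟩

theorem normal_complement {g : X} (hgo : orderOf g = r) (hr2 : ¬ r ^ 2 ∣ Nat.card X)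
    (hN : ∀ h : X, h * g * h⁻¹ ∈ Subgroup.zpowers g → h ∈ Subgroup.zpowers g) :
    ∃ L : Subgroup X, L.Normal ∧ ¬ r ∣ Nat.card L ∧ Nat.card L * r = Nat.card X := by
  obtain ⟨P, hP⟩ := sylow_of_not_sq hgo hr2
  have hNC : Subgroup.normalizer (P : Set X) ≤ Subgroup.centralizer (P : Set X) := by
    intro h hh
    have hh' : h ∈ Subgroup.zpowers g := by
      refine hN h ?_
      have := (Subgroup.mem_normalizer_iff.mp hh g).mp (show g ∈ (P : Subgroup X) from hP ▸ Subgroup.mem_zpowers g)
      exact hP ▸ this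
    refine Subgroup.mem_centralizer_iff.mpr fun y hy => ?_
    have hy' : y ∈ Subgroup.zpowers g := hP ▸ (hy : y ∈ (P : Subgroup X))
    obtain ⟨i, rfl⟩ := hy'
    obtain ⟨j, rfl⟩ := hh'
    exact ((Commute.refl g).zpow_zpow i j).eq
  refine ⟨(MonoidHom.transferSylow P hNC).ker, inferInstance, ?_, ?_⟩
  · rw [← (MonoidHom.ker_transferSylow_isComplement' P hNC).index_eq_card]
    exact P.not_dvd_index
  · have := (MonoidHom.ker_transferSylow_isComplement' P hNC).card_mul
    have h2 : Nat.card (P : Subgroup X) = r := by rw [hP, Nat.card_zpowers, hgo]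
    rw [h2] at this
    exact this

theorem sylow_data {g : X} (hgo : orderOf g = r) (hr2 : ¬ r ^ 2 ∣ Nat.card X)
    (hC : ∀ c : X, c * g = g * c → c ∈ Subgroup.zpowers g) :
    ∃ a n : ℕ, a ∣ r - 1 ∧ n % r = 1 ∧ Nat.card X = r * a * n ∧
      Nat.card ↥(Subgroup.normalizer ((Subgroup.zpowers g : Subgroup X) : Set X)) = r * a := by
  obtain ⟨P, hP⟩ := sylow_of_not_sq hgo hr2
  set N := Subgroup.normalizer ((Subgroup.zpowers g : Subgroup X) : Set X)
  set φ := (Subgroup.zpowers g).normalizerMonoidHom
  have hker : Nat.card φ.ker = r := by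
    rw [← hgo, ← Nat.card_zpowers, Subgroup.normalizerMonoidHom_ker]
    refine Nat.card_congr (Equiv.trans (Subgroup.subgroupOfEquivOfLe
      (Subgroup.centralizer_le_normalizer _)).toEquiv (Equiv.setCongr (congrArg SetLike.coe ?_)))
    refine le_antisymm (fun c hc => hC c ?_) (Subgroup.zpowers_le.mpr ?_)
    · exact (Subgroup.mem_centralizer_iff.mp hc g (Subgroup.mem_zpowers g)).symm
    · refine Subgroup.mem_centralizer_iff.mpr fun y hy => ?_
      obtain ⟨i, rfl⟩ := hy
      exact ((Commute.refl g).zpow_left i).eq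
  have hcard : Nat.card N = r * φ.ker.index := by rw [← φ.ker.card_mul_index, hker]
  have haut : φ.ker.index ∣ r - 1 := by
    rw [Subgroup.index_ker]
    refine (Subgroup.card_subgroup_dvd_card φ.range).trans ?_
    rw [IsCyclic.card_mulAut, Nat.card_zpowers, hgo, Nat.totient_prime hr.out]
  refine ⟨φ.ker.index, N.index, haut, ?_, ?_, hcard⟩
  · have h1 := card_sylow_modEq_one r X
    rw [P.card_eq_index_normalizer, ← P.coe_coe, hP] at h1
    rw [h1, Nat.mod_eq_of_lt hr.out.one_lt]
  · rw [← N.card_mul_index, hcard]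

theorem false_of_fpf_transitive {L : Subgroup X} {g : X} (hgo : orderOf g = r)
    (hgL : g ∈ Subgroup.normalizer (L : Set X)) (hfix : ∀ l ∈ L, g * l = l * g → l = 1)
    (hcard : Nat.card L = r + 1) {s t : ℕ} (hs : s.Prime) (ht : t.Prime) (hst : s ≠ t)
    (hsd : s ∣ r + 1) (htd : t ∣ r + 1) : False := by
  classical
  haveI := Fact.mk hs
  haveI := Fact.mk ht
  obtain ⟨u, hu⟩ := exists_prime_orderOf_dvd_card' (G := L) s (hcard ▸ hsd)
  obtain ⟨v, hv⟩ := exists_prime_orderOf_dvd_card' (G := L) t (hcard ▸ htd)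
  let f : ℕ → L := fun k => ⟨g ^ k * u * (g ^ k)⁻¹,
    (Subgroup.mem_normalizer_iff.mp (pow_mem hgL k) u).mp u.2⟩
  have hford : ∀ k, orderOf (f k) = s := fun k => by
    rw [← Subgroup.orderOf_coe]
    show orderOf (g ^ k * (u : X) * (g ^ k)⁻¹) = s
    rw [← hu, ← Subgroup.orderOf_coe]
    exact (MulAut.conj (g ^ k)).orderOf_eq (u : X)
  have hinj : Set.InjOn f (Finset.range r : Set ℕ) := by
    have key : ∀ j k, j < k → k < r → f j ≠ f k := by
      intro j k hjk hk h
      obtain ⟨d, rfl⟩ := Nat.exists_eq_add_of_lt hjk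
      have h1 : g ^ (d + 1) * (u : X) * (g ^ (d + 1))⁻¹ = u := by
        have h2 : g ^ j * (u : X) * (g ^ j)⁻¹ = g ^ (j + d + 1) * u * (g ^ (j + d + 1))⁻¹ :=
          congrArg Subtype.val h
        rw [show j + d + 1 = j + (d + 1) from rfl, pow_add] at h2
        calc g ^ (d + 1) * (u : X) * (g ^ (d + 1))⁻¹
            = (g ^ j)⁻¹ * (g ^ j * g ^ (d + 1) * u * (g ^ j * g ^ (d + 1))⁻¹) * g ^ j := by group
          _ = u := by rw [← h2]; group
      have h3 : Commute (g ^ (d + 1)) (u : X) := mul_inv_eq_iff_eq_mul.mp h1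
      obtain ⟨m, hm⟩ := exists_pow_eq_self_of_coprime (x := g) (n := d + 1) (by
        rw [hgo]
        exact ((hr.out.coprime_iff_not_dvd).mpr fun h => by
          have := Nat.le_of_dvd (by omega) h
          omega).symm)
      have h4 : g * (u : X) = u * g := by
        have := h3.pow_left m
        rwa [hm] at this
      have := hfix u u.2 h4
      rw [← Subgroup.orderOf_coe, this, orderOf_one] at hu
      exact hs.ne_one hu.symm
    intro j hj k hk h
    simp only [Finset.coe_range, Set.mem_Iio] at hj hk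
    rcases lt_trichotomy j k with h' | h' | h'
    · exact absurd h (key j k h' hk)
    · exact h'
    · exact absurd h.symm (key k j h' hj)
  letI := Fintype.ofFinite L
  have hsub : (Finset.range r).image f ⊆ (Finset.univ : Finset L).erase 1 := by
    intro y hy
    obtain ⟨k, -, rfl⟩ := Finset.mem_image.mp hy
    refine Finset.mem_erase.mpr ⟨fun h => ?_, Finset.mem_univ _⟩
    have := hford k
    rw [h, orderOf_one] at this
    exact hs.ne_one this.symm
  have heq := Finset.eq_of_subset_of_card_le hsub (by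
    rw [Finset.card_image_of_injOn hinj, Finset.card_range, Finset.card_erase_of_mem (Finset.mem_univ _),
      Finset.card_univ, ← Nat.card_eq_fintype_card, hcard]
    omega)
  have hv' : v ∈ (Finset.range r).image f := by
    rw [heq]
    refine Finset.mem_erase.mpr ⟨fun h => ?_, Finset.mem_univ _⟩
    rw [h, orderOf_one] at hv
    exact ht.ne_one hv.symm
  obtain ⟨k, -, rfl⟩ := Finset.mem_image.mp hv'
  exact hst ((hford k).symm.trans hv)

end Abstract

variable {β : Type*} [Fintype β] [DecidableEq β]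

theorem card_mul_le_of_ne_alternating (hn : 5 ≤ Fintype.card β) {G : Subgroup (Perm β)}
    (hle : G ≤ alternatingGroup β) (hne : G ≠ alternatingGroup β) :
    Nat.card G * Fintype.card β ≤ Nat.card (alternatingGroup β) := by
  set A := alternatingGroup β
  haveI := alternatingGroup.isSimpleGroup (α := β) (by rw [Nat.card_eq_fintype_card]; exact hn)
  set H := G.subgroupOf A
  have hH : H ≠ ⊤ := fun h => hne (le_antisymm hle (Subgroup.subgroupOf_eq_top.mp h))
  set φ := MulAction.toPermHom A (A ⧸ H)
  have hker : φ.ker ≤ H := by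
    rw [← Subgroup.normalCore_eq_ker]
    exact Subgroup.normalCore_le H
  have hker' : φ.ker = ⊥ :=
    (φ.normal_ker.eq_bot_or_eq_top).resolve_right fun h => hH (top_le_iff.mp (h ▸ hker))
  have h1 := Nat.card_le_card_of_injective φ ((MonoidHom.ker_eq_bot_iff φ).mp hker')
  rw [Nat.card_perm, ← Subgroup.index] at h1
  have h2 : Fintype.card β ≤ H.index := by
    by_contra hlt
    have h3 : H.index.factorial ≤ (Fintype.card β - 1).factorial := Nat.factorial_le (by omega)
    haveI : Nontrivial β := Fintype.one_lt_card_iff_nontrivial.mp (by omega)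
    have h4 : 2 * Nat.card A = (Fintype.card β).factorial := by
      rw [two_mul_nat_card_alternatingGroup, Nat.card_perm, Nat.card_eq_fintype_card]
    rw [← Nat.mul_factorial_pred (by omega : Fintype.card β ≠ 0)] at h4
    have := Nat.factorial_pos (Fintype.card β - 1)
    nlinarith
  calc Nat.card G * Fintype.card β = Nat.card H * Fintype.card β := by
        rw [Nat.card_congr (Subgroup.subgroupOfEquivOfLe hle).toEquiv]
    _ ≤ Nat.card H * H.index := Nat.mul_le_mul_left _ h2
    _ = Nat.card A := H.card_mul_index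

theorem zpowers_subgroup {G : Subgroup (Perm β)} {g : Perm β} (hg : g ∈ G) {c : G}
    (h : (c : Perm β) ∈ Subgroup.zpowers g) : c ∈ Subgroup.zpowers (⟨g, hg⟩ : G) := by
  obtain ⟨i, hi⟩ := h
  exact ⟨i, Subtype.ext (by rw [SubgroupClass.coe_zpow]; exact hi)⟩

theorem card_alternating {n : ℕ} (h : Fintype.card β = n) (hn : 2 ≤ n) :
    Nat.card (alternatingGroup β) = n.factorial / 2 := by
  haveI : Nontrivial β := Fintype.one_lt_card_iff_nontrivial.mp (by omega)
  rw [nat_card_alternatingGroup, Nat.card_eq_fintype_card, h]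

/-- An even group of degree 6 with elements of orders 3 and 5 is alternating of degree 6 or 5. -/
theorem six (hβ : Fintype.card β = 6) {G : Subgroup (Perm β)} (hle : G ≤ alternatingGroup β)
    {x y : Perm β} (hx : x ∈ G) (hxo : orderOf x = 3) (hy : y ∈ G) (hyo : orderOf y = 5) :
    ∃ d : ℕ, 5 ≤ d ∧ Nonempty (G ≃* alternatingGroup (Fin d)) := by
  classical
  by_cases hne : G = alternatingGroup β
  · refine ⟨6, by norm_num, ⟨(MulEquiv.subgroupCongr hne).trans ?_⟩⟩
    exact Equiv.altCongrHom (Fintype.equivFinOfCardEq hβ)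
  haveI : Fact (Nat.Prime 5) := ⟨Nat.prime_five⟩
  have hA : Nat.card (alternatingGroup β) = 360 := by rw [card_alternating hβ (by norm_num)]; rfl
  have hb := card_mul_le_of_ne_alternating (by omega) hle hne
  rw [hA, hβ] at hb
  have hd : Nat.card G ∣ 360 := hA ▸ Subgroup.card_dvd_of_le hle
  have hyc : y.IsCycle := isCycle_of_prime_order' (hyo ▸ Nat.prime_five) (by omega)
  have hys : y.support.card = 5 := hyc.orderOf.symm.trans hyo
  have hcen : ∀ c : G, c * ⟨y, hy⟩ = ⟨y, hy⟩ * c → c ∈ Subgroup.zpowers (⟨y, hy⟩ : G) := fun c hc =>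
    zpowers_subgroup hy (CycleLocal.commute_cycle_even hyc (by rw [Finset.card_compl, hβ, hys]; norm_num)
      (CycleLocal.sign_prime_order_cycle hyc hys rfl) (hle c.2) (congrArg Subtype.val hc))
  obtain ⟨a, n, ha, hn, hG, hN⟩ := sylow_data (r := 5) (g := (⟨y, hy⟩ : G))
    (by rw [Subgroup.orderOf_mk, hyo]) (fun h => absurd (h.trans hd) (by norm_num)) hcen
  have h3 : 3 ∣ Nat.card G := by
    rw [← hxo, ← Subgroup.orderOf_mk x hx]; exact orderOf_dvd_natCard _
  have hcases : Nat.card G = 30 ∧ a = 1 ∨ Nat.card G = 60 := by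
    have ha4 : a ≤ 4 := Nat.le_of_dvd (by norm_num) ha
    have hn12 : n ≤ 12 := by
      rcases Nat.eq_zero_or_pos a with rfl | hpos
      · simp at hG
      · nlinarith
    interval_cases a <;> interval_cases n <;> norm_num [hG] at * <;> omega
  rcases hcases with ⟨h30, ha1⟩ | h60
  · exfalso
    subst ha1
    obtain ⟨L, hLn, hLd, hLc⟩ := normal_complement (r := 5) (g := (⟨y, hy⟩ : G))
      (by rw [Subgroup.orderOf_mk, hyo]) (fun h => absurd (h.trans hd) (by norm_num)) (fun h hh => by
        have hmem : h ∈ Subgroup.normalizer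
            ((Subgroup.zpowers (⟨y, hy⟩ : G) : Subgroup G) : Set G) := by
          refine Subgroup.mem_normalizer_fintype fun z hz => ?_
          obtain ⟨i, rfl⟩ := hz
          rw [← conj_zpow]
          exact zpow_mem hh i
        have heq : Subgroup.zpowers (⟨y, hy⟩ : G) =
            Subgroup.normalizer ((Subgroup.zpowers (⟨y, hy⟩ : G) : Subgroup G) : Set G) :=
          Subgroup.eq_of_le_of_card_ge Subgroup.le_normalizer (by
            rw [hN, Nat.card_zpowers, Subgroup.orderOf_mk, hyo])
        rwa [← heq] at hmem)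
    haveI := hLn
    refine false_of_fpf_transitive (r := 5) (L := L) (g := (⟨y, hy⟩ : G)) (by rw [Subgroup.orderOf_mk, hyo])
      (by rw [Subgroup.normalizer_eq_top]; trivial) (fun l hl hcom => ?_) (by omega)
      Nat.prime_two Nat.prime_three (by norm_num) (by norm_num) (by norm_num)
    have h1 : orderOf l ∣ 5 := by
      obtain ⟨i, rfl⟩ := hcen l hcom.symm
      rw [orderOf_dvd_iff_pow_eq_one, ← zpow_natCast, ← zpow_mul, mul_comm, zpow_mul, zpow_natCast]
      rw [show (⟨y, hy⟩ : G) ^ 5 = 1 from Subtype.ext (by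
        rw [SubgroupClass.coe_pow, ← hyo]; exact pow_orderOf_eq_one y), one_zpow]
    have h2 : orderOf l ∣ 6 := by
      have := orderOf_dvd_natCard (G := L) ⟨l, hl⟩
      rw [Subgroup.orderOf_mk, show Nat.card L = 6 by omega] at this
      exact this
    exact orderOf_eq_one_iff.mp (Nat.eq_one_of_dvd_coprimes (by norm_num) h1 h2)
  · set A := alternatingGroup β
    haveI := alternatingGroup.isSimpleGroup (α := β) (by rw [Nat.card_eq_fintype_card]; omega)
    set H := G.subgroupOf A
    have hHc : Nat.card H = 60 := (Nat.card_congr (Subgroup.subgroupOfEquivOfLe hle).toEquiv).trans h60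
    have hHi : H.index = 6 := by
      have := H.card_mul_index
      rw [hHc, hA] at this
      omega
    set φ := MulAction.toPermHom A (A ⧸ H)
    have hφ : Function.Injective φ := by
      refine (MonoidHom.ker_eq_bot_iff φ).mp
        ((φ.normal_ker.eq_bot_or_eq_top).resolve_right fun h => ?_)
      have hk : φ.ker ≤ H := by rw [← Subgroup.normalCore_eq_ker]; exact Subgroup.normalCore_le H
      rw [h, top_le_iff] at hk
      rw [hk, Subgroup.index_top] at hHi
      omega
    letI : Fintype (A ⧸ H) := Fintype.ofFinite _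
    letI : DecidableEq (A ⧸ H) := Classical.decEq _
    let o : A ⧸ H := QuotientGroup.mk 1
    have hfix : ∀ h : H, φ (h : A) o = o := fun h => by
      show QuotientGroup.mk ((h : A) * 1) = QuotientGroup.mk 1
      rw [QuotientGroup.eq]
      simpa using h.2
    have hstab : ∀ h : H, ∀ q : A ⧸ H, φ (h : A) q ≠ o ↔ q ≠ o := fun h q => by
      constructor
      · exact fun h1 e => h1 (by rw [e, hfix])
      · exact fun h1 e => h1 ((φ (h : A)).injective (e.trans (hfix h).symm))
    let ψ : H →* Perm {q : A ⧸ H // q ≠ o} :=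
      { toFun := fun h => (φ (h : A)).subtypePerm (hstab h)
        map_one' := by ext q; simp
        map_mul' := fun h k => Equiv.ext fun q => Subtype.ext (show φ ((h * k : H) : A) q = φ h (φ k q) by
          rw [Subgroup.coe_mul, map_mul]; rfl) }
    have hψ : Function.Injective ψ := by
      refine (injective_iff_map_eq_one ψ).mpr fun h hh => ?_
      apply Subtype.ext
      apply hφ
      rw [OneMemClass.coe_one, map_one φ]
      ext q
      by_cases hq : q = o
      · rw [hq, hfix]; rfl
      · exact congrArg Subtype.val (DFunLike.congr_fun hh ⟨q, hq⟩)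
    have hcardS : Fintype.card {q : A ⧸ H // q ≠ o} = 5 := by
      rw [Fintype.card_subtype_compl, Fintype.card_subtype_eq, ← Nat.card_eq_fintype_card,
        ← Subgroup.index, hHi]
    have hrange : ψ.range = alternatingGroup {q : A ⧸ H // q ≠ o} := by
      refine Equiv.Perm.eq_alternatingGroup_of_index_eq_two ?_
      have := ψ.range.card_mul_index
      rw [← Nat.card_congr (MonoidHom.ofInjective hψ).toEquiv, hHc, Nat.card_perm,
        Nat.card_eq_fintype_card, hcardS] at this
      norm_num [Nat.factorial] at this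
      omega
    exact ⟨5, le_rfl, ⟨(((Subgroup.subgroupOfEquivOfLe hle).symm.trans (MonoidHom.ofInjective hψ)).trans
      (MulEquiv.subgroupCongr hrange)).trans (Equiv.altCongrHom (Fintype.equivFinOfCardEq hcardS))⟩⟩

/-- An even group of degree 7 with elements of orders 5 and 7 is alternating. -/
theorem seven (hβ : Fintype.card β = 7) {G : Subgroup (Perm β)} (hle : G ≤ alternatingGroup β)
    {x y : Perm β} (hx : x ∈ G) (hxo : orderOf x = 5) (hy : y ∈ G) (hyo : orderOf y = 7) :
    G = alternatingGroup β := by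
  classical
  by_contra hne
  haveI : Fact (Nat.Prime 5) := ⟨Nat.prime_five⟩
  haveI : Fact (Nat.Prime 7) := ⟨by norm_num⟩
  have hA : Nat.card (alternatingGroup β) = 2520 := by rw [card_alternating hβ (by norm_num)]; rfl
  have hb := card_mul_le_of_ne_alternating (by omega) hle hne
  rw [hA, hβ] at hb
  have hd : Nat.card G ∣ 2520 := hA ▸ Subgroup.card_dvd_of_le hle
  have hyc : y.IsCycle := isCycle_of_prime_order' (hyo ▸ (by norm_num)) (by omega)
  have hys : y.support.card = 7 := hyc.orderOf.symm.trans hyo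
  have hxc : x.IsCycle := isCycle_of_prime_order' (hxo ▸ Nat.prime_five) (by omega)
  have hxs : x.support.card = 5 := hxc.orderOf.symm.trans hxo
  have hyC : ∀ c : G, c * ⟨y, hy⟩ = ⟨y, hy⟩ * c → c ∈ Subgroup.zpowers (⟨y, hy⟩ : G) := fun c hc =>
    zpowers_subgroup hy (CycleLocal.commute_cycle_even hyc (by rw [Finset.card_compl, hβ, hys]; norm_num)
      (CycleLocal.sign_prime_order_cycle hyc hys rfl) (hle c.2) (congrArg Subtype.val hc))
  have hxC : ∀ c : G, c * ⟨x, hx⟩ = ⟨x, hx⟩ * c → c ∈ Subgroup.zpowers (⟨x, hx⟩ : G) := fun c hc =>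
    zpowers_subgroup hx (CycleLocal.commute_cycle_even hxc (by rw [Finset.card_compl, hβ, hxs])
      (CycleLocal.sign_prime_order_cycle hxc hxs rfl) (hle c.2) (congrArg Subtype.val hc))
  obtain ⟨a, n, ha, hn, hG, hN⟩ := sylow_data (r := 7) (g := (⟨y, hy⟩ : G))
    (by rw [Subgroup.orderOf_mk, hyo]) (fun h => absurd (h.trans hd) (by norm_num)) hyC
  obtain ⟨b, m, hb', hm, hG5, -⟩ := sylow_data (r := 5) (g := (⟨x, hx⟩ : G))
    (by rw [Subgroup.orderOf_mk, hxo]) (fun h => absurd (h.trans hd) (by norm_num)) hxC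
  have hodd : ¬ 2 ∣ a := by
    intro h2
    haveI : Fact (Nat.Prime 2) := ⟨Nat.prime_two⟩
    obtain ⟨u, hu⟩ := exists_prime_orderOf_dvd_card' (G := Subgroup.normalizer
      ((Subgroup.zpowers (⟨y, hy⟩ : G) : Subgroup G) : Set G)) 2 (hN ▸ dvd_mul_of_dvd_right h2 7)
    rw [← Subgroup.orderOf_coe] at hu
    have hu2 : ((u : G) : Perm β) * ((u : G) : Perm β) = 1 := by
      have := pow_orderOf_eq_one (u : G)
      rw [hu, pow_two] at this
      exact congrArg Subtype.val this
    obtain ⟨i, hi⟩ := (Subgroup.mem_normalizer_iff.mp u.2 (⟨y, hy⟩ : G)).mp (Subgroup.mem_zpowers _)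
    have hc := CycleLocal.commute_of_even_involution hyc (p := 7) (by norm_num) hys rfl hu2 (hle (u : G).2)
      (fun z hz => absurd (Finset.eq_univ_of_card _ (hys.trans hβ.symm) ▸ Finset.mem_univ z) hz)
      ⟨i, by simpa using congrArg Subtype.val hi⟩
    obtain ⟨j, hj⟩ := hyC u (Subtype.ext hc)
    have : (u : G) ^ 7 = 1 := by
      rw [← hj]
      rw [← zpow_natCast, ← zpow_mul, mul_comm, zpow_mul, zpow_natCast,
        show (⟨y, hy⟩ : G) ^ 7 = 1 from Subtype.ext (by
          rw [SubgroupClass.coe_pow, ← hyo]; exact pow_orderOf_eq_one y), one_zpow]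
    have := orderOf_dvd_of_pow_eq_one this
    rw [hu] at this
    omega
  have ha6 : a = 1 ∨ a = 3 := by
    have := Nat.le_of_dvd (by norm_num) ha
    interval_cases a <;> omega
  have h5 : 5 ∣ Nat.card G := by rw [hG5]; exact dvd_mul_of_dvd_left (dvd_mul_right 5 b) m
  have hcases : a = 1 ∧ n = 15 ∨ a = 3 ∧ n = 15 := by
    have hn51 : n ≤ 51 := by rcases ha6 with rfl | rfl <;> omega
    rw [hG] at hd hb h5
    rcases ha6 with rfl | rfl <;> interval_cases n <;> omega
  rcases hcases with ⟨rfl, rfl⟩ | ⟨rfl, rfl⟩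
  · obtain ⟨L, hLn, hLd, hLc⟩ := normal_complement (r := 7) (g := (⟨y, hy⟩ : G))
      (by rw [Subgroup.orderOf_mk, hyo]) (fun h => absurd (h.trans hd) (by norm_num)) (fun h hh => by
        have hmem : h ∈ Subgroup.normalizer
            ((Subgroup.zpowers (⟨y, hy⟩ : G) : Subgroup G) : Set G) := by
          refine Subgroup.mem_normalizer_fintype fun z hz => ?_
          obtain ⟨i, rfl⟩ := hz
          rw [← conj_zpow]
          exact zpow_mem hh i
        have heq : Subgroup.zpowers (⟨y, hy⟩ : G) =
            Subgroup.normalizer ((Subgroup.zpowers (⟨y, hy⟩ : G) : Subgroup G) : Set G) :=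
          Subgroup.eq_of_le_of_card_ge Subgroup.le_normalizer (by
            rw [hN, Nat.card_zpowers, Subgroup.orderOf_mk, hyo])
        rwa [← heq] at hmem)
    have hbot : L.map G.subtype = ⊥ := by
      refine CycleLocal.eq_bot_of_normalized hyc (p := 7) (by norm_num) hys _ ?_ ?_ ?_
      · have := Subgroup.le_normalizer_map (H := L) G.subtype
        rw [Subgroup.normalizer_eq_top, ← MonoidHom.range_eq_map, Subgroup.range_subtype] at this
        exact this hy
      · exact fun l _ z hz => absurd (Finset.eq_univ_of_card _ (hys.trans hβ.symm) ▸ Finset.mem_univ z) hz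
      · rwa [Subgroup.card_map_of_injective G.subtype_injective]
    rw [Subgroup.map_eq_bot_iff_of_injective _ G.subtype_injective] at hbot
    rw [hbot, Subgroup.card_bot, hG] at hLc
    omega
  · have := Nat.le_of_dvd (by norm_num) hb'
    interval_cases b <;> omega

end Cfsg.Agent.Transfer.SmallDegree
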