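import Mathlib
import Cfsg.Prelude.Def_PLocal
import Cfsg.Agent.S0622
import Cfsg.Agent.S0599
import Cfsg.Agent.Lib.Transfer.OmegaCenterThompson
import Cfsg.Agent.Lib.Fus.SupersolubleMetacyclic
import Cfsg.Agent.Lib.Grp.Cores

/-!
The stable normal closure `W(S)`: quadratic elements centralize it, and it is normal in `p`-stable
constrained groups.
-/

set_option autoImplicit false
set_option maxHeartbeats 1000000

open scoped commutatorElement

universe u

namespace Cfsg.Agent.Transfer.StableClosure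

open Cfsg.Agent

variable {G : Type u} [Group G] {p : ℕ}

/-- Quadratic action, in the form used by `p`-stability. -/
abbrev Quad (V : Subgroup G) (a : G) : Prop :=
  ⁅⁅V, Subgroup.zpowers a⁆, Subgroup.zpowers a⁆ = ⊥

theorem Quad.mono {V V' : Subgroup G} {a : G} (h : Quad V a) (hV : V' ≤ V) : Quad V' a :=
  le_bot_iff.1 ((Subgroup.commutator_mono (Subgroup.commutator_mono hV le_rfl) le_rfl).trans h.le)

theorem quad_map {H : Type*} [Group H] (f : G →* H) {V : Subgroup G} {a : G} (h : Quad V a) :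
    ⁅⁅V.map f, Subgroup.zpowers (f a)⁆, Subgroup.zpowers (f a)⁆ = ⊥ := by
  rw [← MonoidHom.map_zpowers, ← Subgroup.map_commutator, ← Subgroup.map_commutator, h, Subgroup.map_bot]

theorem quad_of_map {H : Type*} [Group H] {f : G →* H} (hf : Function.Injective f) {V : Subgroup G} {a : G}
    (h : ⁅⁅V.map f, Subgroup.zpowers (f a)⁆, Subgroup.zpowers (f a)⁆ = ⊥) : Quad V a := by
  rw [← MonoidHom.map_zpowers, ← Subgroup.map_commutator, ← Subgroup.map_commutator] at h
  exact (Subgroup.map_eq_bot_iff_of_injective _ hf).1 h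

theorem Quad.conj {V : Subgroup G} [hV : V.Normal] {a : G} (h : Quad V a) (n : G) : Quad V (n * a * n⁻¹) := by
  have e : V.map (MulAut.conj n).toMonoidHom = V := by
    refine le_antisymm (by rintro _ ⟨v, hv, rfl⟩; exact hV.conj_mem v hv n) fun v hv => ⟨n⁻¹ * v * n, ?_, ?_⟩
    · simpa using hV.conj_mem v hv n⁻¹
    · show n * (n⁻¹ * v * n) * n⁻¹ = v
      group
  have := quad_map (MulAut.conj n).toMonoidHom h
  rwa [e] at this

theorem commutator_zpowers_eq_bot {V : Subgroup G} {a : G} (h : ∀ v ∈ V, v * a = a * v) :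
    ⁅V, Subgroup.zpowers a⁆ = ⊥ := by
  rw [Subgroup.commutator_eq_bot_iff_le_centralizer]
  intro v hv
  rw [Subgroup.mem_centralizer_iff]
  rintro _ ⟨k, rfl⟩
  exact ((show Commute v a from h v hv).zpow_right k).symm.eq

theorem comm_of_commutator_zpowers_eq_bot {V : Subgroup G} {a : G} (h : ⁅V, Subgroup.zpowers a⁆ = ⊥) :
    ∀ v ∈ V, v * a = a * v := fun v hv =>
  (Subgroup.mem_centralizer_iff.1 (Subgroup.commutator_eq_bot_iff_le_centralizer.1 h hv) a
    (Subgroup.mem_zpowers a)).symm

variable [hp : Fact p.Prime]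

/-- Frattini argument for the preimage of `O_p(G/C)`: its trace on a Sylow subgroup. -/
theorem frattini_core [Finite G] (C : Subgroup G) [C.Normal] (P : Sylow p G) :
    ∃ T : Subgroup G, T = (P : Subgroup G) ⊓ (Cfsg.pCore p (G ⧸ C)).comap (QuotientGroup.mk' C) ∧
      C ⊔ Subgroup.normalizer (T : Set G) = ⊤ := by
  set f := QuotientGroup.mk' C
  haveI : (Cfsg.pCore p (G ⧸ C)).Normal := Grp.pCore_isNormal
  set D := (Cfsg.pCore p (G ⧸ C)).comap f with hD
  set T := (P : Subgroup G) ⊓ D with hT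
  refine ⟨T, rfl, ?_⟩
  have hidx : ¬ p ∣ (P : Subgroup G).relIndex D := Grp.sylow_inf_normal_relIndex P D
  let Q : Sylow p D := (P.isPGroup'.comap_subtype (K := D)).toSylow hidx
  have hQ : (Q : Subgroup D).map D.subtype = T := by
    show ((P : Subgroup G).subgroupOf D).map D.subtype = _
    rw [Subgroup.subgroupOf_map_subtype]
  have h1 := Sylow.normalizer_sup_eq_top Q
  rw [hQ] at h1
  have hCD : C ≤ D := fun c hc => by
    show f c ∈ Cfsg.pCore p (G ⧸ C)
    rw [show f c = 1 from (QuotientGroup.eq_one_iff c).2 hc]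
    exact one_mem _
  have hDT : D ≤ C ⊔ T := by
    have hle : C ⊔ T ≤ D := sup_le hCD inf_le_right
    have e1 : (C ⊔ T).relIndex D ∣ C.relIndex D := Subgroup.relIndex_dvd_of_le_left D le_sup_left
    have e2 : (C ⊔ T).relIndex D ∣ T.relIndex D := Subgroup.relIndex_dvd_of_le_left D le_sup_right
    obtain ⟨k, hk⟩ := IsPGroup.iff_card.1 (Grp.pCore_isPGroup (p := p) (G := G ⧸ C))
    have e3 : C.relIndex D = p ^ k := by
      rw [← QuotientGroup.ker_mk' C, Subgroup.relIndex_ker, ← hk, hD,
        Subgroup.map_comap_eq_self_of_surjective (QuotientGroup.mk'_surjective C)]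
    have e4 : T.relIndex D = (P : Subgroup G).relIndex D := by rw [hT, Subgroup.inf_relIndex_right]
    refine Subgroup.relIndex_eq_one.1 (Nat.eq_one_of_dvd_coprimes ?_ (e3 ▸ e1) (e4 ▸ e2))
    exact Nat.Coprime.pow_left k (hp.out.coprime_iff_not_dvd.2 hidx)
  rw [eq_top_iff, ← h1]
  exact sup_le le_sup_right (hDT.trans (sup_le le_sup_left (Subgroup.le_normalizer.trans le_sup_right)))

theorem map_normal_of_mem {S H : Type u} [Group S] [Finite S] [Group H] {τ : S →* H}
    (hτ : Cfsg.IsStableEmbedding p τ) : ((Cfsg.stableNormalClosure p S).map τ).Normal := by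
  refine ⟨fun z hz g => ?_⟩
  obtain ⟨x, hx, rfl⟩ := hz
  have hW₀ := S0622.family_mem (S := S) p
  obtain ⟨y, hy, he⟩ := (hW₀.2 H τ hτ).conj_mem _ (Subgroup.mem_map_of_mem τ
    ((sInf_le hW₀ : Cfsg.stableNormalClosure p S ≤ Cfsg.omegaCenterThompson p S) hx)) g
  refine ⟨y, Subgroup.mem_sInf.2 fun W hW => ?_, he⟩
  obtain ⟨y', hy', he'⟩ := (hW.2 H τ hτ).conj_mem _ (Subgroup.mem_map_of_mem τ
    ((sInf_le hW : Cfsg.stableNormalClosure p S ≤ W) hx)) g
  exact (hτ.1 (he'.trans he.symm) : y' = y) ▸ hy'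

/-- Quadratic elements centralize `W(S)`. -/
theorem commute_of_quad {S : Type u} [Group S] [Finite S] {x : S}
    (hq : Quad (Cfsg.stableNormalClosure p S) x) : ∀ w ∈ Cfsg.stableNormalClosure p S, w * x = x * w := by
  set W := Cfsg.stableNormalClosure p S with hW
  set U := W ⊓ Subgroup.centralizer {q : S | Quad W q} with hU
  have hWU : W ≤ U := by
    refine sInf_le ⟨le_inf (le_sInf fun V hV => hV.1) fun z hz => ?_, fun H _ τ hτ => ?_⟩
    · have hzc : z ∈ Subgroup.center S := by
        refine (Subgroup.closure_le _).2 (fun y hy => hy.1) hz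
      exact Subgroup.center_le_centralizer _ hzc
    · haveI hVn := map_normal_of_mem hτ
      obtain ⟨hinj, hfin, ⟨P, hP⟩, -, -, hst⟩ := hτ
      have hVle : W.map τ ≤ (Cfsg.omegaCenterThompson p S).map τ :=
        Subgroup.map_mono (sInf_le (S0622.family_mem (S := S) p))
      set C := Subgroup.centralizer ((W.map τ : Subgroup H) : Set H) with hC
      obtain ⟨T, hT, hfr⟩ := frattini_core (p := p) C P
      rw [← Subgroup.normalizer_eq_top_iff, eq_top_iff, ← hfr]
      have hTq : ∀ q : S, Quad W q → τ q ∈ T := fun q hq' => by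
        rw [hT]
        exact ⟨hP.ge ⟨q, rfl⟩, hst (W.map τ) hVle (τ q) (quad_map τ hq')⟩
      refine sup_le ?_ ?_
      · exact (Subgroup.centralizer_le (Subgroup.map_mono inf_le_left)).trans
          (Subgroup.centralizer_le_normalizer _)
      · have key : ∀ n ∈ Subgroup.normalizer (T : Set H), ∀ u ∈ U, n * τ u * n⁻¹ ∈ U.map τ := by
          intro n hn u hu
          obtain ⟨w, hw, hwe⟩ := hVn.conj_mem _ (Subgroup.mem_map_of_mem τ hu.1) n
          refine ⟨w, ⟨hw, Subgroup.mem_centralizer_iff.2 fun q hq' => ?_⟩, hwe⟩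
          have hn' : n⁻¹ * τ q * n ∈ T := by
            have := (Subgroup.mem_normalizer_iff.1 ((Subgroup.normalizer (T : Set H)).inv_mem hn) (τ q)).1 (hTq q hq')
            rwa [inv_inv] at this
          obtain ⟨q', hq'e⟩ := hP.le ((hT.le hn').1)
          have hq'' : Quad W q' := quad_of_map hinj (by
            rw [hq'e]
            have h2 := (show Quad (W.map τ) (τ q) from quad_map τ hq').conj n⁻¹
            rwa [inv_inv] at h2)
          have hc : q' * u = u * q' := Subgroup.mem_centralizer_iff.1 hu.2 q' hq''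
          apply hinj
          rw [map_mul, map_mul, hwe]
          have hc' : n⁻¹ * τ q * n * τ u = τ u * (n⁻¹ * τ q * n) := by
            rw [← hq'e, ← map_mul, hc, map_mul]
          calc τ q * (n * τ u * n⁻¹) = n * (n⁻¹ * τ q * n * τ u) * n⁻¹ := by group
            _ = n * (τ u * (n⁻¹ * τ q * n)) * n⁻¹ := by rw [hc']
            _ = n * τ u * n⁻¹ * τ q := by group
        intro n hn
        rw [Subgroup.mem_normalizer_iff]
        intro y
        constructor
        · rintro ⟨u, hu, rfl⟩; exact key n hn u hu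
        · rintro ⟨u, hu, hue⟩
          have := key n⁻¹ ((Subgroup.normalizer (T : Set H)).inv_mem hn) u hu
          rw [hue] at this
          convert this using 1
          group
  intro w hw
  exact (Subgroup.mem_centralizer_iff.1 (hWU hw).2 x hq).symm

/-- `W(S)` is normal in a `p`-stable constrained group. -/
theorem normal_of_stable [Finite G] (hst : Cfsg.IsActionPStable p G)
    (hc : Subgroup.centralizer (Cfsg.pCore p G : Set G) ≤ Cfsg.pCore p G) (S : Sylow p G) :
    ((Cfsg.stableNormalClosure p ↥(S : Subgroup G)).map (S : Subgroup G).subtype).Normal := by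
  classical
  set W := Cfsg.stableNormalClosure p ↥(S : Subgroup G) with hW
  set W0 := W.map (S : Subgroup G).subtype with hW0
  set K := Cfsg.pCore p G with hK
  haveI hKn : K.Normal := Grp.pCore_isNormal
  have hKp : IsPGroup p K := Grp.pCore_isPGroup
  have hKS : K ≤ (S : Subgroup G) := Grp.pCore_le_sylow S
  have hW0S : W0 ≤ (S : Subgroup G) := Subgroup.map_subtype_le _
  have hW0om : W0 ≤ Invol.centerOmega p (S : Subgroup G) := by
    rw [← omegaCenterThompson_map_subtype]
    exact Subgroup.map_mono (sInf_le (S0622.family_mem p))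
  have hW0comm : ∀ x ∈ W0, ∀ y ∈ W0, x * y = y * x := fun x hx y hy =>
    Subgroup.mem_centralizer_iff.1 (Invol.mem_centerOmega.1 (hW0om hy)).1.2 x
      (Invol.mem_centerOmega.1 (hW0om hx)).1.1
  have hW0exp : ∀ x ∈ W0, x ^ p = 1 := fun x hx => (Invol.mem_centerOmega.1 (hW0om hx)).2
  set J := Cfsg.thompsonSubgroupOf p (S : Subgroup G) with hJ
  set N := Subgroup.normalizer (J : Set G) with hN
  -- step 1: the normalizer of `J(S)`
  have hSN : (S : Subgroup G) ≤ N := by
    intro s hs
    rw [hN, Subgroup.mem_normalizer_iff]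
    intro x
    refine ⟨fun hx => Invol.conj_mem_thompsonEl (Subgroup.le_normalizer hs) hx, fun hx => ?_⟩
    have := Invol.conj_mem_thompsonEl (Subgroup.le_normalizer ((S : Subgroup G).inv_mem hs)) hx
    convert this using 1
    group
  have hNW : N ≤ Subgroup.normalizer (W0 : Set G) := by
    let τ : ↥(S : Subgroup G) →* ↥N := Subgroup.inclusion hSN
    have hemb : Cfsg.IsStableEmbedding p τ := by
      refine ⟨Subgroup.inclusion_injective hSN, inferInstance, ⟨S.subtype hSN, ?_⟩, ?_, ?_, fun V _ hV => hst.2.2 S V ?_⟩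
      · rw [Sylow.coe_subtype]
        ext y
        exact ⟨fun hy => ⟨⟨(y : G), hy⟩, rfl⟩, by rintro ⟨z, rfl⟩; exact z.2⟩
      · intro y hy
        haveI : (K.subgroupOf N).Normal := hKn.subgroupOf N
        have hle : K.subgroupOf N ≤ Cfsg.pCore p N := Grp.le_pCore inferInstance hKp.comap_subtype
        refine hle (Subgroup.mem_subgroupOf.2 (hc (Subgroup.mem_centralizer_iff.2 fun k hk => ?_)))
        exact congrArg Subtype.val (Subgroup.mem_centralizer_iff.1 hy ⟨k, hSN (hKS hk)⟩ (hle (Subgroup.mem_subgroupOf.2 hk)))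
      · have e : (Cfsg.thompsonSubgroup p ↥(S : Subgroup G)).map τ = J.subgroupOf N := by
          ext y
          constructor
          · rintro ⟨z, hz, rfl⟩; exact ⟨z, hz, rfl⟩
          · rintro ⟨z, hz, he⟩; exact ⟨z, hz, Subtype.ext he⟩
        rw [e, Subgroup.normal_subgroupOf_iff_le_normalizer (show J ≤ N from (Subgroup.map_subtype_le _).trans hSN)]
      · rintro _ ⟨v, hv, rfl⟩
        obtain ⟨z, hz, rfl⟩ := hV hv
        exact ⟨z, hz, rfl⟩
    haveI := map_normal_of_mem hemb
    intro n hn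
    have key : ∀ m : N, ∀ w ∈ W0, (m : G) * w * (m : G)⁻¹ ∈ W0 := by
      rintro m _ ⟨w, hw, rfl⟩
      obtain ⟨w', hw', he⟩ := (inferInstance : (W.map τ).Normal).conj_mem _ (Subgroup.mem_map_of_mem τ hw) m
      exact ⟨w', hw', congrArg Subtype.val he⟩
    rw [Subgroup.mem_normalizer_iff]
    intro x
    refine ⟨fun hx => key ⟨n, hn⟩ x hx, fun hx => ?_⟩
    have := key ⟨n, hn⟩⁻¹ _ hx
    convert this using 1
    simp only [InvMemClass.coe_inv]
    group
  have hSW : (S : Subgroup G) ≤ Subgroup.normalizer (W0 : Set G) := hSN.trans hNW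
  -- step 2: `W ≤ O_p(G)`
  have hWK : W0 ≤ K := by
    intro a ha
    have hq : ⁅⁅K, Subgroup.zpowers a⁆, Subgroup.zpowers a⁆ ≤ (frattini ↥K).map K.subtype := by
      have h1 : ⁅K, Subgroup.zpowers a⁆ ≤ W0 := by
        refine (Subgroup.commutator_mono le_rfl (Subgroup.zpowers_le.2 ha)).trans ?_
        rw [Subgroup.commutator_le]
        intro k hk w hw
        exact W0.mul_mem ((Subgroup.mem_normalizer_iff.1 (hSW (hKS hk)) w).1 hw) (W0.inv_mem hw)
      refine ((Subgroup.commutator_mono h1 (Subgroup.zpowers_le.2 ha)).trans ?_).trans bot_le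
      rw [Subgroup.commutator_le]
      intro x hx y hy
      rw [Subgroup.mem_bot, commutatorElement_eq_one_iff_mul_comm]
      exact hW0comm x hx y hy
    obtain ⟨D, hDn, hkD, ⟨k, hk⟩, haD⟩ := hst.2.1 a hq
    haveI : ((frattini ↥K).map K.subtype).Normal := inferInstance
    have hkerp : IsPGroup p ↥(Cfsg.sectionKernel K ((frattini ↥K).map K.subtype)) := by
      intro g
      obtain ⟨v, m, hm, hmo⟩ := Nat.exists_eq_pow_mul_and_not_dvd (orderOf_pos (g : G)).ne' p hp.out.ne_one
      set b := (g : G) ^ p ^ v with hb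
      have hbker : b ∈ Cfsg.sectionKernel K ((frattini ↥K).map K.subtype) :=
        Subgroup.pow_mem _ g.2 _
      let β : MulAut K := MulAut.conjNormal b
      have hbm : b ^ m = 1 := by rw [hb, ← pow_mul, ← hmo, pow_orderOf_eq_one]
      have hβ : β = 1 := by
        refine Fus.SuperMeta.eq_one_of_coprime_frattini hKp ((hp.out.coprime_iff_not_dvd.2 hm).symm)
          (by rw [← map_pow, hbm, map_one]) fun x => ?_
        have h1 := Subgroup.mem_centralizer_iff.1 (Subgroup.mem_comap.1 hbker) _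
          (Subgroup.mem_map_of_mem (QuotientGroup.mk' _) x.2)
        rw [← map_mul, ← map_mul] at h1
        have h2 : (x : G)⁻¹ * (b * x * b⁻¹) ∈ (frattini ↥K).map K.subtype := by
          refine (QuotientGroup.eq_one_iff (N := (frattini ↥K).map K.subtype) ((x : G)⁻¹ * (b * x * b⁻¹))).1 ?_
          show QuotientGroup.mk' ((frattini ↥K).map K.subtype) ((x : G)⁻¹ * (b * x * b⁻¹)) = 1
          rw [map_mul, map_mul (QuotientGroup.mk' ((frattini ↥K).map K.subtype)) (b * x), ← h1, map_mul, map_inv, map_inv]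
          group
        obtain ⟨z, hz, hze⟩ := h2
        have : z = x⁻¹ * β x := Subtype.ext (by rw [Subgroup.coe_mul, MulAut.conjNormal_apply]; exact hze)
        rwa [this] at hz
      have hbK : b ∈ K := by
        refine hc (Subgroup.mem_centralizer_iff.2 fun y hy => ?_)
        have h1 := congrArg Subtype.val (DFunLike.congr_fun hβ ⟨y, hy⟩)
        rw [MulAut.conjNormal_apply] at h1
        exact (mul_inv_eq_iff_eq_mul.1 h1).symm
      obtain ⟨j, hj⟩ := hKp ⟨b, hbK⟩
      refine ⟨v + j, Subtype.ext ?_⟩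
      have h2 : b ^ p ^ j = 1 := congrArg Subtype.val hj
      rw [SubmonoidClass.coe_pow, pow_add, pow_mul]
      exact h2
    obtain ⟨j, hj⟩ := IsPGroup.iff_card.1 hkerp
    have hDp : IsPGroup p D := by
      refine IsPGroup.of_card (n := j + k) ?_
      have e : Nat.card ↥(Cfsg.sectionKernel K ((frattini ↥K).map K.subtype)) *
          (Cfsg.sectionKernel K ((frattini ↥K).map K.subtype)).relIndex D = Nat.card D := by
        rw [← Subgroup.relIndex_bot_left, ← Subgroup.relIndex_bot_left, Subgroup.relIndex_mul_relIndex _ _ _ bot_le hkD]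
      rw [← e, hj, hk, pow_add]
    exact Grp.le_pCore hDn hDp haD
  -- step 3: the normal closure of `W`
  set X := Subgroup.closure {y : G | ∃ g : G, ∃ w ∈ W0, y = g * w * g⁻¹} with hX
  have hcm : ∀ g : G, ∀ w ∈ W0, ∀ w' ∈ W0, g * w * g⁻¹ * w' = w' * (g * w * g⁻¹) := by
    intro g w hw w' hw'
    obtain ⟨w₀', hw₀', rfl⟩ := hw'
    have hmem : g * w * g⁻¹ ∈ (S : Subgroup G) := hKS (hKn.conj_mem w (hWK hw) g)
    set x : ↥(S : Subgroup G) := ⟨g * w * g⁻¹, hmem⟩ with hx
    have hq : Quad W x := by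
      refine quad_of_map (S : Subgroup G).subtype_injective ?_
      show ⁅⁅W0, Subgroup.zpowers (g * w * g⁻¹)⁆, Subgroup.zpowers (g * w * g⁻¹)⁆ = ⊥
      set Wg := W0.map (MulAut.conj g).toMonoidHom with hWg
      have hxg : Subgroup.zpowers (g * w * g⁻¹) ≤ Wg := Subgroup.zpowers_le.2 ⟨w, hw, rfl⟩
      have h1 : ⁅W0, Subgroup.zpowers (g * w * g⁻¹)⁆ ≤ Wg := by
        refine (Subgroup.commutator_mono le_rfl hxg).trans ?_
        rw [Subgroup.commutator_le]
        rintro u hu _ ⟨t, ht, rfl⟩
        refine Wg.mul_mem ?_ (Wg.inv_mem ⟨t, ht, rfl⟩)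
        refine ⟨(g⁻¹ * u * g) * t * (g⁻¹ * u * g)⁻¹, ?_, ?_⟩
        · refine (Subgroup.mem_normalizer_iff.1 (hSW (hKS ?_)) t).1 ht
          simpa using hKn.conj_mem u (hWK hu) g⁻¹
        · show g * _ * g⁻¹ = u * (g * t * g⁻¹) * u⁻¹
          group
      refine le_bot_iff.1 ((Subgroup.commutator_mono h1 hxg).trans ?_)
      rw [hWg, ← Subgroup.map_commutator, Subgroup.map_le_iff_le_comap]
      refine le_trans ?_ bot_le
      rw [Subgroup.commutator_le]
      intro a ha b hb
      rw [Subgroup.mem_bot, commutatorElement_eq_one_iff_mul_comm]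
      exact hW0comm a ha b hb
    exact (congrArg Subtype.val (commute_of_quad hq w₀' hw₀')).symm
  have hXel : Cfsg.IsElementaryAbelian p X := by
    refine Transfer.Thompson.isElementaryAbelian_closure ?_ ?_
    · rintro _ ⟨g, w, hw, rfl⟩ _ ⟨h, w', hw', rfl⟩
      have e := hcm (h⁻¹ * g) w hw w' hw'
      calc g * w * g⁻¹ * (h * w' * h⁻¹) = h * (h⁻¹ * g * w * (h⁻¹ * g)⁻¹ * w') * h⁻¹ := by group
        _ = h * (w' * (h⁻¹ * g * w * (h⁻¹ * g)⁻¹)) * h⁻¹ := by rw [e]
        _ = h * w' * h⁻¹ * (g * w * g⁻¹) := by group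
    · rintro _ ⟨g, w, hw, rfl⟩
      rw [conj_pow, hW0exp w hw, mul_one, mul_inv_cancel]
  haveI hXn : X.Normal := by
    refine ⟨fun x hx g => ?_⟩
    induction hx using Subgroup.closure_induction with
    | mem y hy =>
      obtain ⟨h, w, hw, rfl⟩ := hy
      exact Subgroup.subset_closure ⟨g * h, w, hw, by group⟩
    | one => rw [mul_one, mul_inv_cancel]; exact X.one_mem
    | mul y z _ _ hy hz => rw [← conj_mul]; exact X.mul_mem hy hz
    | inv y _ hy => rw [← conj_inv]; exact X.inv_mem hy
  have hW0X : W0 ≤ X := fun w hw => Subgroup.subset_closure ⟨1, w, hw, by group⟩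
  set C := Subgroup.centralizer (X : Set G) with hC
  -- step 4: quadratic elements of `S` centralize `X`
  have hquadC : ∀ a ∈ (S : Subgroup G), Quad X a → a ∈ C := by
    intro a ha hqa
    obtain ⟨T, hT, hfr⟩ := frattini_core (p := p) C S
    have haT : a ∈ T := hT.ge ⟨ha, hst.1 X hXel a hqa⟩
    have hz : X ≤ Subgroup.centralizer {a} := by
      rw [hX, Subgroup.closure_le]
      rintro _ ⟨g, w, hw, rfl⟩
      have hg : g ∈ ((C ⊔ Subgroup.normalizer (T : Set G) : Subgroup G) : Set G) := by rw [hfr]; trivial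
      rw [Subgroup.normal_mul] at hg
      obtain ⟨c, hcC, n, hn, rfl⟩ := hg
      have hnw : n * w * n⁻¹ ∈ X := Subgroup.subset_closure ⟨n, w, hw, rfl⟩
      have e : c * n * w * (c * n)⁻¹ = n * w * n⁻¹ := by
        rw [show c * n * w * (c * n)⁻¹ = c * (n * w * n⁻¹) * c⁻¹ by group,
          ← Subgroup.mem_centralizer_iff.1 hcC _ hnw, mul_inv_cancel_right]
      rw [SetLike.mem_coe, Subgroup.mem_centralizer_singleton_iff, e]
      have hbT : n⁻¹ * a * n ∈ T := by
        have := (Subgroup.mem_normalizer_iff.1 ((Subgroup.normalizer (T : Set G)).inv_mem hn) a).1 haT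
        rwa [inv_inv] at this
      have hbS : n⁻¹ * a * n ∈ (S : Subgroup G) := (hT.le hbT).1
      obtain ⟨w₀, hw₀, rfl⟩ := hw
      have hq : Quad W (⟨n⁻¹ * a * n, hbS⟩ : ↥(S : Subgroup G)) := by
        refine quad_of_map (S : Subgroup G).subtype_injective ?_
        have := hqa.conj n⁻¹
        rw [inv_inv] at this
        exact this.mono hW0X
      have h1 : (w₀ : G) * (n⁻¹ * a * n) = n⁻¹ * a * n * (w₀ : G) :=
        congrArg Subtype.val (commute_of_quad hq w₀ hw₀)
      show n * (w₀ : G) * n⁻¹ * a = a * (n * (w₀ : G) * n⁻¹)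
      calc n * (w₀ : G) * n⁻¹ * a = n * ((w₀ : G) * (n⁻¹ * a * n)) * n⁻¹ := by group
        _ = n * (n⁻¹ * a * n * (w₀ : G)) * n⁻¹ := by rw [h1]
        _ = a * (n * (w₀ : G) * n⁻¹) := by group
    exact Subgroup.mem_centralizer_iff.2 fun y hy => Subgroup.mem_centralizer_singleton_iff.1 (hz hy)
  have hXS : X ≤ (S : Subgroup G) := by
    rw [hX, Subgroup.closure_le]
    rintro _ ⟨g, w, hw, rfl⟩
    exact hKS (hKn.conj_mem w (hWK hw) g)
  -- step 5: replacement
  have hJC : J ≤ C := by
    rw [hJ, Cfsg.thompsonSubgroupOf, Subgroup.map_le_iff_le_comap]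
    refine sSup_le fun A hA => ?_
    set V := X.subgroupOf (S : Subgroup G) with hV
    haveI : V.Normal := hXn.subgroupOf _
    have hVel : Cfsg.IsElementaryAbelian p V := Transfer.Thompson.isElementaryAbelian_subgroupOf hXel
    have hVA : ⁅V, A⁆ = ⊥ := by
      by_contra hne
      obtain ⟨-, -, h3, -⟩ := S0599.strong V A hVel
        (by rw [Subgroup.normalizer_eq_top]; exact le_top)
        (Transfer.Thompson.isBestOffenderOn_of_max hVel hA) V le_rfl
      set B := A ⊓ Subgroup.centralizer ((⁅V, A⁆ : Subgroup ↥(S : Subgroup G)) : Set ↥(S : Subgroup G)) with hB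
      refine h3 hne (le_bot_iff.1 (Subgroup.commutator_le.2 fun v hv b hb => ?_))
      have hq : Quad V b := by
        have hbB : Subgroup.zpowers b ≤ B := Subgroup.zpowers_le.2 hb
        refine le_bot_iff.1 ((Subgroup.commutator_mono
          (Subgroup.commutator_mono le_rfl (hbB.trans inf_le_left)) (hbB.trans inf_le_right)).trans ?_)
        rw [Subgroup.commutator_le]
        intro y hy z hz
        rw [Subgroup.mem_bot, commutatorElement_eq_one_iff_mul_comm]
        exact Subgroup.mem_centralizer_iff.1 hz y hy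
      have hqG : Quad X (b : G) := by
        have := quad_map (S : Subgroup G).subtype hq
        rwa [hV, Subgroup.subgroupOf_map_subtype, inf_eq_left.2 hXS] at this
      rw [Subgroup.mem_bot, commutatorElement_eq_one_iff_mul_comm]
      exact Subtype.ext (Subgroup.mem_centralizer_iff.1 (hquadC _ b.2 hqG) _ hv)
    intro a ha
    rw [Subgroup.mem_comap, hC, Subgroup.mem_centralizer_iff]
    intro y hy
    have := Subgroup.mem_centralizer_iff.1 (Subgroup.commutator_eq_bot_iff_le_centralizer.1 hVA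
      (show (⟨y, hXS hy⟩ : ↥(S : Subgroup G)) ∈ V from hy)) a ha
    exact (congrArg Subtype.val this).symm
  -- step 6: Frattini
  set T := (S : Subgroup G) ⊓ C with hT
  have hTN : Subgroup.normalizer (T : Set G) ≤ N := by
    have hJT : Cfsg.thompsonSubgroupOf p T = J := by
      have hJle : J ≤ T := le_inf (Subgroup.map_subtype_le _) hJC
      obtain ⟨A₀, hA₀⟩ := Transfer.Thompson.exists_max (p := p) (G := ↥(S : Subgroup G))
      have hA₀m : Invol.IsMaxEl p (S : Subgroup G) (A₀.map (S : Subgroup G).subtype) := by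
        refine Invol.isMaxEl_iff.2 ⟨Subgroup.map_subtype_le _, ?_⟩
        rwa [Subgroup.subgroupOf, Subgroup.comap_map_eq_self_of_injective (S : Subgroup G).subtype_injective]
      refine le_antisymm (Invol.thompsonEl_le_of fun A hA => Invol.IsMaxEl.le_thompsonEl
        ⟨hA.1.trans inf_le_left, hA.2.1, fun B hB hB' => (hA₀m.2.2 B hB hB').trans
          (hA.2.2 _ (hA₀m.le_thompsonEl.trans hJle) hA₀m.2.1)⟩) (Invol.thompsonEl_le_of fun A hA =>
        Invol.IsMaxEl.le_thompsonEl ⟨hA.le_thompsonEl.trans hJle, hA.2.1,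
          fun B hB hB' => hA.2.2 B (hB.trans inf_le_left) hB'⟩)
    intro n hn
    rw [hN, Subgroup.mem_normalizer_iff]
    intro x
    rw [← hJT]
    refine ⟨fun hx => Invol.conj_mem_thompsonEl hn hx, fun hx => ?_⟩
    have := Invol.conj_mem_thompsonEl ((Subgroup.normalizer (T : Set G)).inv_mem hn) hx
    convert this using 1
    group
  haveI : C.Normal := Subgroup.normal_centralizer
  let Q : Sylow p C := (S.isPGroup'.comap_subtype (K := C)).toSylow (Grp.sylow_inf_normal_relIndex S C)
  have htop : Subgroup.normalizer (T : Set G) ⊔ C = ⊤ := by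
    have := Sylow.normalizer_sup_eq_top Q
    rwa [show (Q : Subgroup C).map C.subtype = T from Subgroup.subgroupOf_map_subtype _ _] at this
  rw [← Subgroup.normalizer_eq_top_iff, eq_top_iff, ← htop]
  refine sup_le (hTN.trans hNW) ?_
  exact (Subgroup.centralizer_le (fun w hw => hW0X hw)).trans (Subgroup.centralizer_le_normalizer _)

end Cfsg.Agent.Transfer.StableClosure
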