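import Mathlib
import Cfsg.Agent.S4089

/-!
The number of elements `g` with `H` subnormal in `⟨H, g⟩`, for a `p`-subgroup `H`.
-/

set_option autoImplicit false

namespace Cfsg.Agent.Transfer.Subnormalizer

open scoped Pointwise
open Finset

variable {G : Type*} [Group G] {p : ℕ} [hp : Fact p.Prime]

/-- `E` lies in a `p`-subgroup of `X` normalised by `g`. -/
def Fix (p : ℕ) (X E : Subgroup G) (g : G) : Prop :=
  ∃ U : Subgroup G, IsPGroup p U ∧ E ≤ U ∧ U ≤ X ∧ g ∈ Subgroup.normalizer (U : Set G)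

/-- `D` is a maximal `p`-subgroup of `X`. -/
def Top (p : ℕ) (X D : Subgroup G) : Prop :=
  ∀ E : Subgroup G, IsPGroup p E → D ≤ E → E ≤ X → E = D

/-- The least subgroup containing `E` and normalised by `g`. -/
def closureAt (g : G) (E : Subgroup G) : Subgroup G :=
  sInf {F : Subgroup G | E ≤ F ∧ g ∈ Subgroup.normalizer (F : Set G)}

theorem le_closureAt (g : G) (E : Subgroup G) : E ≤ closureAt g E := le_sInf fun _ h => h.1

theorem closureAt_le {g : G} {E F : Subgroup G} (h : E ≤ F) (hg : g ∈ Subgroup.normalizer (F : Set G)) :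
    closureAt g E ≤ F := sInf_le ⟨h, hg⟩

variable [Finite G]

theorem closureAt_mem (g : G) (E : Subgroup G) : g ∈ Subgroup.normalizer (closureAt g E : Set G) :=
  Subgroup.mem_normalizer_fintype fun v hv => Subgroup.mem_sInf.2 fun F hF =>
    (Subgroup.mem_normalizer_iff.1 hF.2 v).1 (Subgroup.mem_sInf.1 hv F hF)

section count

variable [Fintype G] [Fintype (Subgroup G)] [LocallyFiniteOrder (Subgroup G)]

open scoped Classical in
/-- The `p`-subgroups between `D` and `X`. -/
noncomputable def above (p : ℕ) (X D : Subgroup G) : Finset (Subgroup G) :=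
  univ.filter fun E => D ≤ E ∧ E ≤ X ∧ IsPGroup p E

open scoped Classical in
/-- The number of elements of `X` fixing `E`. -/
noncomputable def fcount (p : ℕ) (X E : Subgroup G) : ℤ :=
  ((univ.filter fun g : G => g ∈ X ∧ Fix p X E g).card : ℤ)

open scoped Classical in
/-- The Möbius transform of `fcount`. -/
noncomputable def hcount (p : ℕ) (X D : Subgroup G) : ℤ :=
  ∑ E ∈ above p X D, IncidenceAlgebra.mu ℤ D E * fcount p X E

open scoped Classical in
theorem sum_closed_fiber (g : G) (D : Subgroup G) (hD : g ∉ Subgroup.normalizer (D : Set G)) (F : Subgroup G)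
    (hDF : D ≤ F) (hF : g ∈ Subgroup.normalizer (F : Set G)) :
    ∑ E ∈ (Icc D F).filter (fun E => closureAt g E = F), IncidenceAlgebra.mu ℤ D E = 0 := by
  induction F using WellFoundedLT.induction with
  | ind F ih =>
    have hne : D ≠ F := fun e => hD (e ▸ hF)
    have hsum := IncidenceAlgebra.sum_Icc_mu_right (𝕜 := ℤ) D F
    rw [if_neg hne, ← sum_fiberwise_of_maps_to (t := (Icc D F).filter fun F' : Subgroup G => g ∈ Subgroup.normalizer (F' : Set G))
      (g := closureAt g) (fun E hE => by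
        rw [mem_Icc] at hE
        simp only [mem_filter, mem_Icc]
        exact ⟨⟨hE.1.trans (le_closureAt g E), closureAt_le hE.2 hF⟩, closureAt_mem g E⟩)] at hsum
    rw [sum_eq_single F] at hsum
    · exact hsum
    · intro F' hF' hne'
      simp only [mem_filter, mem_Icc] at hF'
      refine Eq.trans ?_ (ih F' (lt_of_le_of_ne hF'.1.2 hne') hF'.1.1 hF'.2)
      refine sum_congr ?_ fun _ _ => rfl
      ext E
      simp only [mem_filter, mem_Icc]
      exact ⟨fun h => ⟨⟨h.1.1, (le_closureAt g E).trans h.2.le⟩, h.2⟩, fun h => ⟨⟨h.1.1, h.1.2.trans hF'.1.2⟩, h.2⟩⟩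
    · intro h
      exact absurd (mem_filter.2 ⟨mem_Icc.2 ⟨hDF, le_rfl⟩, hF⟩) h

open scoped Classical in
theorem sum_fix_eq_zero (X D : Subgroup G) {g : G} (hg : g ∈ X) (hD : g ∉ Subgroup.normalizer (D : Set G)) :
    ∑ E ∈ (above p X D).filter (fun E => Fix p X E g), IncidenceAlgebra.mu ℤ D E = 0 := by
  rw [← sum_fiberwise_of_maps_to (t := (above p X D).filter fun F : Subgroup G => g ∈ Subgroup.normalizer (F : Set G))
    (g := closureAt g) (fun E hE => by
      simp only [above, mem_filter, mem_univ, true_and] at hE ⊢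
      obtain ⟨U, hU, hEU, hUX, hgU⟩ := hE.2
      exact ⟨⟨hE.1.1.trans (le_closureAt g E), (closureAt_le hEU hgU).trans hUX, hU.to_le (closureAt_le hEU hgU)⟩,
        closureAt_mem g E⟩)]
  refine sum_eq_zero fun F hF => ?_
  simp only [above, mem_filter, mem_univ, true_and] at hF
  refine Eq.trans ?_ (sum_closed_fiber g D hD F hF.1.1 hF.2)
  refine sum_congr ?_ fun _ _ => rfl
  ext E
  simp only [above, mem_filter, mem_univ, true_and, mem_Icc]
  constructor
  · exact fun h => ⟨⟨h.1.1.1, (le_closureAt g E).trans h.2.le⟩, h.2⟩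
  · exact fun h => ⟨⟨⟨h.1.1, h.1.2.trans hF.1.2.1, hF.1.2.2.to_le h.1.2⟩,
      ⟨F, hF.1.2.2, h.1.2, hF.1.2.1, hF.2⟩⟩, h.2⟩

open scoped Classical in
theorem mu_eq_zero {D E : Subgroup G} (hDE : D ≤ E) (hE : IsPGroup p E) (hn : ¬ E ≤ Subgroup.normalizer (D : Set G)) :
    IncidenceAlgebra.mu ℤ D E = 0 := by
  induction E using WellFoundedLT.induction with
  | ind E ih =>
    have hlt : D < E := lt_of_le_of_ne hDE fun e => hn (e ▸ Subgroup.le_normalizer)
    have hK : D < E ⊓ Subgroup.normalizer (D : Set G) := Cfsg.Agent.Char.BP.exists_normalizer_gt hE hlt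
    have hsum := IncidenceAlgebra.sum_Icc_mu_right (𝕜 := ℤ) D E
    rw [if_neg hlt.ne, ← add_sum_erase _ _ (mem_Icc.2 ⟨hDE, le_rfl⟩)] at hsum
    have h0 : ∑ x ∈ (Icc D E).erase E, IncidenceAlgebra.mu ℤ D x = 0 := by
      rw [← sum_subset (s₁ := Icc D (E ⊓ Subgroup.normalizer (D : Set G)))]
      · rw [IncidenceAlgebra.sum_Icc_mu_right, if_neg hK.ne]
      · intro x hx
        rw [mem_Icc] at hx
        refine mem_erase.2 ⟨fun e => hn ?_, mem_Icc.2 ⟨hx.1, hx.2.trans inf_le_left⟩⟩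
        exact e ▸ hx.2.trans inf_le_right
      · intro x hx hx'
        rw [mem_erase, mem_Icc] at hx
        exact ih x (lt_of_le_of_ne hx.2.2 hx.1) hx.2.1 (hE.to_le hx.2.2) fun h => hx' (mem_Icc.2 ⟨hx.2.1, le_inf hx.2.2 h⟩)
    rw [h0, add_zero] at hsum
    exact hsum

open scoped Classical in
theorem hcount_eq_sum (X D : Subgroup G) :
    hcount p X D = ∑ g ∈ univ.filter (· ∈ X), ∑ E ∈ (above p X D).filter (fun E => Fix p X E g), IncidenceAlgebra.mu ℤ D E := by
  rw [hcount, sum_comm' (t' := above p X D) (s' := fun E => univ.filter (fun g : G => g ∈ X ∧ Fix p X E g))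
    (fun g E => by
      simp only [mem_filter, mem_univ, true_and]
      exact ⟨fun ⟨h1, h2, h3⟩ => ⟨⟨h1, h3⟩, h2⟩, fun ⟨⟨h1, h3⟩, h2⟩ => ⟨h1, h2, h3⟩⟩)]
  refine sum_congr rfl fun E _ => ?_
  rw [sum_const, nsmul_eq_mul, fcount, mul_comm]

open scoped Classical in
theorem hcount_normalizer (X D : Subgroup G) :
    hcount p X D = hcount p (X ⊓ Subgroup.normalizer (D : Set G)) D := by
  set N := Subgroup.normalizer (D : Set G)
  rw [hcount_eq_sum, hcount_eq_sum]
  rw [← sum_subset (s₁ := univ.filter (· ∈ X ⊓ N)) (fun g hg => by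
      simp only [mem_filter, mem_univ, true_and] at hg ⊢
      exact hg.1) (fun g hg hg' => by
      simp only [mem_filter, mem_univ, true_and] at hg hg'
      exact sum_fix_eq_zero X D hg fun h => hg' ⟨hg, h⟩)]
  refine sum_congr rfl fun g hg => ?_
  simp only [mem_filter, mem_univ, true_and] at hg
  symm
  refine sum_subset ?_ ?_
  · intro E hE
    simp only [above, mem_filter, mem_univ, true_and] at hE ⊢
    obtain ⟨U, h1, h2, h3, h4⟩ := hE.2
    exact ⟨⟨hE.1.1, hE.1.2.1.trans inf_le_left, hE.1.2.2⟩, U, h1, h2, h3.trans inf_le_left, h4⟩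
  · intro E hE hE'
    simp only [above, mem_filter, mem_univ, true_and] at hE hE'
    refine mu_eq_zero hE.1.1 hE.1.2.2 fun hEN => hE' ⟨⟨hE.1.1, le_inf hE.1.2.1 hEN, hE.1.2.2⟩, ?_⟩
    obtain ⟨U, h1, h2, h3, h4⟩ := hE.2
    refine ⟨U ⊓ N, h1.to_le inf_le_left, le_inf h2 hEN, inf_le_inf_right _ h3, ?_⟩
    refine Subgroup.mem_normalizer_fintype fun v hv => ⟨(Subgroup.mem_normalizer_iff.1 h4 v).1 hv.1, ?_⟩
    exact N.mul_mem (N.mul_mem hg.2 hv.2) (N.inv_mem hg.2)

open scoped Classical in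
theorem fcount_eq_sum (X H : Subgroup G) (hHX : H ≤ X) (hH : IsPGroup p H) :
    fcount p X H = ∑ E ∈ above p X H, hcount p X E := by
  simp only [hcount]
  rw [sum_comm' (t' := above p X H) (s' := fun F => Icc H F) (fun E F => by
    simp only [above, mem_filter, mem_univ, true_and, mem_Icc]
    constructor
    · rintro ⟨⟨h1, h2, h3⟩, h4, h5, h6⟩
      exact ⟨⟨h1, h4⟩, h1.trans h4, h5, h6⟩
    · rintro ⟨⟨h1, h4⟩, -, h5, h6⟩
      exact ⟨⟨h1, h4.trans h5, h6.to_le h4⟩, h4, h5, h6⟩)]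
  rw [sum_eq_single H]
  · simp
  · intro F _ hne
    rw [← sum_mul, IncidenceAlgebra.sum_Icc_mu_left, if_neg hne.symm, zero_mul]
  · intro h
    exact absurd (mem_filter.2 ⟨mem_univ _, le_rfl, hHX, hH⟩) h

omit [Fintype G] [Fintype (Subgroup G)] [LocallyFiniteOrder (Subgroup G)] in
theorem exists_conj_of_top {X A B : Subgroup G} (hAX : A ≤ X) (hA : IsPGroup p A) (hAt : Top p X A)
    (hBX : B ≤ X) (hB : IsPGroup p B) (hBt : Top p X B) : ∃ x ∈ X, MulAut.conj x • A = B := by
  have mk : ∀ (C : Subgroup G) (hCX : C ≤ X) (hC : IsPGroup p C) (_ : Top p X C),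
      ∃ S : Sylow p X, (S : Subgroup X) = C.subgroupOf X := fun C hCX hC hCt =>
    ⟨⟨C.subgroupOf X, hC.comap_subtype, fun {E} hE hle => by
      have h := hCt (E.map X.subtype) (hE.map _) (fun c hc => ⟨⟨c, hCX hc⟩, hle hc, rfl⟩) (Subgroup.map_subtype_le _)
      rw [← h, Subgroup.subgroupOf, Subgroup.comap_map_eq_self_of_injective X.subtype_injective]⟩, rfl⟩
  obtain ⟨S, hS⟩ := mk A hAX hA hAt
  obtain ⟨T, hT⟩ := mk B hBX hB hBt
  obtain ⟨x, hx⟩ := MulAction.exists_smul_eq X S T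
  refine ⟨x, x.2, ?_⟩
  have h : MulAut.conj x • (A.subgroupOf X) = B.subgroupOf X := by
    rw [← hS, ← hT, ← hx]; rfl
  ext v
  constructor
  · rintro ⟨a, ha, rfl⟩
    have : MulAut.conj x (⟨a, hAX ha⟩ : X) ∈ B.subgroupOf X := h ▸ ⟨⟨a, hAX ha⟩, ha, rfl⟩
    exact this
  · intro hv
    have : (⟨v, hBX hv⟩ : X) ∈ MulAut.conj x • (A.subgroupOf X) := h.symm ▸ hv
    obtain ⟨a, ha, e⟩ := this
    exact ⟨a, ha, congrArg Subtype.val e⟩

open scoped Classical in
theorem sum_normalizer_top (X P : Subgroup G) (hPX : P ≤ X) (hP : IsPGroup p P) (hPt : Top p X P) :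
    ∑ E ∈ univ.filter (fun E : Subgroup G => E ≤ X ∧ IsPGroup p E ∧ Top p X E),
      Nat.card (X ⊓ Subgroup.normalizer (E : Set G) : Subgroup G) = Nat.card X := by
  have hcard : Nat.card X = (univ.filter (· ∈ X)).card := by
    rw [Nat.card_eq_fintype_card, Fintype.card_subtype]
  rw [hcard, card_eq_sum_card_fiberwise (f := fun x => MulAut.conj x • P)
    (t := univ.filter (fun E : Subgroup G => E ≤ X ∧ IsPGroup p E ∧ Top p X E)) (fun x hx => by
      simp only [coe_filter, mem_univ, true_and, Set.mem_setOf_eq] at hx ⊢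
      have hsub : ∀ E : Subgroup G, E ≤ X → MulAut.conj x • E ≤ X := by
        rintro E hE _ ⟨v, hv, rfl⟩
        exact mul_mem (mul_mem hx (hE hv)) (inv_mem hx)
      refine ⟨hsub P hPX, hP.map _, fun E hE hle hEX => ?_⟩
      have h1 : P ≤ (MulAut.conj x)⁻¹ • E := by
        have h := hle
        rwa [Subgroup.pointwise_smul_subset_iff] at h
      have h2 : (MulAut.conj x)⁻¹ • E ≤ X := by
        rintro _ ⟨v, hv, rfl⟩
        show (MulAut.conj x)⁻¹ v ∈ X
        simpa using mul_mem (mul_mem (inv_mem hx) (hEX hv)) hx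
      rw [← hPt ((MulAut.conj x)⁻¹ • E) (hE.map _) h1 h2, smul_inv_smul])]
  refine sum_congr rfl fun E hE => ?_
  simp only [mem_filter, mem_univ, true_and] at hE
  obtain ⟨x₀, hx₀, hx₀E⟩ := exists_conj_of_top hPX hP hPt hE.1 hE.2.1 hE.2.2
  rw [Nat.card_eq_fintype_card, Fintype.card_subtype]
  refine card_bij (fun y _ => y * x₀) (fun y hy => ?_) (fun a _ b _ h => mul_right_cancel h) (fun z hz => ?_)
  · simp only [mem_filter, mem_univ, true_and] at hy ⊢
    refine ⟨mul_mem hy.1 hx₀, ?_⟩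
    rw [map_mul, mul_smul, hx₀E]
    ext v
    rw [Subgroup.mem_pointwise_smul_iff_inv_smul_mem]
    simpa [MulAut.smul_def, mul_assoc] using (Subgroup.mem_normalizer_iff.1 hy.2 (y⁻¹ * v * y))
  · simp only [mem_filter, mem_univ, true_and] at hz
    refine ⟨z * x₀⁻¹, ?_, inv_mul_cancel_right z x₀⟩
    simp only [mem_filter, mem_univ, true_and]
    refine ⟨X.mul_mem hz.1 (X.inv_mem hx₀), Subgroup.mem_normalizer_fintype fun v hv => ?_⟩
    have h : v ∈ MulAut.conj x₀ • P := by rw [hx₀E]; exact hv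
    obtain ⟨u, hu, rfl⟩ := h
    have h' : z * u * z⁻¹ ∈ MulAut.conj z • P := ⟨u, hu, rfl⟩
    rw [hz.2] at h'
    show z * x₀⁻¹ * (x₀ * u * x₀⁻¹) * (z * x₀⁻¹)⁻¹ ∈ E
    rwa [show z * x₀⁻¹ * (x₀ * u * x₀⁻¹) * (z * x₀⁻¹)⁻¹ = z * u * z⁻¹ by group]

open scoped Classical in
theorem hcount_eq : ∀ (m : ℕ) (X D : Subgroup G), Nat.card X - Nat.card D = m → D ≤ X → IsPGroup p D →
    hcount p X D = if Top p X D then (Nat.card (X ⊓ Subgroup.normalizer (D : Set G) : Subgroup G) : ℤ) else 0 := by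
  intro m
  induction m using Nat.strong_induction_on with
  | _ m ih =>
    intro X D hm hDX hD
    have hcle := Subgroup.card_le_of_le hDX
    split_ifs with hmax
    · have : above p X D = {D} := by
        ext E
        simp only [above, mem_filter, mem_univ, true_and, mem_singleton]
        exact ⟨fun h => hmax E h.2.2 h.1 h.2.1, fun h => by subst h; exact ⟨le_rfl, hDX, hD⟩⟩
      rw [hcount, this, sum_singleton, IncidenceAlgebra.mu_self, one_mul, fcount, Nat.card_eq_fintype_card, Fintype.card_subtype]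
      congr 2
      ext g
      simp only [mem_filter, mem_univ, true_and, Subgroup.mem_inf]
      refine and_congr_right fun _ => ⟨fun ⟨U, h1, h2, h3, h4⟩ => hmax U h1 h2 h3 ▸ h4, fun h => ⟨D, hD, le_rfl, hDX, h⟩⟩
    · obtain ⟨E₁, hE₁, hDE, hEX, hne⟩ : ∃ E : Subgroup G, IsPGroup p E ∧ D ≤ E ∧ E ≤ X ∧ E ≠ D := by
        by_contra h
        exact hmax fun E h1 h2 h3 => by_contra fun h4 => h ⟨E, h1, h2, h3, h4⟩
      have hK := Cfsg.Agent.Char.BP.exists_normalizer_gt hE₁ (lt_of_le_of_ne hDE hne.symm)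
      by_cases hXN : X ≤ Subgroup.normalizer (D : Set G)
      · have hnorm : ∀ E : Subgroup G, IsPGroup p E → E ≤ X → Top p X E → D ≤ E := by
          intro E h1 h2 h3
          have h := hD.to_sup_of_normal_left' h1 (h2.trans hXN)
          exact le_sup_left.trans (h3 _ h le_sup_right (sup_le hDX h2)).le
        obtain ⟨P, hP⟩ : ∃ P : Subgroup G, P ≤ X ∧ IsPGroup p P ∧ Top p X P := by
          obtain ⟨P, hP, hPmax⟩ := (Set.toFinite {E : Subgroup G | E ≤ X ∧ IsPGroup p E}).exists_maximal ⟨D, hDX, hD⟩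
          exact ⟨P, hP.1, hP.2, fun E h1 h2 h3 => le_antisymm (hPmax ⟨h3, h1⟩ h2) h2⟩
        have hDmem : D ∈ above p X D := mem_filter.2 ⟨mem_univ _, le_rfl, hDX, hD⟩
        have hf := fcount_eq_sum X D hDX hD
        rw [← add_sum_erase _ _ hDmem] at hf
        have hfX : fcount p X D = Nat.card X := by
          rw [fcount, Nat.card_eq_fintype_card, Fintype.card_subtype]
          congr 2
          ext g
          simp only [mem_filter, mem_univ, true_and]
          exact ⟨fun h => h.1, fun h => ⟨h, D, hD, le_rfl, hDX, hXN h⟩⟩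
        have hrest : ∑ E ∈ (above p X D).erase D, hcount p X E = Nat.card X := by
          rw [← sum_normalizer_top X P hP.1 hP.2.1 hP.2.2, Nat.cast_sum]
          have : ∀ E ∈ (above p X D).erase D, hcount p X E =
              if Top p X E then (Nat.card (X ⊓ Subgroup.normalizer (E : Set G) : Subgroup G) : ℤ) else 0 := by
            intro E hE
            simp only [above, mem_erase, mem_filter, mem_univ, true_and] at hE
            have hlt : Nat.card D < Nat.card E := lt_of_le_of_ne (Subgroup.card_le_of_le hE.2.1) fun e =>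
              hE.1 (Subgroup.eq_of_le_of_card_ge hE.2.1 e.ge).symm
            have := Subgroup.card_le_of_le hE.2.2.1
            exact ih _ (by omega) X E rfl hE.2.2.1 hE.2.2.2
          rw [sum_congr rfl this, ← sum_filter]
          refine sum_congr ?_ fun _ _ => rfl
          ext E
          simp only [above, mem_erase, mem_filter, mem_univ, true_and]
          exact ⟨fun h => ⟨h.1.2.2.1, h.1.2.2.2, h.2⟩, fun h => ⟨⟨fun e => hmax (e ▸ h.2.2), hnorm E h.2.1 h.1 h.2.2, h.1, h.2.1⟩, h.2.2⟩⟩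
        rw [hfX, hrest] at hf
        linarith
      · have hlt : Nat.card (X ⊓ Subgroup.normalizer (D : Set G) : Subgroup G) < Nat.card X :=
          lt_of_le_of_ne (Subgroup.card_le_of_le inf_le_left) fun e =>
            hXN (le_of_eq_of_le (Subgroup.eq_of_le_of_card_ge inf_le_left e.ge).symm inf_le_right)
        have hD' : D ≤ X ⊓ Subgroup.normalizer (D : Set G) := le_inf hDX Subgroup.le_normalizer
        have := Subgroup.card_le_of_le hD'
        rw [hcount_normalizer, ih _ (by omega) _ D rfl hD' hD, if_neg]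
        exact fun h => hK.ne (h _ (hE₁.to_le inf_le_left) hK.le (inf_le_inf_right _ hEX)).symm

end count

/-- The number of elements `g` with `H` subnormal in `⟨H, g⟩`. -/
theorem card_subnormalizer (H : Subgroup G) (hH : IsPGroup p H) (P : Sylow p G) :
    Nat.card {g : G // ((H).subgroupOf (H ⊔ Subgroup.zpowers g)).IsSubnormal} =
      Nat.card {Q : Sylow p G // H ≤ (Q : Subgroup G)} * Nat.card (Subgroup.normalizer ((P : Subgroup G) : Set G)) := by
  classical
  letI := Fintype.ofFinite G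
  letI := Fintype.ofFinite (Subgroup G)
  letI : LocallyFiniteOrder (Subgroup G) := Fintype.toLocallyFiniteOrder
  have h1 : (Nat.card {g : G // ((H).subgroupOf (H ⊔ Subgroup.zpowers g)).IsSubnormal} : ℤ) = fcount p ⊤ H := by
    rw [fcount, Nat.card_eq_fintype_card, Fintype.card_subtype]
    congr 2
    ext g
    simp only [mem_filter, mem_univ, true_and, Subgroup.mem_top, Fix, le_top]
    exact S4089.sn_iff hH g
  have hle : ∀ E : Subgroup G, ((E ≤ (⊤ : Subgroup G) ∧ IsPGroup p E) ∧ Top p ⊤ E) ↔ ∃ Q : Sylow p G, (Q : Subgroup G) = E := by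
    intro E
    constructor
    · rintro ⟨⟨-, h1⟩, h2⟩
      exact ⟨⟨E, h1, fun {K} hK hEK => h2 K hK hEK le_top⟩, rfl⟩
    · rintro ⟨Q, rfl⟩
      exact ⟨⟨le_top, Q.isPGroup'⟩, fun E h1 h2 _ => Q.is_maximal' h1 h2⟩
  have h2 : fcount p ⊤ H = ∑ Q ∈ univ.filter (fun Q : Sylow p G => H ≤ (Q : Subgroup G)),
      (Nat.card (Subgroup.normalizer ((P : Subgroup G) : Set G)) : ℤ) := by
    rw [fcount_eq_sum ⊤ H le_top hH, sum_congr rfl (fun E hE => by
      simp only [above, mem_filter, mem_univ, true_and] at hE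
      exact hcount_eq _ ⊤ E rfl hE.2.1 hE.2.2), ← sum_filter]
    symm
    refine sum_bij (fun Q _ => (Q : Subgroup G)) ?_ ?_ ?_ ?_
    · intro Q hQ
      simp only [above, mem_filter, mem_univ, true_and] at hQ ⊢
      exact ⟨⟨hQ, le_top, Q.isPGroup'⟩, ((hle _).2 ⟨Q, rfl⟩).2⟩
    · exact fun a _ b _ h => Sylow.ext h
    · intro E hE
      simp only [above, mem_filter, mem_univ, true_and] at hE
      obtain ⟨Q, rfl⟩ := (hle E).1 ⟨hE.1.2, hE.2⟩
      exact ⟨Q, by simpa using hE.1.1, rfl⟩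
    · intro Q _
      rw [top_inf_eq]
      norm_cast
      have e1 := Sylow.card_eq_index_normalizer P
      rw [Sylow.card_eq_index_normalizer Q] at e1
      refine Nat.eq_of_mul_eq_mul_right (Nat.pos_of_ne_zero (Subgroup.index_ne_zero_of_finite (H := Subgroup.normalizer ((Q : Subgroup G) : Set G)))) ?_
      trans Nat.card G
      · have e2 : (Subgroup.normalizer ((Q : Subgroup G) : Set G)).index = (Subgroup.normalizer ((P : Subgroup G) : Set G)).index := e1
        rw [e2, Subgroup.card_mul_index]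
      · rw [Subgroup.card_mul_index]
  rw [h2, sum_const, nsmul_eq_mul, ← Fintype.card_subtype, ← Nat.card_eq_fintype_card] at h1
  exact_mod_cast h1

open scoped Classical in
omit hp in
/-- Counting the elements conjugating `H` into a fixed subgroup. -/
theorem card_conj_into (H P : Subgroup G) :
    Nat.card {x : G // H.map (MulAut.conj x).toMonoidHom ≤ P} =
      Nat.card {K : Subgroup G // K ≤ P ∧ ∃ g : G, K = H.map (MulAut.conj g).toMonoidHom} * Nat.card (Subgroup.normalizer (H : Set G)) := by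
  rw [← Nat.card_prod]
  let f : {x : G // H.map (MulAut.conj x).toMonoidHom ≤ P} → {K : Subgroup G // K ≤ P ∧ ∃ g : G, K = H.map (MulAut.conj g).toMonoidHom} :=
    fun x => ⟨_, x.2, x.1, rfl⟩
  choose c hc using fun K : {K : Subgroup G // K ≤ P ∧ ∃ g : G, K = H.map (MulAut.conj g).toMonoidHom} => K.2.2
  have hkey : ∀ (K : {K : Subgroup G // K ≤ P ∧ ∃ g : G, K = H.map (MulAut.conj g).toMonoidHom}) (n : G),
      n ∈ Subgroup.normalizer (H : Set G) → H.map (MulAut.conj (c K * n)).toMonoidHom = K.1 := fun K n hn => by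
    rw [hc K]
    ext v
    constructor
    · rintro ⟨h, hh, rfl⟩
      exact ⟨n * h * n⁻¹, (Subgroup.mem_normalizer_iff.1 hn h).1 hh, by simp [mul_assoc]⟩
    · rintro ⟨h, hh, rfl⟩
      refine ⟨n⁻¹ * h * n, ?_, by simp [mul_assoc]⟩
      exact (Subgroup.mem_normalizer_iff.1 hn _).2 (by rw [show n * (n⁻¹ * h * n) * n⁻¹ = h by group]; exact hh)
  refine Nat.card_congr
    { toFun := fun x => (f x, ⟨(c (f x))⁻¹ * x.1, Subgroup.mem_normalizer_fintype fun h hh => ?_⟩)
      invFun := fun q => ⟨c q.1 * q.2.1, by rw [hkey q.1 _ q.2.2]; exact q.1.2.1⟩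
      left_inv := fun x => Subtype.ext (mul_inv_cancel_left _ _)
      right_inv := fun q => ?_ }
  · have h' : x.1 * h * x.1⁻¹ ∈ H.map (MulAut.conj (c (f x))).toMonoidHom := (hc (f x)).le ⟨h, hh, rfl⟩
    obtain ⟨h2, hh2, e⟩ := h'
    show (c (f x))⁻¹ * x.1 * h * ((c (f x))⁻¹ * x.1)⁻¹ ∈ H
    have e' : c (f x) * h2 * (c (f x))⁻¹ = x.1 * h * x.1⁻¹ := e
    rw [show (c (f x))⁻¹ * x.1 * h * ((c (f x))⁻¹ * x.1)⁻¹ = (c (f x))⁻¹ * (x.1 * h * x.1⁻¹) * c (f x) by group, ← e',
      show (c (f x))⁻¹ * (c (f x) * h2 * (c (f x))⁻¹) * c (f x) = h2 by group]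
    exact hh2
  · have e : f ⟨c q.1 * q.2.1, by rw [hkey q.1 _ q.2.2]; exact q.1.2.1⟩ = q.1 := Subtype.ext (hkey q.1 _ q.2.2)
    refine Prod.ext e (Subtype.ext ?_)
    show (c (f ⟨c q.1 * q.2.1, _⟩))⁻¹ * (c q.1 * q.2.1) = q.2.1
    rw [e, inv_mul_cancel_left]

open scoped Classical in
/-- Counting the elements conjugating `H` into a Sylow subgroup. -/
theorem card_conj_into_sylow (H : Subgroup G) (P : Sylow p G) :
    Nat.card {x : G // H.map (MulAut.conj x).toMonoidHom ≤ (P : Subgroup G)} =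
      Nat.card {Q : Sylow p G // H ≤ (Q : Subgroup G)} * Nat.card (Subgroup.normalizer ((P : Subgroup G) : Set G)) := by
  rw [← Nat.card_prod]
  choose c hc using fun Q : Sylow p G => MulAction.exists_smul_eq G Q P
  have hiff : ∀ x : G, H.map (MulAut.conj x).toMonoidHom ≤ (P : Subgroup G) ↔ H ≤ ((x⁻¹ • P : Sylow p G) : Subgroup G) := fun x => by
    rw [Sylow.coe_subgroup_smul]
    constructor
    · intro h v hv
      rw [Subgroup.mem_pointwise_smul_iff_inv_smul_mem]
      simpa [MulAut.smul_def, mul_assoc] using h ⟨v, hv, rfl⟩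
    · rintro h _ ⟨v, hv, rfl⟩
      have := h hv
      rw [Subgroup.mem_pointwise_smul_iff_inv_smul_mem] at this
      simpa [MulAut.smul_def, mul_assoc] using this
  refine Nat.card_congr
    { toFun := fun x => (⟨x.1⁻¹ • P, (hiff _).1 x.2⟩, ⟨x.1 * (c (x.1⁻¹ • P))⁻¹, ?_⟩)
      invFun := fun q => ⟨q.2.1 * c q.1.1, (hiff _).2 ?_⟩
      left_inv := fun x => Subtype.ext (inv_mul_cancel_right _ _)
      right_inv := fun q => ?_ }
  · have h := hc (x.1⁻¹ • P)
    rw [smul_smul] at h
    have h' := (Subgroup.inv_mem _) (Sylow.smul_eq_iff_mem_normalizer.1 h)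
    rwa [mul_inv_rev, inv_inv] at h'
  · have h := q.1.2
    rwa [mul_inv_rev, mul_smul, Sylow.smul_eq_iff_mem_normalizer.2 (inv_mem q.2.2), inv_smul_eq_iff.2 (hc q.1.1).symm]
  · have e : (q.2.1 * c q.1.1)⁻¹ • P = q.1.1 := by
      rw [mul_inv_rev, mul_smul, Sylow.smul_eq_iff_mem_normalizer.2 (inv_mem q.2.2), inv_smul_eq_iff.2 (hc q.1.1).symm]
    refine Prod.ext (Subtype.ext e) (Subtype.ext ?_)
    show q.2.1 * c q.1.1 * (c ((q.2.1 * c q.1.1)⁻¹ • P))⁻¹ = q.2.1
    rw [e, mul_inv_cancel_right]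

/-- The second form of the count. -/
theorem card_subnormalizer' (H : Subgroup G) (hH : IsPGroup p H) (P : Sylow p G) :
    Nat.card {g : G // ((H).subgroupOf (H ⊔ Subgroup.zpowers g)).IsSubnormal} =
      Nat.card {K : Subgroup G // K ≤ (P : Subgroup G) ∧ ∃ g : G, K = H.map (MulAut.conj g).toMonoidHom} *
        Nat.card (Subgroup.normalizer (H : Set G)) := by
  rw [card_subnormalizer H hH P, ← card_conj_into_sylow, card_conj_into]

end Cfsg.Agent.Transfer.Subnormalizer
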