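import Cfsg.Agent.Lib.Invol.ThompsonReduction
import Cfsg.Agent.Lib.Invol.ZJComplement
import Cfsg.Agent.Lib.Transfer.PStableFree

/-!
A normal `p`-complement criterion from a functor that is normal, at a Sylow subgroup, in stable constrained groups.
-/

set_option autoImplicit false
set_option linter.unusedSectionVars false
set_option linter.style.haveILetI false
set_option maxHeartbeats 1000000

open scoped Pointwise

namespace Cfsg.Agent.Transfer.SylowFunctor

open Subgroup Cfsg.Agent.Invol Cfsg.Agent.Fus Cfsg.Agent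

universe u

variable {p : ℕ} [hp : Fact p.Prime]

/-- A subgroup functor with normal value at the Sylow subgroup of `p`-stable constrained groups. -/
structure IsSylowFunctor (p : ℕ) (W : ∀ (G : Type u) [Group G], Subgroup G → Subgroup G) : Prop where
  le : ∀ {G : Type u} [Group G] (R : Subgroup G), W G R ≤ R
  map : ∀ {G H : Type u} [Group G] [Finite G] [Group H] (f : G →* H) (R : Subgroup G), IsPGroup p R →
    (∀ x ∈ R, f x = 1 → x = 1) → (W G R).map f = W H (R.map f)
  ne_bot : ∀ {G : Type u} [Group G] [Finite G] {R : Subgroup G}, IsPGroup p R → R ≠ ⊥ → W G R ≠ ⊥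
  normalizer_le : ∀ {G : Type u} [Group G] [Finite G] (R : Subgroup G), IsPGroup p R →
    Subgroup.normalizer (R : Set G) ≤ Subgroup.normalizer (W G R : Set G)
  normal : ∀ {G : Type u} [Group G] [Finite G], p ≠ 2 →
    Subgroup.centralizer (pCore p G : Set G) ≤ pCore p G →
    Cfsg.IsActionPStable p G → ∀ (S : Sylow p G), (W G (S : Subgroup G)).Normal

/-- If the normalizer of the functor at a Sylow subgroup has a normal `p`-complement, then so does the group. -/
theorem hasNormalPComplement (hp2 : p ≠ 2) {W : ∀ (G : Type u) [Group G], Subgroup G → Subgroup G}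
    (hF : IsSylowFunctor p W) :
    ∀ (G : Type u) [Group G] [Finite G] (P : Sylow p G),
      Cfsg.HasNormalPComplement p ↥(Subgroup.normalizer (W G (P : Subgroup G) : Set G)) →
      Cfsg.HasNormalPComplement p G := by
  suffices key : ∀ (N : ℕ) (G : Type u) [Group G] [Finite G], Nat.card G = N →
      ∀ (P : Sylow p G),
      Cfsg.HasNormalPComplement p ↥(Subgroup.normalizer (W G (P : Subgroup G) : Set G)) →
      Cfsg.HasNormalPComplement p G from fun G _ _ => key _ G rfl
  intro N
  induction N using Nat.strong_induction_on with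
  | _ N ih =>
  intro G _ _ hcard P hW
  by_contra hG
  have htopW : Subgroup.normalizer (W G (P : Subgroup G) : Set G) ≠ ⊤ := fun h =>
    hG ((Transfer.hasNormalPComplement_congr Subgroup.topEquiv).mp (h ▸ hW))
  have hD1 : (P : Subgroup G) ≠ ⊥ := fun h => htopW (by
    rw [show W G (P : Subgroup G) = ⊥ from le_bot_iff.1 ((hF.le _).trans h.le)]
    exact Subgroup.normalizer_eq_top _)
  -- proper subgroups
  have hsub : ∀ (H : Subgroup G), H ≠ ⊤ → ∀ (T : Subgroup G), Grp.IsSylowIn p T H →
      Cfsg.HasNormalPComplement p ↥(Subgroup.normalizer (W G T : Set G)) →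
      Cfsg.HasNormalPComplement p H := by
    intro H hH T hT hN
    obtain ⟨S, hS⟩ := Grp.isSylowIn_iff.mp hT
    refine ih _ (hcard ▸ Grp.card_lt_of_ne_top hH) H rfl S ?_
    refine hasNormalPComplement_normalizer_comap H _ ?_
    rw [hF.map H.subtype _ S.isPGroup' (fun x _ hx => Subtype.ext hx)]
    rw [hS]
    exact hN
  -- no normal `p'`-subgroups
  have hO : pPrimeCore p G = ⊥ := by
    by_contra hne
    haveI hLn : (pPrimeCore p G).Normal := Grp.pPrimeCore_isNormal
    set f := QuotientGroup.mk' (pPrimeCore p G) with hf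
    have hfs : Function.Surjective f := QuotientGroup.mk'_surjective _
    have hinj : ∀ x ∈ (P : Subgroup G), f x = 1 → x = 1 := fun x hx hfx =>
      eq_one_of_coprime_of_mem P.isPGroup' hx (Grp.pPrimeCore_coprime.coprime_dvd_left
        ((pPrimeCore p G).orderOf_dvd_natCard ((QuotientGroup.eq_one_iff x).mp hfx)))
    refine hG (Transfer.hasNormalPComplement_of_quotient _ Grp.pPrimeCore_not_dvd
      (ih _ (hcard ▸ Grp.card_quotient_lt hne) _ rfl (P.mapSurjective hfs) ?_))
    rw [Sylow.coe_mapSurjective, ← hF.map f (P : Subgroup G) P.isPGroup' hinj]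
    exact Transfer.hasNormalPComplement_mono
      (normalizer_map_le_of_coprime f hfs
        (by rw [hf, QuotientGroup.ker_mk']; exact Grp.pPrimeCore_coprime)
        (P.isPGroup'.to_le (hF.le _)))
      (Transfer.hasNormalPComplement_of_surjective _ (f.subgroupMap_surjective _) hW)
  -- there is a normal `p`-subgroup
  set Q := pCore p G with hQ
  haveI hQn : Q.Normal := Grp.pCore_isNormal
  have hQP : Q ≤ (P : Subgroup G) := Grp.pCore_le_sylow P
  have hQp : IsPGroup p Q := Grp.pCore_isPGroup
  have hQ1 : Q ≠ ⊥ := by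
    intro hQ0
    obtain ⟨z, hzD, hz1, hzc⟩ := exists_central_mem P le_rfl Subgroup.le_normalizer hD1
    have good : ∀ (k : ℕ) (U T : Subgroup G), IsPGroup p U → U ≠ ⊥ → T ≤ (P : Subgroup G) →
        Grp.IsSylowIn p T (Subgroup.normalizer (U : Set G)) →
        Nat.card (P : Subgroup G) - Nat.card T = k →
        Cfsg.HasNormalPComplement p ↥(Subgroup.normalizer (U : Set G)) := by
      intro k
      induction k using Nat.strong_induction_on with
      | _ k ih2 =>
      intro U T hU hU1 hTP hT hk
      set H := Subgroup.normalizer (U : Set G) with hH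
      have hHtop : H ≠ ⊤ := fun h => hU1 (le_bot_iff.1
        (hQ0 ▸ Grp.le_pCore (Subgroup.normalizer_eq_top_iff.1 h) hU))
      refine hsub H hHtop T hT ?_
      rcases hTP.eq_or_lt with hTP' | hTP'
      · rwa [hTP']
      -- the centre of `P` lies in `T`
      have hUT : U ≤ T := by
        obtain ⟨S, hS⟩ := Grp.isSylowIn_iff.mp hT
        haveI hn' : (U.subgroupOf H).Normal := Subgroup.normal_in_normalizer
        have h1 := (show IsPGroup p (U.subgroupOf H) from hU.comap_subtype).le_sylow_of_normal S
        intro x hx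
        rw [← hS]
        exact ⟨⟨x, Subgroup.le_normalizer hx⟩, h1 (show (⟨x, _⟩ : H) ∈ U.subgroupOf H from hx), rfl⟩
      have hzT : z ∈ T := by
        have hzH : z ∈ H := Subgroup.centralizer_le_normalizer _
          (Subgroup.mem_centralizer_iff.2 fun u hu => (hzc u (hTP (hUT hu))).symm)
        have h1 := hT.eq_of_le (le_inf hTP hT.1) inf_le_right (P.isPGroup'.to_le inf_le_left)
        rw [h1]
        exact ⟨hzD, hzH⟩
      set V := W G T with hV
      have hV1 : V ≠ ⊥ := hF.ne_bot (P.isPGroup'.to_le hTP) fun h =>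
        hz1 (Subgroup.mem_bot.1 (h ▸ hzT))
      set T' := (P : Subgroup G) ⊓ Subgroup.normalizer (T : Set G) with hT'
      have hT'V : T' ≤ Subgroup.normalizer (V : Set G) := fun s hs =>
        hF.normalizer_le _ (P.isPGroup'.to_le hTP) hs.2
      have hlt : Nat.card T < Nat.card T' := by
        have h2 := Transfer.lt_inf_normalizer P hTP'
        exact lt_of_not_ge fun h => h2.ne (Subgroup.eq_of_le_of_card_ge h2.le h)
      -- move a Sylow subgroup of `N(V)` into `P`
      obtain ⟨S₀, hS₀⟩ : ∃ S : Sylow p (Subgroup.normalizer (V : Set G)),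
          T'.subgroupOf (Subgroup.normalizer (V : Set G)) ≤
            (S : Subgroup (Subgroup.normalizer (V : Set G))) :=
        (show IsPGroup p (T'.subgroupOf (Subgroup.normalizer (V : Set G))) from
          (P.isPGroup'.to_le inf_le_left).comap_subtype).exists_le_sylow
      set T₀ := (S₀ : Subgroup _).map (Subgroup.normalizer (V : Set G)).subtype with hT₀
      obtain ⟨S₁, hS₁⟩ := (S₀.isPGroup'.map (Subgroup.normalizer (V : Set G)).subtype).exists_le_sylow
      obtain ⟨g, hg⟩ := MulAction.exists_smul_eq G S₁ P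
      set c := (MulAut.conj g).toMonoidHom with hc
      have hcP : T₀.map c ≤ (P : Subgroup G) := by
        rw [← hg, Sylow.coe_subgroup_smul, ← Grp.map_conj_eq_smul]
        exact Subgroup.map_mono hS₁
      have hcS : Grp.IsSylowIn p (T₀.map c) (Subgroup.normalizer (V.map c : Set G)) := by
        rw [show Subgroup.normalizer (V.map c : Set G) = (Subgroup.normalizer (V : Set G)).map c from
          (Subgroup.map_equiv_normalizer_eq V (MulAut.conj g)).symm]
        refine ⟨Subgroup.map_mono (Subgroup.map_subtype_le _), (S₀.isPGroup'.map _).map _, ?_⟩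
        rw [Subgroup.relIndex_map_map_of_injective _ _ (MulAut.conj g).injective]
        exact (Grp.isSylowIn_iff.mpr ⟨S₀, rfl⟩).2.2
      have hcard2 : Nat.card T' ≤ Nat.card (T₀.map c) := by
        rw [Subgroup.card_map_of_injective (MulAut.conj g).injective]
        exact Subgroup.card_le_of_le fun x hx => ⟨⟨x, hT'V hx⟩, hS₀ hx, rfl⟩
      have hcard3 : Nat.card (T₀.map c) ≤ Nat.card (P : Subgroup G) := Subgroup.card_le_of_le hcP
      have h1 := ih2 _ (by omega) (V.map c) (T₀.map c)
        ((P.isPGroup'.to_le ((hF.le T).trans hTP)).map _)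
        (fun h => hV1 ((Subgroup.map_eq_bot_iff_of_injective _ (MulAut.conj g).injective).mp h))
        hcP hcS rfl
      have h2 := npc_normalizer_conj g⁻¹ _ h1
      rwa [Subgroup.map_map, show ((MulAut.conj g⁻¹).toMonoidHom).comp c = MonoidHom.id G by
        ext x; simp [hc, mul_assoc], Subgroup.map_id] at h2
    refine hG (Transfer.hasNormalPComplement_iff_local.mpr fun U hU hU1 => ?_)
    obtain ⟨T, hT⟩ := Grp.exists_isSylowIn p (Subgroup.normalizer (U : Set G))
    obtain ⟨S₁, hS₁⟩ := hT.2.1.exists_le_sylow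
    obtain ⟨g, hg⟩ := MulAction.exists_smul_eq G S₁ P
    set c := (MulAut.conj g).toMonoidHom with hc
    have hcP : T.map c ≤ (P : Subgroup G) := by
      rw [← hg, Sylow.coe_subgroup_smul, ← Grp.map_conj_eq_smul]
      exact Subgroup.map_mono hS₁
    have h1 := good _ (U.map c) (T.map c) (hU.map _)
      (fun h => hU1 ((Subgroup.map_eq_bot_iff_of_injective _ (MulAut.conj g).injective).mp h)) hcP
      (by
        rw [show Subgroup.normalizer (U.map c : Set G) = (Subgroup.normalizer (U : Set G)).map c from
          (Subgroup.map_equiv_normalizer_eq U (MulAut.conj g)).symm]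
        refine ⟨Subgroup.map_mono hT.1, hT.2.1.map _, ?_⟩
        rw [Subgroup.relIndex_map_map_of_injective _ _ (MulAut.conj g).injective]
        exact hT.2.2) rfl
    have h2 := npc_normalizer_conj g⁻¹ _ h1
    rwa [Subgroup.map_map, show ((MulAut.conj g⁻¹).toMonoidHom).comp c = MonoidHom.id G by
      ext x; simp [hc, mul_assoc], Subgroup.map_id] at h2
  -- overgroups of the Sylow subgroup
  have hover : ∀ H : Subgroup G, (P : Subgroup G) ≤ H → H ≠ ⊤ →
      Cfsg.HasNormalPComplement p H := fun H hPH hH =>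
    hsub H hH P ⟨hPH, P.isPGroup', fun hd =>
      P.not_dvd_index (hd.trans (Subgroup.relIndex_dvd_index_of_le hPH))⟩ hW
  -- the quotient by `Q`
  set f := QuotientGroup.mk' Q with hf
  have hfs : Function.Surjective f := QuotientGroup.mk'_surjective Q
  have hcomap : ((P : Subgroup G).map f).comap f = P := by
    rw [Subgroup.comap_map_eq_self]
    rwa [hf, QuotientGroup.ker_mk']
  have hDb1 : (P : Subgroup G).map f ≠ ⊥ := by
    intro h
    rw [Subgroup.map_eq_bot_iff, hf, QuotientGroup.ker_mk'] at h
    refine htopW (top_le_iff.1 ?_)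
    rw [show (P : Subgroup G) = Q from le_antisymm h hQP]
    refine le_trans ?_ (hF.normalizer_le Q hQp)
    rw [Subgroup.normalizer_eq_top_iff.2 hQn]
  have hGP : Cfsg.HasNormalPComplement p (G ⧸ Q) := by
    refine ih _ (hcard ▸ Grp.card_quotient_lt hQ1) _ rfl (P.mapSurjective hfs) ?_
    rw [Sylow.coe_mapSurjective]
    set A := W (G ⧸ Q) ((P : Subgroup G).map f) with hA
    have hA1 : A ≠ ⊥ := hF.ne_bot (P.isPGroup'.map f) hDb1
    set K := A.comap f with hK
    have hKP : K ≤ (P : Subgroup G) :=
      hcomap ▸ Subgroup.comap_mono (hF.le _)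
    have hPK : (P : Subgroup G) ≤ Subgroup.normalizer (K : Set G) := by
      rw [hK, ← Subgroup.comap_normalizer_eq_of_surjective _ hfs, ← hcomap]
      exact Subgroup.comap_mono
        (Subgroup.le_normalizer.trans (hF.normalizer_le _ (P.isPGroup'.map f)))
    have hKN : Cfsg.HasNormalPComplement p ↥(Subgroup.normalizer (K : Set G)) := by
      refine hover _ hPK fun h => hA1 ?_
      have h1 : K ≤ Q := Grp.le_pCore (Subgroup.normalizer_eq_top_iff.1 h) (P.isPGroup'.to_le hKP)
      rw [← Subgroup.map_comap_eq_self_of_surjective hfs A, Subgroup.map_eq_bot_iff, hf,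
        QuotientGroup.ker_mk']
      exact h1
    rw [hK, ← Subgroup.comap_normalizer_eq_of_surjective _ hfs] at hKN
    refine Transfer.hasNormalPComplement_of_surjective (f.subgroupComap _) ?_ hKN
    rintro ⟨y, hy⟩
    obtain ⟨x, rfl⟩ := hfs y
    exact ⟨⟨x, hy⟩, rfl⟩
  set R := pResidual p (G ⧸ Q) with hR
  haveI hRn : R.Normal := Transfer.instNormalPResidual p
  have hRd : ¬ p ∣ Nat.card R := Transfer.hasNormalPComplement_iff_not_dvd.mp hGP
  have hRc : (Nat.card R).Coprime p := ((hp.out.coprime_iff_not_dvd).mpr hRd).symm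
  obtain ⟨k, hk⟩ := Transfer.exists_pResidual_index (G := G ⧸ Q) p
  set M := R.comap f with hM
  haveI hMn : M.Normal := hRn.comap f
  have htop : ∀ y : G, y ^ p ^ k ∈ M := by
    intro y
    have hMi : M.index = p ^ k := by rw [hM, Subgroup.index_comap_of_surjective _ hfs, hk]
    exact hMi ▸ M.pow_index_mem y
  -- `C(Q) ≤ Q`
  have hcent : Subgroup.centralizer (Q : Set G) ≤ Q := by
    set C := Subgroup.centralizer (Q : Set G) with hC
    have hCn : C.Normal := Subgroup.normal_centralizer
    have hY : C ⊓ M ≤ Q := by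
      set Y := C ⊓ M with hY
      have hYn : Y.Normal := Subgroup.normal_inf_normal C M
      have hcen : ∀ z ∈ Q.subgroupOf Y, ∀ y : Y, y * z = z * y := fun z hz y =>
        Subtype.ext ((Subgroup.mem_centralizer_iff.mp y.2.1 z hz).symm)
      have hidx : ¬ p ∣ (Q.subgroupOf Y).index := by
        intro hd
        refine hRd (hd.trans ?_)
        let g : Y →* R := (f.comp Y.subtype).codRestrict R fun y => y.2.2
        have hg : g.ker = Q.subgroupOf Y := by
          ext y
          rw [MonoidHom.mem_ker, Subgroup.mem_subgroupOf, ← QuotientGroup.eq_one_iff (N := Q)]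
          exact Subtype.ext_iff
        rw [← hg, Subgroup.index_ker]
        exact Subgroup.card_subgroup_dvd_card _
      let T : Sylow p Y := (hQp.comap_subtype).toSylow hidx
      have hYN : Cfsg.HasNormalPComplement p Y := by
        refine Transfer.hasNormalPComplement_of_control T fun x hx y hy ⟨g, hg⟩ => ⟨1, one_mem _, ?_⟩
        rw [one_mul, inv_one, mul_one, ← hg, hcen x hx g, mul_inv_cancel_right]
      have h1 : (pResidual p Y).map Y.subtype = ⊥ := by
        have hchar := Transfer.pResidual_characteristic p Y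
        refine le_bot_iff.1 (hO ▸ Grp.le_pPrimeCore ConjAct.normal_of_characteristic_of_normal ?_)
        rw [Subgroup.card_map_of_injective Y.subtype_injective]
        exact ((hp.out.coprime_iff_not_dvd).mpr
          (Transfer.hasNormalPComplement_iff_not_dvd.mp hYN)).symm
      rw [Subgroup.map_eq_bot_iff_of_injective _ Y.subtype_injective] at h1
      obtain ⟨j, hj⟩ := Transfer.exists_pResidual_index (G := Y) p
      rw [h1, Subgroup.index_bot] at hj
      exact Grp.le_pCore hYn (IsPGroup.of_card hj)
    refine Grp.le_pCore hCn fun c => ?_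
    obtain ⟨m, hm⟩ := hQp ⟨(c : G) ^ p ^ k, hY ⟨pow_mem c.2 _, htop c⟩⟩
    refine ⟨k + m, Subtype.ext ?_⟩
    have h2 := congrArg Subtype.val hm
    rw [pow_add, pow_mul]
    simpa using h2
  -- maximality of the Sylow subgroup
  have hmaxS : ∀ H : Subgroup G, (P : Subgroup G) ≤ H → H = P ∨ H = ⊤ := by
    intro H hPH
    by_contra hne
    push Not at hne
    set L := pResidual p H with hL
    have hLd : ¬ p ∣ Nat.card L := Transfer.hasNormalPComplement_iff_not_dvd.mp (hover H hPH hne.2)
    haveI hLn : L.Normal := Transfer.instNormalPResidual p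
    have hQH : Q ≤ H := hQP.trans hPH
    have hcop : (Nat.card L).Coprime (Nat.card (Q.subgroupOf H)) := by
      obtain ⟨m, hm⟩ : ∃ m, Nat.card (Q.subgroupOf H) = p ^ m :=
        IsPGroup.iff_card.mp (hQp.comap_subtype (K := H))
      rw [hm]
      exact Nat.Coprime.pow_right m ((hp.out.coprime_iff_not_dvd).mpr hLd).symm
    haveI hQn' : (Q.subgroupOf H).Normal := hQn.subgroupOf H
    have h1 := Grp.commute_of_coprime_normal hcop
    have hLb : L = ⊥ := by
      rw [eq_bot_iff]
      intro r hr
      have hrQ : (r : G) ∈ Q := hcent <| Subgroup.mem_centralizer_iff.mpr fun x hx =>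
        congrArg Subtype.val (Subgroup.mem_centralizer_iff.mp (h1 hr) ⟨x, hQH hx⟩ hx)
      rw [← Grp.inf_eq_bot_of_coprime hcop]
      exact ⟨hr, hrQ⟩
    obtain ⟨j, hj⟩ := Transfer.exists_pResidual_index (G := H) p
    rw [← hL, hLb, Subgroup.index_bot] at hj
    exact hne.1 (P.is_maximal' (IsPGroup.of_card hj) hPH)
  have hdata : IsPAbelData p Q M := by
    refine ⟨hQn, hMn, fun x hx => ?_, hQp, fun a ha b hb => ?_, fun y => ⟨k, htop y⟩,
      fun m hm => ⟨Nat.card R, hRc, ?_⟩⟩
    · change f x ∈ R
      rw [show f x = 1 from (QuotientGroup.eq_one_iff x).mpr hx]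
      exact one_mem R
    · have hab := abelian_of_maximal (P.mapSurjective hfs) (fun H hH => ?_) R hRc (f a) ha (f b) hb
      · rw [← QuotientGroup.eq_one_iff]
        change f (a * b * a⁻¹ * b⁻¹) = 1
        rw [map_mul, map_mul, map_mul, map_inv, map_inv, hab, mul_inv_cancel_right, mul_inv_cancel]
      rcases hmaxS (H.comap f) (fun x hx => hH ⟨x, hx, rfl⟩) with h | h
      · left
        rw [← Subgroup.map_comap_eq_self_of_surjective hfs H, h]
        rfl
      · right
        rw [← Subgroup.map_comap_eq_self_of_surjective hfs H, h, ← MonoidHom.range_eq_map,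
          MonoidHom.range_eq_top.mpr hfs]
    · rw [← QuotientGroup.eq_one_iff]
      exact congrArg Subtype.val (pow_card_eq_one' (x := (⟨f m, hm⟩ : R)))
  -- `G` is stable and constrained
  have hstA : Cfsg.IsActionPStable p G := by
    refine Transfer.isActionPStable_of_qdFree hp2 (Transfer.qdFree_of_sylow_two_comm hp2 fun T => ?_)
    obtain ⟨j, hj⟩ := IsPGroup.iff_card.1 hQp
    have h2p : Nat.Coprime 2 p := (Nat.coprime_primes Nat.prime_two hp.out).2 hp2.symm
    have hTR : ∀ x ∈ (T : Subgroup G), f x ∈ R := by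
      intro x hx
      obtain ⟨i, hi⟩ := T.isPGroup' ⟨x, hx⟩
      obtain ⟨e, he⟩ := exists_pow_eq_self_of_coprime (x := x) (n := p ^ k)
        ((Nat.Coprime.pow i k h2p).symm.coprime_dvd_right (orderOf_dvd_of_pow_eq_one (congrArg Subtype.val hi)))
      rw [← he]
      exact M.pow_mem (htop x) e
    refine ⟨⟨fun a b => Subtype.ext ?_⟩⟩
    have hc := hdata.comm (a : G) (hTR a a.2) (b : G) (hTR b b.2)
    have hmem : (a : G) * b * (a : G)⁻¹ * (b : G)⁻¹ ∈ (T : Subgroup G) :=
      T.mul_mem (T.mul_mem (T.mul_mem a.2 b.2) (T.inv_mem a.2)) (T.inv_mem b.2)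
    obtain ⟨i, hi⟩ := IsPGroup.iff_card.1 T.isPGroup'
    have hd : orderOf ((a : G) * b * (a : G)⁻¹ * (b : G)⁻¹) ∣ 2 ^ i :=
      hi ▸ (T : Subgroup G).orderOf_dvd_natCard hmem
    have h1 := eq_one_of_coprime_of_mem hQp hc ((Nat.Coprime.pow_left i h2p).coprime_dvd_left hd)
    rw [mul_inv_eq_one, mul_inv_eq_iff_eq_mul] at h1
    exact h1
  refine htopW (Subgroup.normalizer_eq_top_iff.2 ?_)
  exact hF.normal hp2 hcent hstA P

end Cfsg.Agent.Transfer.SylowFunctor
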