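import Mathlib
import Cfsg.Agent.Lib.Transfer.SmallDegree

/-! An even primitive group of degree 13 with an 11-cycle is alternating. -/

set_option autoImplicit false
set_option maxHeartbeats 1000000

open scoped Pointwise

namespace Cfsg.Agent.Transfer.Thirteen

open Equiv Equiv.Perm MulAction SmallDegree JordanPrimeCycle

variable {β : Type*} [Fintype β] [DecidableEq β]

theorem sameCycle_mem_support_five {g : Perm β} (hg5 : orderOf g = 5) {s t : β} (hs : s ∈ g.support) :
    5 ≤ (Finset.univ.filter fun u => g.SameCycle s u).card ∧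
      (Finset.univ.filter fun u => g.SameCycle s u) ⊆ g.support := by
  classical
  constructor
  · have hsupp : Finset.univ.filter (fun u => g.SameCycle s u) = (g.cycleOf s).support := by
      ext u
      rw [Finset.mem_filter, Equiv.Perm.mem_support_cycleOf_iff' (Equiv.Perm.mem_support.mp hs)]
      simp
    have hcy : (g.cycleOf s).IsCycle := Equiv.Perm.isCycle_cycleOf g (Equiv.Perm.mem_support.mp hs)
    have hd : (g.cycleOf s).support.card ∈ g.cycleType := by
      rw [Equiv.Perm.cycleType_def, Multiset.mem_map]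
      exact ⟨g.cycleOf s, (Equiv.Perm.cycleOf_mem_cycleFactorsFinset_iff).mpr hs, rfl⟩
    obtain ⟨k, hk⟩ := Equiv.Perm.cycleType_prime_order (σ := g) (hg5 ▸ Nat.prime_five)
    rw [hk, hg5] at hd
    rw [hsupp, Multiset.eq_of_mem_replicate hd]
  · intro u hu
    obtain ⟨i, rfl⟩ := (Finset.mem_filter.mp hu).2
    exact Equiv.Perm.zpow_apply_mem_support.mpr hs

theorem pow_ten_fix {g c : Perm β} (hg5 : orderOf g = 5) (hsupp : g.support.card = 10)
    (hc : c * g = g * c) {s : β} (hs : s ∈ g.support) : (c ^ 10) s = s := by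
  classical
  have hcS : ∀ u ∈ g.support, c u ∈ g.support := fun u hu => CycleLocal.mem_support_pow_comm hc hu
  have hcomm : Commute c g := hc
  have hmap : ∀ u v, g.SameCycle u v → g.SameCycle (c u) (c v) := by
    rintro u v ⟨i, rfl⟩
    exact ⟨i, by rw [← Equiv.Perm.mul_apply, ← (hcomm.zpow_right i).eq, Equiv.Perm.mul_apply]⟩
  have h2 : g.SameCycle s ((c ^ 2) s) := by
    rw [pow_two, Equiv.Perm.mul_apply]
    by_cases h : g.SameCycle s (c s)
    · exact h.trans (hmap _ _ h)
    by_contra h'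
    have hb : ¬ g.SameCycle (c s) (c (c s)) := fun e => by
      obtain ⟨i, hi⟩ := e
      apply h
      refine ⟨i, c.injective ?_⟩
      rw [← hi, ← Equiv.Perm.mul_apply, (hcomm.zpow_right i).eq, Equiv.Perm.mul_apply]
    set O : β → Finset β := fun t => Finset.univ.filter fun u => g.SameCycle t u
    have hd : ∀ a b : β, ¬ g.SameCycle a b → Disjoint (O a) (O b) := fun a b hab =>
      Finset.disjoint_left.mpr fun u hua hub => hab
        ((Finset.mem_filter.mp hua).2.trans (Finset.mem_filter.mp hub).2.symm)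
    obtain ⟨n1, s1⟩ := sameCycle_mem_support_five (t := s) hg5 hs
    obtain ⟨n2, s2⟩ := sameCycle_mem_support_five (t := s) hg5 (hcS _ hs)
    obtain ⟨n3, s3⟩ := sameCycle_mem_support_five (t := s) hg5 (hcS _ (hcS _ hs))
    have hsub : O s ∪ O (c s) ∪ O (c (c s)) ⊆ g.support := by
      refine Finset.union_subset (Finset.union_subset s1 s2) s3
    have := Finset.card_le_card hsub
    rw [Finset.card_union_of_disjoint (Finset.disjoint_union_left.mpr ⟨hd _ _ h', hd _ _ hb⟩),
      Finset.card_union_of_disjoint (hd _ _ h), hsupp] at this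
    simp only [O] at this
    omega
  obtain ⟨i, hi⟩ := h2
  have key : ∀ k : ℕ, ((c ^ 2) ^ k) s = ((g ^ i) ^ k) s := by
    intro k
    induction k with
    | zero => rfl
    | succ k ih =>
      rw [pow_succ, Equiv.Perm.mul_apply, ← hi, ← Equiv.Perm.mul_apply,
        (((hcomm.pow_left 2).zpow_right i).pow_left k).eq, Equiv.Perm.mul_apply, ih,
        ← Equiv.Perm.mul_apply, ← pow_succ']
  rw [show (10 : ℕ) = 2 * 5 from rfl, pow_mul, key, ← zpow_natCast, ← zpow_mul, mul_comm, zpow_mul,
    zpow_natCast, ← hg5, pow_orderOf_eq_one, one_zpow, Equiv.Perm.one_apply]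

theorem thirteen (hβ : Fintype.card β = 13) {G : Subgroup (Perm β)} (hle : G ≤ alternatingGroup β)
    (hG : IsPreprimitive G β) {x : Perm β} (hx : x ∈ G) (hxo : orderOf x = 11) :
    alternatingGroup β ≤ G := by
  classical
  haveI : Fact (Nat.Prime 11) := ⟨by norm_num⟩
  haveI : Fact (Nat.Prime 5) := ⟨Nat.prime_five⟩
  haveI : Fact (Nat.Prime 2) := ⟨Nat.prime_two⟩
  have hA : Nat.card (alternatingGroup β) = (13).factorial / 2 := card_alternating hβ (by norm_num)
  have hd : Nat.card G ∣ (13).factorial / 2 := hA ▸ Subgroup.card_dvd_of_le hle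
  have hxc : x.IsCycle := isCycle_of_prime_order' (hxo ▸ (by norm_num)) (by omega)
  have hxs : x.support.card = 11 := hxc.orderOf.symm.trans hxo
  have hxcc : x.supportᶜ.card = 2 := by rw [Finset.card_compl, hβ, hxs]
  obtain ⟨a, b, hab, hF⟩ := Finset.card_eq_two.mp hxcc
  have hout : ∀ t, t ∉ x.support ↔ t = a ∨ t = b := fun t => by
    rw [← Finset.mem_compl, hF]; simp
  have hxfix : ∀ t, t ∉ x.support → x t = t := fun t ht => Equiv.Perm.notMem_support.mp ht
  -- three-fold transitivity
  have hprim : IsPreprimitive (fixingSubgroup G ((x.support : Set β))ᶜ)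
      (SubMulAction.ofFixingSubgroup G ((x.support : Set β))ᶜ) := by
    haveI := Equiv.Perm.isPretransitive_of_isCycle_mem hxc hx
    refine IsPreprimitive.of_prime_card ?_
    convert (show Nat.Prime 11 by norm_num) using 1
    rw [Nat.card_eq_fintype_card, Fintype.card_subtype, ← hxs]
    apply congr_arg
    ext t
    simp [SubMulAction.mem_ofFixingSubgroup_iff]
  have h3 : IsMultiplyPretransitive G β 3 :=
    (hG.isMultiplyPreprimitive (s := ((x.support : Set β))ᶜ) (n := 1)
      (by rw [← Finset.coe_compl, Set.ncard_coe_finset, hxcc])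
      (by rw [Nat.card_eq_fintype_card, hβ]; norm_num) hprim).isMultiplyPretransitive
  -- five-cycles
  have hfive : ∀ g ∈ G, g.IsCycle → g.support.card = 5 → alternatingGroup β ≤ G := fun g hg hc hs =>
    alternatingGroup_le_of_cycle hG Nat.prime_five (by omega) hc hs hg
  by_cases h25 : 5 ^ 2 ∣ Nat.card G
  · obtain ⟨P⟩ : Nonempty (Sylow 5 G) := inferInstance
    have hPc : Nat.card (P : Subgroup G) = 5 ^ 2 := by
      rw [P.card_eq_multiplicity]
      congr 1
      have h1 := (Nat.Prime.pow_dvd_iff_le_factorization Nat.prime_five Nat.card_pos.ne').mp h25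
      have h2 := (Nat.Prime.pow_dvd_iff_le_factorization Nat.prime_five Nat.card_pos.ne').not.mp
        (fun h : 5 ^ 3 ∣ Nat.card G => absurd (h.trans hd) (by decide +kernel))
      omega
    set PP := (P : Subgroup G).map G.subtype
    have hPPc : Nat.card PP = 5 ^ 2 := by rw [Subgroup.card_map_of_injective G.subtype_injective, hPc]
    have hfac : (Nat.card (Perm β)).factorization 5 = 2 := by
      rw [Nat.card_perm, Nat.card_eq_fintype_card, hβ]
      have h1 : 5 ^ 2 ∣ (13).factorial := by decide +kernel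
      have h2 : ¬ 5 ^ 3 ∣ (13).factorial := by decide +kernel
      rw [Nat.Prime.pow_dvd_iff_le_factorization Nat.prime_five (Nat.factorial_pos _).ne'] at h1 h2
      omega
    obtain ⟨c, hc⟩ := (Equiv.Perm.exists_with_cycleType_iff β (m := {5})).mpr
      ⟨by simp [hβ], by simp⟩
    have hcc : c.IsCycle := Equiv.Perm.card_cycleType_eq_one.mp (by rw [hc]; rfl)
    have hcs : c.support.card = 5 := by rw [← Equiv.Perm.sum_cycleType, hc]; rfl
    have hcp : IsPGroup 5 (Subgroup.zpowers c) :=
      IsPGroup.of_card (n := 1) (by rw [Nat.card_zpowers, hcc.orderOf, hcs, pow_one])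
    obtain ⟨Q, hQ⟩ := hcp.exists_le_sylow
    set PS : Sylow 5 (Perm β) := Sylow.ofCard PP (by rw [hPPc, hfac])
    obtain ⟨k, hk⟩ := MulAction.exists_smul_eq (Perm β) Q PS
    have hmem : k * c * k⁻¹ ∈ PP := by
      have : k * c * k⁻¹ ∈ (PS : Subgroup (Perm β)) := by
        rw [← hk, Sylow.coe_subgroup_smul]
        exact ⟨c, hQ (Subgroup.mem_zpowers c), rfl⟩
      exact this
    obtain ⟨⟨w, hw⟩, -, hwe⟩ := hmem
    have hkG : k * c * k⁻¹ ∈ G := by rw [← hwe]; exact hw
    exact hfive _ hkG hcc.conj (by rw [Equiv.Perm.card_support_conj, hcs])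
  -- the stabilizer of the two fixed points
  set H := G ⊓ fixingSubgroup (Perm β) ((x.supportᶜ : Finset β) : Set β)
  have hHmem : ∀ h, h ∈ H ↔ h ∈ G ∧ ∀ t, t ∉ x.support → h t = t := fun h => by
    rw [Subgroup.mem_inf, mem_fixingSubgroup_iff]; simp
  have hxH : x ∈ H := (hHmem x).mpr ⟨hx, hxfix⟩
  by_cases h5 : 5 ∣ Nat.card H
  · obtain ⟨g, hgo⟩ := exists_prime_orderOf_dvd_card' (G := H) 5 h5
    rw [← Subgroup.orderOf_coe] at hgo
    obtain ⟨hgG, hgfix⟩ := (hHmem g).mp g.2
    have hsub : (g : Perm β).support ⊆ x.support := fun t ht => by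
      by_contra h
      exact Equiv.Perm.mem_support.mp ht (hgfix t h)
    obtain ⟨k, hk⟩ := Equiv.Perm.cycleType_prime_order (σ := (g : Perm β)) (hgo ▸ Nat.prime_five)
    rw [hgo] at hk
    have hgs : (g : Perm β).support.card = (k + 1) * 5 := by
      rw [← Equiv.Perm.sum_cycleType, hk, Multiset.sum_replicate, smul_eq_mul]
    have hk1 : k = 0 ∨ k = 1 := by
      have := Finset.card_le_card hsub
      rw [hgs, hxs] at this
      omega
    rcases hk1 with rfl | rfl
    · exact hfive _ hgG (Equiv.Perm.card_cycleType_eq_one.mp (by rw [hk]; rfl)) hgs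
    · have hgcc : (g : Perm β).supportᶜ.card = 3 := by rw [Finset.card_compl, hβ, hgs]
      refine alternatingGroup_le_of_fix hG hgG (r := 5) hgo
        (fun h => h25 (h.trans (Subgroup.card_dvd_of_le inf_le_left))) hgcc.ge (by rw [hgcc]; exact h3)
        (e := 10) (by norm_num) (fun c hc s hs => pow_ten_fix hgo hgs hc hs)
  exfalso
  have hHle : H ≤ G := inf_le_left
  have hH11 : ¬ 11 ^ 2 ∣ Nat.card H := fun h =>
    absurd (h.trans ((Subgroup.card_dvd_of_le hHle).trans hd)) (by decide +kernel)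
  have hxC : ∀ c : Perm β, c ∈ G → c * x = x * c → c ∈ Subgroup.zpowers x := fun c hc hcom =>
    CycleLocal.commute_cycle_even hxc hxcc.le (CycleLocal.sign_prime_order_cycle hxc hxs rfl) (hle hc) hcom
  obtain ⟨e, n, he, -, hHc, hN⟩ := sylow_data (r := 11) (g := (⟨x, hxH⟩ : H))
    (by rw [Subgroup.orderOf_mk, hxo]) hH11
    (fun c hc => zpowers_subgroup hxH (hxC c (hHle c.2) (congrArg Subtype.val hc)))
  have hpow : ∀ u : H, u ∈ Subgroup.zpowers (⟨x, hxH⟩ : H) → u ^ 11 = 1 := fun u hu => by
    obtain ⟨i, rfl⟩ := hu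
    rw [← zpow_natCast, ← zpow_mul, mul_comm, zpow_mul, zpow_natCast,
      show (⟨x, hxH⟩ : H) ^ 11 = 1 from Subtype.ext (by
        rw [SubgroupClass.coe_pow, ← hxo]; exact pow_orderOf_eq_one x), one_zpow]
  have he1 : e = 1 := by
    have he10 : e ≤ 10 := Nat.le_of_dvd (by norm_num) he
    have h2e : ¬ 2 ∣ e := by
      intro h2
      obtain ⟨u, hu⟩ := exists_prime_orderOf_dvd_card' (G := Subgroup.normalizer
        ((Subgroup.zpowers (⟨x, hxH⟩ : H) : Subgroup H) : Set H)) 2 (hN ▸ dvd_mul_of_dvd_right h2 11)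
      rw [← Subgroup.orderOf_coe] at hu
      have hu2 : ((u : H) : Perm β) * ((u : H) : Perm β) = 1 := by
        have := pow_orderOf_eq_one (u : H)
        rw [hu, pow_two] at this
        exact congrArg Subtype.val this
      obtain ⟨i, hi⟩ := (Subgroup.mem_normalizer_iff.mp u.2 (⟨x, hxH⟩ : H)).mp (Subgroup.mem_zpowers _)
      have hc := CycleLocal.commute_of_even_involution hxc (p := 11) (by norm_num) hxs rfl hu2
        (hle (hHle (u : H).2)) ((hHmem _).mp (u : H).2).2 ⟨i, by simpa using congrArg Subtype.val hi⟩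
      have := orderOf_dvd_of_pow_eq_one (hpow _ (zpowers_subgroup hxH (hxC _ (hHle (u : H).2) hc)))
      rw [hu] at this
      omega
    have h5e : ¬ 5 ∣ e := fun h => h5 (hHc ▸ dvd_mul_of_dvd_left (dvd_mul_of_dvd_right h 11) n)
    interval_cases e <;> omega
  subst he1
  have hNle : ∀ h : H, h * ⟨x, hxH⟩ * h⁻¹ ∈ Subgroup.zpowers (⟨x, hxH⟩ : H) →
      h ∈ Subgroup.zpowers (⟨x, hxH⟩ : H) := fun h hh => by
    have hmem : h ∈ Subgroup.normalizer ((Subgroup.zpowers (⟨x, hxH⟩ : H) : Subgroup H) : Set H) := by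
      refine Subgroup.mem_normalizer_fintype fun z hz => ?_
      obtain ⟨i, rfl⟩ := hz
      rw [← conj_zpow]
      exact zpow_mem hh i
    have heq : Subgroup.zpowers (⟨x, hxH⟩ : H) =
        Subgroup.normalizer ((Subgroup.zpowers (⟨x, hxH⟩ : H) : Subgroup H) : Set H) :=
      Subgroup.eq_of_le_of_card_ge Subgroup.le_normalizer (by
        rw [hN, Nat.card_zpowers, Subgroup.orderOf_mk, hxo])
    rwa [← heq] at hmem
  obtain ⟨L, hLn, hLd, hLc⟩ := normal_complement (r := 11) (g := (⟨x, hxH⟩ : H))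
    (by rw [Subgroup.orderOf_mk, hxo]) hH11 hNle
  have hLbot : L = ⊥ := by
    rw [← Subgroup.map_eq_bot_iff_of_injective _ H.subtype_injective]
    refine CycleLocal.eq_bot_of_normalized hxc (p := 11) (by norm_num) hxs _ ?_ ?_ ?_
    · haveI := hLn
      have := Subgroup.le_normalizer_map (H := L) H.subtype
      rw [Subgroup.normalizer_eq_top, ← MonoidHom.range_eq_map, Subgroup.range_subtype] at this
      exact this hxH
    · rintro _ ⟨l, -, rfl⟩
      exact ((hHmem _).mp l.2).2
    · rwa [Subgroup.card_map_of_injective H.subtype_injective]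
  rw [hLbot, Subgroup.card_bot, one_mul] at hLc
  have hHP : H = Subgroup.zpowers x := (Subgroup.eq_of_le_of_card_ge (Subgroup.zpowers_le.mpr hxH)
    (by rw [Nat.card_zpowers, hxo, ← hLc])).symm
  -- the stabilizer of one point
  set X := G ⊓ fixingSubgroup (Perm β) ({a} : Set β)
  have hXmem : ∀ h, h ∈ X ↔ h ∈ G ∧ h a = a := fun h => by
    rw [Subgroup.mem_inf, mem_fixingSubgroup_iff]; simp
  have hxX : x ∈ X := (hXmem x).mpr ⟨hx, hxfix a ((hout a).mpr (Or.inl rfl))⟩
  have hX11 : ¬ 11 ^ 2 ∣ Nat.card X := fun h =>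
    absurd (h.trans ((Subgroup.card_dvd_of_le inf_le_left).trans hd)) (by decide +kernel)
  have hXN : ∀ h : X, h * ⟨x, hxX⟩ * h⁻¹ ∈ Subgroup.zpowers (⟨x, hxX⟩ : X) →
      h ∈ Subgroup.zpowers (⟨x, hxX⟩ : X) := fun h hh => by
    obtain ⟨i, hi⟩ := hh
    have hi' : x ^ i = (h : Perm β) * x * (h : Perm β)⁻¹ := congrArg Subtype.val hi
    obtain ⟨hhG, hha⟩ := (hXmem h).mp h.2
    refine zpowers_subgroup hxX ?_
    rw [← hHP]
    refine (hHmem _).mpr ⟨hhG, fun t ht => ?_⟩
    have hbt : (h : Perm β) b = b := by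
      have hb : x b = b := hxfix b ((hout b).mpr (Or.inr rfl))
      have hfx : (x ^ i) ((h : Perm β) b) = (h : Perm β) b := by
        rw [hi', Equiv.Perm.mul_apply, Equiv.Perm.mul_apply, Equiv.Perm.inv_def,
          Equiv.symm_apply_apply, hb]
      have hne : ¬ (11 : ℤ) ∣ i := fun hdv => by
        have h1 : x ^ i = 1 := by rw [← orderOf_dvd_iff_zpow_eq_one, hxo]; exact_mod_cast hdv
        rw [h1, eq_comm, mul_inv_eq_one, mul_eq_left] at hi'
        rw [hi', orderOf_one] at hxo
        exact absurd hxo (by norm_num)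
      have hnot : (h : Perm β) b ∉ x.support := fun hs => by
        have : x ^ i = 1 := by
          obtain ⟨u, v, huv⟩ := (Nat.prime_iff_prime_int.mp (show Nat.Prime 11 by norm_num)).coprime_iff_not_dvd.mpr hne
          exfalso
          apply Equiv.Perm.mem_support.mp hs
          have h11 : x ^ (11 : ℤ) = 1 := by
            rw [← orderOf_dvd_iff_zpow_eq_one, hxo]; rfl
          have : x = (x ^ i) ^ v := by
            calc x = x ^ (u * ((11 : ℕ) : ℤ) + v * i) := by rw [huv, zpow_one]
              _ = (x ^ i) ^ v := by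
                rw [zpow_add, mul_comm u, zpow_mul, ← zpow_mul, mul_comm v]
                simp [h11, zpow_mul]
          rw [this]
          exact Equiv.Perm.zpow_apply_eq_self_of_apply_eq_self hfx v
        exact hne (by
          have := orderOf_dvd_iff_zpow_eq_one.mpr this
          rwa [hxo] at this)
      rcases (hout _).mp hnot with h1 | h1
      · exact absurd ((h : Perm β).injective (h1.trans hha.symm)) hab.symm
      · exact h1
    rcases (hout t).mp ht with rfl | rfl
    · exact hha
    · exact hbt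
  obtain ⟨M, hMn, hMd, hMc⟩ := normal_complement (r := 11) (g := (⟨x, hxX⟩ : X))
    (by rw [Subgroup.orderOf_mk, hxo]) hX11 hXN
  haveI := hMn
  have hMH : ∀ m : M, ((m : X) : Perm β) b = b → m = 1 := fun m hm => by
    obtain ⟨hmG, hma⟩ := (hXmem _).mp (m : X).2
    have hmem : ((m : X) : Perm β) ∈ Subgroup.zpowers x := hHP ▸ (hHmem _).mpr ⟨hmG, fun t ht => by
      rcases (hout t).mp ht with rfl | rfl
      · exact hma
      · exact hm⟩
    obtain ⟨i, hi⟩ := zpowers_subgroup hxX hmem
    have h1 : orderOf (m : X) ∣ 11 := by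
      rw [orderOf_dvd_iff_pow_eq_one, ← hi, ← zpow_natCast, ← zpow_mul, mul_comm, zpow_mul,
        zpow_natCast, show (⟨x, hxX⟩ : X) ^ 11 = 1 from Subtype.ext (by
          rw [SubgroupClass.coe_pow, ← hxo]; exact pow_orderOf_eq_one x), one_zpow]
    have h2 : orderOf (m : X) ∣ Nat.card M := Subgroup.orderOf_coe m ▸ orderOf_dvd_natCard m
    exact Subtype.ext (orderOf_eq_one_iff.mp (Nat.eq_one_of_dvd_coprimes
      ((show Nat.Prime 11 by norm_num).coprime_iff_not_dvd.mpr hMd) h1 h2))
  have hM12 : Nat.card M = 12 := by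
    have hbij : Function.Bijective (fun m : M => (⟨((m : X) : Perm β) b, fun e => hab
        (((m : X) : Perm β).injective (((hXmem _).mp (m : X).2).2.trans e.symm))⟩ : {t : β // t ≠ a})) := by
      constructor
      · intro m m' hmm
        have h : ((m : X) : Perm β) b = ((m' : X) : Perm β) b := congrArg Subtype.val hmm
        refine (inv_mul_eq_one.mp (hMH (m'⁻¹ * m) ?_)).symm
        show (((m' : X) : Perm β)⁻¹ * ((m : X) : Perm β)) b = b
        rw [Equiv.Perm.mul_apply, h, Equiv.Perm.inv_def, Equiv.symm_apply_apply]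
      · rintro ⟨t, ht⟩
        haveI := h3
        haveI h2 : IsMultiplyPretransitive G β 2 :=
          MulAction.isMultiplyPretransitive_of_le (n := 3) (by norm_num)
            (by rw [Nat.card_eq_fintype_card, hβ]; norm_num)
        obtain ⟨g, hga, hgb⟩ := MulAction.is_two_pretransitive_iff.mp h2 hab (Ne.symm ht)
        have hgX : (g : Perm β) ∈ X := (hXmem _).mpr ⟨g.2, hga⟩
        obtain ⟨P, hP⟩ := sylow_of_not_sq (g := (⟨x, hxX⟩ : X)) (r := 11)
          (by rw [Subgroup.orderOf_mk, hxo]) hX11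
        have hsup : M ⊔ (P : Subgroup X) = ⊤ := by
          refine Subgroup.IsComplement'.sup_eq_top (Subgroup.isComplement'_of_card_mul_and_disjoint ?_ ?_)
          · rw [hP, Nat.card_zpowers, Subgroup.orderOf_mk, hxo, hMc]
          · rw [disjoint_iff]
            refine Subgroup.card_eq_one.mp (Nat.eq_one_of_dvd_coprimes
              (((show Nat.Prime 11 by norm_num).coprime_iff_not_dvd.mpr hMd).symm)
              (Subgroup.card_dvd_of_le inf_le_left) ?_)
            refine (Subgroup.card_dvd_of_le inf_le_right).trans ?_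
            rw [hP, Nat.card_zpowers, Subgroup.orderOf_mk, hxo]
        obtain ⟨m, hm, z, hz, hmz⟩ := Subgroup.mem_sup_of_normal_left.mp
          (hsup ▸ Subgroup.mem_top (⟨g, hgX⟩ : X) : (⟨g, hgX⟩ : X) ∈ M ⊔ (P : Subgroup X))
        refine ⟨⟨m, hm⟩, Subtype.ext ?_⟩
        rw [hP] at hz
        obtain ⟨i, rfl⟩ := hz
        have e1 : (m : Perm β) * x ^ i = g := congrArg Subtype.val hmz
        show (m : Perm β) b = t
        calc (m : Perm β) b = (m : Perm β) ((x ^ i) b) := by
              rw [Equiv.Perm.zpow_apply_eq_self_of_apply_eq_self (hxfix b ((hout b).mpr (Or.inr rfl))) i]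
          _ = t := by rw [← Equiv.Perm.mul_apply, e1]; exact hgb
    rw [Nat.card_congr (Equiv.ofBijective _ hbij), Nat.card_eq_fintype_card, Fintype.card_subtype_compl,
      Fintype.card_subtype_eq, hβ]
  refine false_of_fpf_transitive (r := 11) (L := M) (g := (⟨x, hxX⟩ : X))
    (by rw [Subgroup.orderOf_mk, hxo]) (by rw [Subgroup.normalizer_eq_top]; trivial) (fun l hl hcom => ?_)
    hM12 Nat.prime_two Nat.prime_three (by norm_num) (by norm_num) (by norm_num)
  have hlx := hxC (l : Perm β) ((hXmem _).mp l.2).1 (congrArg Subtype.val hcom).symm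
  have := hMH ⟨l, hl⟩ (by
    obtain ⟨i, hi⟩ := hlx
    show (l : Perm β) b = b
    rw [← hi]
    exact Equiv.Perm.zpow_apply_eq_self_of_apply_eq_self (hxfix b ((hout b).mpr (Or.inr rfl))) i)
  exact congrArg Subtype.val this

end Cfsg.Agent.Transfer.Thirteen
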