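import Mathlib

/-! Three primes in `(n, 2 n]` for large `n` (the Erdős argument), and a well separated pair of primes
in `[m / 2, m]`. -/

set_option autoImplicit false

namespace Cfsg.Agent.Transfer.ThreePrimes

open Nat Finset

theorem succ_le_two_pow : ∀ s : ℕ, 64 ≤ s → s + 1 ≤ 2 ^ (s / 9) := by
  intro s
  induction s using Nat.strong_induction_on with
  | _ s ih =>
  intro hs
  by_cases h : s < 73
  · calc s + 1 ≤ 2 ^ 7 := by omega
      _ ≤ 2 ^ (s / 9) := Nat.pow_le_pow_right (by norm_num) (by omega)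
  · have := ih (s - 9) (by omega) (by omega)
    calc s + 1 ≤ 2 * (s - 9 + 1) := by omega
      _ ≤ 2 * 2 ^ ((s - 9) / 9) := by omega
      _ = 2 ^ ((s - 9) / 9 + 1) := (pow_succ' 2 _).symm
      _ = 2 ^ (s / 9) := congrArg (2 ^ ·) (by omega)

theorem main_inequality {n : ℕ} (hn : 2048 ≤ n) :
    n * ((2 * n) ^ 2 * ((2 * n) ^ Nat.sqrt (2 * n) * 4 ^ (2 * n / 3))) ≤ 4 ^ n := by
  set s := Nat.sqrt (2 * n)
  have hs : 64 ≤ s := Nat.le_sqrt.mpr (by omega)
  have h1 : 2 * n < (s + 1) * (s + 1) := Nat.lt_succ_sqrt _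
  have h2 : s * s ≤ 2 * n := Nat.sqrt_le _
  have h3 := succ_le_two_pow s hs
  have h4 : 2 * n ≤ 4 ^ (s / 9) :=
    calc 2 * n ≤ (s + 1) * (s + 1) := h1.le
      _ ≤ 2 ^ (s / 9) * 2 ^ (s / 9) := Nat.mul_le_mul h3 h3
      _ = 4 ^ (s / 9) := by rw [← mul_pow]; norm_num
  have h5 : (s / 9) * (s + 3) * 3 ≤ n := by
    have a : s / 9 * 9 ≤ s := Nat.div_mul_le_self s 9
    nlinarith [Nat.mul_le_mul a (le_refl (s + 3))]
  calc n * ((2 * n) ^ 2 * ((2 * n) ^ s * 4 ^ (2 * n / 3)))
      ≤ (2 * n) * ((2 * n) ^ 2 * ((2 * n) ^ s * 4 ^ (2 * n / 3))) :=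
        Nat.mul_le_mul_right _ (by omega)
    _ = (2 * n) ^ (s + 3) * 4 ^ (2 * n / 3) := by ring
    _ ≤ (4 ^ (s / 9)) ^ (s + 3) * 4 ^ (2 * n / 3) :=
        Nat.mul_le_mul_right _ (Nat.pow_le_pow_left h4 _)
    _ ≤ 4 ^ n := by
        rw [← pow_mul, ← pow_add]
        exact Nat.pow_le_pow_right (by norm_num) (by omega)

theorem two_lt_card_primes {n : ℕ} (hn : 2048 ≤ n) :
    2 < ((Finset.Ioc n (2 * n)).filter Nat.Prime).card := by
  by_contra hcard
  rw [not_lt] at hcard
  set T := (Finset.Ioc n (2 * n)).filter Nat.Prime with hT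
  set f : ℕ → ℕ := fun x => x ^ n.centralBinom.factorization x
  set S := {p ∈ Finset.range (2 * n / 3 + 1) | Nat.Prime p}
  have hf1 : ∀ x, f x ≤ 2 * n := fun x => pow_factorization_choose_le (by omega)
  have hdisj : Disjoint S T := Finset.disjoint_left.mpr fun a ha hb => by
    rw [Finset.mem_filter, Finset.mem_range] at ha
    rw [hT, Finset.mem_filter, Finset.mem_Ioc] at hb
    omega
  have hprod : ∏ x ∈ S ∪ T, f x = n.centralBinom := by
    rw [← Nat.prod_pow_factorization_centralBinom n]
    refine Finset.prod_subset ?_ fun x hx hx' => ?_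
    · intro x hx
      rw [Finset.mem_range]
      rcases Finset.mem_union.mp hx with h | h
      · rw [Finset.mem_filter, Finset.mem_range] at h; omega
      · rw [hT, Finset.mem_filter, Finset.mem_Ioc] at h; omega
    · rw [Finset.mem_range] at hx
      rw [Finset.mem_union, Finset.mem_filter, Finset.mem_range, hT, Finset.mem_filter,
        Finset.mem_Ioc, not_or] at hx'
      by_cases hp : x.Prime
      · have a : ¬ x < 2 * n / 3 + 1 := fun h => hx'.1 ⟨h, hp⟩
        have b : x ≤ n := by
          by_contra h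
          exact hx'.2 ⟨⟨by omega, by omega⟩, hp⟩
        simp only [f]
        rw [Nat.factorization_centralBinom_of_two_mul_self_lt_three_mul (by omega) b (by omega),
          pow_zero]
      · simp only [f]
        rw [Nat.factorization_eq_zero_of_not_prime _ hp, pow_zero]
  have hbound : n.centralBinom ≤ (2 * n) ^ 2 * ((2 * n) ^ Nat.sqrt (2 * n) * 4 ^ (2 * n / 3)) := by
    rw [← hprod, Finset.prod_union hdisj, mul_comm]
    refine Nat.mul_le_mul ?_ ?_
    · refine (Finset.prod_le_prod' fun x _ => hf1 x).trans ?_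
      rw [Finset.prod_const]
      exact Nat.pow_le_pow_right (by omega) hcard
    · rw [← Finset.prod_filter_mul_prod_filter_not S (· ≤ Nat.sqrt (2 * n))]
      refine Nat.mul_le_mul ?_ ?_
      · refine (Finset.prod_le_prod' fun x _ => hf1 x).trans ?_
        rw [Finset.prod_const]
        refine Nat.pow_le_pow_right (by omega) ?_
        refine (Finset.card_le_card (t := Finset.Icc 1 (Nat.sqrt (2 * n))) fun x hx => ?_).trans
          (by rw [Nat.card_Icc]; omega)
        obtain ⟨h1, h2⟩ := Finset.mem_filter.1 hx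
        exact Finset.mem_Icc.mpr ⟨(Finset.mem_filter.1 h1).2.one_lt.le, h2⟩
      · refine le_trans ?_ (primorial_le_four_pow (2 * n / 3))
        refine (Finset.prod_le_prod' fun p hp => (?_ : f p ≤ p)).trans ?_
        · obtain ⟨h1, h2⟩ := Finset.mem_filter.1 hp
          refine (pow_right_mono₀ (Finset.mem_filter.1 h1).2.one_lt.le ?_).trans (pow_one p).le
          exact Nat.factorization_choose_le_one (Nat.sqrt_lt'.mp <| not_le.1 h2)
        · refine Finset.prod_le_prod_of_subset_of_one_le' (Finset.filter_subset _ _) ?_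
          exact fun p hp _ => (Finset.mem_filter.1 hp).2.one_lt.le
  have := Nat.four_pow_lt_mul_centralBinom n (by omega)
  exact absurd ((Nat.mul_le_mul_left n hbound).trans (main_inequality hn)) (not_le.mpr this)

/-- Pair of primes far apart in the upper half of `[1, m]`. -/
def Pair (m p q : ℕ) : Prop :=
  p.Prime ∧ q.Prime ∧ m ≤ 2 * p ∧ p + 3 ≤ q ∧ q ≤ m ∧ (m < 2 * p ∨ q + 3 ≤ m)

theorem exists_pair_large {m : ℕ} (hm : 4096 ≤ m) : ∃ p q, Pair m p q := by
  set n := (m + 1) / 2 with hn
  set T := (Finset.Ioc n (2 * n)).filter Nat.Prime with hT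
  have h3 : 2 < T.card := two_lt_card_primes (by omega)
  obtain ⟨a, b, c, ha, hb, hc, hab, hac, hbc⟩ := Finset.two_lt_card_iff.mp h3
  have hne : T.Nonempty := ⟨a, ha⟩
  have hmem : ∀ x ∈ T, x.Prime ∧ n < x ∧ x ≤ m ∧ x % 2 = 1 := by
    intro x hx
    rw [hT, Finset.mem_filter, Finset.mem_Ioc] at hx
    have ho : x % 2 = 1 := hx.2.eq_two_or_odd.resolve_left (by omega)
    refine ⟨hx.2, hx.1.1, ?_, ho⟩
    omega
  obtain ⟨hp, hp1, hp2, hp3⟩ := hmem _ (T.min'_mem hne)
  obtain ⟨hq, hq1, hq2, hq3⟩ := hmem _ (T.max'_mem hne)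
  have := hmem a ha
  have := hmem b hb
  have := hmem c hc
  have := T.min'_le a ha
  have := T.min'_le b hb
  have := T.min'_le c hc
  have := T.le_max' a ha
  have := T.le_max' b hb
  have := T.le_max' c hc
  exact ⟨T.min' hne, T.max' hne, hp, hq, by omega, by omega, hq2, Or.inl (by omega)⟩

theorem step {m p q : ℕ} (hp : p.Prime) (hq : q.Prime) (hgap : p + 3 ≤ q) (hq2 : q + 3 ≤ 2 * p)
    (H : m < q → ∃ a b, Pair m a b) (hm : m ≤ 2 * p) : ∃ a b, Pair m a b := by
  by_cases h : m < q
  · exact H h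
  · exact ⟨p, q, hp, hq, hm, hgap, by omega, by omega⟩

theorem exists_pair {m : ℕ} (hm : 11 ≤ m) (h15 : m ≠ 15) (h16 : m ≠ 16) : ∃ p q, Pair m p q := by
  by_cases h : 4096 ≤ m
  · exact exists_pair_large h
  refine step (p := 2963) (q := 2969) (by norm_num) (by norm_num) (by norm_num) (by norm_num) (fun h => ?_) (by omega)
  refine step (p := 1493) (q := 1499) (by norm_num) (by norm_num) (by norm_num) (by norm_num) (fun h => ?_) (by omega)
  refine step (p := 751) (q := 757) (by norm_num) (by norm_num) (by norm_num) (by norm_num) (fun h => ?_) (by omega)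
  refine step (p := 379) (q := 383) (by norm_num) (by norm_num) (by norm_num) (by norm_num) (fun h => ?_) (by omega)
  refine step (p := 193) (q := 197) (by norm_num) (by norm_num) (by norm_num) (by norm_num) (fun h => ?_) (by omega)
  refine step (p := 103) (q := 107) (by norm_num) (by norm_num) (by norm_num) (by norm_num) (fun h => ?_) (by omega)
  refine step (p := 53) (q := 59) (by norm_num) (by norm_num) (by norm_num) (by norm_num) (fun h => ?_) (by omega)
  refine step (p := 31) (q := 37) (by norm_num) (by norm_num) (by norm_num) (by norm_num) (fun h => ?_) (by omega)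
  refine step (p := 19) (q := 23) (by norm_num) (by norm_num) (by norm_num) (by norm_num) (fun h => ?_) (by omega)
  refine step (p := 13) (q := 17) (by norm_num) (by norm_num) (by norm_num) (by norm_num) (fun h => ?_) (by omega)
  exact ⟨7, 11, by norm_num, by norm_num, by omega, by omega, by omega, by omega⟩

end Cfsg.Agent.Transfer.ThreePrimes
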