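import Mathlib

/-!
A 2-central element conjugate to its inverse squares to one.
-/
set_option autoImplicit false
set_option linter.style.haveILetI false

namespace Cfsg.Agent.Transfer

variable {G : Type*} [Group G]

/-- The extended centralizer `{g | g x g⁻¹ ∈ {x, x⁻¹}}`. -/
def extCentralizer (x : G) : Subgroup G where
  carrier := {g | g * x * g⁻¹ = x ∨ g * x * g⁻¹ = x⁻¹}
  one_mem' := by simp
  mul_mem' := by
    intro a b ha hb
    have e : a * b * x * (a * b)⁻¹ = a * (b * x * b⁻¹) * a⁻¹ := by group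
    have e' : a * x⁻¹ * a⁻¹ = (a * x * a⁻¹)⁻¹ := by group
    rcases hb with hb | hb <;> rcases ha with ha | ha <;>
      simp only [Set.mem_setOf_eq, e, hb, e', ha, inv_inv] <;> simp
  inv_mem' := by
    intro a ha
    rcases ha with ha | ha
    · left
      conv_lhs => rw [← ha]
      group
    · right
      conv_lhs => rw [← inv_inv x, ← ha]
      group

theorem sq_eq_one_of_real_two_central [Finite G] {x : G} (P : Sylow 2 G)
    (hP : (P : Subgroup G) ≤ Subgroup.centralizer ({x} : Set G)) (h : IsConj x x⁻¹) :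
    x ^ 2 = 1 := by
  by_contra hx2
  have hne : x ≠ x⁻¹ := fun e => hx2 (by rw [pow_two]; nth_rewrite 2 [e]; simp)
  obtain ⟨g, hg⟩ := isConj_iff.1 h
  set C := Subgroup.centralizer ({x} : Set G)
  have hC : ∀ b : G, b ∈ C ↔ b * x * b⁻¹ = x := fun b => by
    rw [Subgroup.mem_centralizer_singleton_iff, mul_inv_eq_iff_eq_mul]
  have hCE : C ≤ extCentralizer x := fun b hb => Or.inl ((hC b).1 hb)
  have hrel : C.relIndex (extCentralizer x) = 2 := by
    rw [Subgroup.relIndex, Subgroup.index_eq_two_iff]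
    refine ⟨⟨g, Or.inr hg⟩, fun ⟨b, hb⟩ => ?_⟩
    have e : b * g * x * (b * g)⁻¹ = (b * x * b⁻¹)⁻¹ := by
      calc b * g * x * (b * g)⁻¹ = b * (g * x * g⁻¹) * b⁻¹ := by group
        _ = _ := by rw [hg]; group
    simp only [Subgroup.mem_subgroupOf, Subgroup.coe_mul, hC, e]
    rcases hb with hb | hb
    · simp [hb, Ne.symm hne, xor_def]
    · simp [hb, Ne.symm hne, xor_def]
  apply P.not_dvd_index
  exact (hrel ▸ Subgroup.relIndex_dvd_index_of_le hCE).trans (Subgroup.index_dvd_of_le hP)

end Cfsg.Agent.Transfer
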