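import Mathlib

/-!
The order of a group with exactly two classes of involutions, from the pairs in the centralisers of the two
representatives.
-/

set_option autoImplicit false
set_option linter.style.haveILetI false

namespace Cfsg.Agent.Transfer.TwoClass

variable {G : Type*} [Group G]

/-- Two involutions whose product has a power equal to the given element. -/
def pairsAt (t u c : G) : Set (G × G) :=
  {p | IsConj t p.1 ∧ IsConj u p.2 ∧ c ∈ Subgroup.zpowers (p.1 * p.2)}

theorem conj_invol {t : G} (ht : orderOf t = 2) {x : G} (h : IsConj t x) : orderOf x = 2 := by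
  obtain ⟨g, rfl⟩ := isConj_iff.1 h
  rw [show g * t * g⁻¹ = MulAut.conj g t from rfl, MulEquiv.orderOf_eq, ht]

theorem sq_eq_one {x : G} (h : orderOf x = 2) : x * x = 1 := by rw [← pow_two, ← h, pow_orderOf_eq_one]

/-- A power of a product of two involutions that is an involution commutes with both. -/
theorem comm_of_mem_zpowers {a b c : G} (ha : a * a = 1) (hb : b * b = 1) (hc : c * c = 1)
    (h : c ∈ Subgroup.zpowers (a * b)) : a * c = c * a ∧ b * c = c * b := by
  obtain ⟨i, rfl⟩ := Subgroup.mem_zpowers_iff.1 h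
  have hai : a⁻¹ = a := inv_eq_of_mul_eq_one_right ha
  have hbi : b⁻¹ = b := inv_eq_of_mul_eq_one_right hb
  have e1 : a * (a * b) * a⁻¹ = (a * b)⁻¹ := by
    rw [mul_inv_rev, hai, hbi, ← mul_assoc a a b, ha, one_mul]
  have e2 : b * (a * b) * b⁻¹ = (a * b)⁻¹ := by
    rw [mul_inv_rev, hai, hbi, mul_assoc b (a * b), mul_assoc a b b, hb, mul_one]
  have hinv : ((a * b) ^ i)⁻¹ = (a * b) ^ i := inv_eq_of_mul_eq_one_right hc
  constructor
  · rw [← mul_inv_eq_iff_eq_mul, ← conj_zpow, e1, inv_zpow, hinv]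
  · rw [← mul_inv_eq_iff_eq_mul, ← conj_zpow, e2, inv_zpow, hinv]

variable [Finite G]

/-- Two involutions that are not conjugate have a unique involution among the powers of their product. -/
theorem exists_unique_invol {a b : G} (ha : orderOf a = 2) (hb : orderOf b = 2) (h : ¬ IsConj a b) :
    ∃! c : G, orderOf c = 2 ∧ c ∈ Subgroup.zpowers (a * b) := by
  have ha2 := sq_eq_one ha
  have hb2 := sq_eq_one hb
  set x := a * b with hx
  set n := orderOf x with hn
  have hn0 : 0 < n := orderOf_pos x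
  have hev : 2 ∣ n := by
    by_contra hodd
    obtain ⟨m, hm⟩ : ∃ m, n = 2 * m + 1 := ⟨n / 2, by omega⟩
    refine h (isConj_iff.2 ⟨x ^ m, ?_⟩)
    have hai : a⁻¹ = a := inv_eq_of_mul_eq_one_right ha2
    have hbi : b⁻¹ = b := inv_eq_of_mul_eq_one_right hb2
    have hax : a * x * a⁻¹ = x⁻¹ := by
      rw [hx, mul_inv_rev, hai, hbi, ← mul_assoc a a b, ha2, one_mul]
    have e : a * (x ^ m)⁻¹ * a⁻¹ = x ^ m := by rw [← inv_pow, ← conj_pow, show a * x⁻¹ * a⁻¹ = x by
      rw [show a * x⁻¹ * a⁻¹ = (a * x * a⁻¹)⁻¹ by group, hax, inv_inv]]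
    have e' : a * (x ^ m)⁻¹ = x ^ m * a := mul_inv_eq_iff_eq_mul.1 e
    calc x ^ m * a * (x ^ m)⁻¹ = x ^ m * (a * (x ^ m)⁻¹) := by group
      _ = x ^ (2 * m) * a := by rw [e', ← mul_assoc, ← pow_add, two_mul]
      _ = x⁻¹ * a := by
        congr 1
        refine eq_inv_of_mul_eq_one_left ?_
        rw [← pow_succ, ← hm, hn, pow_orderOf_eq_one]
      _ = b := by rw [hx, mul_inv_rev, hai, hbi, mul_assoc, ha2, mul_one]
  have hx1 : x ^ (n / 2) * x ^ (n / 2) = 1 := by
    rw [← pow_add, show n / 2 + n / 2 = n by omega, hn, pow_orderOf_eq_one]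
  have hxne : x ^ (n / 2) ≠ 1 := fun e => by
    have := Nat.le_of_dvd (by omega) (orderOf_dvd_of_pow_eq_one e)
    omega
  refine ⟨x ^ (n / 2), ⟨orderOf_eq_prime (by rw [pow_two]; exact hx1) hxne, pow_mem (Subgroup.mem_zpowers x) _⟩, ?_⟩
  rintro d ⟨hd, hmem⟩
  obtain ⟨i, hi⟩ := (isOfFinOrder_of_finite x).mem_powers_iff_mem_zpowers.2 hmem
  have hi' : x ^ (i % n) = d := by rw [hn, pow_mod_orderOf]; exact hi
  have hlt : i % n < n := Nat.mod_lt _ hn0
  have h2 : n ∣ i % n + i % n := orderOf_dvd_of_pow_eq_one (by rw [pow_add, hi']; exact sq_eq_one hd)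
  have hne : i % n ≠ 0 := fun e => by
    rw [e, pow_zero] at hi'
    rw [← hi', orderOf_one] at hd
    omega
  obtain ⟨k, hk⟩ := h2
  have hk1 : k = 1 := by
    rcases k with _ | _ | k
    · omega
    · rfl
    · exfalso
      rw [mul_add, mul_add] at hk
      omega
  rw [← hi']
  congr 1
  rw [hk1] at hk
  omega

/-- The number of conjugates. -/
theorem card_conj_mul (g : G) :
    Nat.card {x : G // IsConj g x} * Nat.card ↥(Subgroup.centralizer ({g} : Set G)) = Nat.card G := by
  have h := MulAction.index_stabilizer (ConjAct G) g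
  have hset : MulAction.orbit (ConjAct G) g = {x : G | IsConj g x} := by
    ext x
    simp only [ConjAct.mem_orbit_conjAct, Set.mem_setOf_eq]
    exact isConj_comm
  rw [hset, ConjAct.stabilizer_eq_centralizer] at h
  rw [← Nat.card_coe_set_eq] at h
  rw [show Nat.card {x : G // IsConj g x} = Nat.card ↥{x : G | IsConj g x} from rfl, ← h,
    show Nat.card G = Nat.card (ConjAct G) from rfl, mul_comm]
  exact Subgroup.card_mul_index _

theorem card_pairsAt_conj (t u c g : G) : Nat.card (pairsAt t u (g * c * g⁻¹)) = Nat.card (pairsAt t u c) := by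
  refine Nat.card_congr
    { toFun := fun p => ⟨(g⁻¹ * p.1.1 * g, g⁻¹ * p.1.2 * g), ?_⟩
      invFun := fun p => ⟨(g * p.1.1 * g⁻¹, g * p.1.2 * g⁻¹), ?_⟩
      left_inv := fun p => Subtype.ext (by ext <;> simp [mul_assoc])
      right_inv := fun p => Subtype.ext (by ext <;> simp [mul_assoc]) }
  · obtain ⟨h1, h2, h3⟩ := p.2
    refine ⟨h1.trans (isConj_iff.2 ⟨g⁻¹, by group⟩), h2.trans (isConj_iff.2 ⟨g⁻¹, by group⟩), ?_⟩
    obtain ⟨i, hi⟩ := Subgroup.mem_zpowers_iff.1 h3
    refine Subgroup.mem_zpowers_iff.2 ⟨i, ?_⟩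
    show (g⁻¹ * p.1.1 * g * (g⁻¹ * p.1.2 * g)) ^ i = c
    rw [show g⁻¹ * p.1.1 * g * (g⁻¹ * p.1.2 * g) = g⁻¹ * (p.1.1 * p.1.2) * g⁻¹⁻¹ by group, conj_zpow, hi]
    group
  · obtain ⟨h1, h2, h3⟩ := p.2
    refine ⟨h1.trans (isConj_iff.2 ⟨g, rfl⟩), h2.trans (isConj_iff.2 ⟨g, rfl⟩), ?_⟩
    obtain ⟨i, hi⟩ := Subgroup.mem_zpowers_iff.1 h3
    refine Subgroup.mem_zpowers_iff.2 ⟨i, ?_⟩
    show (g * p.1.1 * g⁻¹ * (g * p.1.2 * g⁻¹)) ^ i = g * c * g⁻¹
    rw [show g * p.1.1 * g⁻¹ * (g * p.1.2 * g⁻¹) = g * (p.1.1 * p.1.2) * g⁻¹ by group, conj_zpow, hi]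

/-- The order formula. -/
theorem card_eq {t u : G} (ht : orderOf t = 2) (hu : orderOf u = 2)
    (hall : ∀ x : G, orderOf x = 2 → IsConj t x ∨ IsConj u x) (hne : ¬ IsConj t u) :
    Nat.card G = Nat.card ↥(Subgroup.centralizer ({u} : Set G)) * Nat.card (pairsAt t u t) +
      Nat.card ↥(Subgroup.centralizer ({t} : Set G)) * Nat.card (pairsAt t u u) := by
  classical
  haveI := Fintype.ofFinite G
  have huniq : ∀ p : {x : G // IsConj t x} × {x : G // IsConj u x}, ∃! c : G, orderOf c = 2 ∧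
      c ∈ Subgroup.zpowers ((p.1 : G) * p.2) := fun p => exists_unique_invol (conj_invol ht p.1.2)
    (conj_invol hu p.2.2) fun e => hne ((p.1.2.trans e).trans p.2.2.symm)
  let e : ({x : G // IsConj t x} × {x : G // IsConj u x}) ≃
      Σ c : {x : G // orderOf x = 2}, pairsAt t u (c : G) :=
    { toFun := fun p => ⟨⟨(huniq p).choose, (huniq p).choose_spec.1.1⟩,
        ⟨((p.1 : G), (p.2 : G)), p.1.2, p.2.2, (huniq p).choose_spec.1.2⟩⟩
      invFun := fun s => (⟨s.2.1.1, s.2.2.1⟩, ⟨s.2.1.2, s.2.2.2.1⟩)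
      left_inv := fun p => rfl
      right_inv := fun s => by
        obtain ⟨⟨c, hc⟩, ⟨⟨a, b⟩, hab⟩⟩ := s
        have h := ((huniq (⟨a, hab.1⟩, ⟨b, hab.2.1⟩)).choose_spec.2 c ⟨hc, hab.2.2⟩).symm
        refine Sigma.subtype_ext (Subtype.ext h) rfl }
  have h := Nat.card_congr e
  rw [Nat.card_prod, Nat.card_sigma] at h
  have hsplit : (∑ c : {x : G // orderOf x = 2}, Nat.card (pairsAt t u (c : G))) =
      Nat.card {x : G // IsConj t x} * Nat.card (pairsAt t u t) +
        Nat.card {x : G // IsConj u x} * Nat.card (pairsAt t u u) := by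
    rw [← Finset.sum_subtype (Finset.univ.filter fun x : G => orderOf x = 2) (by simp)
      (fun c => Nat.card (pairsAt t u c))]
    have hcl : ∀ g : G, Nat.card {x : G // IsConj g x} = (Finset.univ.filter fun x : G => IsConj g x).card := fun g => by
      rw [Nat.card_eq_fintype_card, Fintype.card_subtype]
    rw [hcl t, hcl u]
    have hun : (Finset.univ.filter fun x : G => orderOf x = 2) =
        (Finset.univ.filter fun x : G => IsConj t x) ∪ (Finset.univ.filter fun x : G => IsConj u x) := by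
      ext x
      simp only [Finset.mem_union, Finset.mem_filter, Finset.mem_univ, true_and]
      exact ⟨hall x, fun h => h.elim (conj_invol ht) (conj_invol hu)⟩
    rw [hun, Finset.sum_union (by
      rw [Finset.disjoint_filter]
      exact fun x _ h1 h2 => hne (h1.trans h2.symm))]
    congr 1
    · rw [Finset.sum_congr rfl (g := fun _ => Nat.card (pairsAt t u t)) fun x hx => by
        obtain ⟨g, rfl⟩ := isConj_iff.1 (Finset.mem_filter.1 hx).2
        exact card_pairsAt_conj t u t g, Finset.sum_const, smul_eq_mul]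
    · rw [Finset.sum_congr rfl (g := fun _ => Nat.card (pairsAt t u u)) fun x hx => by
        obtain ⟨g, rfl⟩ := isConj_iff.1 (Finset.mem_filter.1 hx).2
        exact card_pairsAt_conj t u u g, Finset.sum_const, smul_eq_mul]
  rw [hsplit] at h
  have kt := card_conj_mul t
  have ku := card_conj_mul u
  have hpos : 0 < Nat.card G := Nat.card_pos
  refine Nat.eq_of_mul_eq_mul_left hpos ?_
  generalize Nat.card {x : G // IsConj t x} = T at h kt
  generalize Nat.card {x : G // IsConj u x} = U at h ku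
  generalize Nat.card (pairsAt t u t) = a at h ⊢
  generalize Nat.card (pairsAt t u u) = b at h ⊢
  generalize Nat.card ↥(Subgroup.centralizer ({t} : Set G)) = ct at kt ⊢
  generalize Nat.card ↥(Subgroup.centralizer ({u} : Set G)) = cu at ku ⊢
  have e1 : Nat.card G * Nat.card G = (T * U) * (ct * cu) := by
    calc Nat.card G * Nat.card G = (T * ct) * (U * cu) := by rw [kt, ku]
      _ = _ := by ring
  rw [e1, h, show (T * a + U * b) * (ct * cu) = T * ct * (cu * a) + U * cu * (ct * b) by ring, kt, ku]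
  ring

end Cfsg.Agent.Transfer.TwoClass
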