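import Mathlib

/-!
Automorphisms of odd order of doubly transitive groups: a coprime orbit of the image of a point
stabiliser forces the automorphism to come from a permutation.
-/

set_option autoImplicit false
set_option maxHeartbeats 1000000

namespace Cfsg.Agent.Transfer.TwoTransAut

open Matrix

variable {Ω : Type*} [Fintype Ω] [DecidableEq Ω] (G : Subgroup (Equiv.Perm Ω))

/-- A matrix invariant for the natural action twisted by `β`. -/
def Inv (β : G → G) (M : Matrix Ω Ω ℤ) : Prop :=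
  ∀ (g : G) (x y : Ω), M ((g : Equiv.Perm Ω) x) ((β g : Equiv.Perm Ω) y) = M x y

theorem inv_mul {β γ : G → G} {M N : Matrix Ω Ω ℤ} (hM : Inv G β M) (hN : Inv G γ N) :
    Inv G (γ ∘ β) (M * N) := by
  intro g x z
  simp only [Matrix.mul_apply, Function.comp_apply]
  rw [← Equiv.sum_comp ((β g : G) : Equiv.Perm Ω)]
  refine Finset.sum_congr rfl fun y _ => ?_
  rw [hM g x y, hN (β g) y z]

theorem inv_pow (β : MulAut G) {M : Matrix Ω Ω ℤ} (hM : Inv G β M) (i : ℕ) : Inv G ((β ^ i : MulAut G) : G → G) (M ^ i) := by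
  induction i with
  | zero =>
    intro g x y
    simp [Matrix.one_apply]
  | succ i ih =>
    rw [pow_succ β i, pow_succ' M i]
    intro g x y
    exact inv_mul G hM ih g x y

theorem exists_smul_eq (h2 : MulAction.IsMultiplyPretransitive G Ω 2) {a b c d : Ω} (hab : a ≠ b) (hcd : c ≠ d) :
    ∃ g : G, (g : Equiv.Perm Ω) a = c ∧ (g : Equiv.Perm Ω) b = d := by
  obtain ⟨g, h1, h2⟩ := MulAction.is_two_pretransitive_iff.1 h2 hab hcd
  exact ⟨g, h1, h2⟩

theorem exists_smul (h2 : MulAction.IsMultiplyPretransitive G Ω 2) (a c : Ω) : ∃ g : G, (g : Equiv.Perm Ω) a = c := by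
  by_cases h : ∀ z : Ω, z = a
  · exact ⟨1, by rw [h c]; rfl⟩
  push Not at h
  obtain ⟨b, hb⟩ := h
  by_cases hc : c = b
  · obtain ⟨g, hg, -⟩ := exists_smul_eq G h2 (Ne.symm hb) (show c ≠ a from hc ▸ hb)
    exact ⟨g, hg⟩
  · obtain ⟨g, hg, -⟩ := exists_smul_eq G h2 (Ne.symm hb) hc
    exact ⟨g, hg⟩

theorem span_apply (a b : ℤ) (x y : Ω) :
    (a • (1 : Matrix Ω Ω ℤ) + b • (Matrix.of (fun _ _ => 1) : Matrix Ω Ω ℤ) : Matrix Ω Ω ℤ) x y = (if x = y then a else 0) + b := by
  rw [Matrix.add_apply, Matrix.smul_apply, Matrix.smul_apply, Matrix.one_apply, Matrix.of_apply, smul_eq_mul, smul_eq_mul, mul_one]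
  split_ifs <;> simp

/-- Matrices invariant under the diagonal action lie in the span of `1` and the all-one matrix. -/
theorem exists_eq_span (h2 : MulAction.IsMultiplyPretransitive G Ω 2) {M : Matrix Ω Ω ℤ} (hM : Inv G id M) :
    ∃ a b : ℤ, M = a • (1 : Matrix Ω Ω ℤ) + b • Matrix.of (fun _ _ => 1) := by
  by_cases hne : ∃ x y : Ω, x ≠ y
  · obtain ⟨x₀, y₀, h0⟩ := hne
    refine ⟨M x₀ x₀ - M x₀ y₀, M x₀ y₀, ?_⟩
    ext x y
    by_cases hxy : x = y
    · subst hxy
      obtain ⟨g, hg⟩ := exists_smul G h2 x₀ x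
      have := hM g x₀ x₀
      simp only [id, hg] at this
      rw [span_apply, if_pos rfl, this]; ring
    · obtain ⟨g, hg1, hg2⟩ := exists_smul_eq G h2 h0 hxy
      have := hM g x₀ y₀
      simp only [id, hg1, hg2] at this
      rw [span_apply, if_neg hxy, this, zero_add]
  · push Not at hne
    rcases isEmpty_or_nonempty Ω with he | ⟨⟨x₀⟩⟩
    · exact ⟨0, 0, Matrix.ext fun x => isEmptyElim x⟩
    · refine ⟨0, M x₀ x₀, Matrix.ext fun x y => ?_⟩
      rw [span_apply, hne x x₀, hne y x₀, if_pos rfl, zero_add]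

theorem span_mul_span (n : ℤ) (hn : n = Fintype.card Ω) (a b : ℤ) :
    (a • (1 : Matrix Ω Ω ℤ) + b • Matrix.of (fun _ _ => 1)) * (a • (1 : Matrix Ω Ω ℤ) + b • Matrix.of (fun _ _ => 1)) =
      (a * a) • (1 : Matrix Ω Ω ℤ) + (2 * a * b + b * b * n) • Matrix.of (fun _ _ => 1) := by
  have hJJ : (Matrix.of (fun _ _ => 1) : Matrix Ω Ω ℤ) * Matrix.of (fun _ _ => 1) = n • Matrix.of (fun _ _ => 1) := by
    ext x y; simp [Matrix.mul_apply, hn]
  simp only [add_mul, mul_add, smul_mul_smul_comm, one_mul, mul_one, hJJ, smul_smul, add_smul]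
  module

/-- The numerical core. -/
theorem arith {n : ℕ} (hn : 2 ≤ n) {k q a b : ℤ} {j : ℕ} (hk0 : 0 ≤ k) (hkn : k ≤ n) (hco : IsCoprime k (n : ℤ))
    (hq0 : 0 ≤ q) (hqk : q ≤ k) (hqn : q ≤ n - k) (hkq : (n : ℤ) ∣ k ^ 2 - q)
    (ha : a ^ 2 = q ^ (2 * j + 1)) (hsum : k ^ (2 * j + 1) = a + b * n) : k = 1 ∨ k = (n : ℤ) - 1 := by
  obtain ⟨s, hs0, hs⟩ : ∃ s : ℤ, 0 ≤ s ∧ s ^ 2 = q := by
    rcases eq_or_ne q 0 with hq | hq
    · exact ⟨0, le_rfl, by rw [hq]; rfl⟩
    have h1 : IsSquare (q : ℚ) := ⟨(a : ℚ) / (q : ℚ) ^ j, by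
      field_simp
      have : ((a : ℚ)) ^ 2 = (q : ℚ) ^ (2 * j + 1) := by exact_mod_cast ha
      rw [this]; ring⟩
    rw [Rat.isSquare_intCast_iff] at h1
    obtain ⟨r, hr⟩ := h1
    exact ⟨|r|, abs_nonneg r, by rw [sq_abs, hr, sq]⟩
  have hk2 : ((k : ℤ) : ZMod n) ^ 2 = (s : ZMod n) ^ 2 := by
    rw [← sub_eq_zero, ← Int.cast_pow, ← Int.cast_pow, ← Int.cast_sub, ZMod.intCast_zmod_eq_zero_iff_dvd, hs]
    exact hkq
  have hku : IsUnit (k : ZMod n) := by
    obtain ⟨u, v, huv⟩ := hco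
    refine IsUnit.of_mul_eq_one (u : ZMod n) ?_
    have := congrArg (fun z : ℤ => (z : ZMod n)) huv
    push_cast at this
    rwa [ZMod.natCast_self, mul_zero, add_zero, mul_comm] at this
  have hsu : IsUnit (s : ZMod n) := (isUnit_pow_iff two_ne_zero).1 (hk2 ▸ hku.pow 2)
  have haz : (k : ZMod n) ^ (2 * j + 1) = (a : ZMod n) := by
    have := congrArg (fun z : ℤ => (z : ZMod n)) hsum
    push_cast at this
    rwa [ZMod.natCast_self, mul_zero, add_zero] at this
  have hpm : a = s ^ (2 * j + 1) ∨ a = -(s ^ (2 * j + 1)) := sq_eq_sq_iff_eq_or_eq_neg.1 (by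
    rw [ha, ← hs, ← pow_mul, ← pow_mul, mul_comm])
  rw [pow_succ, pow_mul, hk2, ← pow_mul] at haz
  have hk : (n : ℤ) ∣ k - s ∨ (n : ℤ) ∣ k + s := by
    rcases hpm with rfl | rfl
    · left
      rw [← ZMod.intCast_zmod_eq_zero_iff_dvd, Int.cast_sub, sub_eq_zero]
      push_cast at haz
      exact (hsu.pow (2 * j)).mul_left_cancel (haz.trans (pow_succ _ _))
    · right
      rw [← ZMod.intCast_zmod_eq_zero_iff_dvd, Int.cast_add, add_eq_zero_iff_eq_neg]
      push_cast at haz
      refine (hsu.pow (2 * j)).mul_left_cancel (haz.trans ?_)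
      rw [pow_succ, mul_neg]
  have hkpos : 1 ≤ k := by
    rcases hk0.eq_or_lt with h | h
    · exfalso
      subst h
      have h1 : IsUnit (n : ℤ) := isCoprime_zero_left.1 hco
      rw [Int.isUnit_iff] at h1
      omega
    · omega
  have hkn' : k ≤ (n : ℤ) - 1 := by
    rcases hkn.eq_or_lt with h | h
    · exfalso
      subst h
      have h1 : IsUnit (n : ℤ) := isCoprime_self.1 hco
      rw [Int.isUnit_iff] at h1
      omega
    · omega
  have hs1 : s ≤ q := by nlinarith
  rcases hk with hk | hk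
  · rcases eq_or_ne (k - s) 0 with h | h
    · left
      have : s * s ≤ s := by nlinarith
      nlinarith
    · exfalso
      have := Int.le_of_dvd (by omega) hk
      omega
  · right
    have h1 := Int.le_of_dvd (by omega) hk
    have h2 : s = (n : ℤ) - k := by omega
    nlinarith

theorem main (h2 : MulAction.IsMultiplyPretransitive G Ω 2) (o : Ω) (α : MulAut G) (hα : Odd (orderOf α)) (ω : Ω)
    (hk : (Nat.card (MulAction.orbit ((MulAction.stabilizer G o).map α.toMonoidHom) ω)).Coprime (Fintype.card Ω)) :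
    (∃ σ : Equiv.Perm Ω, σ ∈ Subgroup.normalizer (G : Set (Equiv.Perm Ω)) ∧ ∀ g : G, ((α g : G) : Equiv.Perm Ω) = σ * (g : Equiv.Perm Ω) * σ⁻¹) ∧
      (Nat.card (MulAction.orbit ((MulAction.stabilizer G o).map α.toMonoidHom) ω) = 1 ∨
        Nat.card (MulAction.orbit ((MulAction.stabilizer G o).map α.toMonoidHom) ω) = Fintype.card Ω - 1) := by
  classical
  set H := (MulAction.stabilizer G o).map α.toMonoidHom with hH
  set O := MulAction.orbit H ω
  set k := Nat.card O with hk'
  set β : MulAut G := α⁻¹ with hβ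
  have hαβ : ∀ g, α (β g) = g := fun g => by rw [hβ]; exact α.apply_symm_apply g
  have hβα : ∀ g, β (α g) = g := fun g => by rw [hβ]; exact α.symm_apply_apply g
  let P : Ω → Ω → Prop := fun x y => ∃ g : G, (g : Equiv.Perm Ω) ω = x ∧ (β g : Equiv.Perm Ω) o = y
  let M : Matrix Ω Ω ℤ := Matrix.of fun x y => if P x y then 1 else 0
  have hM : Inv G β M := by
    intro g x y
    have : P ((g : Equiv.Perm Ω) x) ((β g : Equiv.Perm Ω) y) ↔ P x y := by
      constructor
      · rintro ⟨h, h1, h2⟩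
        refine ⟨g⁻¹ * h, ?_, ?_⟩
        · simp [Equiv.Perm.mul_apply, h1]
        · rw [map_mul, map_inv]; simp [Equiv.Perm.mul_apply, h2]
      · rintro ⟨h, h1, h2⟩
        refine ⟨g * h, ?_, ?_⟩
        · simp [Equiv.Perm.mul_apply, h1]
        · rw [map_mul]; simp [Equiv.Perm.mul_apply, h2]
    simp only [M, Matrix.of_apply, this]
  have hcol0 : ∀ x, P x o ↔ x ∈ O := by
    intro x
    constructor
    · rintro ⟨g, rfl, h⟩
      exact ⟨⟨g, ⟨β g, h, hαβ g⟩⟩, rfl⟩
    · rintro ⟨⟨g, u, hu, rfl⟩, rfl⟩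
      exact ⟨α u, rfl, by rw [hβα]; exact hu⟩
  have hcol : ∀ y, ∑ x, M x y = (k : ℤ) := by
    intro y
    obtain ⟨g, rfl⟩ := exists_smul G h2 o y
    obtain ⟨g', rfl⟩ : ∃ g' : G, β g' = g := ⟨α g, hβα g⟩
    rw [← Equiv.sum_comp (g' : Equiv.Perm Ω), Finset.sum_congr rfl fun x _ => hM g' x o]
    simp only [M, Matrix.of_apply, hcol0, Finset.sum_boole, hk', Nat.card_eq_fintype_card, Fintype.card_subtype]
  have hrow : ∀ x, ∑ y, M x y = (k : ℤ) := by
    intro x₀
    have hconst : ∀ x, ∑ y, M x y = ∑ y, M x₀ y := fun x => by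
      obtain ⟨g, rfl⟩ := exists_smul G h2 x₀ x
      rw [← Equiv.sum_comp ((β g : G) : Equiv.Perm Ω)]
      exact Finset.sum_congr rfl fun y _ => hM g x₀ y
    have htot : ∑ x : Ω, ∑ y, M x y = ∑ _x : Ω, (k : ℤ) := by
      exact Finset.sum_comm.trans (Finset.sum_congr rfl fun y _ => hcol y)
    rw [Finset.sum_congr rfl fun x _ => hconst x, Finset.sum_const, Finset.sum_const, nsmul_eq_mul, nsmul_eq_mul] at htot
    refine mul_left_cancel₀ ?_ htot
    exact Nat.cast_ne_zero.2 (Finset.card_ne_zero.2 ⟨x₀, Finset.mem_univ _⟩)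
  -- the permutation, once some invariant 0/1 matrix has all line sums one
  have perm : ∀ N : Matrix Ω Ω ℤ, Inv G β N → (∀ x y, N x y = 0 ∨ N x y = 1) → (∀ y, ∑ x, N x y = 1) →
      (∀ x, ∑ y, N x y = 1) →
      ∃ σ : Equiv.Perm Ω, σ ∈ Subgroup.normalizer (G : Set (Equiv.Perm Ω)) ∧ ∀ g : G, ((α g : G) : Equiv.Perm Ω) = σ * (g : Equiv.Perm Ω) * σ⁻¹ := by
    intro N hN h01 hc hr
    have hex : ∀ y, ∃ x, N x y = 1 := fun y => by
      by_contra h
      push Not at h
      have := hc y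
      rw [Finset.sum_eq_zero (fun x _ => (h01 x y).resolve_right (h x))] at this
      exact zero_ne_one this
    choose τ hτ using hex
    have huniqR : ∀ x y y', N x y = 1 → N x y' = 1 → y = y' := fun x y y' h h' => by
      by_contra hne
      have h3 : ∑ z ∈ ({y, y'} : Finset Ω), N x z ≤ ∑ z, N x z :=
        Finset.sum_le_univ_sum_of_nonneg fun z => by rcases h01 x z with e | e <;> omega
      rw [Finset.sum_pair hne, h, h', hr] at h3
      omega
    have huniqC : ∀ y x x', N x y = 1 → N x' y = 1 → x = x' := fun y x x' h h' => by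
      by_contra hne
      have h3 : ∑ z ∈ ({x, x'} : Finset Ω), N z y ≤ ∑ z, N z y :=
        Finset.sum_le_univ_sum_of_nonneg fun z => by rcases h01 z y with e | e <;> omega
      rw [Finset.sum_pair hne, h, h', hc] at h3
      omega
    have hτi : Function.Injective τ := fun y y' e => huniqR (τ y) y y' (hτ y) (e ▸ hτ y')
    let σ : Equiv.Perm Ω := Equiv.ofBijective τ (Finite.injective_iff_bijective.1 hτi)
    have hσ : ∀ g : G, ((α g : G) : Equiv.Perm Ω) = σ * (g : Equiv.Perm Ω) * σ⁻¹ := by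
      intro g
      rw [eq_mul_inv_iff_mul_eq]
      refine Equiv.ext fun y => ?_
      have := hN (α g) (τ y) y
      rw [hβα, hτ y] at this
      exact huniqC _ _ _ this (hτ _)
    refine ⟨σ, ?_, hσ⟩
    rw [Subgroup.mem_normalizer_iff]
    intro z
    constructor
    · intro hz
      rw [← hσ ⟨z, hz⟩]; exact (α _).2
    · intro hz
      have := hσ (β ⟨_, hz⟩)
      rw [hαβ] at this
      rw [show z = (β ⟨_, hz⟩ : Equiv.Perm Ω) from mul_left_cancel (mul_right_cancel this)]
      exact (β ⟨_, hz⟩).2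
  have h01 : ∀ x y, M x y = 0 ∨ M x y = 1 := fun x y => by
    simp only [M, Matrix.of_apply]; split_ifs <;> simp
  suffices hfin : k = 1 ∨ k = Fintype.card Ω - 1 by
    refine ⟨?_, hfin⟩
    rcases hfin with h1 | h1
    · exact perm M hM h01 (fun y => by rw [hcol, h1]; rfl) (fun x => by rw [hrow, h1]; rfl)
    · by_cases hk1 : k = 1
      · exact perm M hM h01 (fun y => by rw [hcol, hk1]; rfl) (fun x => by rw [hrow, hk1]; rfl)
      have hn : 1 ≤ Fintype.card Ω := Fintype.card_pos_iff.2 ⟨o⟩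
      refine perm (fun x y => 1 - M x y) (fun g x y => by simp only [hM g x y]) (fun x y => ?_) (fun y => ?_) (fun x => ?_)
      · rcases h01 x y with e | e <;> simp [e]
      · show ∑ x, (1 - M x y) = 1
        rw [Finset.sum_sub_distrib, hcol, Finset.sum_const, Finset.card_univ, h1, nsmul_one, Nat.cast_sub hn]
        push_cast; ring
      · show ∑ y, (1 - M x y) = 1
        rw [Finset.sum_sub_distrib, hrow, Finset.sum_const, Finset.card_univ, h1, nsmul_one, Nat.cast_sub hn]
        push_cast; ring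
  by_cases hn2 : Fintype.card Ω < 2
  · left
    refine le_antisymm ?_ (Nat.card_pos_iff.2 ⟨⟨⟨ω, MulAction.mem_orbit_self ω⟩⟩, inferInstance⟩)
    refine le_trans (Nat.card_le_card_of_injective _ Subtype.val_injective) ?_
    rw [Nat.card_eq_fintype_card]; omega
  push Not at hn2
  -- M * Mᵀ
  obtain ⟨q, l, hql⟩ := exists_eq_span G h2 (M := M * Mᵀ) (by
    intro g x x'
    simp only [Matrix.mul_apply, Matrix.transpose_apply, id]
    rw [← Equiv.sum_comp ((β g : G) : Equiv.Perm Ω)]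
    exact Finset.sum_congr rfl fun y _ => by rw [hM g x y, hM g x' y])
  set J : Matrix Ω Ω ℤ := Matrix.of fun _ _ => 1 with hJ
  have hMJ : M * J = (k : ℤ) • J := Matrix.ext fun x y => by simp [Matrix.mul_apply, hJ, hrow]
  have hJM : J * Mᵀ = (k : ℤ) • J := Matrix.ext fun x y => by simp [Matrix.mul_apply, hJ, hrow]
  -- entries of M * Mᵀ
  obtain ⟨x₀, x₁, hx01⟩ : ∃ x y : Ω, x ≠ y := Fintype.one_lt_card_iff.1 (by omega)
  have hdiag : q + l = (k : ℤ) := by
    have := congrFun (congrFun hql x₀) x₀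
    rw [hJ, span_apply, if_pos rfl, Matrix.mul_apply] at this
    rw [← this, ← hrow x₀]
    exact Finset.sum_congr rfl fun y _ => by rcases h01 x₀ y with e | e <;> simp [Matrix.transpose_apply, e]
  have hoff : l = ∑ y, M x₀ y * M x₁ y := by
    have := congrFun (congrFun hql x₀) x₁
    rw [hJ, span_apply, if_neg hx01, Matrix.mul_apply, zero_add] at this
    exact this.symm.trans (by simp [Matrix.transpose_apply])
  have hl0 : 0 ≤ l := hoff ▸ Finset.sum_nonneg fun y _ => by
    rcases h01 x₀ y with e | e <;> rcases h01 x₁ y with e' | e' <;> simp [e, e']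
  have hq0 : 0 ≤ q := by
    have : l ≤ (k : ℤ) := by
      rw [hoff, ← hrow x₀]
      exact Finset.sum_le_sum fun y _ => by rcases h01 x₀ y with e | e <;> rcases h01 x₁ y with e' | e' <;> simp [e, e']
    omega
  have hql2 : (k : ℤ) ^ 2 = q + l * Fintype.card Ω := by
    have h1 : M * Mᵀ * J = ((k : ℤ) * k) • J := by
      have : Mᵀ * J = (k : ℤ) • J := Matrix.ext fun x y => by simp [Matrix.mul_apply, hJ, hcol]
      rw [Matrix.mul_assoc, this, Matrix.mul_smul, hMJ, smul_smul]
    rw [hql] at h1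
    have h2' := congrFun (congrFun h1 x₀) x₀
    rw [Matrix.mul_apply, Matrix.smul_apply, hJ] at h2'
    simp only [span_apply, Matrix.of_apply, mul_one, smul_eq_mul, Finset.sum_add_distrib, Finset.sum_ite_eq,
      Finset.mem_univ, if_true, Finset.sum_const, Finset.card_univ, nsmul_eq_mul] at h2'
    rw [sq]; linarith
  have hqn : q ≤ (Fintype.card Ω : ℤ) - k := by
    have h2k : 2 * (k : ℤ) - l ≤ Fintype.card Ω := by
      rw [hoff, two_mul]
      nth_rw 1 [← hrow x₀]
      rw [← hrow x₁, ← Finset.sum_add_distrib, ← Finset.sum_sub_distrib]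
      calc ∑ y, (M x₀ y + M x₁ y - M x₀ y * M x₁ y) ≤ ∑ _y : Ω, (1 : ℤ) :=
            Finset.sum_le_sum fun y _ => by rcases h01 x₀ y with e | e <;> rcases h01 x₁ y with e' | e' <;> simp [e, e']
        _ = _ := by simp
    omega
  -- the powers
  have hpow : ∀ i : ℕ, ∃ c : ℤ, M ^ i * (Mᵀ) ^ i = q ^ i • (1 : Matrix Ω Ω ℤ) + c • J := by
    intro i
    induction i with
    | zero => exact ⟨0, by simp⟩
    | succ i ih =>
      obtain ⟨c, hc⟩ := ih
      refine ⟨q ^ i * l + c * ((k : ℤ) * k), ?_⟩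
      have e : M ^ (i + 1) * (Mᵀ) ^ (i + 1) = M * (M ^ i * (Mᵀ) ^ i) * Mᵀ := by
        rw [pow_succ' M, pow_succ (Mᵀ)]; simp only [Matrix.mul_assoc]
      rw [e, hc, Matrix.mul_add, Matrix.add_mul, Matrix.mul_smul, Matrix.mul_one, Matrix.smul_mul, hql,
        Matrix.mul_smul, hMJ, smul_smul, Matrix.smul_mul, hJM, smul_smul, smul_add, smul_smul, smul_smul,
        pow_succ, add_assoc, ← add_smul, mul_assoc]
  obtain ⟨j, hj⟩ := hα
  have hβm : β ^ orderOf α = 1 := by rw [hβ, _root_.inv_pow, pow_orderOf_eq_one, inv_one]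
  obtain ⟨a, b, hab⟩ := exists_eq_span G h2 (M := M ^ orderOf α) (by
    intro g x y
    have := inv_pow G β hM (orderOf α) g x y
    rw [hβm] at this
    simpa using this)
  obtain ⟨c, hc⟩ := hpow (orderOf α)
  have ht : (Mᵀ) ^ orderOf α = a • (1 : Matrix Ω Ω ℤ) + b • J := by
    rw [← Matrix.transpose_pow, hab, Matrix.transpose_add, Matrix.transpose_smul, Matrix.transpose_smul, Matrix.transpose_one]
    rfl
  rw [ht, hab, span_mul_span (Fintype.card Ω : ℤ) rfl] at hc
  have ha : a * a = q ^ orderOf α := by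
    have e1 := congrFun (congrFun hc x₀) x₀
    have e2 := congrFun (congrFun hc x₀) x₁
    rw [hJ, span_apply, span_apply, if_pos rfl, if_pos rfl] at e1
    rw [hJ, span_apply, span_apply, if_neg hx01, if_neg hx01] at e2
    linarith
  have hsum : (k : ℤ) ^ orderOf α = a + b * Fintype.card Ω := by
    have hMi : ∀ i : ℕ, ∀ x, ∑ y, (M ^ i) x y = (k : ℤ) ^ i := by
      intro i
      induction i with
      | zero => intro x; simp [Matrix.one_apply]
      | succ i ih =>
        intro x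
        simp only [pow_succ', Matrix.mul_apply]
        rw [Finset.sum_comm]
        simp only [← Finset.mul_sum, ih]
        rw [← Finset.sum_mul, hrow]
    have := hMi (orderOf α) x₀
    rw [hab] at this
    simp only [hJ, span_apply, Finset.sum_add_distrib, Finset.sum_ite_eq, Finset.mem_univ, if_true, Finset.sum_const,
      Finset.card_univ, nsmul_eq_mul] at this
    linarith
  rw [hj] at ha hsum
  have hfin := arith hn2 (k := (k : ℤ)) (q := q) (a := a) (b := b) (j := j) (Int.natCast_nonneg k) (by omega)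
    (Nat.isCoprime_iff_coprime.2 hk) hq0 (by omega) hqn ⟨l, by rw [hql2]; ring⟩ (by rw [sq]; exact ha) hsum
  omega

end Cfsg.Agent.Transfer.TwoTransAut
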