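import Mathlib.GroupTheory.Perm.Cycle.Type
import Mathlib.Dynamics.PeriodicPts.Defs
import Cfsg.Agent.Lib.Perm.SylowTwo

/-! When a `2`-element of a symmetric group lies in only one Sylow `2`-subgroup. -/

set_option autoImplicit false

namespace Cfsg.Agent.Transfer.UniqueSylowTwo

open Equiv Equiv.Perm Cfsg.Agent.SylTwo

universe u

variable {α : Type u} [Fintype α] [DecidableEq α]

/-- At most two fixed points. -/
def FewFixed (x : Perm α) : Prop := ∀ a b c, x a = a → x b = b → x c = c → a = b ∨ a = c ∨ b = c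

/-- Moved points with equal periods lie in one cycle. -/
def DistinctLengths (x : Perm α) : Prop :=
  ∀ a b, x a ≠ a → (∀ j : ℕ, (x ^ j) a = a ↔ (x ^ j) b = b) → x.SameCycle a b

theorem pow_apply_eq_self_iff (x : Perm α) (a : α) (j : ℕ) :
    (x ^ j) a = a ↔ Function.minimalPeriod x a ∣ j := by
  rw [Perm.coe_pow]
  exact Function.isPeriodicPt_iff_minimalPeriod_dvd

theorem half_period {x : Perm α} {a : α} {i : ℕ} (h2 : (x ^ (2 * i)) a = a) (h1 : (x ^ i) a ≠ a) :
    2 ∣ Function.minimalPeriod x a ∧ (x ^ i) a = (x ^ (Function.minimalPeriod x a / 2)) a := by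
  rw [pow_apply_eq_self_iff] at h2
  rw [Ne, pow_apply_eq_self_iff] at h1
  have hpos : 0 < Function.minimalPeriod x a := by
    refine Function.IsPeriodicPt.minimalPeriod_pos (n := orderOf x) (orderOf_pos x) ?_
    show x^[orderOf x] a = a
    rw [← Perm.coe_pow, pow_orderOf_eq_one]; rfl
  set p := Function.minimalPeriod x a with hp
  have hlt := Nat.mod_lt i hpos
  have hne : i % p ≠ 0 := fun e => h1 (Nat.dvd_of_mod_eq_zero e)
  have hd : p ∣ 2 * (i % p) := by
    rw [Nat.dvd_iff_mod_eq_zero] at h2 ⊢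
    rw [Nat.mul_mod, Nat.mod_mod, ← Nat.mul_mod]; exact h2
  obtain ⟨c, hc⟩ := hd
  have hc1 : c = 1 := by
    rcases c with _ | _ | c
    · omega
    · rfl
    · exfalso; nlinarith
  subst hc1
  refine ⟨⟨i % p, by omega⟩, ?_⟩
  rw [Perm.coe_pow, Perm.coe_pow, ← Function.iterate_mod_minimalPeriod_eq (f := x) (x := a) (n := i), ← hp,
    show i % p = p / 2 by omega]

section Pairing

variable {x t : Perm α}

theorem pow_comm (hxt : x * t = t * x) (j : ℕ) (a : α) : (x ^ j) (t a) = t ((x ^ j) a) := by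
  rw [← Perm.mul_apply, ← Perm.mul_apply, ((show Commute x t from hxt).pow_left j).eq]

theorem apply_moved (hB : DistinctLengths x) (ht : t * t = 1)
    (huniq : ∀ a b, t a = a → t b = b → a = b) (hxt : x * t = t * x) {a : α} (ha : x a ≠ a) :
    2 ∣ Function.minimalPeriod x a ∧ t a = (x ^ (Function.minimalPeriod x a / 2)) a := by
  obtain ⟨i, -, hi⟩ := (hB a (t a) ha fun j => by rw [pow_comm hxt, t.injective.eq_iff]).exists_pow_eq'
  have htt : t (t a) = a := by rw [← Perm.mul_apply, ht]; rfl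
  rw [← hi]
  refine half_period ?_ fun h => ?_
  · rw [two_mul, pow_add, Perm.mul_apply, hi, pow_comm hxt, hi, htt]
  · have hta : t a = a := hi.symm.trans h
    refine ha (huniq _ _ ?_ hta)
    rw [← Perm.mul_apply, ← hxt, Perm.mul_apply, hta]

theorem unique_pairing {t' : Perm α} (hA : FewFixed x) (hB : DistinctLengths x) (ht : t * t = 1)
    (huniq : ∀ a b, t a = a → t b = b → a = b) (hxt : x * t = t * x) (ht' : t' * t' = 1)
    (huniq' : ∀ a b, t' a = a → t' b = b → a = b) (hxt' : x * t' = t' * x) : t = t' := by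
  refine Equiv.ext fun a => ?_
  by_cases ha : x a = a
  · have hfix : ∀ s : Perm α, x * s = s * x → ∀ b, x b = b → x (s b) = s b := fun s hs b hb => by
      rw [← Perm.mul_apply, hs, Perm.mul_apply, hb]
    have hoth : ∀ s : Perm α, x * s = s * x → (∀ a b, s a = a → s b = b → a = b) → ∀ b, x b = b → b ≠ a →
        s a ≠ a := by
      intro s hs hu b hb hba hsa
      rcases hA a b (s b) ha hb (hfix s hs b hb) with e | e | e
      · exact hba e.symm
      · exact hba (s.injective (e.symm.trans hsa.symm))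
      · exact hba (hu b a e.symm hsa)
    by_contra hne
    by_cases h1 : t a = a
    · exact hoth t hxt huniq (t' a) (hfix t' hxt' a ha) (fun e => hne (h1.trans e.symm)) h1
    · by_cases h2 : t' a = a
      · exact hoth t' hxt' huniq' (t a) (hfix t hxt a ha) h1 h2
      · rcases hA a (t a) (t' a) ha (hfix t hxt a ha) (hfix t' hxt' a ha) with e | e | e
        · exact h1 e.symm
        · exact h2 e.symm
        · exact hne e
  · rw [(apply_moved hB ht huniq hxt ha).2, (apply_moved hB ht' huniq' hxt' ha).2]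

variable (ht : t * t = 1)

theorem proj_pow_eq (hxt : x * t = t * x) (j : ℕ) (a : {a : α // t a ≠ a}) :
    (proj ht ⟨x, Subgroup.mem_centralizer_singleton_iff.2 hxt⟩ ^ j) (Quotient.mk _ a) = Quotient.mk _
      ⟨(x ^ j) a, (moved_apply ((show Commute x t from hxt).pow_left j).eq a).2 a.2⟩ := by
  rw [← map_pow, proj_apply]
  exact congrArg _ (Subtype.ext (by simp))

theorem proj_pow_fix (hxt : x * t = t * x) (j : ℕ) (a : {a : α // t a ≠ a}) :
    (proj ht ⟨x, Subgroup.mem_centralizer_singleton_iff.2 hxt⟩ ^ j) (Quotient.mk _ a) = Quotient.mk _ a ↔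
      (x ^ j) a.1 = a.1 ∨ (x ^ j) a.1 = t a.1 := by
  rw [proj_pow_eq ht hxt, Quotient.eq]
  show a.1 = (x ^ j) a.1 ∨ a.1 = t ((x ^ j) a.1) ↔ _
  refine or_congr eq_comm ⟨fun h => ?_, fun h => ?_⟩
  · conv_rhs => rw [h]
    rw [← Perm.mul_apply t t, ht]; rfl
  · rw [h, ← Perm.mul_apply t t, ht]; rfl

theorem proj_fewFixed (hA : FewFixed x) (hB : DistinctLengths x) (hxt : x * t = t * x) :
    FewFixed (proj ht ⟨x, Subgroup.mem_centralizer_singleton_iff.2 hxt⟩) := by
  intro qa qb qc
  induction qa using Quotient.inductionOn with | h a => ?_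
  induction qb using Quotient.inductionOn with | h b => ?_
  induction qc using Quotient.inductionOn with | h c => ?_
  have htt : ∀ y, t (t y) = y := fun y => by rw [← Perm.mul_apply, ht]; rfl
  have hf : ∀ d : {a : α // t a ≠ a}, proj ht ⟨x, Subgroup.mem_centralizer_singleton_iff.2 hxt⟩
      (Quotient.mk _ d) = Quotient.mk _ d → x d.1 = d.1 ∨ x d.1 = t d.1 := fun d hd => by
    have := (proj_pow_fix ht hxt 1 d).1 (by rwa [pow_one])
    rwa [pow_one] at this
  have hsame1 : ∀ d e : {a : α // t a ≠ a}, x d.1 = d.1 → x e.1 = e.1 →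
      Quotient.mk (pairSetoid t ht) d = Quotient.mk _ e := by
    intro d e hd he
    refine Quotient.sound ?_
    show e.1 = d.1 ∨ e.1 = t d.1
    rcases hA d.1 (t d.1) e.1 hd (by rw [← Perm.mul_apply, hxt, Perm.mul_apply, hd]) he with h | h | h
    · exact absurd h.symm d.2
    · exact Or.inl h.symm
    · exact Or.inr h.symm
  have hsame2 : ∀ d e : {a : α // t a ≠ a}, x d.1 = t d.1 → x e.1 = t e.1 →
      Quotient.mk (pairSetoid t ht) d = Quotient.mk _ e := by
    intro d e hd he
    have hval : ∀ f : {a : α // t a ≠ a}, x f.1 = t f.1 → ∀ j : ℕ,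
        (x ^ j) f.1 = if Even j then f.1 else t f.1 := by
      intro f hf j
      induction j with
      | zero => simp
      | succ j ih =>
        rw [pow_succ', Perm.mul_apply, ih]
        by_cases h : Even j
        · rw [if_pos h, if_neg (by simpa [Nat.even_add_one] using h), hf]
        · rw [if_neg h, if_pos (by simpa [Nat.even_add_one] using h), ← Perm.mul_apply, hxt, Perm.mul_apply, hf,
            htt]
    have hstab : ∀ f : {a : α // t a ≠ a}, x f.1 = t f.1 → ∀ j : ℕ, (x ^ j) f.1 = f.1 ↔ Even j := fun f hf j => by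
      rw [hval f hf j]
      by_cases h : Even j
      · simp [h]
      · simp [h, f.2]
    obtain ⟨i, -, hi⟩ := (hB d.1 e.1 (by rw [hd]; exact d.2)
      fun j => (hstab d hd j).trans (hstab e he j).symm).exists_pow_eq'
    refine Quotient.sound ?_
    show e.1 = d.1 ∨ e.1 = t d.1
    rw [← hi, hval d hd i]
    split_ifs
    · exact Or.inl rfl
    · exact Or.inr rfl
  intro ha hb hc
  rcases hf a ha with ha | ha <;> rcases hf b hb with hb | hb <;> rcases hf c hc with hc | hc
  · exact Or.inl (hsame1 a b ha hb)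
  · exact Or.inl (hsame1 a b ha hb)
  · exact Or.inr (Or.inl (hsame1 a c ha hc))
  · exact Or.inr (Or.inr (hsame2 b c hb hc))
  · exact Or.inr (Or.inr (hsame1 b c hb hc))
  · exact Or.inr (Or.inl (hsame2 a c ha hc))
  · exact Or.inl (hsame2 a b ha hb)
  · exact Or.inl (hsame2 a b ha hb)

theorem proj_distinctLengths (hB : DistinctLengths x) (huniq : ∀ a b, t a = a → t b = b → a = b)
    (hxt : x * t = t * x) :
    DistinctLengths (proj ht ⟨x, Subgroup.mem_centralizer_singleton_iff.2 hxt⟩) := by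
  intro qa qb
  induction qa using Quotient.inductionOn with | h a => ?_
  induction qb using Quotient.inductionOn with | h b => ?_
  intro hne hstab
  have htt : ∀ y, t (t y) = y := fun y => by rw [← Perm.mul_apply, ht]; rfl
  have h1a : ¬ (x a.1 = a.1 ∨ x a.1 = t a.1) := fun h => hne (by
    have := (proj_pow_fix ht hxt 1 a).2 (by rwa [pow_one])
    rwa [pow_one] at this)
  have h1b : ¬ (x b.1 = b.1 ∨ x b.1 = t b.1) := fun h => h1a (by
    have := (proj_pow_fix ht hxt 1 a).1 ((hstab 1).2 ((proj_pow_fix ht hxt 1 b).2 (by rwa [pow_one])))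
    rwa [pow_one] at this)
  push Not at h1a h1b
  have hdouble : ∀ c : α, x c ≠ c → ∀ j : ℕ, ((x ^ j) c = c ∨ (x ^ j) c = t c) ↔ (x ^ (2 * j)) c = c := by
    intro c hc j
    refine ⟨?_, fun h => ?_⟩
    · rintro (h | h)
      · rw [two_mul, pow_add, Perm.mul_apply, h, h]
      · rw [two_mul, pow_add, Perm.mul_apply, h, pow_comm hxt, h, htt]
    · rw [or_iff_not_imp_left]
      intro hj
      rw [(apply_moved hB ht huniq hxt hc).2]
      exact (half_period h hj).2
  have hkey : ∀ j : ℕ, (x ^ (2 * j)) a.1 = a.1 ↔ (x ^ (2 * j)) b.1 = b.1 := fun j => by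
    rw [← hdouble a.1 h1a.1 j, ← hdouble b.1 h1b.1 j, ← proj_pow_fix ht hxt j a, ← proj_pow_fix ht hxt j b]
    exact hstab j
  obtain ⟨u, hu⟩ := (apply_moved hB ht huniq hxt h1a.1).1
  obtain ⟨v, hv⟩ := (apply_moved hB ht huniq hxt h1b.1).1
  have hp : Function.minimalPeriod x a.1 = Function.minimalPeriod x b.1 := by
    refine Nat.dvd_antisymm ?_ ?_
    · rw [hv, ← pow_apply_eq_self_iff]
      exact (hkey v).2 ((pow_apply_eq_self_iff x b.1 _).2 (dvd_of_eq hv))
    · rw [hu, ← pow_apply_eq_self_iff]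
      exact (hkey u).1 ((pow_apply_eq_self_iff x a.1 _).2 (dvd_of_eq hu))
  obtain ⟨i, -, hi⟩ := (hB a.1 b.1 h1a.1 fun j => by
    rw [pow_apply_eq_self_iff, pow_apply_eq_self_iff, hp]).exists_pow_eq'
  refine ⟨i, ?_⟩
  rw [zpow_natCast, proj_pow_eq ht hxt]
  exact congrArg _ (Subtype.ext hi)

end Pairing

theorem sylow_eq_of_mem (x : Perm α) (hA : FewFixed x) (hB : DistinctLengths x)
    (P Q : Sylow 2 (Perm α)) (hP : x ∈ P) (hQ : x ∈ Q) : P = Q := by
  induction hn : Fintype.card α using Nat.strong_induction_on generalizing α with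
  | _ n ih =>
  haveI : Fact (Nat.Prime 2) := ⟨Nat.prime_two⟩
  classical
  obtain ⟨t, htmem, ht, htP, huniq⟩ := exists_pairing P
  obtain ⟨t', htmem', ht', htQ, huniq'⟩ := exists_pairing Q
  have hxt : x * t = t * x := htP x hP
  obtain rfl : t = t' := unique_pairing hA hB ht huniq hxt ht' huniq' (htQ x hQ)
  by_cases hall : ∀ a, t a = a
  · haveI : Subsingleton α := ⟨fun a b => huniq a b (hall a) (hall b)⟩
    exact Sylow.ext (Subsingleton.elim _ _)
  push Not at hall
  obtain ⟨a₀, ha₀⟩ := hall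
  letI : DecidableEq (Quotient (pairSetoid t ht)) := Classical.decEq _
  letI : Fintype (Quotient (pairSetoid t ht)) := Fintype.ofFinite _
  have hlt : Fintype.card (Quotient (pairSetoid t ht)) < n := by
    rw [← hn]
    refine lt_of_lt_of_le (Fintype.card_lt_of_surjective_not_injective _ Quotient.mk_surjective ?_)
      (Fintype.card_subtype_le _)
    intro hinj
    have h' : t (t a₀) ≠ t a₀ := fun h => ha₀ (t.injective h)
    exact ha₀ (congrArg Subtype.val (@hinj ⟨a₀, ha₀⟩ ⟨t a₀, h'⟩ (Quotient.sound (Or.inr rfl)))).symm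
  have hleP : (P : Subgroup (Perm α)) ≤ Subgroup.centralizer ({t} : Set (Perm α)) :=
    fun q hq => Subgroup.mem_centralizer_singleton_iff.2 (htP q hq)
  have hleQ : (Q : Subgroup (Perm α)) ≤ Subgroup.centralizer ({t} : Set (Perm α)) :=
    fun q hq => Subgroup.mem_centralizer_singleton_iff.2 (htQ q hq)
  have hmapP : ((P.subtype hleP).mapSurjective (proj_surjective ht)) =
      (Q.subtype hleQ).mapSurjective (proj_surjective ht) :=
    ih _ hlt _ (proj_fewFixed ht hA hB hxt) (proj_distinctLengths ht hB huniq hxt) _ _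
      ⟨⟨x, Subgroup.mem_centralizer_singleton_iff.2 hxt⟩, hP, rfl⟩
      ⟨⟨x, Subgroup.mem_centralizer_singleton_iff.2 hxt⟩, hQ, rfl⟩ rfl
  refine Sylow.ext (Q.3 P.2 fun q hq => ?_)
  have hmem : proj ht ⟨q, hleQ hq⟩ ∈ (Q.subtype hleQ).mapSurjective (proj_surjective ht) :=
    ⟨⟨q, hleQ hq⟩, hq, rfl⟩
  rw [← hmapP] at hmem
  obtain ⟨p, hp, he⟩ := hmem
  exact mem_of_proj P ht huniq htP (htQ q hq) hp he.symm

/-- An involution commuting with its conjugates under a `2`-element `x` lies with `x` in a Sylow `2`-subgroup. -/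
theorem mem_unique_sylow {G : Type u} [Group G] [Finite G] {x w : G} {k : ℕ} (hx : orderOf x = 2 ^ k)
    (P : Sylow 2 G) (hP : ∀ Q : Sylow 2 G, x ∈ Q → Q = P) (hw : w * w = 1)
    (hc : ∀ m : ℕ, Commute w (x ^ m * w * (x ^ m)⁻¹)) : w ∈ P := by
  haveI : Fact (Nat.Prime 2) := ⟨Nat.prime_two⟩
  set S : Set G := Set.range fun m : ℕ => x ^ m * w * (x ^ m)⁻¹ with hS
  have hpow : ∀ g ∈ Subgroup.zpowers x, ∃ m : ℕ, g = x ^ m := by
    intro g hg
    obtain ⟨m, hm⟩ := (isOfFinOrder_of_finite x).mem_powers_iff_mem_zpowers.2 hg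
    exact ⟨m, hm.symm⟩
  have hSS : ∀ s ∈ S, ∀ s' ∈ S, Commute s s' := by
    rintro _ ⟨m, rfl⟩ _ ⟨m', rfl⟩
    obtain ⟨e, he⟩ := hpow ((x ^ m)⁻¹ * x ^ m')
      (mul_mem (inv_mem (pow_mem (Subgroup.mem_zpowers x) m)) (pow_mem (Subgroup.mem_zpowers x) m'))
    have h1 := Commute.conj_iff (x ^ m) |>.2 (hc e)
    convert h1 using 1
    rw [← he]; group
  have hcent : ∀ g ∈ Subgroup.closure S, ∀ h ∈ Subgroup.closure S, Commute g h := by
    have h1 : ∀ g ∈ Subgroup.closure S, ∀ s ∈ S, Commute s g := fun g hg s hs =>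
      (Subgroup.mem_centralizer_iff.1 ((Subgroup.closure_le (Subgroup.centralizer S)).2
        (fun s' hs' => Subgroup.mem_centralizer_iff.2 fun s'' hs'' => hSS s'' hs'' s' hs') hg)) s hs
    intro g hg h hh
    exact Subgroup.mem_centralizer_singleton_iff.1 ((Subgroup.closure_le (Subgroup.centralizer ({h} : Set G))).2
        (fun s hs => Subgroup.mem_centralizer_singleton_iff.2 (h1 h hh s hs)) hg)
  have hsq : ∀ g ∈ Subgroup.closure S, g * g = 1 := by
    intro g hg
    induction hg using Subgroup.closure_induction with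
    | mem s hs =>
      obtain ⟨m, rfl⟩ := hs
      calc x ^ m * w * (x ^ m)⁻¹ * (x ^ m * w * (x ^ m)⁻¹) = x ^ m * (w * w) * (x ^ m)⁻¹ := by group
        _ = 1 := by rw [hw]; group
    | one => exact one_mul 1
    | mul a b ha hb iha ihb =>
      rw [mul_assoc, ← mul_assoc b a b, ← (hcent a ha b hb).eq, mul_assoc a b b, ihb, mul_one, iha]
    | inv a _ iha => rw [← mul_inv_rev, iha, inv_one]
  have hK : IsPGroup 2 (Subgroup.closure S) := fun g =>
    ⟨1, Subtype.ext (by rw [pow_one, pow_two]; exact hsq g g.2)⟩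
  have hX : IsPGroup 2 (Subgroup.zpowers x) := IsPGroup.of_card (n := k) (by rw [Nat.card_zpowers, hx])
  have hconj : ∀ g ∈ Subgroup.zpowers x, ∀ h ∈ Subgroup.closure S, g * h * g⁻¹ ∈ Subgroup.closure S := by
    intro g hg h hh
    refine (Subgroup.closure_le ((Subgroup.closure S).comap (MulAut.conj g).toMonoidHom)).2 ?_ hh
    rintro _ ⟨m, rfl⟩
    obtain ⟨e, he⟩ := hpow (g * x ^ m) (mul_mem hg (pow_mem (Subgroup.mem_zpowers x) m))
    refine Subgroup.subset_closure ⟨e, ?_⟩
    show x ^ e * w * (x ^ e)⁻¹ = g * (x ^ m * w * (x ^ m)⁻¹) * g⁻¹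
    rw [← he]; group
  have hnorm : Subgroup.zpowers x ≤ Subgroup.normalizer (Subgroup.closure S : Set G) := fun g hg =>
    Subgroup.mem_normalizer_iff.2 fun h => ⟨hconj g hg h, fun hh => by
      have := hconj g⁻¹ (inv_mem hg) _ hh
      group at this
      exact this⟩
  obtain ⟨Q, hQ⟩ := (hX.to_sup_of_normal_right' hK hnorm).exists_le_sylow
  rw [← hP Q (hQ (Subgroup.mem_sup_left (Subgroup.mem_zpowers x)))]
  exact hQ (Subgroup.mem_sup_right (Subgroup.subset_closure ⟨0, by simp⟩))

theorem conj_swap_commute {x : Perm α} {a b : α}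
    (h : ∀ m : ℕ, swap ((x ^ m) a) ((x ^ m) b) = swap a b ∨
      ((x ^ m) a ≠ a ∧ (x ^ m) a ≠ b ∧ (x ^ m) b ≠ a ∧ (x ^ m) b ≠ b)) (m : ℕ) :
    Commute (swap a b) (x ^ m * swap a b * (x ^ m)⁻¹) := by
  rw [Equiv.mul_swap_eq_swap_mul, mul_inv_cancel_right]
  rcases h m with e | ⟨h1, h2, h3, h4⟩
  · rw [e]
  · show swap a b * swap _ _ = swap _ _ * swap a b
    rw [Equiv.mul_swap_eq_swap_mul, swap_apply_of_ne_of_ne h1 h2, swap_apply_of_ne_of_ne h3 h4]

theorem not_both_swaps (P : Sylow 2 (Perm α)) {a b c : α} (hab : a ≠ b) (hac : a ≠ c) (hbc : b ≠ c)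
    (h1 : swap a b ∈ P) (h2 : swap a c ∈ P) : False := by
  haveI : Fact (Nat.Prime 2) := ⟨Nat.prime_two⟩
  obtain ⟨j, hj⟩ := (IsPGroup.iff_orderOf.1 P.2) ⟨_, mul_mem h1 h2⟩
  rw [← Subgroup.orderOf_coe, (isThreeCycle_swap_mul_swap_same hab hac hbc).orderOf] at hj
  rcases j with _ | j
  · simp at hj
  · have : 2 ∣ 3 := hj ▸ dvd_pow_self 2 j.succ_ne_zero
    omega

theorem conditions_of_unique {x : Perm α} {k : ℕ} (hx : orderOf x = 2 ^ k) (P : Sylow 2 (Perm α))
    (hP : ∀ Q : Sylow 2 (Perm α), x ∈ Q → Q = P) : FewFixed x ∧ DistinctLengths x := by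
  constructor
  · intro a b c ha hb hc
    by_contra hne
    push Not at hne
    have hmem : ∀ u v, x u = u → x v = v → swap u v ∈ P := fun u v hu hv =>
      mem_unique_sylow hx P hP (swap_mul_self u v) (conj_swap_commute fun m => Or.inl (by
        rw [pow_apply_eq_self_of_apply_eq_self hu, pow_apply_eq_self_of_apply_eq_self hv]))
    exact not_both_swaps P hne.1 hne.2.1 hne.2.2 (hmem a b ha hb) (hmem a c ha hc)
  · intro a b ha hstab
    by_contra hcyc
    have hab : ∀ m : ℕ, (x ^ m) a ≠ b := fun m e => hcyc ⟨m, by rwa [zpow_natCast]⟩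
    have hba : ∀ m : ℕ, (x ^ m) b ≠ a := fun m e => hcyc (SameCycle.symm ⟨m, by rwa [zpow_natCast]⟩)
    have hpd : Function.minimalPeriod x a ∣ 2 ^ k := by
      rw [← pow_apply_eq_self_iff, ← hx, pow_orderOf_eq_one]; rfl
    obtain ⟨e, -, he⟩ := (Nat.dvd_prime_pow Nat.prime_two).1 hpd
    rcases e with _ | e
    · exact ha (by simpa using (pow_apply_eq_self_iff x a 1).2 (by simp [he]))
    set a' := (x ^ 2 ^ e) a with ha'
    have hq2 : (x ^ 2 ^ e) a' = a := by
      rw [ha', ← Perm.mul_apply, ← pow_add, ← two_mul, ← pow_succ', pow_apply_eq_self_iff, he]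
    have haa' : a' ≠ a := by
      rw [ha', Ne, pow_apply_eq_self_iff, he, Nat.pow_dvd_pow_iff_le_right (by norm_num)]
      omega
    have h1 : swap a b ∈ P := mem_unique_sylow hx P hP (swap_mul_self a b) (conj_swap_commute fun m => by
      by_cases hm : (x ^ m) a = a
      · exact Or.inl (by rw [hm, (hstab m).1 hm])
      · exact Or.inr ⟨hm, hab m, hba m, fun e => hm ((hstab m).2 e)⟩)
    have h2 : swap a a' ∈ P := mem_unique_sylow hx P hP (swap_mul_self a a') (conj_swap_commute fun m => by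
      have hcomm : (x ^ m) a' = (x ^ 2 ^ e) ((x ^ m) a) := by
        rw [ha', ← Perm.mul_apply, ← Perm.mul_apply, ← pow_add, ← pow_add, add_comm]
      by_cases hm : (x ^ m) a = a
      · exact Or.inl (by rw [hcomm, hm])
      by_cases hm' : (x ^ m) a = a'
      · exact Or.inl (by rw [hcomm, hm', hq2, swap_comm])
      refine Or.inr ⟨hm, hm', fun h => hm' ?_, fun h => hm ?_⟩
      · rw [hcomm] at h
        exact (x ^ 2 ^ e).injective (h.trans hq2.symm)
      · exact (x ^ 2 ^ e).injective (hcomm.symm.trans h))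
    exact not_both_swaps P (fun e => hab 0 e) haa'.symm (fun h => hab (2 ^ e) h.symm) h1 h2

theorem existsUnique_iff {x : Perm α} {k : ℕ} (hx : orderOf x = 2 ^ k) :
    (∃! P : Sylow 2 (Perm α), x ∈ P) ↔ FewFixed x ∧ DistinctLengths x := by
  haveI : Fact (Nat.Prime 2) := ⟨Nat.prime_two⟩
  refine ⟨fun ⟨P, _, hP⟩ => conditions_of_unique hx P hP, fun ⟨hA, hB⟩ => ?_⟩
  obtain ⟨P, hP⟩ := (IsPGroup.of_card (n := k) (by rw [Nat.card_zpowers, hx]) :
    IsPGroup 2 (Subgroup.zpowers x)).exists_le_sylow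
  exact ⟨P, hP (Subgroup.mem_zpowers x), fun Q hQ => sylow_eq_of_mem x hA hB Q P hQ (hP (Subgroup.mem_zpowers x))⟩

theorem fewFixed_iff (x : Perm α) : FewFixed x ↔ Fintype.card α ≤ x.support.card + 2 := by
  have h := Finset.card_add_card_compl x.support
  rw [← not_iff_not, not_le, show (x.support.card + 2 < Fintype.card α) ↔ 2 < x.supportᶜ.card by omega,
    Finset.two_lt_card_iff]
  simp only [FewFixed, Finset.mem_compl, Perm.mem_support, not_not, not_forall, not_or, exists_prop]

theorem pow_apply_eq_self_iff_card {x : Perm α} {a : α} (ha : x a ≠ a) (j : ℕ) :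
    (x ^ j) a = a ↔ (x.cycleOf a).support.card ∣ j := by
  have hc := isCycle_cycleOf x ha
  rw [← hc.orderOf, orderOf_dvd_iff_pow_eq_one, hc.pow_eq_one_iff' (x := a) (by rwa [cycleOf_apply_self]),
    cycleOf_pow_apply_self]

theorem distinctLengths_iff (x : Perm α) : DistinctLengths x ↔ x.cycleType.Nodup := by
  rw [cycleType_def, Multiset.nodup_map_iff_inj_on x.cycleFactorsFinset.2]
  simp only [Finset.mem_val, Function.comp_apply]
  constructor
  · intro hB c hc d hd hcd
    obtain ⟨a, ha⟩ := Finset.card_pos.1 (lt_of_lt_of_le two_pos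
      ((mem_cycleFactorsFinset_iff.1 hc).1.two_le_card_support))
    obtain ⟨b, hb⟩ := Finset.card_pos.1 (lt_of_lt_of_le two_pos
      ((mem_cycleFactorsFinset_iff.1 hd).1.two_le_card_support))
    have hax : x a ≠ a := Perm.mem_support.1 (mem_cycleFactorsFinset_support_le hc ha)
    have hbx : x b ≠ b := Perm.mem_support.1 (mem_cycleFactorsFinset_support_le hd hb)
    have hca := cycle_is_cycleOf ha hc
    have hdb := cycle_is_cycleOf hb hd
    rw [hca, hdb]
    refine SameCycle.cycleOf_eq (hB a b hax fun j => ?_)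
    rw [pow_apply_eq_self_iff_card hax, pow_apply_eq_self_iff_card hbx, ← hca, ← hdb, hcd]
  · intro h a b ha hstab
    have hb : x b ≠ b := fun e => ha (by simpa using (hstab 1).2 (by simpa using e))
    have hcard : (x.cycleOf a).support.card = (x.cycleOf b).support.card := Nat.dvd_antisymm
      ((pow_apply_eq_self_iff_card ha _).1 ((hstab _).2 ((pow_apply_eq_self_iff_card hb _).2 dvd_rfl)))
      ((pow_apply_eq_self_iff_card hb _).1 ((hstab _).1 ((pow_apply_eq_self_iff_card ha _).2 dvd_rfl)))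
    have heq := h _ (cycleOf_mem_cycleFactorsFinset_iff.2 (Perm.mem_support.2 ha)) _
      (cycleOf_mem_cycleFactorsFinset_iff.2 (Perm.mem_support.2 hb)) hcard
    have : b ∈ (x.cycleOf a).support := by
      rw [heq, mem_support_cycleOf_iff]; exact ⟨SameCycle.refl _ _, Perm.mem_support.2 hb⟩
    exact (mem_support_cycleOf_iff.1 this).1

end Cfsg.Agent.Transfer.UniqueSylowTwo
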